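import Mathlib.AlgebraicGeometry.AffineSpace
import Mathlib.AlgebraicGeometry.Morphisms.Smooth

/-!
# Affine space is smooth over its base
-/

set_option autoImplicit false
universe u

open CategoryTheory CategoryTheory.Limits AlgebraicGeometry MvPolynomial

namespace Groth.Agent.H42.AffSmooth

variable (n : Type u) (S : Scheme.{u})

set_option backward.isDefEq.respectTransparency.types false in
theorem smooth_over [Finite n] : Smooth (𝔸(n; S) ↘ S) :=
  MorphismProperty.pullback_fst _ _ <| by
  have := isIso_of_isTerminal specULiftZIsTerminal.{u} terminalIsTerminal (terminal.from _)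
  rw [← terminal.comp_from (Spec.map (CommRingCat.ofHom C)),
    MorphismProperty.cancel_right_of_respectsIso (P := @Smooth),
    HasRingHomProperty.Spec_iff (P := @Smooth), RingHom.Smooth]
  convert! (⟨inferInstance, inferInstance⟩ : Algebra.Smooth (ULift ℤ) (MvPolynomial n (ULift ℤ)))
  exact Algebra.algebra_ext _ _ fun _ ↦ rfl

theorem flat_over [Finite n] : Flat (𝔸(n; S) ↘ S) :=
  have := smooth_over n S
  inferInstance

end Groth.Agent.H42.AffSmooth
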