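import Mathlib

/-!
# Density tools for the anti-affine rigidity lemma

* `eq_of_jointly_injective`: two morphisms `Spec R ⟶ Z` into a separated `S`-scheme which agree
  after restriction along a family of ring maps `R ⟶ Rα` that is jointly injective are equal.
* `tensor_jointly_injective`: over a field, tensoring with `B` preserves joint injectivity of a
  family of linear maps.
-/

set_option autoImplicit false
set_option linter.unusedSectionVars false
set_option linter.style.haveILetI false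
universe u

open CategoryTheory AlgebraicGeometry Limits TensorProduct

namespace Groth.Agent.H42.AntiAff

/-- Two morphisms `Spec R ⟶ Z` over `S` (with `Z ⟶ S` separated) which agree after restriction
along a jointly injective family of ring maps are equal. -/
theorem eq_of_jointly_injective {Z S : Scheme.{u}} (s : Z ⟶ S) [IsSeparated s] (R : CommRingCat.{u})
    (φ φ' : Spec R ⟶ Z) (h : φ ≫ s = φ' ≫ s) {ι : Type*} (Rα : ι → CommRingCat.{u})
    (ρ : ∀ α, R ⟶ Rα α) (hinj : ∀ r : R, (∀ α, (ρ α).hom r = 0) → r = 0)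
    (hα : ∀ α, Spec.map (ρ α) ≫ φ = Spec.map (ρ α) ≫ φ') : φ = φ' := by
  let T' : Over S := Over.mk (φ ≫ s)
  let Z' : Over S := Over.mk s
  let a : T' ⟶ Z' := Over.homMk φ rfl
  let b : T' ⟶ Z' := Over.homMk φ' h.symm
  haveI : IsSeparated Z'.hom := ‹IsSeparated s›
  haveI : IsClosedImmersion (equalizer.ι a b).left := isClosedImmersion_equalizer_ι_left a b
  have hfac : ∀ α, ∃ l : Spec (Rα α) ⟶ (equalizer a b).left,
      l ≫ (equalizer.ι a b).left = Spec.map (ρ α) := by
    intro α
    let Tα : Over S := Over.mk (Spec.map (ρ α) ≫ φ ≫ s)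
    let j : Tα ⟶ T' := Over.homMk (Spec.map (ρ α)) rfl
    have hj : j ≫ a = j ≫ b := by
      apply Over.OverMorphism.ext
      exact hα α
    exact ⟨(equalizer.lift j hj).left, by rw [← Over.comp_left, equalizer.lift_ι]; rfl⟩
  haveI : IsAffine T'.left := inferInstanceAs (IsAffine (Spec R))
  haveI : IsIso (equalizer.ι a b).left := by
    apply IsClosedImmersion.isIso_of_injective_of_isAffine
    rw [injective_iff_map_eq_zero]
    intro r hr
    obtain ⟨r', rfl⟩ : ∃ r' : R, (Scheme.ΓSpecIso R).inv.hom r' = r :=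
      ⟨(Scheme.ΓSpecIso R).hom.hom r, by
        rw [← CommRingCat.comp_apply, Iso.hom_inv_id]; rfl⟩
    have hr' : r' = 0 := by
      apply hinj
      intro α
      obtain ⟨l, hl⟩ := hfac α
      have h1 : (Spec.map (ρ α)).appTop.hom ((Scheme.ΓSpecIso R).inv.hom r') = 0 := by
        rw [← hl, Scheme.Hom.comp_appTop, CommRingCat.comp_apply]
        erw [hr]
        rw [map_zero]
      rw [← CommRingCat.comp_apply, ← Scheme.ΓSpecIso_inv_naturality, CommRingCat.comp_apply] at h1
      have hinj' : Function.Injective (Scheme.ΓSpecIso (Rα α)).inv.hom :=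
        (ConcreteCategory.bijective_of_isIso (Scheme.ΓSpecIso (Rα α)).inv).1
      exact hinj' (by rw [h1, map_zero])
    rw [hr', map_zero]
  have h2 : (equalizer.ι a b).left ≫ φ = (equalizer.ι a b).left ≫ φ' :=
    congrArg (fun m => m.left) (equalizer.condition a b)
  exact (cancel_epi _).mp h2

/-- Over a field, tensoring with `B` on the left preserves joint injectivity. -/
theorem tensor_jointly_injective {k : Type u} [Field k] (B : Type u) [AddCommGroup B] [Module k B]
    (C : Type u) [AddCommGroup C] [Module k C] {ι : Type*} (M : ι → Type u)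
    [∀ α, AddCommGroup (M α)] [∀ α, Module k (M α)]
    (φ : ∀ α, C →ₗ[k] M α) (hφ : ∀ c, (∀ α, φ α c = 0) → c = 0) (x : B ⊗[k] C)
    (hx : ∀ α, (φ α).lTensor B x = 0) : x = 0 := by
  let ℬ := Module.Free.chooseBasis k B
  apply (TensorProduct.equivFinsuppOfBasisLeft ℬ).injective
  rw [map_zero]
  ext i
  rw [TensorProduct.equivFinsuppOfBasisLeft_apply, Finsupp.zero_apply]
  apply hφ
  intro α
  have h1 : ∀ x' : B ⊗[k] C, (φ α) ((TensorProduct.lid k C) ((ℬ.coord i).rTensor C x')) =
      (TensorProduct.lid k (M α)) ((ℬ.coord i).rTensor (M α) ((φ α).lTensor B x')) := by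
    intro x'
    induction x' using TensorProduct.induction_on with
    | zero => simp
    | tmul b c => simp
    | add x y hx' hy' =>
      simp only [map_add] at hx' hy' ⊢
      rw [hx', hy']
  rw [h1 x, hx α, map_zero, map_zero]


section Theta

variable {k : Type u} [Field k] {X Y Z : Scheme.{u}}
  (p : X ⟶ Spec (CommRingCat.of k)) (q : Y ⟶ Spec (CommRingCat.of k))

/-- The canonical morphism `Spec (B ⊗ C) ⟶ X ×ₖ Y` attached to `k`-morphisms `Spec B ⟶ X` and
`Spec C ⟶ Y`. -/
noncomputable def theta (B C : Type u) [CommRing B] [CommRing C] [Algebra k B] [Algebra k C]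
    (w : Spec (CommRingCat.of B) ⟶ X)
    (hw : w ≫ p = Spec.map (CommRingCat.ofHom (algebraMap k B)))
    (v : Spec (CommRingCat.of C) ⟶ Y)
    (hv : v ≫ q = Spec.map (CommRingCat.ofHom (algebraMap k C))) :
    Spec (CommRingCat.of (B ⊗[k] C)) ⟶ pullback p q :=
  pullback.lift
    (Spec.map (CommRingCat.ofHom
      (Algebra.TensorProduct.includeLeftRingHom : B →+* B ⊗[k] C)) ≫ w)
    (Spec.map (CommRingCat.ofHom
      (Algebra.TensorProduct.includeRight : C →ₐ[k] B ⊗[k] C).toRingHom) ≫ v)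
    (by
      rw [Category.assoc, Category.assoc, hw, hv, ← Spec.map_comp, ← Spec.map_comp,
        ← CommRingCat.ofHom_comp, ← CommRingCat.ofHom_comp,
        Algebra.TensorProduct.includeLeftRingHom_comp_algebraMap])

variable {p q}

@[reassoc]
theorem theta_fst (B C : Type u) [CommRing B] [CommRing C] [Algebra k B] [Algebra k C]
    (w : Spec (CommRingCat.of B) ⟶ X)
    (hw : w ≫ p = Spec.map (CommRingCat.ofHom (algebraMap k B)))
    (v : Spec (CommRingCat.of C) ⟶ Y)
    (hv : v ≫ q = Spec.map (CommRingCat.ofHom (algebraMap k C))) :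
    theta p q B C w hw v hv ≫ pullback.fst p q =
      Spec.map (CommRingCat.ofHom
        (Algebra.TensorProduct.includeLeftRingHom : B →+* B ⊗[k] C)) ≫ w :=
  pullback.lift_fst _ _ _

@[reassoc]
theorem theta_snd (B C : Type u) [CommRing B] [CommRing C] [Algebra k B] [Algebra k C]
    (w : Spec (CommRingCat.of B) ⟶ X)
    (hw : w ≫ p = Spec.map (CommRingCat.ofHom (algebraMap k B)))
    (v : Spec (CommRingCat.of C) ⟶ Y)
    (hv : v ≫ q = Spec.map (CommRingCat.ofHom (algebraMap k C))) :
    theta p q B C w hw v hv ≫ pullback.snd p q =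
      Spec.map (CommRingCat.ofHom
        (Algebra.TensorProduct.includeRight : C →ₐ[k] B ⊗[k] C).toRingHom) ≫ v :=
  pullback.lift_snd _ _ _

/-- Naturality of `theta` in the second variable. -/
theorem specMap_theta (B C C' : Type u) [CommRing B] [CommRing C] [CommRing C'] [Algebra k B]
    [Algebra k C] [Algebra k C']
    (w : Spec (CommRingCat.of B) ⟶ X)
    (hw : w ≫ p = Spec.map (CommRingCat.ofHom (algebraMap k B)))
    (v : Spec (CommRingCat.of C) ⟶ Y)
    (hv : v ≫ q = Spec.map (CommRingCat.ofHom (algebraMap k C)))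
    (v' : Spec (CommRingCat.of C') ⟶ Y)
    (hv' : v' ≫ q = Spec.map (CommRingCat.ofHom (algebraMap k C')))
    (γ : C →ₐ[k] C') (hγ : Spec.map (CommRingCat.ofHom γ.toRingHom) ≫ v = v') :
    Spec.map (CommRingCat.ofHom
        (Algebra.TensorProduct.map (AlgHom.id k B) γ).toRingHom) ≫ theta p q B C w hw v hv =
      theta p q B C' w hw v' hv' := by
  apply pullback.hom_ext
  · rw [Category.assoc, theta_fst, theta_fst, ← Spec.map_comp_assoc, ← CommRingCat.ofHom_comp]
    congr 3
    ext b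
    simp
  · rw [Category.assoc, theta_snd, theta_snd, ← hγ, ← Spec.map_comp_assoc,
      ← Spec.map_comp_assoc, ← CommRingCat.ofHom_comp, ← CommRingCat.ofHom_comp]
    congr 3


/-- Two morphisms `a b : X ×ₖ Y ⟶ Z` *agree over* a `k`-morphism `v : Spec C ⟶ Y` if they agree
after restriction along `theta w v` for all `k`-morphisms `w : Spec B ⟶ X`. -/
def Agree (a b : pullback p q ⟶ Z) (C : Type u) [CommRing C] [Algebra k C]
    (v : Spec (CommRingCat.of C) ⟶ Y)
    (hv : v ≫ q = Spec.map (CommRingCat.ofHom (algebraMap k C))) : Prop :=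
  ∀ (B : Type u) [CommRing B] [Algebra k B] (w : Spec (CommRingCat.of B) ⟶ X)
    (hw : w ≫ p = Spec.map (CommRingCat.ofHom (algebraMap k B))),
    theta p q B C w hw v hv ≫ a = theta p q B C w hw v hv ≫ b

/-- A ring map compatible with `k`-morphisms to `Y` is `k`-linear. -/
theorem algebraMap_comp_of_specMap (C C' : Type u) [CommRing C] [CommRing C'] [Algebra k C]
    [Algebra k C']
    (v : Spec (CommRingCat.of C) ⟶ Y)
    (hv : v ≫ q = Spec.map (CommRingCat.ofHom (algebraMap k C)))
    (v' : Spec (CommRingCat.of C') ⟶ Y)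
    (hv' : v' ≫ q = Spec.map (CommRingCat.ofHom (algebraMap k C')))
    (γ : C →+* C') (hγ : Spec.map (CommRingCat.ofHom γ) ≫ v = v') :
    γ.comp (algebraMap k C) = algebraMap k C' := by
  have h1 : Spec.map (CommRingCat.ofHom (γ.comp (algebraMap k C))) =
      Spec.map (CommRingCat.ofHom (algebraMap k C')) := by
    rw [CommRingCat.ofHom_comp, Spec.map_comp, ← hv, ← hv', ← hγ, Category.assoc]
  have h2 := Spec.map_injective h1
  exact congrArg CommRingCat.Hom.hom h2

/-- The `k`-algebra map attached to a ring map compatible with `k`-morphisms to `Y`. -/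
def algHomOfSpecMap (C C' : Type u) [CommRing C] [CommRing C'] [Algebra k C]
    [Algebra k C']
    (v : Spec (CommRingCat.of C) ⟶ Y)
    (hv : v ≫ q = Spec.map (CommRingCat.ofHom (algebraMap k C)))
    (v' : Spec (CommRingCat.of C') ⟶ Y)
    (hv' : v' ≫ q = Spec.map (CommRingCat.ofHom (algebraMap k C')))
    (γ : C →+* C') (hγ : Spec.map (CommRingCat.ofHom γ) ≫ v = v') : C →ₐ[k] C' :=
  { γ with
    commutes' := fun r => by
      have := algebraMap_comp_of_specMap C C' v hv v' hv' γ hγ
      exact congrFun (congrArg DFunLike.coe this) r }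

/-- `Agree` transfers along ring maps. -/
theorem Agree.of_specMap {a b : pullback p q ⟶ Z} (C C' : Type u) [CommRing C] [CommRing C']
    [Algebra k C] [Algebra k C']
    (v : Spec (CommRingCat.of C) ⟶ Y)
    (hv : v ≫ q = Spec.map (CommRingCat.ofHom (algebraMap k C)))
    (v' : Spec (CommRingCat.of C') ⟶ Y)
    (hv' : v' ≫ q = Spec.map (CommRingCat.ofHom (algebraMap k C')))
    (γ : C →+* C') (hγ : Spec.map (CommRingCat.ofHom γ) ≫ v = v')
    (H : Agree a b C v hv) : Agree a b C' v' hv' := by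
  intro B _ _ w hw
  have := specMap_theta B C C' w hw v hv v' hv' (algHomOfSpecMap C C' v hv v' hv' γ hγ) hγ
  rw [← this, Category.assoc, Category.assoc, H B w hw]

/-- `Agree` can be checked on a jointly injective family. -/
theorem Agree.of_jointly_injective {a b : pullback p q ⟶ Z} (r : Z ⟶ Spec (CommRingCat.of k))
    [IsSeparated r] (hab : a ≫ r = b ≫ r)
    (C : Type u) [CommRing C] [Algebra k C]
    (v : Spec (CommRingCat.of C) ⟶ Y)
    (hv : v ≫ q = Spec.map (CommRingCat.ofHom (algebraMap k C)))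
    {ι : Type*} (Cα : ι → Type u) [∀ α, CommRing (Cα α)] [∀ α, Algebra k (Cα α)]
    (vα : ∀ α, Spec (CommRingCat.of (Cα α)) ⟶ Y)
    (hvα : ∀ α, vα α ≫ q = Spec.map (CommRingCat.ofHom (algebraMap k (Cα α))))
    (γ : ∀ α, C →+* Cα α) (hγ : ∀ α, Spec.map (CommRingCat.ofHom (γ α)) ≫ v = vα α)
    (hinj : ∀ c : C, (∀ α, γ α c = 0) → c = 0)
    (H : ∀ α, Agree a b (Cα α) (vα α) (hvα α)) : Agree a b C v hv := by
  intro B _ _ w hw
  let γ' : ∀ α, C →ₐ[k] Cα α := fun α => algHomOfSpecMap C (Cα α) v hv (vα α) (hvα α) (γ α) (hγ α)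
  refine eq_of_jointly_injective r (CommRingCat.of (B ⊗[k] C)) _ _ ?_
    (fun α => CommRingCat.of (B ⊗[k] Cα α))
    (fun α => CommRingCat.ofHom (Algebra.TensorProduct.map (AlgHom.id k B) (γ' α)).toRingHom)
    ?_ ?_
  · rw [Category.assoc, Category.assoc, hab]
  · intro x hx
    refine tensor_jointly_injective B C Cα (fun α => (γ' α).toLinearMap) ?_ x ?_
    · intro c hc
      exact hinj c hc
    · intro α
      have := hx α
      rw [← this]
      rfl
  · intro α
    have := specMap_theta B C (Cα α) w hw v hv (vα α) (hvα α) (γ' α) (hγ α)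
    rw [← Category.assoc, ← Category.assoc, this]
    exact H α B w hw


/-- `Agree` follows from agreement on the whole of `X ×ₖ Spec C`. -/
theorem Agree.of_eq {a b : pullback p q ⟶ Z} (C : Type u) [CommRing C] [Algebra k C]
    (v : Spec (CommRingCat.of C) ⟶ Y)
    (hv : v ≫ q = Spec.map (CommRingCat.ofHom (algebraMap k C)))
    (H : pullback.map p (Spec.map (CommRingCat.ofHom (algebraMap k C))) p q (𝟙 X) v (𝟙 _)
        (by rw [Category.id_comp, Category.comp_id]) (by rw [Category.comp_id, hv]) ≫ a =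
      pullback.map p (Spec.map (CommRingCat.ofHom (algebraMap k C))) p q (𝟙 X) v (𝟙 _)
        (by rw [Category.id_comp, Category.comp_id]) (by rw [Category.comp_id, hv]) ≫ b) :
    Agree a b C v hv := by
  intro B _ _ w hw
  have key : theta p q B C w hw v hv =
      pullback.lift
        (Spec.map (CommRingCat.ofHom
          (Algebra.TensorProduct.includeLeftRingHom : B →+* B ⊗[k] C)) ≫ w)
        (Spec.map (CommRingCat.ofHom
          (Algebra.TensorProduct.includeRight : C →ₐ[k] B ⊗[k] C).toRingHom))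
        (by
          rw [Category.assoc, hw, ← Spec.map_comp, ← Spec.map_comp,
            ← CommRingCat.ofHom_comp, ← CommRingCat.ofHom_comp,
            Algebra.TensorProduct.includeLeftRingHom_comp_algebraMap]) ≫
      pullback.map p (Spec.map (CommRingCat.ofHom (algebraMap k C))) p q (𝟙 X) v (𝟙 _)
        (by rw [Category.id_comp, Category.comp_id]) (by rw [Category.comp_id, hv]) := by
    apply pullback.hom_ext
    · rw [theta_fst, Category.assoc, pullback.lift_fst, pullback.lift_fst_assoc,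
        Category.comp_id]
    · rw [theta_snd, Category.assoc, pullback.lift_snd, pullback.lift_snd_assoc]
  rw [key]
  exact (Category.assoc _ _ _).trans ((congrArg (_ ≫ ·) H).trans (Category.assoc _ _ _).symm)

/-- Two morphisms which agree over every member of an affine open cover of `Y` are equal. -/
theorem eq_of_agree_cover {a b : pullback p q ⟶ Z} (𝒱 : Y.AffineOpenCover)
    (H : ∀ (j : 𝒱.I₀) (inst : Algebra k (𝒱.X j))
      (hv : 𝒱.f j ≫ q = Spec.map (CommRingCat.ofHom (algebraMap k (𝒱.X j)))),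
      Agree a b (𝒱.X j) (𝒱.f j) hv) : a = b := by
  obtain ⟨𝒰⟩ : Nonempty X.AffineOpenCover := ⟨X.affineOpenCover⟩
  apply Scheme.Cover.hom_ext (Scheme.Pullback.openCoverOfLeftRight 𝒰.openCover 𝒱.openCover p q)
  rintro ⟨(i : 𝒰.I₀), (j : 𝒱.I₀)⟩
  change pullback.map (𝒰.f i ≫ p) (𝒱.f j ≫ q) p q (𝒰.f i) (𝒱.f j) (𝟙 _) (Category.comp_id _)
    (Category.comp_id _) ≫ a = pullback.map (𝒰.f i ≫ p) (𝒱.f j ≫ q) p q (𝒰.f i) (𝒱.f j) (𝟙 _)
    (Category.comp_id _) (Category.comp_id _) ≫ b
  letI algB : Algebra k (𝒰.X i) := (Spec.preimage (𝒰.f i ≫ p)).hom.toAlgebra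
  letI algC : Algebra k (𝒱.X j) := (Spec.preimage (𝒱.f j ≫ q)).hom.toAlgebra
  have hw : 𝒰.f i ≫ p = Spec.map (CommRingCat.ofHom (algebraMap k (𝒰.X i))) :=
    (Spec.map_preimage _).symm
  have hv : 𝒱.f j ≫ q = Spec.map (CommRingCat.ofHom (algebraMap k (𝒱.X j))) :=
    (Spec.map_preimage _).symm
  have hpb : IsPullback
      (Spec.map (CommRingCat.ofHom
        (Algebra.TensorProduct.includeLeftRingHom : (𝒰.X i) →+* (𝒰.X i) ⊗[k] (𝒱.X j))))
      (Spec.map (CommRingCat.ofHom
        (Algebra.TensorProduct.includeRight : (𝒱.X j) →ₐ[k] (𝒰.X i) ⊗[k] (𝒱.X j)).toRingHom))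
      (𝒰.f i ≫ p) (𝒱.f j ≫ q) := by
    rw [hw, hv]
    exact isPullback_SpecMap_of_isPushout _ _ _ _
      (CommRingCat.isPushout_tensorProduct k (𝒰.X i) (𝒱.X j))
  have key : theta p q (𝒰.X i) (𝒱.X j) (𝒰.f i) hw (𝒱.f j) hv = hpb.isoPullback.hom ≫
      pullback.map (𝒰.f i ≫ p) (𝒱.f j ≫ q) p q (𝒰.f i) (𝒱.f j) (𝟙 _) (Category.comp_id _)
        (Category.comp_id _) := by
    apply pullback.hom_ext
    · rw [theta_fst, Category.assoc, pullback.lift_fst, ← Category.assoc,
        hpb.isoPullback_hom_fst]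
    · rw [theta_snd, Category.assoc, pullback.lift_snd, ← Category.assoc,
        hpb.isoPullback_hom_snd]
  have := H j algC hv (𝒰.X i) (𝒰.f i) hw
  rw [key] at this
  simp only [Category.assoc] at this
  exact (cancel_epi _).mp this


/-- The canonical map `R ⟶ 𝒪_{Spec R, ξ}` induces `fromSpecStalk`. -/
theorem specMap_toStalk (R : CommRingCat.{u}) (ξ : Spec R) :
    Spec.map ((Scheme.ΓSpecIso R).inv ≫ (Spec R).presheaf.germ ⊤ ξ trivial) =
      (Spec R).fromSpecStalk ξ := by
  rw [Spec.map_comp, ← Scheme.fromSpecStalk_toSpecΓ, Category.assoc,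
    toSpecΓ_SpecMap_ΓSpecIso_inv, Category.comp_id]

/-- The canonical `k`-algebra structure attached to a morphism `Spec C ⟶ Y`. -/
noncomputable abbrev algOf (q : Y ⟶ Spec (CommRingCat.of k)) (C : CommRingCat.{u}) (v : Spec C ⟶ Y) :
    Algebra k C :=
  (Spec.preimage (v ≫ q)).hom.toAlgebra

theorem algOf_spec (C : CommRingCat.{u}) (v : Spec C ⟶ Y) :
    v ≫ q = Spec.map (CommRingCat.ofHom (@algebraMap k C _ _ (algOf q C v))) :=
  (Spec.map_preimage _).symm

/-- Bundled version of `Agree`, with explicit algebra instance. -/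
abbrev AgreeAt (a b : pullback p q ⟶ Z) (C : CommRingCat.{u}) (inst : Algebra k C)
    (v : Spec C ⟶ Y)
    (hv : v ≫ q = Spec.map (CommRingCat.ofHom (@algebraMap k C _ _ inst))) : Prop :=
  @Agree k _ X Y Z p q a b C _ inst v hv

theorem AgreeAt.of_specMap {a b : pullback p q ⟶ Z} (C C' : CommRingCat.{u})
    (iC : Algebra k C) (iC' : Algebra k C')
    (v : Spec C ⟶ Y) (hv : v ≫ q = Spec.map (CommRingCat.ofHom (@algebraMap k C _ _ iC)))
    (v' : Spec C' ⟶ Y) (hv' : v' ≫ q = Spec.map (CommRingCat.ofHom (@algebraMap k C' _ _ iC')))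
    (γ : C ⟶ C') (hγ : Spec.map γ ≫ v = v')
    (H : AgreeAt a b C iC v hv) : AgreeAt a b C' iC' v' hv' :=
  @Agree.of_specMap k _ X Y Z p q a b C C' _ _ iC iC' v hv v' hv' γ.hom hγ H

theorem AgreeAt.of_jointly_injective {a b : pullback p q ⟶ Z}
    (r : Z ⟶ Spec (CommRingCat.of k))
    [IsSeparated r] (hab : a ≫ r = b ≫ r)
    (C : CommRingCat.{u}) (iC : Algebra k C)
    (v : Spec C ⟶ Y) (hv : v ≫ q = Spec.map (CommRingCat.ofHom (@algebraMap k C _ _ iC)))
    {ι : Type*} (Cα : ι → CommRingCat.{u}) (iα : ∀ α, Algebra k (Cα α))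
    (vα : ∀ α, Spec (Cα α) ⟶ Y)
    (hvα : ∀ α, vα α ≫ q = Spec.map (CommRingCat.ofHom (@algebraMap k (Cα α) _ _ (iα α))))
    (γ : ∀ α, C ⟶ Cα α) (hγ : ∀ α, Spec.map (γ α) ≫ v = vα α)
    (hinj : ∀ c : C, (∀ α, (γ α).hom c = 0) → c = 0)
    (H : ∀ α, AgreeAt a b (Cα α) (iα α) (vα α) (hvα α)) : AgreeAt a b C iC v hv :=
  @Agree.of_jointly_injective k _ X Y Z p q a b r _ hab C _ iC v hv ι (fun α => Cα α)
    (fun α => inferInstance) iα vα hvα (fun α => (γ α).hom) hγ hinj H

theorem eq_of_agreeAt_cover {a b : pullback p q ⟶ Z} (𝒱 : Y.AffineOpenCover)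
    (H : ∀ (j : 𝒱.I₀) (inst : Algebra k (𝒱.X j))
      (hv : 𝒱.f j ≫ q = Spec.map (CommRingCat.ofHom (@algebraMap k (𝒱.X j) _ _ inst))),
      AgreeAt a b (𝒱.X j) inst (𝒱.f j) hv) : a = b :=
  eq_of_agree_cover 𝒱 H

/-- Two morphisms agreeing over all local rings of `Y` are equal. -/
theorem eq_of_agree_stalks {a b : pullback p q ⟶ Z} (r : Z ⟶ Spec (CommRingCat.of k))
    [IsSeparated r] (hab : a ≫ r = b ≫ r)
    (H : ∀ (y : Y) (inst : Algebra k (Y.presheaf.stalk y))
      (hv : Y.fromSpecStalk y ≫ q =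
        Spec.map (CommRingCat.ofHom (@algebraMap k (Y.presheaf.stalk y) _ _ inst))),
      AgreeAt a b (Y.presheaf.stalk y) inst (Y.fromSpecStalk y) hv) : a = b := by
  apply eq_of_agreeAt_cover Y.affineOpenCover
  intro j inst hv
  refine AgreeAt.of_jointly_injective r hab _ inst _ hv
    (fun ξ : Spec (Y.affineOpenCover.X j) => (Spec (Y.affineOpenCover.X j)).presheaf.stalk ξ)
    (fun ξ => algOf q _ ((Spec (Y.affineOpenCover.X j)).fromSpecStalk ξ ≫ Y.affineOpenCover.f j))
    (fun ξ => (Spec (Y.affineOpenCover.X j)).fromSpecStalk ξ ≫ Y.affineOpenCover.f j)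
    (fun ξ => algOf_spec _ _)
    (fun ξ => ((Scheme.ΓSpecIso (Y.affineOpenCover.X j)).inv ≫
      (Spec (Y.affineOpenCover.X j)).presheaf.germ ⊤ ξ trivial))
    (fun ξ => ?_) ?_ (fun ξ => ?_)
  · rw [specMap_toStalk]
  · intro c hc
    have h0 : (Scheme.ΓSpecIso (Y.affineOpenCover.X j)).inv.hom c = 0 := by
      apply TopCat.Presheaf.section_ext (Spec (Y.affineOpenCover.X j)).sheaf ⊤
      intro ξ hξ
      have := hc ξ
      rw [CommRingCat.comp_apply] at this
      exact this.trans (map_zero _).symm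
    have hinj' : Function.Injective (Scheme.ΓSpecIso (Y.affineOpenCover.X j)).inv.hom :=
      (ConcreteCategory.bijective_of_isIso (Scheme.ΓSpecIso (Y.affineOpenCover.X j)).inv).1
    exact hinj' (by rw [h0, map_zero])
  · refine AgreeAt.of_specMap (Y.presheaf.stalk (Y.affineOpenCover.f j ξ))
      ((Spec (Y.affineOpenCover.X j)).presheaf.stalk ξ)
      (algOf q _ (Y.fromSpecStalk (Y.affineOpenCover.f j ξ))) _
      (Y.fromSpecStalk (Y.affineOpenCover.f j ξ)) (algOf_spec _ _) _ _
      ((Y.affineOpenCover.f j).stalkMap ξ) ?_ (H _ _ _)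
    rw [Scheme.SpecMap_stalkMap_fromSpecStalk]


/-- The quotient algebra structure, with explicit instance arguments. -/
noncomputable abbrev quotAlg (O : CommRingCat.{u}) (inst : Algebra k O) (I : Ideal O) :
    Algebra k (CommRingCat.of (O ⧸ I)) :=
  @Ideal.Quotient.algebra k O _ _ inst I _

theorem quot_hv (O : CommRingCat.{u}) (inst : Algebra k O) (I : Ideal O) (v : Spec O ⟶ Y)
    (hv : v ≫ q = Spec.map (CommRingCat.ofHom (@algebraMap k O _ _ inst))) :
    (Spec.map (CommRingCat.ofHom (Ideal.Quotient.mk I)) ≫ v) ≫ q =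
      Spec.map (CommRingCat.ofHom (@algebraMap k _ _ _ (quotAlg O inst I))) := by
  rw [Category.assoc, hv, ← Spec.map_comp, ← CommRingCat.ofHom_comp]

/-- Krull-type criterion: agreement over all `O ⧸ I ^ (n + 1)` implies agreement over `O` when
`⋂ I ^ (n + 1) = 0`. -/
theorem AgreeAt.of_quotients {a b : pullback p q ⟶ Z} (r : Z ⟶ Spec (CommRingCat.of k))
    [IsSeparated r] (hab : a ≫ r = b ≫ r) (O : CommRingCat.{u}) (inst : Algebra k O)
    (v : Spec O ⟶ Y) (hv : v ≫ q = Spec.map (CommRingCat.ofHom (@algebraMap k O _ _ inst)))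
    (I : Ideal O) (hI : ∀ c : O, (∀ n : ℕ, c ∈ I ^ (n + 1)) → c = 0)
    (H : ∀ n : ℕ, AgreeAt a b (CommRingCat.of (O ⧸ I ^ (n + 1))) (quotAlg O inst (I ^ (n + 1)))
      (Spec.map (CommRingCat.ofHom (Ideal.Quotient.mk (I ^ (n + 1)))) ≫ v)
      (quot_hv O inst (I ^ (n + 1)) v hv)) : AgreeAt a b O inst v hv :=
  AgreeAt.of_jointly_injective r hab O inst v hv
    (fun n : ℕ => CommRingCat.of (O ⧸ I ^ (n + 1))) (fun n => quotAlg O inst (I ^ (n + 1)))
    (fun n => Spec.map (CommRingCat.ofHom (Ideal.Quotient.mk (I ^ (n + 1)))) ≫ v)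
    (fun n => quot_hv O inst (I ^ (n + 1)) v hv)
    (fun n => CommRingCat.ofHom (Ideal.Quotient.mk (I ^ (n + 1)))) (fun n => rfl)
    (fun c hc => hI c (fun n => Ideal.Quotient.eq_zero_iff_mem.mp (hc n))) H

/-- For integral `Y`, two morphisms agreeing over one local ring of `Y` are equal. -/
theorem eq_of_agree_stalk_of_isIntegral [IsIntegral Y] {a b : pullback p q ⟶ Z}
    (r : Z ⟶ Spec (CommRingCat.of k)) [IsSeparated r] (hab : a ≫ r = b ≫ r)
    (y₀ : Y) (inst : Algebra k (Y.presheaf.stalk y₀))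
    (hv : Y.fromSpecStalk y₀ ≫ q =
      Spec.map (CommRingCat.ofHom (@algebraMap k (Y.presheaf.stalk y₀) _ _ inst)))
    (H : AgreeAt a b (Y.presheaf.stalk y₀) inst (Y.fromSpecStalk y₀) hv) : a = b := by
  apply eq_of_agreeAt_cover Y.affineOpenCover
  intro j inst' hv'
  by_cases hne : Nonempty (Spec (Y.affineOpenCover.X j))
  · haveI := hne
    haveI : IsIntegral (Spec (Y.affineOpenCover.X j)) :=
      isIntegral_of_isOpenImmersion (Y.affineOpenCover.f j)
    let ξ := genericPoint (Spec (Y.affineOpenCover.X j))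
    have hξ : (Y.affineOpenCover.f j) ξ = genericPoint Y :=
      genericPoint_eq_of_isOpenImmersion _
    have hspec : (Y.affineOpenCover.f j) ξ ⤳ y₀ := hξ ▸ genericPoint_specializes y₀
    have H1 : AgreeAt a b (Y.presheaf.stalk ((Y.affineOpenCover.f j) ξ))
        (algOf q _ (Y.fromSpecStalk ((Y.affineOpenCover.f j) ξ)))
        (Y.fromSpecStalk ((Y.affineOpenCover.f j) ξ)) (algOf_spec _ _) :=
      AgreeAt.of_specMap _ _ inst _ _ hv _ _ (Y.presheaf.stalkSpecializes hspec)
        (Scheme.SpecMap_stalkSpecializes_fromSpecStalk hspec) H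
    have H2 : AgreeAt a b ((Spec (Y.affineOpenCover.X j)).presheaf.stalk ξ)
        (algOf q _ ((Spec (Y.affineOpenCover.X j)).fromSpecStalk ξ ≫ Y.affineOpenCover.f j))
        ((Spec (Y.affineOpenCover.X j)).fromSpecStalk ξ ≫ Y.affineOpenCover.f j)
        (algOf_spec _ _) :=
      AgreeAt.of_specMap _ _ _ _ _ (algOf_spec _ _) _ _ ((Y.affineOpenCover.f j).stalkMap ξ)
        (Scheme.SpecMap_stalkMap_fromSpecStalk _) H1
    refine AgreeAt.of_jointly_injective r hab _ inst' _ hv' (ι := Unit)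
      (fun _ => (Spec (Y.affineOpenCover.X j)).presheaf.stalk ξ)
      (fun _ => algOf q _ ((Spec (Y.affineOpenCover.X j)).fromSpecStalk ξ ≫
        Y.affineOpenCover.f j))
      (fun _ => (Spec (Y.affineOpenCover.X j)).fromSpecStalk ξ ≫ Y.affineOpenCover.f j)
      (fun _ => algOf_spec _ _)
      (fun _ => ((Scheme.ΓSpecIso (Y.affineOpenCover.X j)).inv ≫
        (Spec (Y.affineOpenCover.X j)).presheaf.germ ⊤ ξ trivial))
      (fun _ => by rw [specMap_toStalk]) ?_ (fun _ => H2)
    intro c hc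
    have h1 := hc ()
    rw [CommRingCat.comp_apply] at h1
    have h2 := germ_injective_of_isIntegral (Spec (Y.affineOpenCover.X j)) ξ
      (U := ⊤) trivial (h1.trans (map_zero _).symm)
    have hinj' : Function.Injective (Scheme.ΓSpecIso (Y.affineOpenCover.X j)).inv.hom :=
      (ConcreteCategory.bijective_of_isIso (Scheme.ΓSpecIso (Y.affineOpenCover.X j)).inv).1
    exact hinj' (by rw [h2, map_zero])
  · intro B _ _ w hw
    rw [not_nonempty_iff] at hne
    haveI : IsEmpty (Spec (CommRingCat.of (B ⊗[k] (Y.affineOpenCover.X j)))) :=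
      Function.isEmpty (Spec.map (CommRingCat.ofHom
        (Algebra.TensorProduct.includeRight :
          (Y.affineOpenCover.X j) →ₐ[k] B ⊗[k] (Y.affineOpenCover.X j)).toRingHom)).base
    exact (isInitialOfIsEmpty).hom_ext _ _

end Theta

end Groth.Agent.H42.AntiAff
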