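import Mathlib
import Groth.Agent.H42.AntiAffDense

/-!
# The anti-affine rigidity lemma (Brion, Lemma 3.3.3), scheme level
-/

set_option autoImplicit false
set_option linter.unusedSectionVars false
set_option linter.style.haveILetI false
universe u

open CategoryTheory AlgebraicGeometry Limits TensorProduct

namespace Groth.Agent.H42.AntiAff

/-- Flat base change for `H⁰`: if `X ⟶ S` is qcqs with `Γ(S) ≅ Γ(X)` and `T ⟶ S` is flat with `S`,
`T` affine, then `Γ(T) ≅ Γ(X ×ₛ T)`. -/
theorem isIso_appTop_snd {X S T : Scheme.{u}} (p : X ⟶ S) (t : T ⟶ S) [IsAffine S] [IsAffine T]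
    [QuasiCompact p] [QuasiSeparated p] [Flat t] (hp : IsIso p.appTop) :
    IsIso (pullback.snd p t).appTop := by
  have H : IsPullback (pullback.fst p t) (pullback.snd p t) p t := IsPullback.of_hasPullback p t
  haveI : CompactSpace X := QuasiCompact.compactSpace_of_compactSpace p
  haveI : QuasiSeparatedSpace X := quasiSeparatedSpace_of_quasiSeparated p
  have hUY : (⊤ : (pullback p t).Opens) = pullback.fst p t ⁻¹ᵁ ⊤ ⊓ pullback.snd p t ⁻¹ᵁ ⊤ := by
    simp
  have hiso := isIso_pushoutSection_of_isQuasiSeparated_of_flat_right H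
    (US := ⊤) (UT := ⊤) (UX := ⊤) le_top le_top hUY (isAffineOpen_top S) (isAffineOpen_top T)
    isCompact_univ isQuasiSeparated_univ
  have hpo := (isIso_pushoutSection_iff H (US := ⊤) (UT := ⊤) (UX := ⊤) le_top le_top hUY).mp hiso
  haveI : IsIso (p.appLE ⊤ ⊤ le_top) := by
    have : p.appLE ⊤ ⊤ le_top = p.appTop := p.appLE_eq_app
    rw [this]; exact hp
  have h2 := hpo.isIso_inr_of_isIso
  have : (pullback.snd p t).appLE ⊤ ⊤ (by simp) = (pullback.snd p t).appTop :=
    (pullback.snd p t).appLE_eq_app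
  rw [← this]
  exact h2

/-- A morphism from `X ×ₛ T` to an affine scheme is constant along `X` when `Γ(X) = Γ(S)`. -/
theorem eq_snd_section_comp {X S T U : Scheme.{u}} (p : X ⟶ S) (t : T ⟶ S) [IsAffine S]
    [IsAffine T] [IsAffine U] [QuasiCompact p] [QuasiSeparated p] [Flat t] (hp : IsIso p.appTop)
    (σ : T ⟶ pullback p t) (hσ : σ ≫ pullback.snd p t = 𝟙 T) (g : pullback p t ⟶ U) :
    g = pullback.snd p t ≫ σ ≫ g := by
  haveI := isIso_appTop_snd p t hp
  apply ext_of_isAffine
  have h1 : (pullback.snd p t).appTop ≫ σ.appTop = 𝟙 _ := by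
    rw [← Scheme.Hom.comp_appTop, hσ]
    rfl
  have h2 : σ.appTop ≫ (pullback.snd p t).appTop = 𝟙 _ := by
    have : σ.appTop = inv (pullback.snd p t).appTop := by
      rw [← cancel_epi (pullback.snd p t).appTop, h1, IsIso.hom_inv_id]
    rw [this, IsIso.inv_hom_id]
  rw [Scheme.Hom.comp_appTop, Scheme.Hom.comp_appTop, Category.assoc, h2, Category.comp_id]

/-- Base change of a surjective morphism `T₀ ⟶ T` to `X ×ₛ T₀ ⟶ X ×ₛ T`. -/
theorem surjective_pullback_map {X S T T₀ : Scheme.{u}} (p : X ⟶ S) (t : T ⟶ S) (t₀ : T₀ ⟶ T)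
    [Surjective t₀] :
    Surjective (pullback.map p (t₀ ≫ t) p t (𝟙 X) t₀ (𝟙 S)
      (by rw [Category.id_comp, Category.comp_id]) (by rw [Category.comp_id])) := by
  have hsq : IsPullback (pullback.map p (t₀ ≫ t) p t (𝟙 X) t₀ (𝟙 S)
      (by rw [Category.id_comp, Category.comp_id]) (by rw [Category.comp_id]))
      (pullback.snd p (t₀ ≫ t)) (pullback.snd p t) t₀ := by
    refine IsPullback.of_right ?_ (pullback.lift_snd _ _ _) (IsPullback.of_hasPullback p t)
    have : pullback.map p (t₀ ≫ t) p t (𝟙 X) t₀ (𝟙 S)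
        (by rw [Category.id_comp, Category.comp_id]) (by rw [Category.comp_id]) ≫
        pullback.fst p t = pullback.fst p (t₀ ≫ t) := by
      rw [pullback.lift_fst, Category.comp_id]
    rw [this]
    exact IsPullback.of_hasPullback p (t₀ ≫ t)
  exact MorphismProperty.of_isPullback (P := @Surjective) hsq.flip inferInstance

/-- Every point of `Spec (O ⧸ 𝔪 ^ (n + 1))` maps to the closed point of `Spec O`. -/
theorem specMap_quot_pow_eq_closedPoint (O : CommRingCat.{u}) [IsLocalRing O] (n : ℕ)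
    (τ : ↥(Spec (CommRingCat.of (O ⧸ IsLocalRing.maximalIdeal O ^ (n + 1))))) :
    (Spec.map (CommRingCat.ofHom
      (Ideal.Quotient.mk (IsLocalRing.maximalIdeal O ^ (n + 1))))).base τ =
      IsLocalRing.closedPoint O := by
  apply PrimeSpectrum.ext
  change Ideal.comap (Ideal.Quotient.mk (IsLocalRing.maximalIdeal O ^ (n + 1))) τ.asIdeal =
    IsLocalRing.maximalIdeal O
  haveI : τ.asIdeal.IsPrime := τ.isPrime
  haveI : (Ideal.comap (Ideal.Quotient.mk (IsLocalRing.maximalIdeal O ^ (n + 1)))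
      τ.asIdeal).IsPrime := Ideal.IsPrime.comap _
  apply le_antisymm (IsLocalRing.le_maximalIdeal (Ideal.IsPrime.ne_top inferInstance))
  apply Ideal.IsPrime.le_of_pow_le (n := n + 1)
  intro c hc
  rw [Ideal.mem_comap, Ideal.Quotient.eq_zero_iff_mem.mpr hc]
  exact Ideal.zero_mem _

section Rigid

variable {k : Type u} [Field k] {X Y Z : Scheme.{u}}
  (p : X ⟶ Spec (CommRingCat.of k)) (q : Y ⟶ Spec (CommRingCat.of k))
  {x₀ : Spec (CommRingCat.of k) ⟶ X} (hx₀ : x₀ ≫ p = 𝟙 _)

/-- The section `y ↦ (x₀, y)` of the second projection. -/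
noncomputable def sec : Y ⟶ pullback p q :=
  pullback.lift (q ≫ x₀) (𝟙 Y) (by rw [Category.assoc, hx₀, Category.comp_id, Category.id_comp])

@[reassoc (attr := simp)]
theorem sec_fst : sec p q hx₀ ≫ pullback.fst p q = q ≫ x₀ := pullback.lift_fst _ _ _

@[reassoc (attr := simp)]
theorem sec_snd : sec p q hx₀ ≫ pullback.snd p q = 𝟙 Y := pullback.lift_snd _ _ _

/-- `(x, y) ↦ f (x₀, y)`. -/
noncomputable def constPart (f : pullback p q ⟶ Z) : pullback p q ⟶ Z :=
  pullback.snd p q ≫ sec p q hx₀ ≫ f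

theorem constPart_comp (f : pullback p q ⟶ Z) (r : Z ⟶ Spec (CommRingCat.of k))
    (hf : f ≫ r = pullback.fst p q ≫ p) : constPart p q hx₀ f ≫ r = f ≫ r := by
  rw [constPart, Category.assoc, Category.assoc, hf, sec_fst_assoc, hx₀,
    Category.comp_id, ← pullback.condition]

variable [QuasiCompact p] [QuasiSeparated p]

/-- Key step: over an affine `T ⟶ Y` such that `f` maps `X × T` into an affine open, `f` does not
depend on the `X`-variable. -/
theorem eq_constPart_of_range (hp : IsIso p.appTop) (f : pullback p q ⟶ Z) {T : Scheme.{u}}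
    [IsAffine T]
    (t : T ⟶ Spec (CommRingCat.of k)) (v : T ⟶ Y) (hv : v ≫ q = t) (U : Z.Opens)
    (hU : IsAffineOpen U)
    (hrange : ∀ z : ↥(pullback p t), f.base ((pullback.map p t p q (𝟙 X) v (𝟙 _)
      (by rw [Category.id_comp, Category.comp_id]) (by rw [Category.comp_id, hv])).base z) ∈ U) :
    pullback.map p t p q (𝟙 X) v (𝟙 _)
      (by rw [Category.id_comp, Category.comp_id]) (by rw [Category.comp_id, hv]) ≫ f =
    pullback.map p t p q (𝟙 X) v (𝟙 _)
      (by rw [Category.id_comp, Category.comp_id]) (by rw [Category.comp_id, hv]) ≫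
        constPart p q hx₀ f := by
  set m := pullback.map p t p q (𝟙 X) v (𝟙 _)
      (by rw [Category.id_comp, Category.comp_id]) (by rw [Category.comp_id, hv]) with hm
  haveI : IsAffine U := hU
  haveI : Subsingleton ↥(Spec (CommRingCat.of k)) :=
    inferInstanceAs (Subsingleton (PrimeSpectrum k))
  haveI : Flat t := inferInstance
  have hr : Set.range (m ≫ f).base ⊆ Set.range U.ι.base := by
    rw [Scheme.Opens.range_ι]
    rintro _ ⟨z, rfl⟩
    exact hrange z
  let g₀ : pullback p t ⟶ U := IsOpenImmersion.lift U.ι (m ≫ f) hr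
  have hg₀ : g₀ ≫ U.ι = m ≫ f := IsOpenImmersion.lift_fac _ _ _
  let σT : T ⟶ pullback p t := pullback.lift (t ≫ x₀) (𝟙 T)
    (by rw [Category.assoc, hx₀, Category.comp_id, Category.id_comp])
  have hσT : σT ≫ pullback.snd p t = 𝟙 T := pullback.lift_snd _ _ _
  have h1 := eq_snd_section_comp p t hp σT hσT g₀
  have h2 : m ≫ f = pullback.snd p t ≫ σT ≫ m ≫ f := by
    calc m ≫ f = g₀ ≫ U.ι := hg₀.symm
      _ = (pullback.snd p t ≫ σT ≫ g₀) ≫ U.ι := by rw [← h1]
      _ = pullback.snd p t ≫ σT ≫ m ≫ f := by rw [Category.assoc, Category.assoc, hg₀]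
  have h3 : v ≫ sec p q hx₀ = σT ≫ m := by
    apply pullback.hom_ext
    · rw [Category.assoc, sec_fst, Category.assoc, hm, pullback.lift_fst, Category.comp_id,
        pullback.lift_fst, ← Category.assoc, hv]
    · rw [Category.assoc, sec_snd, Category.comp_id, Category.assoc, hm, pullback.lift_snd,
        ← Category.assoc, pullback.lift_snd, Category.id_comp]
  rw [constPart, h2]
  have h4 : m ≫ pullback.snd p q = pullback.snd p t ≫ v := pullback.lift_snd _ _ _
  rw [← Category.assoc m, h4, Category.assoc, ← Category.assoc v, h3, Category.assoc]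

/-- **Rigidity at a point.** If `f` maps the fibre of `X × Y ⟶ Y` over `y` into an affine open of
`Z`, then `f` and `(x, y) ↦ f (x₀, y)` agree over `Spec 𝒪_{Y,y}`. -/
theorem agreeAt_stalk (hp : IsIso p.appTop) (f : pullback p q ⟶ Z)
    (r : Z ⟶ Spec (CommRingCat.of k)) [IsSeparated r]
    (hf : f ≫ r = pullback.fst p q ≫ p) (y : Y) [IsNoetherianRing (Y.presheaf.stalk y)]
    (U : Z.Opens) (hU : IsAffineOpen U)
    (hfy : ∀ z : ↥(pullback p q), (pullback.snd p q).base z = y → f.base z ∈ U)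
    (inst : Algebra k (Y.presheaf.stalk y))
    (hv : Y.fromSpecStalk y ≫ q =
      Spec.map (CommRingCat.ofHom (@algebraMap k (Y.presheaf.stalk y) _ _ inst))) :
    AgreeAt f (constPart p q hx₀ f) (Y.presheaf.stalk y) inst (Y.fromSpecStalk y) hv := by
  have hab : f ≫ r = constPart p q hx₀ f ≫ r := (constPart_comp p q hx₀ f r hf).symm
  refine AgreeAt.of_quotients r hab _ inst _ hv (IsLocalRing.maximalIdeal _) ?_ (fun n => ?_)
  · intro c hc
    have h1 := Ideal.iInf_pow_eq_bot_of_isLocalRing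
      (IsLocalRing.maximalIdeal (Y.presheaf.stalk y)) (Ideal.IsPrime.ne_top inferInstance)
    have hc' : c ∈ ⨅ i, IsLocalRing.maximalIdeal (Y.presheaf.stalk y) ^ i := by
      rw [Ideal.mem_iInf]
      intro i
      cases i with
      | zero => simp
      | succ n => exact hc n
    rw [h1] at hc'
    exact hc'
  · refine @Agree.of_eq k _ X Y Z p q _ _ _ _ (quotAlg _ inst _) _ (quot_hv _ inst _ _ hv) ?_
    refine eq_constPart_of_range p q hx₀ hp f _ _ (quot_hv _ inst _ _ hv) U hU ?_
    intro z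
    apply hfy
    rw [← Scheme.Hom.comp_apply, pullback.lift_snd, Scheme.Hom.comp_apply,
      Scheme.Hom.comp_apply, specMap_quot_pow_eq_closedPoint, Scheme.fromSpecStalk_closedPoint]

/-- **Anti-affine rigidity lemma**, integral case: if `Y` is integral and locally noetherian and `f`
maps one fibre `X × {y}` into an affine open of `Z`, then `f (x, y) = f (x₀, y)`. -/
theorem rigid_of_isIntegral (hp : IsIso p.appTop) (f : pullback p q ⟶ Z)
    (r : Z ⟶ Spec (CommRingCat.of k)) [IsSeparated r]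
    (hf : f ≫ r = pullback.fst p q ≫ p) [IsIntegral Y] [IsLocallyNoetherian Y] (y : Y)
    (U : Z.Opens) (hU : IsAffineOpen U)
    (hfy : ∀ z : ↥(pullback p q), (pullback.snd p q).base z = y → f.base z ∈ U) :
    f = constPart p q hx₀ f :=
  eq_of_agree_stalk_of_isIntegral r (constPart_comp p q hx₀ f r hf).symm y
    (algOf q _ (Y.fromSpecStalk y)) (algOf_spec _ _)
    (agreeAt_stalk p q hx₀ hp f r hf y U hU hfy _ _)

/-- **Anti-affine rigidity lemma**, pointwise case: if `Y` is locally noetherian and `f` maps every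
fibre `X × {y}` into an affine open of `Z`, then `f (x, y) = f (x₀, y)`. -/
theorem rigid_pointwise (hp : IsIso p.appTop) (f : pullback p q ⟶ Z)
    (r : Z ⟶ Spec (CommRingCat.of k)) [IsSeparated r]
    (hf : f ≫ r = pullback.fst p q ≫ p) [IsLocallyNoetherian Y]
    (H : ∀ y : Y, ∃ U : Z.Opens, IsAffineOpen U ∧
      ∀ z : ↥(pullback p q), (pullback.snd p q).base z = y → f.base z ∈ U) :
    f = constPart p q hx₀ f :=
  eq_of_agree_stalks r (constPart_comp p q hx₀ f r hf).symm fun y inst hv => by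
    obtain ⟨U, hU, hfy⟩ := H y
    exact agreeAt_stalk p q hx₀ hp f r hf y U hU hfy inst hv

end Rigid

end Groth.Agent.H42.AntiAff
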