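import Mathlib
import Groth.Agent.H42.AntiAffRigid
import Groth.Agent.H22.RedSub
import Groth.Agent.H40.RedSub

/-!
# The anti-affine rigidity lemma for irreducible (not necessarily reduced) `Y`
-/

set_option autoImplicit false
set_option linter.unusedSectionVars false
set_option linter.style.haveILetI false
universe u

open CategoryTheory AlgebraicGeometry Limits TensorProduct

namespace Groth.Agent.H42.AntiAff

section

variable {k : Type u} [Field k] {X Y Z : Scheme.{u}}
  (p : X ⟶ Spec (CommRingCat.of k)) (q : Y ⟶ Spec (CommRingCat.of k))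
  {x₀ : Spec (CommRingCat.of k) ⟶ X} (hx₀ : x₀ ≫ p = 𝟙 _)

/-- If `f (x, y₀) = z₀` identically, then `f` maps the set-theoretic fibre over `y₀` to `z₀`. -/
theorem fibre_const (f : pullback p q ⟶ Z) (y₀ : Spec (CommRingCat.of k) ⟶ Y) (hy₀ : y₀ ≫ q = 𝟙 _)
    (z₀ : Spec (CommRingCat.of k) ⟶ Z)
    (hconst : pullback.lift (𝟙 X) (p ≫ y₀)
      (by rw [Category.id_comp, Category.assoc, hy₀, Category.comp_id]) ≫ f = p ≫ z₀)
    (z : ↥(pullback p q))
    (hz : (pullback.snd p q).base z = y₀.base (IsLocalRing.closedPoint k)) :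
    f.base z = z₀.base (IsLocalRing.closedPoint k) := by
  set ι := pullback.lift (𝟙 X) (p ≫ y₀)
      (by rw [Category.id_comp, Category.assoc, hy₀, Category.comp_id]) with hι
  have sq : IsPullback ι p (pullback.snd p q) y₀ := by
    refine IsPullback.of_right ?_ (pullback.lift_snd _ _ _) (IsPullback.of_hasPullback p q)
    have h1 : ι ≫ pullback.fst p q = 𝟙 X := pullback.lift_fst _ _ _
    rw [h1, hy₀]
    exact IsPullback.of_horiz_isIso ⟨by rw [Category.id_comp, Category.comp_id]⟩
  have hrange : Set.range ι.base = (pullback.snd p q).base ⁻¹' Set.range y₀.base := by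
    rw [← sq.isoPullback_hom_fst]
    rw [Scheme.Hom.comp_base, TopCat.coe_comp, Set.range_comp, Set.range_eq_univ.mpr
      (Scheme.Hom.surjective sq.isoPullback.hom), Set.image_univ, Scheme.Pullback.range_fst]
  have hz' : z ∈ Set.range ι.base := by
    rw [hrange]
    exact ⟨_, hz.symm⟩
  obtain ⟨w, rfl⟩ := hz'
  have h1 := congrArg (fun m => m.base w) hconst
  simp only [Scheme.Hom.comp_base, TopCat.coe_comp, Function.comp_apply] at h1
  rw [h1]
  congr 1
  exact @Subsingleton.elim _ (inferInstanceAs (Subsingleton (PrimeSpectrum k))) _ _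

theorem exists_affineOpen_mem (Z : Scheme.{u}) (z : Z) :
    ∃ U : Z.Opens, IsAffineOpen U ∧ z ∈ U := by
  obtain ⟨_, ⟨U, hU, rfl⟩, hzU, -⟩ := Z.isBasis_affineOpens.exists_subset_of_mem_open
    (Set.mem_univ z) isOpen_univ
  exact ⟨U, hU, hzU⟩

variable [QuasiCompact p] [QuasiSeparated p]

/-- **Anti-affine rigidity lemma** (Brion, Lemma 3.3.3, as published): `Y` is only assumed
irreducible and locally noetherian. -/
theorem rigid_of_irreducible (hp : IsIso p.appTop) (f : pullback p q ⟶ Z)
    (r : Z ⟶ Spec (CommRingCat.of k)) [IsSeparated r] (hf : f ≫ r = pullback.fst p q ≫ p)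
    [IrreducibleSpace Y] [IsLocallyNoetherian Y]
    (y₀ : Spec (CommRingCat.of k) ⟶ Y) (hy₀ : y₀ ≫ q = 𝟙 _)
    (z₀ : Spec (CommRingCat.of k) ⟶ Z)
    (hconst : pullback.lift (𝟙 X) (p ≫ y₀)
      (by rw [Category.id_comp, Category.assoc, hy₀, Category.comp_id]) ≫ f = p ≫ z₀) :
    f = constPart p q hx₀ f := by
  -- Stage 1: the reduced subscheme
  set j := Y.nilradical.subschemeι with hj
  haveI : IsReduced Y.nilradical.subscheme := Groth.Agent.H22.isReduced_nilradical_subscheme Y
  haveI : Surjective j := Groth.Agent.H22.surjective_nilradical_subschemeι Y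
  have hhomeo : Y.nilradical.subscheme ≃ₜ Y :=
    j.isClosedEmbedding.isEmbedding.toHomeomorphOfSurjective j.surjective
  haveI : IrreducibleSpace Y.nilradical.subscheme := hhomeo.irreducibleSpace_iff.mpr inferInstance
  haveI : IsIntegral Y.nilradical.subscheme :=
    isIntegral_of_irreducibleSpace_of_isReduced Y.nilradical.subscheme
  haveI : IsLocallyNoetherian Y.nilradical.subscheme := LocallyOfFiniteType.isLocallyNoetherian j
  set m := pullback.map p (j ≫ q) p q (𝟙 X) j (𝟙 _)
    (by rw [Category.id_comp, Category.comp_id]) (by rw [Category.comp_id]) with hm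
  haveI : Surjective m := surjective_pullback_map p q j
  have hm_snd : m ≫ pullback.snd p q = pullback.snd p (j ≫ q) ≫ j := pullback.lift_snd _ _ _
  have hm_fst : m ≫ pullback.fst p q = pullback.fst p (j ≫ q) := by
    rw [hm, pullback.lift_fst, Category.comp_id]
  have hf₁ : (m ≫ f) ≫ r = pullback.fst p (j ≫ q) ≫ p := by
    rw [Category.assoc, hf, ← Category.assoc, hm_fst]
  let pt : ↥(Spec (CommRingCat.of k)) := IsLocalRing.closedPoint k
  obtain ⟨y₀', hy₀'⟩ := j.surjective (y₀.base pt)
  obtain ⟨U, hU, hzU⟩ := exists_affineOpen_mem Z (z₀.base pt)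
  have key1 : m ≫ f = constPart p (j ≫ q) hx₀ (m ≫ f) := by
    refine rigid_of_isIntegral p (j ≫ q) hx₀ hp (m ≫ f) r hf₁ y₀' U hU ?_
    intro z hz
    have h1 : (m ≫ f).base z = z₀.base pt := by
      rw [Scheme.Hom.comp_base, TopCat.coe_comp, Function.comp_apply]
      apply fibre_const p q f y₀ hy₀ z₀ hconst
      rw [← Scheme.Hom.comp_apply, hm_snd, Scheme.Hom.comp_apply, hz, hy₀']
    rw [h1]
    exact hzU
  -- Stage 2: pointwise rigidity
  refine rigid_pointwise p q hx₀ hp f r hf ?_
  intro y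
  obtain ⟨y', hy'⟩ := j.surjective y
  obtain ⟨U', hU', hζ⟩ := exists_affineOpen_mem Z ((sec p (j ≫ q) hx₀ ≫ m ≫ f).base y')
  refine ⟨U', hU', ?_⟩
  intro z hz
  obtain ⟨w, rfl⟩ := m.surjective z
  have hw : (pullback.snd p (j ≫ q)).base w = y' := by
    apply j.isClosedEmbedding.injective
    rw [hy', ← hz, ← Scheme.Hom.comp_apply, ← Scheme.Hom.comp_apply, hm_snd]
  have h2 : f.base (m.base w) = (sec p (j ≫ q) hx₀ ≫ m ≫ f).base y' := by
    have h3 : f.base (m.base w) = (m ≫ f).base w := by
      rw [Scheme.Hom.comp_base, TopCat.coe_comp, Function.comp_apply]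
    have h4 : (m ≫ f).base w = (constPart p (j ≫ q) hx₀ (m ≫ f)).base w :=
      congrArg (fun g => g.base w) key1
    rw [h3, h4, constPart, Scheme.Hom.comp_base, TopCat.coe_comp, Function.comp_apply, hw]
  rw [h2]
  exact hζ

end

end Groth.Agent.H42.AntiAff
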