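import Mathlib
import Groth.Agent.H42.AntiAffRigid2
import Groth.Agent.H90.GrpUnitSection
import Groth.Agent.S0348
import Groth.Agent.H89.SchemeIdem

/-!
# Anti-affine group schemes: rigidity in `Over (Spec k)`, connectedness, commutativity,
pointed morphisms are homomorphisms
-/

set_option autoImplicit false
set_option linter.unusedSectionVars false
set_option linter.style.haveILetI false
universe u

open CategoryTheory AlgebraicGeometry Limits MonoidalCategory CartesianMonoidalCategory MonObj GrpObj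

namespace Groth.Agent.H42.AntiAff

/-- **Anti-affine rigidity lemma** in `Over (Spec k)`. -/
theorem rigidity_over (k : Type u) [Field k]
    (X Y Z : Over (Spec (CommRingCat.of k))) [QuasiCompact X.hom] [QuasiSeparated X.hom]
    (hX : Function.Bijective ((Scheme.ΓSpecIso (CommRingCat.of k)).inv ≫ X.hom.appTop).hom)
    [IsLocallyNoetherian Y.left] [IrreducibleSpace ↥Y.left] [IsSeparated Z.hom]
    (x₀ : 𝟙_ (Over (Spec (CommRingCat.of k))) ⟶ X) (y₀ : 𝟙_ (Over (Spec (CommRingCat.of k))) ⟶ Y)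
    (z₀ : 𝟙_ (Over (Spec (CommRingCat.of k))) ⟶ Z) (f : X ⊗ Y ⟶ Z)
    (hf : (X ◁ y₀) ≫ f = toUnit _ ≫ z₀) :
    f = snd X Y ≫ lift (toUnit Y ≫ x₀) (𝟙 Y) ≫ f := by
  haveI : IsIso ((Scheme.ΓSpecIso (CommRingCat.of k)).inv ≫ X.hom.appTop) :=
    (ConcreteCategory.isIso_iff_bijective _).mpr hX
  have hp : IsIso X.hom.appTop :=
    IsIso.of_isIso_comp_left (Scheme.ΓSpecIso (CommRingCat.of k)).inv X.hom.appTop
  have hx₀ : x₀.left ≫ X.hom = 𝟙 _ := Over.w x₀
  have hy₀ : y₀.left ≫ Y.hom = 𝟙 _ := Over.w y₀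
  have hf' : f.left ≫ Z.hom = pullback.fst X.hom Y.hom ≫ X.hom := Over.w f
  have hcond : 𝟙 X.left ≫ X.hom = (X.hom ≫ y₀.left) ≫ Y.hom := by
    rw [Category.id_comp, Category.assoc, hy₀]
    exact (Category.comp_id _).symm
  have hconst : pullback.lift (𝟙 X.left) (X.hom ≫ y₀.left) hcond ≫ f.left =
      X.hom ≫ z₀.left := by
    have h : (lift (𝟙 X) (toUnit X) ≫ (X ◁ y₀) ≫ f).left =
        (lift (𝟙 X) (toUnit X) ≫ toUnit _ ≫ z₀).left := by rw [hf]
    have h1 : (lift (𝟙 X) (toUnit X) ≫ (X ◁ y₀)).left =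
        pullback.lift (𝟙 X.left) (X.hom ≫ y₀.left) hcond := by
      apply pullback.hom_ext
      · rw [pullback.lift_fst]
        exact congrArg (fun m => m.left)
          (show (lift (𝟙 X) (toUnit X) ≫ (X ◁ y₀)) ≫ fst X Y = 𝟙 X by
            rw [Category.assoc, whiskerLeft_fst, lift_fst])
      · rw [pullback.lift_snd]
        exact congrArg (fun m => m.left)
          (show (lift (𝟙 X) (toUnit X) ≫ (X ◁ y₀)) ≫ snd X Y = toUnit X ≫ y₀ by
            rw [Category.assoc, whiskerLeft_snd, lift_snd_assoc])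
    have h2 : lift (𝟙 X) (toUnit X) ≫ toUnit (X ⊗ 𝟙_ (Over (Spec (CommRingCat.of k)))) ≫ z₀ =
        toUnit X ≫ z₀ := by
      rw [← Category.assoc, toUnit_unique (lift (𝟙 X) (toUnit X) ≫ toUnit _) (toUnit X)]
    rw [h2] at h
    rw [← h1]
    exact h
  have key := rigid_of_irreducible X.hom Y.hom hx₀ hp f.left Z.hom hf' y₀.left hy₀ z₀.left hconst
  apply Over.OverMorphism.ext
  rw [key, constPart, Over.comp_left, Over.comp_left]
  congr 1

section Grp

variable (k : Type u) [Field k] (H : Over (Spec (CommRingCat.of k))) [GrpObj H]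

/-- An anti-affine group scheme is connected. -/
theorem connectedSpace_of_antiAffine
    (hH : Function.Bijective ((Scheme.ΓSpecIso (CommRingCat.of k)).inv ≫ H.hom.appTop).hom) :
    ConnectedSpace ↥H.left := by
  rw [connectedSpace_iff_clopen]
  refine ⟨⟨η[H].left.base (IsLocalRing.closedPoint k)⟩, ?_⟩
  intro s hs
  obtain ⟨e, he, hes⟩ := Groth.Agent.H89.SchemeIdem.exists_idem_of_isClopen H.left s hs
  obtain ⟨c, rfl⟩ := hH.2 e
  have hc : IsIdempotentElem c := by
    apply hH.1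
    rw [map_mul]
    exact he
  rcases IsIdempotentElem.iff_eq_zero_or_one.mp hc with rfl | rfl
  · left
    rw [← hes, map_zero, Scheme.basicOpen_zero]
    rfl
  · right
    rw [← hes, map_one, Scheme.basicOpen_of_isUnit _ isUnit_one]
    rfl

variable [LocallyOfFiniteType H.hom] [QuasiCompact H.hom]

/-- Rigidity for morphisms `H × H ⟶ G` out of an anti-affine group. -/
theorem grp_rigid
    (hH : Function.Bijective ((Scheme.ΓSpecIso (CommRingCat.of k)).inv ≫ H.hom.appTop).hom)
    (G : Over (Spec (CommRingCat.of k))) [GrpObj G]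
    (z₀ : 𝟙_ (Over (Spec (CommRingCat.of k))) ⟶ G) (φ : H ⊗ H ⟶ G)
    (hφ : (H ◁ η[H]) ≫ φ = toUnit _ ≫ z₀) :
    φ = snd H H ≫ lift (toUnit H ≫ η[H]) (𝟙 H) ≫ φ := by
  haveI : DiscreteTopology ↥(Spec (CommRingCat.of k)) :=
    inferInstanceAs (DiscreteTopology (PrimeSpectrum k))
  haveI : IsSeparated H.hom := Groth.Agent.H90.isSeparated_of_discrete _ H
  haveI : IsSeparated G.hom := Groth.Agent.H90.isSeparated_of_discrete _ G
  haveI : IsLocallyNoetherian H.left := LocallyOfFiniteType.isLocallyNoetherian H.hom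
  haveI : ConnectedSpace ↥H.left := connectedSpace_of_antiAffine k H hH
  haveI : IrreducibleSpace ↥H.left := Groth.Agent.S0348.result k H
  exact rigidity_over k H H G hH η[H] η[H] z₀ φ hφ

end Grp

end Groth.Agent.H42.AntiAff
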