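import Mathlib

/-!
# Morphisms from an anti-affine scheme to an affine scheme are constant
-/

set_option autoImplicit false
set_option linter.unusedSectionVars false
set_option linter.style.haveILetI false
universe u

open CategoryTheory AlgebraicGeometry Limits MonoidalCategory CartesianMonoidalCategory

namespace Groth.Agent.H42.AntiAff

/-- If `O(X) = k` and `x₀` is a rational point, then `X ⟶ Spec k ⟶ X ⟶ Spec Γ(X)` is the canonical
map. -/
theorem const_comp_toSpecΓ {k : Type u} [Field k] {X : Scheme.{u}}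
    (p : X ⟶ Spec (CommRingCat.of k))
    (hX : Function.Bijective ((Scheme.ΓSpecIso (CommRingCat.of k)).inv ≫ p.appTop).hom)
    (x₀ : Spec (CommRingCat.of k) ⟶ X) (hx₀ : x₀ ≫ p = 𝟙 _) :
    (p ≫ x₀) ≫ X.toSpecΓ = X.toSpecΓ := by
  have hiso : IsIso ((Scheme.ΓSpecIso (CommRingCat.of k)).inv ≫ p.appTop) := by
    rw [ConcreteCategory.isIso_iff_bijective]
    exact hX
  have hiso2 : IsIso p.appTop :=
    IsIso.of_isIso_comp_left (Scheme.ΓSpecIso (CommRingCat.of k)).inv p.appTop
  have h3 : p.appTop ≫ x₀.appTop = 𝟙 _ := by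
    rw [← Scheme.Hom.comp_appTop, hx₀, Scheme.Hom.id_appTop]
  have h4 : x₀.appTop ≫ p.appTop = 𝟙 _ := by
    rw [← cancel_epi p.appTop, reassoc_of% h3, Category.comp_id]
  rw [Scheme.toSpecΓ_naturality, Scheme.Hom.comp_appTop, h4, Spec.map_id, Category.comp_id]

/-- A morphism from an anti-affine scheme with a rational point to an affine scheme is constant. -/
theorem eq_const_of_isAffine_scheme {k : Type u} [Field k] {X N : Scheme.{u}}
    (p : X ⟶ Spec (CommRingCat.of k))
    (hX : Function.Bijective ((Scheme.ΓSpecIso (CommRingCat.of k)).inv ≫ p.appTop).hom)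
    (x₀ : Spec (CommRingCat.of k) ⟶ X) (hx₀ : x₀ ≫ p = 𝟙 _) [IsAffine N] (ψ : X ⟶ N) :
    ψ = p ≫ x₀ ≫ ψ := by
  rw [← cancel_mono N.toSpecΓ, Category.assoc, Category.assoc, Scheme.toSpecΓ_naturality ψ,
    ← Category.assoc, ← Category.assoc, const_comp_toSpecΓ p hX x₀ hx₀]

/-- `Over (Spec k)` form. -/
theorem eq_const_of_isAffine (k : Type u) [Field k] (X N : Over (Spec (CommRingCat.of k)))
    (hX : Function.Bijective ((Scheme.ΓSpecIso (CommRingCat.of k)).inv ≫ X.hom.appTop).hom)
    [IsAffine N.left] (x₀ : 𝟙_ (Over (Spec (CommRingCat.of k))) ⟶ X) (ψ : X ⟶ N) :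
    ψ = toUnit X ≫ x₀ ≫ ψ := by
  apply Over.OverMorphism.ext
  have h := eq_const_of_isAffine_scheme X.hom hX x₀.left (Over.w x₀) ψ.left
  rw [Over.comp_left, Over.comp_left, Over.toUnit_left]
  exact h

end Groth.Agent.H42.AntiAff
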