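import Groth.Agent.H42.GaGm3

set_option autoImplicit false
universe u

open CategoryTheory MonoidalCategory CartesianMonoidalCategory MonObj GrpObj AlgebraicGeometry
open CategoryTheory.Limits
open scoped TensorProduct

namespace Groth.Agent.H42

section General

variable {R : Type u} [CommRing R] {G : Type} [CommGroup G]
  {Y : Over (Spec (CommRingCat.of R))}

theorem pb_ptL_mul_single
    (c d : Y ⟶ (Spec (CommRingCat.of (MonoidAlgebra R G))).asOver (Spec (CommRingCat.of R)))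
    (g : G) :
    pb (ptL (c * d)) (MonoidAlgebra.single g (1 : R)) =
      pb (ptL c) (MonoidAlgebra.single g (1 : R)) * pb (ptL d) (MonoidAlgebra.single g (1 : R)) := by
  rw [pb_ptL_mul, MonoidAlgebra.comul_single]
  have : Coalgebra.comul (R := R) (1 : R) = (1 : R) ⊗ₜ[R] (1 : R) := rfl
  rw [this, TensorProduct.map_tmul, pb_pairPt_tmul]
  rfl

end General

section GmZ

abbrev AGm : Type u := MonoidAlgebra (ULift.{u} ℤ) (Multiplicative ℤ)

/-- The coordinate of `𝔾_m`. -/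
noncomputable def gmX : AGm.{u} := MonoidAlgebra.single (Multiplicative.ofAdd (1 : ℤ)) 1

theorem gmX_isUnit : IsUnit gmX.{u} := by
  refine IsUnit.of_mul_eq_one (MonoidAlgebra.single (Multiplicative.ofAdd (-1 : ℤ)) 1) ?_
  rw [gmX, MonoidAlgebra.single_mul_single, ← ofAdd_add]
  simp [MonoidAlgebra.one_def]

theorem ringHom_ext_AGm {T : Type u} [CommRing T] (φ ψ : AGm.{u} →+* T)
    (h : φ gmX = ψ gmX) : φ = ψ := by
  apply MonoidAlgebra.ringHom_ext
  · intro r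
    have := ringHom_ext_uliftInt (φ.comp MonoidAlgebra.singleOneRingHom)
      (ψ.comp MonoidAlgebra.singleOneRingHom)
    exact RingHom.congr_fun this r
  · have : (φ : AGm.{u} →* T).comp (MonoidAlgebra.of (ULift.{u} ℤ) (Multiplicative ℤ)) =
        (ψ : AGm.{u} →* T).comp (MonoidAlgebra.of (ULift.{u} ℤ) (Multiplicative ℤ)) :=
      MonoidHom.ext_mint h
    intro m
    exact DFunLike.congr_fun this m

theorem exists_ringHom_AGm {T : Type u} [CommRing T] (t : Tˣ) :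
    ∃ φ : AGm.{u} →+* T, φ gmX = t := by
  refine ⟨MonoidAlgebra.liftNCRingHom
    ((Int.castRingHom T).comp (ULift.ringEquiv : ULift.{u} ℤ ≃+* ℤ).toRingHom)
    ((Units.coeHom T).comp (zpowersHom Tˣ t)) (fun _ _ => Commute.all _ _), ?_⟩
  rw [gmX, MonoidAlgebra.liftNCRingHom_single]
  have : (ULift.ringEquiv : ULift.{u} ℤ ≃+* ℤ) 1 = 1 := rfl
  simp [this]

variable {Y : Over (Spec (CommRingCat.of (ULift.{u} ℤ)))}

/-- The function defined by a point of `𝔾_m` over `ℤ`. -/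
noncomputable def gmFnZ (c : Y ⟶ Red.diag (ULift.{u} ℤ) ℤ) : Γ(Y.left, ⊤) := pb (ptL c) gmX

theorem gmFnZ_mul (c d : Y ⟶ Red.diag (ULift.{u} ℤ) ℤ) : gmFnZ (c * d) = gmFnZ c * gmFnZ d :=
  pb_ptL_mul_single c d (Multiplicative.ofAdd (1 : ℤ))

theorem gmFnZ_isUnit (c : Y ⟶ Red.diag (ULift.{u} ℤ) ℤ) : IsUnit (gmFnZ c) :=
  gmX_isUnit.map (pb (ptL c))

theorem gmFnZ_injective : Function.Injective (gmFnZ (Y := Y)) := by
  intro c d h
  apply ptL_injective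
  apply pb_injective
  exact ringHom_ext_AGm _ _ h

theorem gmFnZ_surjective (t : Γ(Y.left, ⊤)) (ht : IsUnit t) : ∃ c : Y ⟶ Red.diag (ULift.{u} ℤ) ℤ,
    gmFnZ c = t := by
  obtain ⟨φ, hφ⟩ := exists_ringHom_AGm ht.unit
  obtain ⟨g, hg⟩ := pb_surjective (A := AGm.{u}) (Y := Y.left) φ
  obtain ⟨c, hc⟩ := ptL_surjective (A := AGm.{u}) (Y := Y) g
  refine ⟨c, ?_⟩
  unfold gmFnZ
  rw [hc, hg, hφ]
  rfl

theorem gmFnZ_comp {Y' : Over (Spec (CommRingCat.of (ULift.{u} ℤ)))} (h : Y' ⟶ Y)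
    (c : Y ⟶ Red.diag (ULift.{u} ℤ) ℤ) : gmFnZ (h ≫ c) = h.left.appTop (gmFnZ c) := by
  unfold gmFnZ
  rw [ptL_comp, pb_comp]

end GmZ

section GmS

variable {S : Scheme.{u}} {X : Over S}

theorem gmFn_eq (x : X ⟶ Red.Gm S) :
    Red.gmFn x = gmFnZ (bcPt (Limits.IsTerminal.from specULiftZIsTerminal S)
      (Red.diag (ULift.{u} ℤ) ℤ) x) := rfl

theorem gmFn_mul (x y : X ⟶ Red.Gm S) : Red.gmFn (x * y) = Red.gmFn x * Red.gmFn y := by
  rw [gmFn_eq, gmFn_eq, gmFn_eq, bcPt_mul, gmFnZ_mul]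

theorem gmFn_isUnit (x : X ⟶ Red.Gm S) : IsUnit (Red.gmFn x) := by
  rw [gmFn_eq]; exact gmFnZ_isUnit _

theorem gmFn_injective : Function.Injective (Red.gmFn (S := S) (X := X)) := by
  intro x y h
  rw [gmFn_eq, gmFn_eq] at h
  exact bcPt_injective _ _ (gmFnZ_injective h)

theorem gmFn_surjective (t : Γ(X.left, ⊤)) (ht : IsUnit t) : ∃ x : X ⟶ Red.Gm S, Red.gmFn x = t := by
  obtain ⟨c, hc⟩ := gmFnZ_surjective
    (Y := (Over.map (Limits.IsTerminal.from specULiftZIsTerminal S)).obj X) t ht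
  obtain ⟨x, hx⟩ := bcPt_surjective (Limits.IsTerminal.from specULiftZIsTerminal S)
    (Red.diag (ULift.{u} ℤ) ℤ) c
  exact ⟨x, by rw [gmFn_eq, hx, hc]⟩

theorem gmFn_comp {X' : Over S} (h : X' ⟶ X) (x : X ⟶ Red.Gm S) :
    Red.gmFn (h ≫ x) = h.left.appTop (Red.gmFn x) := by
  rw [gmFn_eq, gmFn_eq]
  have : bcPt (Limits.IsTerminal.from specULiftZIsTerminal S) (Red.diag (ULift.{u} ℤ) ℤ) (h ≫ x) =
      (Over.map (Limits.IsTerminal.from specULiftZIsTerminal S)).map h ≫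
        bcPt (Limits.IsTerminal.from specULiftZIsTerminal S) (Red.diag (ULift.{u} ℤ) ℤ) x := by
    ext
    simp [bcPt_left]
  rw [this, gmFnZ_comp]
  rfl

theorem gmFn_one : Red.gmFn (1 : X ⟶ Red.Gm S) = 1 := by
  have := gmFn_mul (1 : X ⟶ Red.Gm S) 1
  have h11 : (1 : X ⟶ Red.Gm S) * 1 = 1 := _root_.mul_one (1 : X ⟶ Red.Gm S)
  rw [h11] at this
  have hu := gmFn_isUnit (1 : X ⟶ Red.Gm S)
  exact hu.mul_left_cancel (by rw [← this, _root_.mul_one])

theorem gmFn_inv_mul (x : X ⟶ Red.Gm S) : Red.gmFn x⁻¹ * Red.gmFn x = 1 := by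
  rw [← gmFn_mul, inv_mul_cancel, gmFn_one]

theorem gmFn_mul_inv (x : X ⟶ Red.Gm S) : Red.gmFn x * Red.gmFn x⁻¹ = 1 := by
  rw [← gmFn_mul, mul_inv_cancel, gmFn_one]

theorem gmFn_pow (x : X ⟶ Red.Gm S) (n : ℕ) : Red.gmFn (x ^ n) = Red.gmFn x ^ n := by
  induction n with
  | zero => simp [gmFn_one]
  | succ n ih => rw [pow_succ, pow_succ, gmFn_mul, ih]

theorem gmFn_ext {x y : X ⟶ Red.Gm S} (h : Red.gmFn x = Red.gmFn y) : x = y := gmFn_injective h

end GmS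

end Groth.Agent.H42
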