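import Groth.Agent.H42.GaGm2

set_option autoImplicit false
universe u

open CategoryTheory MonoidalCategory CartesianMonoidalCategory MonObj GrpObj AlgebraicGeometry
open CategoryTheory.Limits
open scoped TensorProduct

namespace Groth.Agent.H42

section General

variable {R : Type u} [CommRing R] {M : Type u} [AddCommGroup M] [Module R M]
  {Y : Over (Spec (CommRingCat.of R))}

theorem pb_ptL_mul_ι
    (c d : Y ⟶ (Spec (CommRingCat.of (SymmetricAlgebra R M))).asOver (Spec (CommRingCat.of R)))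
    (m : M) :
    pb (ptL (c * d)) (SymmetricAlgebra.ι R M m) =
      pb (ptL c) (SymmetricAlgebra.ι R M m) + pb (ptL d) (SymmetricAlgebra.ι R M m) := by
  rw [pb_ptL_mul, SymmetricAlgebra.comul_ι, map_add, pb_pairPt_tmul, pb_pairPt_tmul, map_one,
    map_one, _root_.mul_one, _root_.one_mul]

end General

section GaZ

variable {Y : Over (Spec (CommRingCat.of (ULift.{u} ℤ)))}

/-- The function defined by a point of `𝔾_a` over `ℤ`. -/
noncomputable def gaFnZ (c : Y ⟶ Red.GaZ.{u}) : Γ(Y.left, ⊤) := pb (ptL c) gaX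

theorem gaFnZ_mul (c d : Y ⟶ Red.GaZ.{u}) : gaFnZ (c * d) = gaFnZ c + gaFnZ d := by
  exact pb_ptL_mul_ι c d (ULift.up 1)

theorem gaFnZ_injective : Function.Injective (gaFnZ (Y := Y)) := by
  intro c d h
  apply ptL_injective
  apply pb_injective
  exact ringHom_ext_AGa _ _ h

theorem gaFnZ_surjective : Function.Surjective (gaFnZ (Y := Y)) := by
  intro t
  obtain ⟨φ, hφ⟩ := exists_ringHom_AGa t
  obtain ⟨g, hg⟩ := pb_surjective (A := AGa.{u}) (Y := Y.left) φ
  obtain ⟨c, hc⟩ := ptL_surjective (A := AGa.{u}) (Y := Y) g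
  refine ⟨c, ?_⟩
  unfold gaFnZ
  rw [hc, hg, hφ]

theorem gaFnZ_comp {Y' : Over (Spec (CommRingCat.of (ULift.{u} ℤ)))} (h : Y' ⟶ Y)
    (c : Y ⟶ Red.GaZ.{u}) : gaFnZ (h ≫ c) = h.left.appTop (gaFnZ c) := by
  unfold gaFnZ
  rw [ptL_comp, pb_comp]

end GaZ

section GaS

variable {S : Scheme.{u}} {X : Over S}

theorem gaFn_eq (x : X ⟶ Red.Ga S) :
    Red.gaFn x = gaFnZ (bcPt (Limits.IsTerminal.from specULiftZIsTerminal S) Red.GaZ x) := rfl

theorem gaFn_mul (x y : X ⟶ Red.Ga S) : Red.gaFn (x * y) = Red.gaFn x + Red.gaFn y := by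
  rw [gaFn_eq, gaFn_eq, gaFn_eq, bcPt_mul, gaFnZ_mul]

theorem gaFn_injective : Function.Injective (Red.gaFn (S := S) (X := X)) := by
  intro x y h
  rw [gaFn_eq, gaFn_eq] at h
  exact bcPt_injective _ _ (gaFnZ_injective h)

theorem gaFn_surjective : Function.Surjective (Red.gaFn (S := S) (X := X)) := by
  intro t
  obtain ⟨c, hc⟩ := gaFnZ_surjective
    (Y := (Over.map (Limits.IsTerminal.from specULiftZIsTerminal S)).obj X) t
  obtain ⟨x, hx⟩ := bcPt_surjective (Limits.IsTerminal.from specULiftZIsTerminal S) Red.GaZ c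
  exact ⟨x, by rw [gaFn_eq, hx, hc]⟩

theorem gaFn_comp {X' : Over S} (h : X' ⟶ X) (x : X ⟶ Red.Ga S) :
    Red.gaFn (h ≫ x) = h.left.appTop (Red.gaFn x) := by
  rw [gaFn_eq, gaFn_eq]
  have : bcPt (Limits.IsTerminal.from specULiftZIsTerminal S) Red.GaZ (h ≫ x) =
      (Over.map (Limits.IsTerminal.from specULiftZIsTerminal S)).map h ≫
        bcPt (Limits.IsTerminal.from specULiftZIsTerminal S) Red.GaZ x := by
    ext
    simp [bcPt_left]
  rw [this, gaFnZ_comp]
  rfl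

theorem gaFn_one : Red.gaFn (1 : X ⟶ Red.Ga S) = 0 := by
  have := gaFn_mul (1 : X ⟶ Red.Ga S) 1
  have h11 : (1 : X ⟶ Red.Ga S) * 1 = 1 := _root_.mul_one (1 : X ⟶ Red.Ga S)
  rw [h11] at this
  exact left_eq_add.mp this

theorem gaFn_inv (x : X ⟶ Red.Ga S) : Red.gaFn x⁻¹ = - Red.gaFn x := by
  have := gaFn_mul x⁻¹ x
  rw [inv_mul_cancel, gaFn_one] at this
  exact eq_neg_of_add_eq_zero_left this.symm

theorem gaFn_ext {x y : X ⟶ Red.Ga S} (h : Red.gaFn x = Red.gaFn y) : x = y := gaFn_injective h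

end GaS

end Groth.Agent.H42
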