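import Groth.Prelude.Def_Red2

set_option autoImplicit false
universe u

open CategoryTheory MonoidalCategory CartesianMonoidalCategory MonObj GrpObj AlgebraicGeometry
open CategoryTheory.Limits

namespace Groth.Agent.H42

section BaseChange

variable {S' S : Scheme.{u}} (f : S' ⟶ S) (G : Over S) [GrpObj G]

/-- The point of `G` over `S` corresponding to a point of the base change. -/
noncomputable def bcPt {X : Over S'} (x : X ⟶ Red.bc f G) : (Over.map f).obj X ⟶ G :=
  ((Over.mapPullbackAdj f).homEquiv X G).symm x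

theorem bcPt_left {X : Over S'} (x : X ⟶ Red.bc f G) :
    (bcPt f G x).left = x.left ≫ pullback.fst _ _ := rfl

theorem bcPt_injective {X : Over S'} : Function.Injective (bcPt f G (X := X)) :=
  ((Over.mapPullbackAdj f).homEquiv X G).symm.injective

theorem bcPt_surjective {X : Over S'} : Function.Surjective (bcPt f G (X := X)) :=
  ((Over.mapPullbackAdj f).homEquiv X G).symm.surjective

theorem bcPt_mul {X : Over S'} (x y : X ⟶ Red.bc f G) :
    bcPt f G (x * y) = bcPt f G x * bcPt f G y := by
  apply ((Over.mapPullbackAdj f).homEquiv X G).injective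
  simp only [bcPt, Equiv.apply_symm_apply]
  rw [Adjunction.homEquiv_unit, Functor.map_mul, MonObj.comp_mul]
  congr 1
  · rw [← Adjunction.homEquiv_unit, Equiv.apply_symm_apply]
  · rw [← Adjunction.homEquiv_unit, Equiv.apply_symm_apply]

end BaseChange

section Pb

/-- Pull back a function on an affine scheme along a morphism. -/
noncomputable def pb {A : Type u} [CommRing A] {Y : Scheme.{u}} (g : Y ⟶ Spec (CommRingCat.of A)) :
    A →+* Γ(Y, ⊤) :=
  ((Scheme.ΓSpecIso (CommRingCat.of A)).inv ≫ g.appTop).hom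

theorem pb_apply {A : Type u} [CommRing A] {Y : Scheme.{u}} (g : Y ⟶ Spec (CommRingCat.of A))
    (a : A) : pb g a = g.appTop ((Scheme.ΓSpecIso (CommRingCat.of A)).inv a) := rfl

theorem pb_comp {A : Type u} [CommRing A] {Y Y' : Scheme.{u}} (h : Y' ⟶ Y)
    (g : Y ⟶ Spec (CommRingCat.of A)) (a : A) : pb (h ≫ g) a = h.appTop (pb g a) := by
  rw [pb_apply, pb_apply, Scheme.Hom.comp_appTop, CommRingCat.comp_apply]

theorem pb_comp_specMap {A B : Type u} [CommRing A] [CommRing B] {Y : Scheme.{u}}
    (g : Y ⟶ Spec (CommRingCat.of A)) (φ : B →+* A) (b : B) :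
    pb (g ≫ Spec.map (CommRingCat.ofHom φ)) b = pb g (φ b) := by
  rw [pb_apply, pb_apply, Scheme.Hom.comp_appTop]
  have := Scheme.ΓSpecIso_inv_naturality (CommRingCat.ofHom φ)
  have h2 := congrArg (fun t => t.hom b) this
  simp only [CommRingCat.hom_comp, RingHom.comp_apply, CommRingCat.hom_ofHom] at h2
  rw [CommRingCat.comp_apply, ← h2]

end Pb

section AffinePoints

open scoped TensorProduct

variable {R A : Type u} [CommRing R] [CommRing A] [Bialgebra R A]

/-- The underlying scheme morphism of a point of `Spec A`, with its plain type. -/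
noncomputable def ptL {Y : Over (Spec (CommRingCat.of R))}
    (c : Y ⟶ (Spec (CommRingCat.of A)).asOver (Spec (CommRingCat.of R))) :
    Y.left ⟶ Spec (CommRingCat.of A) := c.left

theorem ptL_w {Y : Over (Spec (CommRingCat.of R))}
    (c : Y ⟶ (Spec (CommRingCat.of A)).asOver (Spec (CommRingCat.of R))) :
    ptL c ≫ Spec.map (CommRingCat.ofHom (algebraMap R A)) = Y.hom := Over.w c

theorem ptL_comp {Y Y' : Over (Spec (CommRingCat.of R))} (h : Y' ⟶ Y)
    (c : Y ⟶ (Spec (CommRingCat.of A)).asOver (Spec (CommRingCat.of R))) :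
    ptL (h ≫ c) = h.left ≫ ptL c := rfl

theorem ptL_injective {Y : Over (Spec (CommRingCat.of R))} :
    Function.Injective (ptL (A := A) (Y := Y)) := fun _ _ h => Over.OverMorphism.ext h

/-- The morphism to `Spec (A ⊗ A)` defined by two points of `Spec A`. -/
noncomputable def pairPt {Y : Over (Spec (CommRingCat.of R))}
    (c d : Y ⟶ (Spec (CommRingCat.of A)).asOver (Spec (CommRingCat.of R))) :
    Y.left ⟶ Spec (CommRingCat.of (A ⊗[R] A)) :=
  pullback.lift (ptL c) (ptL d) ((ptL_w c).trans (ptL_w d).symm) ≫ (pullbackSpecIso R A A).hom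

theorem ptL_mul {Y : Over (Spec (CommRingCat.of R))}
    (c d : Y ⟶ (Spec (CommRingCat.of A)).asOver (Spec (CommRingCat.of R))) :
    ptL (c * d) = pairPt c d ≫
      Spec.map (CommRingCat.ofHom (Bialgebra.comulAlgHom R A).toRingHom) := by
  rw [pairPt, Category.assoc]
  rfl

theorem pb_pairPt_tmul {Y : Over (Spec (CommRingCat.of R))}
    (c d : Y ⟶ (Spec (CommRingCat.of A)).asOver (Spec (CommRingCat.of R))) (x y : A) :
    pb (pairPt c d) (x ⊗ₜ[R] y) = pb (ptL c) x * pb (ptL d) y := by
  have h1 : pairPt c d ≫ Spec.map (CommRingCat.ofHom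
      (Algebra.TensorProduct.includeLeftRingHom : A →+* A ⊗[R] A)) = ptL c := by
    rw [pairPt, Category.assoc, pullbackSpecIso_hom_fst, pullback.lift_fst]
  have h2 : pairPt c d ≫ Spec.map (CommRingCat.ofHom
      (RingHomClass.toRingHom (Algebra.TensorProduct.includeRight : A →ₐ[R] A ⊗[R] A))) = ptL d := by
    rw [pairPt, Category.assoc, pullbackSpecIso_hom_snd, pullback.lift_snd]
  have e : x ⊗ₜ[R] y = (Algebra.TensorProduct.includeLeftRingHom : A →+* A ⊗[R] A) x *
      (RingHomClass.toRingHom (Algebra.TensorProduct.includeRight : A →ₐ[R] A ⊗[R] A)) y := by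
    simp [Algebra.TensorProduct.tmul_mul_tmul]
  rw [e, map_mul, ← pb_comp_specMap, ← pb_comp_specMap, h1, h2]

theorem pb_ptL_mul {Y : Over (Spec (CommRingCat.of R))}
    (c d : Y ⟶ (Spec (CommRingCat.of A)).asOver (Spec (CommRingCat.of R))) (a : A) :
    pb (ptL (c * d)) a = pb (pairPt c d) (Coalgebra.comul (R := R) a) := by
  rw [ptL_mul, pb_comp_specMap]
  rfl

theorem ptL_one {Y : Over (Spec (CommRingCat.of R))} :
    ptL (1 : Y ⟶ (Spec (CommRingCat.of A)).asOver (Spec (CommRingCat.of R))) =
      Y.hom ≫ Spec.map (CommRingCat.ofHom (Bialgebra.counitAlgHom R A).toRingHom) := rfl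

theorem pb_ptL_one {Y : Over (Spec (CommRingCat.of R))} (a : A) :
    pb (ptL (1 : Y ⟶ (Spec (CommRingCat.of A)).asOver (Spec (CommRingCat.of R)))) a =
      pb Y.hom (Coalgebra.counit (R := R) a) := by
  rw [ptL_one, pb_comp_specMap]
  rfl

end AffinePoints

end Groth.Agent.H42
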