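import Mathlib

/-!
# Morphisms to an affine scheme that factor through a proper scheme are constant
(source integral, base field algebraically closed)
-/

set_option autoImplicit false
set_option linter.unusedSectionVars false
set_option linter.style.haveILetI false
universe u

open CategoryTheory AlgebraicGeometry Limits MonoidalCategory CartesianMonoidalCategory

namespace Groth.Agent.H42.QuotConst

/-- In a domain containing an algebraically closed field, integral elements are constants. -/
theorem mem_range_of_isIntegralElem {k D : Type*} [Field k] [IsAlgClosed k] [CommRing D]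
    [IsDomain D] (φ : k →+* D) (x : D) (hx : φ.IsIntegralElem x) : x ∈ Set.range φ := by
  letI := φ.toAlgebra
  have hint : IsIntegral k x := hx
  have hirr := minpoly.irreducible hint
  have hdeg := IsAlgClosed.degree_eq_one_of_irreducible k hirr
  exact minpoly.mem_range_of_degree_eq_one k x hdeg

/-- If `G` is integral over an algebraically closed field `k`, `Q` is universally closed over `k`
and `H` is affine, then every composite `G ⟶ Q ⟶ H` is constant. -/
theorem const_of_factor_proper (k : Type u) [Field k] [IsAlgClosed k]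
    (G Q H : Over (Spec (CommRingCat.of k))) [IsIntegral G.left] [UniversallyClosed Q.hom]
    [IsAffine H.left] (q : G ⟶ Q) (ψ : Q ⟶ H) (e : 𝟙_ (Over (Spec (CommRingCat.of k))) ⟶ G) :
    q ≫ ψ = toUnit G ≫ e ≫ q ≫ ψ := by
  apply Over.OverMorphism.ext
  apply ext_of_isAffine
  have he : e.left ≫ G.hom = 𝟙 _ := Over.w e
  have hq : q.left ≫ Q.hom = G.hom := Over.w q
  let F : CommRingCat.of k ⟶ Γ(Q.left, ⊤) := (Scheme.ΓSpecIso _).inv ≫ Q.hom.appTop
  have hF : F.hom.IsIntegral := by
    apply RingHom.isIntegral_respectsIso.2 (e := (Scheme.ΓSpecIso _).symm.commRingCatIsoToRingEquiv)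
    exact isIntegral_appTop_of_universallyClosed Q.hom
  let φG : CommRingCat.of k ⟶ Γ(G.left, ⊤) := (Scheme.ΓSpecIso _).inv ≫ G.hom.appTop
  have hφG : φG = F ≫ q.left.appTop := by
    change _ = ((Scheme.ΓSpecIso _).inv ≫ Q.hom.appTop) ≫ q.left.appTop
    rw [Category.assoc, ← Scheme.Hom.comp_appTop, hq]
  have hmain : ∀ b : Γ(Q.left, ⊤),
      G.hom.appTop.hom (e.left.appTop.hom (q.left.appTop.hom b)) = q.left.appTop.hom b := by
    intro b
    obtain ⟨p, hp, hpe⟩ := hF b
    have hx : φG.hom.IsIntegralElem (q.left.appTop.hom b) := by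
      refine ⟨p, hp, ?_⟩
      rw [hφG]
      change Polynomial.eval₂ (q.left.appTop.hom.comp F.hom) (q.left.appTop.hom b) p = 0
      rw [← Polynomial.hom_eval₂, hpe, map_zero]
    obtain ⟨c, hc⟩ := mem_range_of_isIntegralElem φG.hom _ hx
    rw [← hc]
    change G.hom.appTop.hom (e.left.appTop.hom (G.hom.appTop.hom ((Scheme.ΓSpecIso _).inv.hom c))) =
      G.hom.appTop.hom ((Scheme.ΓSpecIso _).inv.hom c)
    congr 1
    have h1 : G.hom.appTop ≫ e.left.appTop = 𝟙 _ := by
      rw [← Scheme.Hom.comp_appTop, he, Scheme.Hom.id_appTop]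
      rfl
    exact congrArg (fun m => m.hom ((Scheme.ΓSpecIso _).inv.hom c)) h1
  have hL : (toUnit G ≫ e ≫ q ≫ ψ).left = G.hom ≫ e.left ≫ q.left ≫ ψ.left := rfl
  rw [hL, Over.comp_left]
  simp only [Scheme.Hom.comp_appTop]
  ext a
  exact (hmain (ψ.left.appTop.hom a)).symm

end Groth.Agent.H42.QuotConst
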