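import Mathlib
import Groth.Prelude.Def_AlgGrp
import Groth.Agent.H42.AntiAffConnOver
import Groth.Agent.H42.QuotConst
import Groth.Agent.H90.GrpUnitSection

/-!
# Anti-affine (e.g. abelian) subgroups of connected algebraic groups over an algebraically closed
field are central; intersections of proper and affine closed subgroups are finite
-/

set_option autoImplicit false
set_option linter.unusedSectionVars false
set_option linter.style.haveILetI false
universe u

open CategoryTheory AlgebraicGeometry Limits MonoidalCategory CartesianMonoidalCategory MonObj GrpObj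

namespace Groth.Agent.H42.AbSub

/-- A proper integral scheme over an algebraically closed field has only constant global
functions. -/
theorem antiAffine_of_proper_integral (k : Type u) [Field k] [IsAlgClosed k]
    (X : Over (Spec (CommRingCat.of k))) [UniversallyClosed X.hom] [IsIntegral X.left] :
    Function.Bijective ((Scheme.ΓSpecIso (CommRingCat.of k)).inv ≫ X.hom.appTop).hom := by
  let F : CommRingCat.of k ⟶ Γ(X.left, ⊤) := (Scheme.ΓSpecIso _).inv ≫ X.hom.appTop
  have hF : F.hom.IsIntegral := by
    apply RingHom.isIntegral_respectsIso.2 (e := (Scheme.ΓSpecIso _).symm.commRingCatIsoToRingEquiv)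
    exact isIntegral_appTop_of_universallyClosed X.hom
  refine ⟨RingHom.injective F.hom, fun x => ?_⟩
  exact Groth.Agent.H42.QuotConst.mem_range_of_isIntegralElem F.hom x (hF x)

section Central

variable (k : Type u) [Field k] [IsAlgClosed k]
  (A G : Over (Spec (CommRingCat.of k))) [GrpObj A] [GrpObj G]

/-- An anti-affine group mapping homomorphically to a connected group of finite type over an
algebraically closed field has central image. -/
theorem central_of_antiAffine [QuasiCompact A.hom] [QuasiSeparated A.hom]
    (hA : Function.Bijective ((Scheme.ΓSpecIso (CommRingCat.of k)).inv ≫ A.hom.appTop).hom)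
    [LocallyOfFiniteType G.hom] [QuasiCompact G.hom] [ConnectedSpace ↥G.left]
    (j : A ⟶ G) [IsMonHom j] (T : Over (Spec (CommRingCat.of k))) (a : T ⟶ A) (g : T ⟶ G) :
    (a ≫ j) * g = g * (a ≫ j) := by
  haveI : DiscreteTopology ↥(Spec (CommRingCat.of k)) :=
    inferInstanceAs (DiscreteTopology (PrimeSpectrum k))
  haveI : IsSeparated G.hom := Groth.Agent.H90.isSeparated_of_discrete _ G
  set c : A ⊗ G ⟶ G := (fst A G ≫ j) * snd A G * (fst A G ≫ j)⁻¹ * (snd A G)⁻¹ with hc
  have hf : (A ◁ η[G]) ≫ c = toUnit _ ≫ η[G] := by
    rw [hc]
    simp only [MonObj.comp_mul, GrpObj.comp_inv, whiskerLeft_fst_assoc, whiskerLeft_snd]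
    rw [toUnit_unique (snd A (𝟙_ (Over (Spec (CommRingCat.of k))))) (toUnit _), ← Hom.one_def]
    group
  have key := Groth.Agent.H42.AntiAff.rigidity_over_connected k A G G hA η[A] η[G] η[G] c hf
  have h1 : lift (toUnit G ≫ η[A]) (𝟙 G) ≫ c = 1 := by
    rw [hc]
    simp only [MonObj.comp_mul, GrpObj.comp_inv, lift_fst_assoc, lift_snd, Category.assoc,
      IsMonHom.one_hom]
    rw [← Hom.one_def]
    group
  rw [h1, MonObj.comp_one] at key
  have h2 := congrArg (fun m => lift a g ≫ m) key
  simp only [hc, MonObj.comp_mul, GrpObj.comp_inv, lift_fst_assoc, lift_snd, MonObj.comp_one] at h2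
  have h3 : (a ≫ j) * g * (a ≫ j)⁻¹ = g := mul_inv_eq_one.mp h2
  exact mul_inv_eq_iff_eq_mul.mp h3

end Central

section Finite

variable {k : Type u} [Field k]

/-- The intersection of a proper closed subscheme and an affine closed subscheme is finite. -/
theorem isFinite_of_isPullback {A N G K : Over (Spec (CommRingCat.of k))} (j : A ⟶ G) (i : N ⟶ G)
    (a : K ⟶ A) (n : K ⟶ N) (sq : IsPullback a n j i)
    [IsClosedImmersion j.left] [IsClosedImmersion i.left] [IsProper A.hom] [IsAffine N.left] :
    IsFinite K.hom := by
  have sq' := sq.map (Over.forget (Spec (CommRingCat.of k)))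
  simp only [Over.forget_obj, Over.forget_map] at sq'
  haveI ha : IsClosedImmersion a.left :=
    MorphismProperty.of_isPullback (P := @IsClosedImmersion) sq'.flip inferInstance
  haveI hn : IsClosedImmersion n.left :=
    MorphismProperty.of_isPullback (P := @IsClosedImmersion) sq' inferInstance
  haveI : IsAffine K.left := isAffine_of_isAffineHom n.left
  haveI : IsAffineHom K.hom := isAffineHom_of_isAffine K.hom
  haveI : IsProper K.hom := by
    rw [← Over.w a]
    infer_instance
  exact IsFinite.iff_isProper_and_isAffineHom.mpr ⟨inferInstance, inferInstance⟩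

end Finite

end Groth.Agent.H42.AbSub
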