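import Mathlib
import Groth.Agent.H42.AntiAffRigid2
import Groth.Agent.H42.AntiAffConst

/-!
# Anti-affine rigidity with affine target, and a criterion for anti-affineness
-/

set_option autoImplicit false
set_option linter.unusedSectionVars false
set_option linter.style.haveILetI false
universe u

open CategoryTheory AlgebraicGeometry Limits MonoidalCategory CartesianMonoidalCategory

namespace Groth.Agent.H42.AntiAff

/-- If the canonical map `X ⟶ Spec Γ(X)` is constant (factors through a rational point), then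
`O(X) = k`. -/
theorem bijective_of_toSpecΓ_const {k : Type u} [Field k] {X : Scheme.{u}}
    (p : X ⟶ Spec (CommRingCat.of k)) (x₀ : Spec (CommRingCat.of k) ⟶ X) (hx₀ : x₀ ≫ p = 𝟙 _)
    (h : (p ≫ x₀) ≫ X.toSpecΓ = X.toSpecΓ) :
    Function.Bijective ((Scheme.ΓSpecIso (CommRingCat.of k)).inv ≫ p.appTop).hom := by
  have h1 : X.toSpecΓ.appTop ≫ x₀.appTop ≫ p.appTop = X.toSpecΓ.appTop := by
    have := congrArg Scheme.Hom.appTop h
    rw [Scheme.Hom.comp_appTop, Scheme.Hom.comp_appTop] at this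
    exact this
  have hiso : IsIso X.toSpecΓ.appTop := by
    rw [Scheme.toSpecΓ_appTop]
    infer_instance
  have h2 : x₀.appTop ≫ p.appTop = 𝟙 _ := by
    rwa [← cancel_epi X.toSpecΓ.appTop, Category.comp_id]
  have h3 : p.appTop ≫ x₀.appTop = 𝟙 _ := by
    rw [← Scheme.Hom.comp_appTop, hx₀, Scheme.Hom.id_appTop]
  haveI : IsIso p.appTop := ⟨⟨x₀.appTop, h3, h2⟩⟩
  exact ConcreteCategory.bijective_of_isIso ((Scheme.ΓSpecIso _).inv ≫ p.appTop)

section

variable (k : Type u) [Field k]

/-- `Spec Γ(X)` as a `k`-scheme. -/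
noncomputable def specΓOver (X : Over (Spec (CommRingCat.of k))) : Over (Spec (CommRingCat.of k)) :=
  Over.mk (Spec.map X.hom.appTop ≫ (Spec (CommRingCat.of k)).isoSpec.inv)

instance (X : Over (Spec (CommRingCat.of k))) : IsAffine (specΓOver k X).left :=
  inferInstanceAs (IsAffine (Spec Γ(X.left, ⊤)))

/-- The canonical morphism `X ⟶ Spec Γ(X)` over `k`. -/
noncomputable def toSpecΓOver (X : Over (Spec (CommRingCat.of k))) : X ⟶ specΓOver k X :=
  Over.homMk X.left.toSpecΓ (by
    change X.left.toSpecΓ ≫ Spec.map X.hom.appTop ≫ (Spec (CommRingCat.of k)).isoSpec.inv = X.hom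
    rw [← Scheme.toSpecΓ_naturality_assoc, Scheme.toSpecΓ_isoSpec_inv, Category.comp_id])

@[simp]
theorem toSpecΓOver_left (X : Over (Spec (CommRingCat.of k))) :
    (toSpecΓOver k X).left = X.left.toSpecΓ := rfl

/-- Criterion for anti-affineness in `Over (Spec k)`. -/
theorem bijective_of_toSpecΓOver_const (X : Over (Spec (CommRingCat.of k)))
    (x₀ : 𝟙_ (Over (Spec (CommRingCat.of k))) ⟶ X)
    (h : toSpecΓOver k X = toUnit X ≫ x₀ ≫ toSpecΓOver k X) :
    Function.Bijective ((Scheme.ΓSpecIso (CommRingCat.of k)).inv ≫ X.hom.appTop).hom := by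
  refine bijective_of_toSpecΓ_const X.hom x₀.left (Over.w x₀) ?_
  have := congrArg (fun m => m.left) h
  simp only [toSpecΓOver_left, Over.comp_left] at this
  rw [Category.assoc]
  exact this.symm

/-- **Anti-affine rigidity with affine target**: no connectedness needed. -/
theorem rigidity_over_affine
    (X Y Z : Over (Spec (CommRingCat.of k))) [QuasiCompact X.hom] [QuasiSeparated X.hom]
    (hX : Function.Bijective ((Scheme.ΓSpecIso (CommRingCat.of k)).inv ≫ X.hom.appTop).hom)
    [IsLocallyNoetherian Y.left] [IsAffine Z.left]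
    (x₀ : 𝟙_ (Over (Spec (CommRingCat.of k))) ⟶ X) (f : X ⊗ Y ⟶ Z) :
    f = snd X Y ≫ lift (toUnit Y ≫ x₀) (𝟙 Y) ≫ f := by
  haveI : IsIso ((Scheme.ΓSpecIso (CommRingCat.of k)).inv ≫ X.hom.appTop) :=
    (ConcreteCategory.isIso_iff_bijective _).mpr hX
  have hp : IsIso X.hom.appTop :=
    IsIso.of_isIso_comp_left (Scheme.ΓSpecIso (CommRingCat.of k)).inv X.hom.appTop
  have hx₀ : x₀.left ≫ X.hom = 𝟙 _ := Over.w x₀
  have hf' : f.left ≫ Z.hom = pullback.fst X.hom Y.hom ≫ X.hom := Over.w f
  haveI : IsSeparated Z.hom := by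
    haveI : IsAffineHom Z.hom := isAffineHom_of_isAffine Z.hom
    infer_instance
  have key := rigid_pointwise X.hom Y.hom hx₀ hp f.left Z.hom hf'
    (fun y => ⟨⊤, isAffineOpen_top Z.left, fun z _ => trivial⟩)
  apply Over.OverMorphism.ext
  rw [key, constPart, Over.comp_left, Over.comp_left]
  congr 1

end

end Groth.Agent.H42.AntiAff
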