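import Mathlib
import Groth.Prelude.Def_AlgGrp
import Groth.Agent.H42.AntiAffConnOver
import Groth.Agent.H42.AbSubgroup
import Groth.Agent.H53.ReducedSm
import Groth.Agent.S0348
import Groth.Agent.S14578

/-!
# Morphisms `A ⊗ S ⟶ B` from an anti-affine group: translation times homomorphism
-/

set_option autoImplicit false
set_option linter.style.haveILetI false
set_option linter.unusedSectionVars false
universe u

open CategoryTheory MonoidalCategory CartesianMonoidalCategory MonObj GrpObj AlgebraicGeometry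
open CategoryTheory.Limits AlgGrp

namespace Groth.Agent.H42.AutAbSch

variable (k : Type u) [Field k] [IsAlgClosed k]

/-- An abelian variety is integral. -/
theorem isIntegral_of_abelian (A : Over (Spec (CommRingCat.of k))) [GrpObj A]
    [LocallyOfFiniteType A.hom] [QuasiCompact A.hom] [Smooth A.hom] [ConnectedSpace ↥A.left] :
    IsIntegral A.left := by
  haveI : IsReduced A.left := Groth.Agent.H53.isReduced_of_smooth_scheme A.hom
  haveI : IrreducibleSpace A.left := Groth.Agent.S0348.result k A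
  exact isIntegral_of_irreducibleSpace_of_isReduced A.left

/-- A morphism `φ : A ⊗ S ⟶ B` from (anti-affine group) × (connected finite type scheme) to a
separated group: `φ(a, s) = g(s) · h(a)` with `h(e) = e`. -/
theorem decompose (A S B : Over (Spec (CommRingCat.of k))) [GrpObj A] [GrpObj B]
    [QuasiCompact A.hom] [QuasiSeparated A.hom]
    (hA : Function.Bijective ((Scheme.ΓSpecIso (CommRingCat.of k)).inv ≫ A.hom.appTop).hom)
    [LocallyOfFiniteType S.hom] [QuasiCompact S.hom] [ConnectedSpace ↥S.left] [IsSeparated B.hom]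
    (s₀ : 𝟙_ (Over (Spec (CommRingCat.of k))) ⟶ S) (φ : A ⊗ S ⟶ B) :
    ∃ (g : S ⟶ B) (h : A ⟶ B), η[A] ≫ h = η[B] ∧ φ = (snd A S ≫ g) * (fst A S ≫ h) := by
  have hone : ∀ (X : Over (Spec (CommRingCat.of k))), (toUnit X ≫ η[B] : X ⟶ B) = 1 := by
    intro X
    rw [MonObj.one_eq_one, MonObj.comp_one]
  set g : S ⟶ B := lift (toUnit S ≫ η[A]) (𝟙 S) ≫ φ with hg
  set ψ : A ⊗ S ⟶ B := (snd A S ≫ g)⁻¹ * φ with hψ
  set h : A ⟶ B := lift (𝟙 A) (toUnit A ≫ s₀) ≫ ψ with hh
  set χ : A ⊗ S ⟶ B := ψ * (fst A S ≫ h)⁻¹ with hχ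
  -- ψ(e, s) = e
  have hψe : lift (toUnit S ≫ η[A]) (𝟙 S) ≫ ψ = 1 := by
    rw [hψ, MonObj.comp_mul, GrpObj.comp_inv, lift_snd_assoc, Category.id_comp, ← hg,
      inv_mul_cancel]
  -- h(e) = e
  have hhe : η[A] ≫ h = η[B] := by
    have e1 : η[A] ≫ lift (𝟙 A) (toUnit A ≫ s₀) = s₀ ≫ lift (toUnit S ≫ η[A]) (𝟙 S) := by
      apply CartesianMonoidalCategory.hom_ext
      · simp only [Category.assoc, lift_fst, Category.comp_id]
        rw [← Category.assoc, toUnit_unique (s₀ ≫ toUnit S) (𝟙 _), Category.id_comp]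
      · simp only [Category.assoc, lift_snd, Category.comp_id]
        rw [← Category.assoc, toUnit_unique (η[A] ≫ toUnit A) (𝟙 _), Category.id_comp]
    rw [hh, ← Category.assoc, e1, Category.assoc, hψe, MonObj.comp_one, MonObj.one_eq_one]
  have hχ0 : (A ◁ s₀) ≫ χ = toUnit _ ≫ η[B] := by
    have e1 : (A ◁ s₀) ≫ fst A S ≫ lift (𝟙 A) (toUnit A ≫ s₀) = A ◁ s₀ := by
      apply CartesianMonoidalCategory.hom_ext
      · simp
      · simp only [Category.assoc, lift_snd, whiskerLeft_snd]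
        rw [← Category.assoc, ← Category.assoc,
          toUnit_unique (((A ◁ s₀) ≫ fst A S) ≫ toUnit A) (snd A (𝟙_ _))]
    have e2 : (A ◁ s₀) ≫ fst A S ≫ h = (A ◁ s₀) ≫ ψ := by
      rw [hh]
      exact ((Category.assoc _ _ _).symm.trans (Category.assoc _ _ _).symm).trans
        (congrArg (· ≫ ψ) ((Category.assoc _ _ _).trans e1))
    rw [hχ, MonObj.comp_mul, GrpObj.comp_inv, e2, mul_inv_cancel, hone]
  have key := Groth.Agent.H42.AntiAff.rigidity_over_connected k A S B hA η[A] s₀ η[B] χ hχ0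
  have hσ : lift (toUnit S ≫ η[A]) (𝟙 S) ≫ χ = 1 := by
    rw [hχ, MonObj.comp_mul, GrpObj.comp_inv, hψe, lift_fst_assoc, Category.assoc, hhe, hone,
      inv_one, _root_.mul_one]
  have hχ1 : χ = 1 := by rw [key, hσ, MonObj.comp_one]
  refine ⟨g, h, hhe, ?_⟩
  have h1 : ψ = fst A S ≫ h := by
    rw [hχ] at hχ1
    exact mul_inv_eq_one.mp hχ1
  rw [← h1, hψ, mul_inv_cancel_left]

section Cat
variable {C : Type*} [Category C] [CartesianMonoidalCategory C] {A S : C} [GrpObj A]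

theorem toUnit_eta (X : C) : (toUnit X ≫ η[A] : X ⟶ A) = 1 := by
  rw [MonObj.one_eq_one, MonObj.comp_one]

/-- If `f ≫ f' = 𝟙` with both of the form "translation times homomorphism", the homomorphism
parts compose to the identity. -/
theorem comp_eq_id (f f' : A ⊗ S ⟶ A ⊗ S) (hf : f ≫ snd A S = snd A S) (hff' : f ≫ f' = 𝟙 _)
    (g g' : S ⟶ A) (h h' : A ⟶ A) [IsMonHom h'] (hη : η[A] ≫ h = η[A])
    (hφ : f ≫ fst A S = (snd A S ≫ g) * (fst A S ≫ h))
    (hφ' : f' ≫ fst A S = (snd A S ≫ g') * (fst A S ≫ h'))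
    (s₀ : 𝟙_ C ⟶ S) : h ≫ h' = 𝟙 A := by
  have E1 : fst A S = (snd A S ≫ g') * ((snd A S ≫ g ≫ h') * (fst A S ≫ h ≫ h')) := by
    have h1 : (f ≫ f') ≫ fst A S = fst A S := by rw [hff', Category.id_comp]
    rw [Category.assoc, hφ', MonObj.comp_mul, ← Category.assoc f, hf, ← Category.assoc f, hφ,
      MonObj.mul_comp] at h1
    simp only [Category.assoc] at h1
    exact h1.symm
  have E2 := congrArg (fun m => lift (𝟙 A) (toUnit A ≫ s₀) ≫ m) E1
  simp only [MonObj.comp_mul, lift_fst, lift_snd_assoc, lift_fst_assoc, Category.id_comp,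
    Category.assoc] at E2
  have E3 := congrArg (fun m => η[A] ≫ m) E2
  simp only [MonObj.comp_mul, Category.comp_id] at E3
  rw [← Category.assoc η[A] h, hη, IsMonHom.one_hom (f := h'), ← Category.assoc η[A] (toUnit A),
    ← Category.assoc η[A] (toUnit A), toUnit_unique (η[A] ≫ toUnit A) (𝟙 _), Category.id_comp,
    Category.id_comp] at E3
  -- E3 : η = s₀ ≫ g' * (s₀ ≫ g ≫ h' * η)
  have hc : (s₀ ≫ g') * (s₀ ≫ g ≫ h') = 1 := by
    rw [MonObj.one_eq_one] at E3
    rw [_root_.mul_one] at E3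
    exact E3.symm
  have hc' : (toUnit A ≫ s₀ ≫ g') * (toUnit A ≫ s₀ ≫ g ≫ h') = 1 := by
    rw [← MonObj.comp_mul, hc, MonObj.comp_one]
  rw [← _root_.mul_assoc, hc', _root_.one_mul] at E2
  exact E2.symm

end Cat


/-- S11404 -/
theorem main (A S : Over (Spec (CommRingCat.of k))) [GrpObj A] [IsProper A.hom] [Smooth A.hom]
    [ConnectedSpace ↥A.left]
    [LocallyOfFiniteType S.hom] [QuasiCompact S.hom] [ConnectedSpace ↥S.left]
    (f : A ⊗ S ≅ A ⊗ S) (hf : f.hom ≫ snd A S = snd A S) :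
    ∃ (g : S ⟶ A) (h : A ⟶ A), IsMonHom h ∧ IsIso h ∧
      f.hom ≫ fst A S = (snd A S ≫ g) * (fst A S ≫ h) ∧
      ∀ (g' : S ⟶ A) (h' : A ⟶ A), IsMonHom h' →
        f.hom ≫ fst A S = (snd A S ≫ g') * (fst A S ≫ h') → g' = g ∧ h' = h := by
  haveI : IsIntegral A.left := isIntegral_of_abelian k A
  have hA := Groth.Agent.H42.AbSub.antiAffine_of_proper_integral k A
  obtain ⟨s₀⟩ := Groth.Agent.H42.AntiAff.exists_rational_point k S
  obtain ⟨g, h, hhe, hφ⟩ := decompose k A S A hA s₀ (f.hom ≫ fst A S)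
  obtain ⟨g', h', hhe', hφ'⟩ := decompose k A S A hA s₀ (f.inv ≫ fst A S)
  have hfinv : f.inv ≫ snd A S = snd A S := by
    calc f.inv ≫ snd A S = f.inv ≫ f.hom ≫ snd A S := by rw [hf]
      _ = snd A S := by rw [Iso.inv_hom_id_assoc]
  haveI hmon : IsMonHom h := Groth.Agent.S14578.result k A A hA h hhe
  haveI hmon' : IsMonHom h' := Groth.Agent.S14578.result k A A hA h' hhe'
  have h1 : h ≫ h' = 𝟙 A :=
    comp_eq_id f.hom f.inv hf f.hom_inv_id g g' h h' hhe hφ hφ' s₀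
  have h2 : h' ≫ h = 𝟙 A :=
    comp_eq_id f.inv f.hom hfinv f.inv_hom_id g' g h' h hhe' hφ' hφ s₀
  refine ⟨g, h, hmon, ⟨h', h1, h2⟩, hφ, ?_⟩
  intro g₂ h₂ hmon₂ hφ₂
  have e := hφ.symm.trans hφ₂
  have hg : g₂ = g := by
    have e1 := congrArg (fun m => lift (toUnit S ≫ η[A]) (𝟙 S) ≫ m) e
    simp only [MonObj.comp_mul, lift_snd_assoc, lift_fst_assoc, Category.id_comp,
      Category.assoc] at e1
    rw [hhe, IsMonHom.one_hom (f := h₂), toUnit_eta, _root_.mul_one, _root_.mul_one] at e1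
    exact e1.symm
  refine ⟨hg, ?_⟩
  rw [hg] at e
  have e2 := mul_left_cancel e
  have e3 := congrArg (fun m => lift (𝟙 A) (toUnit A ≫ s₀) ≫ m) e2
  simp only [lift_fst_assoc, Category.id_comp] at e3
  exact e3.symm

end Groth.Agent.H42.AutAbSch
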