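import Groth.Agent.H42.AutAbSch
import Groth.Agent.H90.GrpUnitSection

/-!
# Morphisms from (anti-affine group) × (connected base) to a group: uniqueness and S11421
-/

set_option autoImplicit false
set_option linter.style.haveILetI false
set_option linter.unusedSectionVars false
universe u

open CategoryTheory MonoidalCategory CartesianMonoidalCategory MonObj GrpObj AlgebraicGeometry
open CategoryTheory.Limits AlgGrp

namespace Groth.Agent.H42.AutAbSch

section Cat
variable {C : Type*} [Category C] [CartesianMonoidalCategory C] {A S B : C} [GrpObj A] [GrpObj B]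

theorem toUnit_eta' (X : C) : (toUnit X ≫ η[B] : X ⟶ B) = 1 := by
  rw [MonObj.one_eq_one, MonObj.comp_one]

/-- Uniqueness of the decomposition "translation times unit-preserving map". -/
theorem unique_decomp (s₀ : 𝟙_ C ⟶ S) (g g₂ : S ⟶ B) (h h₂ : A ⟶ B)
    (hη : η[A] ≫ h = η[B]) (hη₂ : η[A] ≫ h₂ = η[B])
    (e : (snd A S ≫ g) * (fst A S ≫ h) = (snd A S ≫ g₂) * (fst A S ≫ h₂)) :
    g₂ = g ∧ h₂ = h := by
  have hg : g₂ = g := by
    have e1 := congrArg (fun m => lift (toUnit S ≫ η[A]) (𝟙 S) ≫ m) e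
    simp only [MonObj.comp_mul, lift_snd_assoc, lift_fst_assoc, Category.id_comp,
      Category.assoc] at e1
    rw [hη, hη₂, toUnit_eta', _root_.mul_one, _root_.mul_one] at e1
    exact e1.symm
  refine ⟨hg, ?_⟩
  rw [hg] at e
  have e2 := mul_left_cancel e
  have e3 := congrArg (fun m => lift (𝟙 A) (toUnit A ≫ s₀) ≫ m) e2
  simp only [lift_fst_assoc, Category.id_comp] at e3
  exact e3.symm

end Cat

variable (k : Type u) [Field k] [IsAlgClosed k]

/-- S11421 -/
theorem main2 (G H S : Over (Spec (CommRingCat.of k))) [GrpObj G] [Smooth G.hom] [QuasiCompact G.hom]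
    (hG : Function.Bijective ((Scheme.ΓSpecIso (CommRingCat.of k)).inv ≫ G.hom.appTop).hom)
    [GrpObj H] [Smooth H.hom] [QuasiCompact H.hom] [ConnectedSpace ↥H.left]
    [LocallyOfFiniteType S.hom] [QuasiCompact S.hom] [ConnectedSpace ↥S.left]
    (f : G ⊗ S ⟶ H) :
    ∃ (φ : S ⟶ H) (ψ : G ⟶ H), IsMonHom ψ ∧ f = (snd G S ≫ φ) * (fst G S ≫ ψ) ∧
      ∀ (φ' : S ⟶ H) (ψ' : G ⟶ H), IsMonHom ψ' → f = (snd G S ≫ φ') * (fst G S ≫ ψ') →
        φ' = φ ∧ ψ' = ψ := by
  haveI : DiscreteTopology ↥(Spec (CommRingCat.of k)) :=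
    inferInstanceAs (DiscreteTopology (PrimeSpectrum k))
  haveI : IsSeparated H.hom := Groth.Agent.H90.isSeparated_of_discrete _ H
  haveI : IsSeparated G.hom := Groth.Agent.H90.isSeparated_of_discrete _ G
  obtain ⟨s₀⟩ := Groth.Agent.H42.AntiAff.exists_rational_point k S
  obtain ⟨φ, ψ, hη, hf⟩ := decompose k G S H hG s₀ f
  haveI hmon : IsMonHom ψ := Groth.Agent.S14578.result k G H hG ψ hη
  refine ⟨φ, ψ, hmon, hf, ?_⟩
  intro φ' ψ' hmon' hf'
  exact unique_decomp s₀ φ φ' ψ ψ' hη (IsMonHom.one_hom (f := ψ')) (hf.symm.trans hf')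

end Groth.Agent.H42.AutAbSch
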