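import Groth.Agent.H42.TanAddRing

set_option autoImplicit false
universe u
open CategoryTheory AlgebraicGeometry Limits MonObj
open LieS

namespace Groth.Agent.H42

/-- A ring endomorphism which moves every element by a nilpotent acts trivially on the prime
spectrum. -/
theorem comap_eq_self_of_nilpotent {R : Type u} [CommRing R] (φ : R →+* R)
    (hφ : ∀ z, IsNilpotent (z - φ z)) (y : PrimeSpectrum R) : PrimeSpectrum.comap φ y = y := by
  apply PrimeSpectrum.ext
  ext z
  have := y.isPrime
  obtain ⟨n, hn⟩ := hφ z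
  have hnil : z - φ z ∈ y.asIdeal :=
    Ideal.IsPrime.mem_of_pow_mem inferInstance n (by rw [hn]; exact y.asIdeal.zero_mem)
  change φ z ∈ y.asIdeal ↔ z ∈ y.asIdeal
  constructor
  · intro h
    have := y.asIdeal.add_mem hnil h
    simpa using this
  · intro h
    have := y.asIdeal.sub_mem h hnil
    simpa using this

variable (B : Type u) [CommRing B]

theorem surj_comap_ret1 : Function.Surjective (PrimeSpectrum.comap (ret1 B)) := by
  intro y
  refine ⟨PrimeSpectrum.comap (inc1 B) y, ?_⟩
  rw [← PrimeSpectrum.comap_comp_apply]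
  apply comap_eq_self_of_nilpotent
  intro z
  refine ⟨2, ?_⟩
  rw [pow_two]
  ext <;> simp [ret1, inc1, e1, TrivSqZeroExt.algebraMap_eq_inl']

/-- Morphisms out of `Spec B[ε₁,ε₂]/(ε₁,ε₂)²` are determined by their restrictions to the two
coordinate axes. -/
theorem eq_of_ret_comp_eq {Z : Scheme.{u}} {a b : Spec (CommRingCat.of (T2 B)) ⟶ Z}
    (h1 : Spec.map (CommRingCat.ofHom (ret1 B)) ≫ a = Spec.map (CommRingCat.ofHom (ret1 B)) ≫ b)
    (h2 : Spec.map (CommRingCat.ofHom (ret2 B)) ≫ a = Spec.map (CommRingCat.ofHom (ret2 B)) ≫ b) :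
    a = b := by
  have hfst : (RingHom.fst (DualNumber B) (DualNumber B)).comp (retP B) = ret1 B := rfl
  have hsnd : (RingHom.snd (DualNumber B) (DualNumber B)).comp (retP B) = ret2 B := rfl
  refine eq_of_specMap_comp_eq (CommRingCat.ofHom (retP B)) (retP_injective B) ?_ ?_
  · -- surjectivity
    have hs : Function.Surjective (Spec.map (CommRingCat.ofHom (ret1 B))).base :=
      surj_comap_ret1 B
    rw [← hfst, CommRingCat.ofHom_comp, Spec.map_comp] at hs
    exact Function.Surjective.of_comp hs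
  · rw [← cancel_epi (coprodSpec (DualNumber B) (DualNumber B))]
    apply coprod.hom_ext
    · rw [coprodSpec_inl_assoc, coprodSpec_inl_assoc, ← Spec.map_comp_assoc, ← Spec.map_comp_assoc,
        ← CommRingCat.ofHom_comp, hfst]
      exact h1
    · rw [coprodSpec_inr_assoc, coprodSpec_inr_assoc, ← Spec.map_comp_assoc, ← Spec.map_comp_assoc,
        ← CommRingCat.ofHom_comp, hsnd]
      exact h2

noncomputable section

section Scheme

variable {S : Scheme.{u}} (B : Type u) [CommRing B] (f : Spec (CommRingCat.of B) ⟶ S)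

/-- `Spec B[ε₁,ε₂]/(ε₁,ε₂)²` over `S`. -/
def tpt : Over S := Over.mk (Spec.map (CommRingCat.ofHom (algebraMap B (T2 B))) ≫ f)

variable {B}

/-- Morphisms `Spec B[ε₁,ε₂] ⟶ Spec B[ε]` over `S` from `B`-linear ring maps. -/
def toDpt (φ : DualNumber B →+* T2 B)
    (hφ : φ.comp (algebraMap B (DualNumber B)) = algebraMap B (T2 B)) : tpt B f ⟶ dpt B f :=
  Over.homMk (Spec.map (CommRingCat.ofHom φ)) (by
    change Spec.map _ ≫ Spec.map _ ≫ f = Spec.map _ ≫ f
    rw [← Category.assoc, specMap_comp, hφ])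

/-- Morphisms `Spec B[ε] ⟶ Spec B[ε₁,ε₂]` over `S` from `B`-linear ring maps. -/
def ofDpt (ψ : T2 B →+* DualNumber B)
    (hψ : ψ.comp (algebraMap B (T2 B)) = algebraMap B (DualNumber B)) : dpt B f ⟶ tpt B f :=
  Over.homMk (Spec.map (CommRingCat.ofHom ψ)) (by
    change Spec.map _ ≫ Spec.map _ ≫ f = Spec.map _ ≫ f
    rw [← Category.assoc, specMap_comp, hψ])

/-- Endomorphisms of `Spec B[ε]` over `S` from `B`-linear ring maps. -/
def endDpt (θ : DualNumber B →+* DualNumber B)
    (hθ : θ.comp (algebraMap B (DualNumber B)) = algebraMap B (DualNumber B)) : dpt B f ⟶ dpt B f :=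
  Over.homMk (Spec.map (CommRingCat.ofHom θ)) (by
    change Spec.map _ ≫ Spec.map _ ≫ f = Spec.map _ ≫ f
    rw [← Category.assoc, specMap_comp, hθ])

theorem ofDpt_toDpt (ψ : T2 B →+* DualNumber B)
    (hψ : ψ.comp (algebraMap B (T2 B)) = algebraMap B (DualNumber B))
    (φ : DualNumber B →+* T2 B)
    (hφ : φ.comp (algebraMap B (DualNumber B)) = algebraMap B (T2 B))
    (θ : DualNumber B →+* DualNumber B) (hθ : ψ.comp φ = θ) :
    ofDpt f ψ hψ ≫ toDpt f φ hφ =
      endDpt f θ (by rw [← hθ, RingHom.comp_assoc, hφ, hψ]) := by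
  subst hθ
  ext
  change Spec.map _ ≫ Spec.map _ = Spec.map _
  rw [specMap_comp]

theorem endDpt_id : endDpt f (RingHom.id _) (RingHom.id_comp _) = 𝟙 _ := by
  ext
  change Spec.map _ = 𝟙 _
  rw [CommRingCat.ofHom_id]; erw [Spec.map_id]

theorem endDpt_scale (b : B) : endDpt f (scaleHom b) (scaleHom_comp_algebraMap b) = scale B f b :=
  rfl

theorem endDpt_collapse :
    endDpt f (collapse B) (by
      rw [collapse, RingHom.comp_assoc, fstHom_comp_algebraMap, RingHom.comp_id]) =
      proj B f ≫ zeroSec B f := by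
  ext
  change Spec.map _ = Spec.map _ ≫ Spec.map _
  rw [specMap_comp]
  rfl

theorem endDpt_congr (θ θ' : DualNumber B →+* DualNumber B) (h : θ = θ')
    (hθ : θ.comp (algebraMap B (DualNumber B)) = algebraMap B (DualNumber B)) :
    endDpt f θ hθ = endDpt f θ' (h ▸ hθ) := by
  subst h; rfl

end Scheme

section AddRule

variable {S : Scheme.{u}} (X : Over S) [MonObj X] {B : Type u} [CommRing B]
  (f : Spec (CommRingCat.of B) ⟶ S)

theorem collapse_comp (w : dpt B f ⟶ X) (hw : zeroSec B f ≫ w = 1) :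
    endDpt f (collapse B) (by
      rw [collapse, RingHom.comp_assoc, fstHom_comp_algebraMap, RingHom.comp_id]) ≫ w = 1 := by
  rw [endDpt_collapse, Category.assoc, hw, comp_one]

/-- Additivity of the rescaling action on points restricting to the unit section. -/
theorem scale_add_comp (w : dpt B f ⟶ X) (hw : zeroSec B f ≫ w = 1) (a b : B) :
    scale B f (a + b) ≫ w = (scale B f a ≫ w) * (scale B f b ≫ w) := by
  set P : tpt B f ⟶ X :=
    (toDpt f (inc1 B) (inc1_comp_algebraMap B) ≫ w) * (toDpt f (inc2 B) (inc2_comp_algebraMap B) ≫ w)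
    with hP
  set Q : tpt B f ⟶ X := toDpt f (incS B) (incS_comp_algebraMap B) ≫ w with hQ
  have hPQ : P = Q := by
    apply Over.OverMorphism.ext
    apply eq_of_ret_comp_eq B
    · have h : ofDpt f (ret1 B) (ret1_comp_algebraMap B) ≫ P =
          ofDpt f (ret1 B) (ret1_comp_algebraMap B) ≫ Q := by
        rw [hP, hQ, comp_mul, ← Category.assoc, ← Category.assoc, ← Category.assoc,
          ofDpt_toDpt f _ _ _ _ _ (ret1_comp_inc1 B), ofDpt_toDpt f _ _ _ _ _ (ret1_comp_inc2 B),
          ofDpt_toDpt f _ _ _ _ _ (ret1_comp_incS B), collapse_comp X f w hw, _root_.mul_one]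
      exact congrArg (fun m => m.left) h
    · have h : ofDpt f (ret2 B) (ret2_comp_algebraMap B) ≫ P =
          ofDpt f (ret2 B) (ret2_comp_algebraMap B) ≫ Q := by
        rw [hP, hQ, comp_mul, ← Category.assoc, ← Category.assoc, ← Category.assoc,
          ofDpt_toDpt f _ _ _ _ _ (ret2_comp_inc1 B), ofDpt_toDpt f _ _ _ _ _ (ret2_comp_inc2 B),
          ofDpt_toDpt f _ _ _ _ _ (ret2_comp_incS B), collapse_comp X f w hw, _root_.one_mul]
      exact congrArg (fun m => m.left) h
  have h := congrArg (fun m => ofDpt f (tau a b) (tau_comp_algebraMap a b) ≫ m) hPQ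
  simp only [hP, hQ] at h
  rw [comp_mul, ← Category.assoc, ← Category.assoc, ← Category.assoc,
    ofDpt_toDpt f _ _ _ _ _ (tau_comp_inc1 a b), ofDpt_toDpt f _ _ _ _ _ (tau_comp_inc2 a b),
    ofDpt_toDpt f _ _ _ _ _ (tau_comp_incS a b), endDpt_scale, endDpt_scale, endDpt_scale] at h
  exact h.symm

theorem scale_zero_comp (w : dpt B f ⟶ X) (hw : zeroSec B f ≫ w = 1) :
    scale B f 0 ≫ w = 1 := by
  rw [← endDpt_scale, endDpt_congr f _ _ (scaleHom_zero B)]
  exact collapse_comp X f w hw

theorem scale_one : scale B f 1 = 𝟙 _ := by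
  rw [← endDpt_scale, endDpt_congr f _ _ (scaleHom_one B)]
  exact endDpt_id f

end AddRule

end

end Groth.Agent.H42
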