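import Groth.Agent.H42.CartierAlg
import Groth.Agent.H42.TanAdd
import Groth.Prelude.Def_LieS
import Mathlib

set_option autoImplicit false
set_option linter.style.haveILetI false
set_option linter.unusedSectionVars false
universe u
open CategoryTheory MonoidalCategory CartesianMonoidalCategory MonObj GrpObj AlgebraicGeometry
open LieS

namespace Groth.Agent.H42.Cartier

section Rings

variable {A B C : Type u} [CommRing A] [CommRing B] [CommRing C]

theorem bcHom_comp (g : B →+* C) (h : A →+* B) : (bcHom g).comp (bcHom h) = bcHom (g.comp h) := by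
  refine RingHom.ext fun z => ?_
  apply TrivSqZeroExt.ext <;> simp [bcHom, TrivSqZeroExt.algebraMap_eq_inl']

theorem bcHom_id : bcHom (RingHom.id B) = RingHom.id (DualNumber B) := by
  refine RingHom.ext fun z => ?_
  apply TrivSqZeroExt.ext <;> simp [bcHom, TrivSqZeroExt.algebraMap_eq_inl']

theorem bcHom_apply_fst (g : B →+* C) (z : DualNumber B) : (bcHom g z).fst = g z.fst := by
  simp [bcHom, TrivSqZeroExt.algebraMap_eq_inl']

theorem bcHom_apply_snd (g : B →+* C) (z : DualNumber B) : (bcHom g z).snd = g z.snd := by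
  simp [bcHom, TrivSqZeroExt.algebraMap_eq_inl']

theorem comap_fstHom_surjective (B : Type u) [CommRing B] :
    Function.Surjective (PrimeSpectrum.comap (TrivSqZeroExt.fstHom B B B).toRingHom) := by
  intro y
  refine ⟨PrimeSpectrum.comap (algebraMap B (DualNumber B)) y, ?_⟩
  rw [← PrimeSpectrum.comap_comp_apply]
  apply Groth.Agent.H42.comap_eq_self_of_nilpotent
  intro z
  refine ⟨2, ?_⟩
  rw [pow_two]
  apply TrivSqZeroExt.ext <;> simp [TrivSqZeroExt.algebraMap_eq_inl']

theorem surjective_specMap_fstHom (B : Type u) [CommRing B] :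
    Function.Surjective
      (Spec.map (CommRingCat.ofHom (TrivSqZeroExt.fstHom B B B).toRingHom)).base :=
  comap_fstHom_surjective B


theorem exists_derivation_of_psi {k B : Type u} [CommRing k] [CommRing B] [Algebra k B]
    (φ : B →ₐ[k] DualNumber k) (ψ : B →+* DualNumber B)
    (h1 : (TrivSqZeroExt.fstHom B B B).toRingHom.comp ψ = RingHom.id B)
    (h2 : ψ.comp (algebraMap k B) = (algebraMap B (DualNumber B)).comp (algebraMap k B))
    (h3 : (bcHom ((TrivSqZeroExt.fstHom k k k).toRingHom.comp φ.toRingHom)).comp ψ = φ.toRingHom) :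
    ∃ D : Derivation k B B, ∀ b, (φ b).snd = (φ (D b)).fst := by
  have hfst : ∀ b, (ψ b).fst = b := fun b => by
    have := congrArg (fun f => f b) h1
    simpa using this
  have hk : ∀ c : k, (ψ (algebraMap k B c)).snd = 0 := fun c => by
    have := congrArg (fun f => f c) h2
    simp only [RingHom.comp_apply] at this
    rw [this]
    simp [TrivSqZeroExt.algebraMap_eq_inl']
  let L : B →ₗ[k] B :=
    { toFun := fun b => (ψ b).snd
      map_add' := fun a b => by simp
      map_smul' := fun c b => by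
        simp only [RingHom.id_apply, Algebra.smul_def, map_mul, DualNumber.snd_mul, hfst, hk]
        simp }
  refine ⟨Derivation.mk' L fun a b => ?_, fun b => ?_⟩
  · show (ψ (a * b)).snd = a • (ψ b).snd + b • (ψ a).snd
    simp only [map_mul, DualNumber.snd_mul, hfst, smul_eq_mul]
    ring
  · have := congrArg (fun f => (f b).snd) h3
    simp only [RingHom.comp_apply, bcHom_apply_snd] at this
    show (φ b).snd = (φ ((ψ b).snd)).fst
    exact this.symm

end Rings


noncomputable section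

section Geom

variable {Ω : Type u} [CommRing Ω] (G : Over (Spec (CommRingCat.of Ω))) [GrpObj G]
  {U : G.left.Opens} (hU : IsAffineOpen U)

/-- The structure map `Ω → Γ(G, U)`. -/
def iota : Ω →+* Γ(G.left, U) := (Spec.preimage (hU.fromSpec ≫ G.hom)).hom

theorem spec_iota : Spec.map (CommRingCat.ofHom (iota G hU)) = hU.fromSpec ≫ G.hom := by
  rw [iota, CommRingCat.ofHom_hom, Spec.map_preimage]

/-- `Spec Γ(G, U)` over the base. -/
abbrev PB : Over (Spec (CommRingCat.of Ω)) := Over.mk (Spec.map (CommRingCat.ofHom (iota G hU)))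

/-- `Spec Γ(G, U)[ε]` over the base. -/
abbrev YB : Over (Spec (CommRingCat.of Ω)) :=
  Over.mk (Spec.map (CommRingCat.ofHom (algebraMap Γ(G.left, U) (DualNumber Γ(G.left, U)))) ≫
    Spec.map (CommRingCat.ofHom (iota G hU)))

variable (Ω) in
/-- `Spec Ω[ε]` over the base. -/
abbrev TΩ : Over (Spec (CommRingCat.of Ω)) :=
  Over.mk (Spec.map (CommRingCat.ofHom (algebraMap Ω (DualNumber Ω))))

/-- The open immersion `Spec Γ(G, U) → G`. -/
def uB : PB G hU ⟶ G := Over.homMk hU.fromSpec (spec_iota G hU).symm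

def projB : YB G hU ⟶ PB G hU :=
  Over.homMk (Spec.map (CommRingCat.ofHom (algebraMap Γ(G.left, U) (DualNumber Γ(G.left, U))))) rfl

def zeroB : PB G hU ⟶ YB G hU :=
  Over.homMk (Spec.map (CommRingCat.ofHom
    (TrivSqZeroExt.fstHom Γ(G.left, U) Γ(G.left, U) Γ(G.left, U)).toRingHom)) (by
    show Spec.map _ ≫ Spec.map _ ≫ Spec.map _ = Spec.map _
    rw [← Category.assoc, specMap_comp, fstHom_comp_algebraMap, CommRingCat.ofHom_id]
    erw [Spec.map_id]
    exact Category.id_comp _)

def cB : YB G hU ⟶ TΩ Ω :=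
  Over.homMk (Spec.map (CommRingCat.ofHom (bcHom (iota G hU)))) (by
    show Spec.map _ ≫ Spec.map _ = Spec.map _ ≫ Spec.map _
    rw [specMap_comp, specMap_comp, bcHom_comp_algebraMap])

variable (Ω) in
def zeroΩ : 𝟙_ (Over (Spec (CommRingCat.of Ω))) ⟶ TΩ Ω :=
  Over.homMk (Spec.map (CommRingCat.ofHom (TrivSqZeroExt.fstHom Ω Ω Ω).toRingHom)) (by
    show Spec.map _ ≫ Spec.map _ = 𝟙 _
    rw [specMap_comp, fstHom_comp_algebraMap, CommRingCat.ofHom_id]
    erw [Spec.map_id])

theorem zeroB_projB : zeroB G hU ≫ projB G hU = 𝟙 _ := by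
  ext
  show Spec.map _ ≫ Spec.map _ = 𝟙 _
  rw [specMap_comp, fstHom_comp_algebraMap, CommRingCat.ofHom_id]
  erw [Spec.map_id]

theorem zeroB_cB : zeroB G hU ≫ cB G hU = toUnit (PB G hU) ≫ zeroΩ Ω := by
  ext
  show Spec.map _ ≫ Spec.map _ = (toUnit (PB G hU)).left ≫ Spec.map _
  have h1 : (toUnit (PB G hU)).left = Spec.map (CommRingCat.ofHom (iota G hU)) := by
    have := Over.w (toUnit (PB G hU))
    exact (Category.comp_id _).symm.trans this
  rw [h1, specMap_comp, specMap_comp, fstHom_comp_bcHom]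


section Points

variable (ev : Γ(G.left, U) →+* Ω) (hev : ev.comp (iota G hU) = RingHom.id Ω)
  (φ : Γ(G.left, U) →+* DualNumber Ω)
  (hφ : φ.comp (iota G hU) = algebraMap Ω (DualNumber Ω))
  (hφev : (TrivSqZeroExt.fstHom Ω Ω Ω).toRingHom.comp φ = ev)

def xpt : 𝟙_ (Over (Spec (CommRingCat.of Ω))) ⟶ PB G hU :=
  Over.homMk (Spec.map (CommRingCat.ofHom ev)) (by
    show Spec.map _ ≫ Spec.map _ = 𝟙 _
    rw [specMap_comp, hev, CommRingCat.ofHom_id]
    erw [Spec.map_id])

def vΩ : TΩ Ω ⟶ YB G hU :=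
  Over.homMk (Spec.map (CommRingCat.ofHom (bcHom ev))) (by
    show Spec.map _ ≫ Spec.map _ ≫ Spec.map _ = Spec.map _
    rw [← Category.assoc, specMap_comp, bcHom_comp_algebraMap, specMap_comp, RingHom.comp_assoc, hev,
      RingHom.comp_id])

def tpt : TΩ Ω ⟶ G :=
  Over.homMk (Spec.map (CommRingCat.ofHom φ) ≫ hU.fromSpec) (by
    show (Spec.map _ ≫ hU.fromSpec) ≫ G.hom = Spec.map _
    rw [Category.assoc, ← spec_iota, specMap_comp, hφ])


def sΩ : TΩ Ω ⟶ G :=
  (toUnit (TΩ Ω) ≫ xpt G hU ev hev ≫ uB G hU)⁻¹ * tpt G hU φ hφ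

def pB : YB G hU ⟶ G :=
  (projB G hU ≫ uB G hU) * (cB G hU ≫ sΩ G hU ev hev φ hφ)

include hφev in
theorem zeroΩ_tpt : zeroΩ Ω ≫ tpt G hU φ hφ = xpt G hU ev hev ≫ uB G hU := by
  ext
  show Spec.map _ ≫ Spec.map _ ≫ hU.fromSpec = Spec.map _ ≫ hU.fromSpec
  rw [← Category.assoc, specMap_comp, hφev]

include hφev in
theorem zeroΩ_sΩ : zeroΩ Ω ≫ sΩ G hU ev hev φ hφ = 1 := by
  rw [sΩ, MonObj.comp_mul, GrpObj.comp_inv, zeroΩ_tpt G hU ev hev φ hφ hφev, ← Category.assoc]
  have : zeroΩ Ω ≫ toUnit (TΩ Ω) = 𝟙 _ := toUnit_unique _ _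
  rw [this, Category.id_comp, inv_mul_cancel]

include hφev in
theorem zeroB_pB : zeroB G hU ≫ pB G hU ev hev φ hφ = uB G hU := by
  rw [pB, MonObj.comp_mul, ← Category.assoc, zeroB_projB, Category.id_comp, ← Category.assoc, zeroB_cB,
    Category.assoc, zeroΩ_sΩ G hU ev hev φ hφ hφev, MonObj.comp_one, _root_.mul_one]

theorem vΩ_projB : vΩ G hU ev hev ≫ projB G hU = toUnit (TΩ Ω) ≫ xpt G hU ev hev := by
  ext
  have h1 : (toUnit (TΩ Ω)).left = Spec.map (CommRingCat.ofHom (algebraMap Ω (DualNumber Ω))) := by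
    have := Over.w (toUnit (TΩ Ω))
    exact (Category.comp_id _).symm.trans this
  show Spec.map _ ≫ Spec.map _ = (toUnit (TΩ Ω)).left ≫ Spec.map _
  rw [h1, specMap_comp, specMap_comp, bcHom_comp_algebraMap]

theorem vΩ_cB : vΩ G hU ev hev ≫ cB G hU = 𝟙 _ := by
  ext
  show Spec.map _ ≫ Spec.map _ = 𝟙 _
  rw [specMap_comp, bcHom_comp, hev, bcHom_id, CommRingCat.ofHom_id]
  erw [Spec.map_id]

theorem vΩ_pB : vΩ G hU ev hev ≫ pB G hU ev hev φ hφ = tpt G hU φ hφ := by
  rw [pB, MonObj.comp_mul, ← Category.assoc, vΩ_projB, ← Category.assoc (vΩ G hU ev hev), vΩ_cB,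
    Category.id_comp, sΩ, Category.assoc, mul_inv_cancel_left]


include hφev in
theorem range_pB : Set.range (pB G hU ev hev φ hφ).left ⊆ Set.range hU.fromSpec := by
  rintro _ ⟨y, rfl⟩
  obtain ⟨y', rfl⟩ := surjective_specMap_fstHom Γ(G.left, U) y
  have h := zeroB_pB G hU ev hev φ hφ hφev
  have h2 : (zeroB G hU).left ≫ (pB G hU ev hev φ hφ).left = hU.fromSpec :=
    congrArg (fun t => t.left) h
  refine ⟨y', ?_⟩
  rw [← h2]
  rfl

def liftB : Spec (CommRingCat.of (DualNumber Γ(G.left, U))) ⟶ Spec (CommRingCat.of Γ(G.left, U)) :=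
  IsOpenImmersion.lift hU.fromSpec (pB G hU ev hev φ hφ).left (range_pB G hU ev hev φ hφ hφev)

def psi : Γ(G.left, U) →+* DualNumber Γ(G.left, U) :=
  (Spec.preimage (liftB G hU ev hev φ hφ hφev)).hom

theorem spec_psi_fromSpec :
    Spec.map (CommRingCat.ofHom (psi G hU ev hev φ hφ hφev)) ≫ hU.fromSpec =
      (pB G hU ev hev φ hφ).left := by
  rw [psi, CommRingCat.ofHom_hom, Spec.map_preimage, liftB]
  exact IsOpenImmersion.lift_fac _ _ _

theorem fstHom_comp_psi :
    (TrivSqZeroExt.fstHom Γ(G.left, U) Γ(G.left, U) Γ(G.left, U)).toRingHom.comp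
      (psi G hU ev hev φ hφ hφev) = RingHom.id _ := by
  have h := zeroB_pB G hU ev hev φ hφ hφev
  have h2 : (zeroB G hU).left ≫ (pB G hU ev hev φ hφ).left = hU.fromSpec :=
    congrArg (fun t => t.left) h
  rw [← spec_psi_fromSpec G hU ev hev φ hφ hφev] at h2
  have h3 : Spec.map (CommRingCat.ofHom
      (TrivSqZeroExt.fstHom Γ(G.left, U) Γ(G.left, U) Γ(G.left, U)).toRingHom) ≫
      Spec.map (CommRingCat.ofHom (psi G hU ev hev φ hφ hφev)) = 𝟙 _ := by
    rw [← cancel_mono hU.fromSpec, Category.assoc, Category.id_comp]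
    exact h2
  rw [specMap_comp] at h3
  have h4 : CommRingCat.ofHom ((TrivSqZeroExt.fstHom Γ(G.left, U) Γ(G.left, U) Γ(G.left, U)).toRingHom.comp
      (psi G hU ev hev φ hφ hφev)) = 𝟙 _ := by
    apply Spec.map_injective
    rw [h3]
    erw [Spec.map_id]
  exact congrArg CommRingCat.Hom.hom h4

theorem psi_comp_iota :
    (psi G hU ev hev φ hφ hφev).comp (iota G hU) =
      (algebraMap Γ(G.left, U) (DualNumber Γ(G.left, U))).comp (iota G hU) := by
  have h := Over.w (pB G hU ev hev φ hφ)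
  rw [← spec_psi_fromSpec G hU ev hev φ hφ hφev, Category.assoc, ← spec_iota, specMap_comp] at h
  have h' : Spec.map (CommRingCat.ofHom ((psi G hU ev hev φ hφ hφev).comp (iota G hU))) =
      Spec.map (CommRingCat.ofHom
        ((algebraMap Γ(G.left, U) (DualNumber Γ(G.left, U))).comp (iota G hU))) := by
    rw [h, ← specMap_comp]
    rfl
  exact congrArg CommRingCat.Hom.hom (Spec.map_injective h')

theorem bcHom_comp_psi :
    (bcHom ev).comp (psi G hU ev hev φ hφ hφev) = φ := by
  have h := vΩ_pB G hU ev hev φ hφ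
  have h2 : (vΩ G hU ev hev).left ≫ (pB G hU ev hev φ hφ).left = (tpt G hU φ hφ).left :=
    congrArg (fun t => t.left) h
  rw [← spec_psi_fromSpec G hU ev hev φ hφ hφev] at h2
  have h3 : Spec.map (CommRingCat.ofHom (bcHom ev)) ≫
      Spec.map (CommRingCat.ofHom (psi G hU ev hev φ hφ hφev)) = Spec.map (CommRingCat.ofHom φ) := by
    rw [← cancel_mono hU.fromSpec, Category.assoc]
    exact h2
  rw [specMap_comp] at h3
  exact congrArg CommRingCat.Hom.hom (Spec.map_injective h3)

end Points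

end Geom

section Closed

/-- a scheme covered by affine opens with reduced rings of sections is reduced. -/
theorem isReduced_of_affine_cover (X : Scheme.{u})
    (h : ∀ x : X, ∃ U : X.Opens, IsAffineOpen U ∧ x ∈ U ∧ _root_.IsReduced Γ(X, U)) :
    AlgebraicGeometry.IsReduced X := by
  choose U hU hxU hred using h
  have hcov : TopologicalSpace.IsOpenCover U := by
    refine TopologicalSpace.IsOpenCover.mk (top_le_iff.1 ?_)
    intro x _
    exact TopologicalSpace.Opens.mem_iSup.2 ⟨x, hxU x⟩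
  have : ∀ i, AlgebraicGeometry.IsReduced ((X.openCoverOfIsOpenCover U hcov).X i) := by
    intro x
    change AlgebraicGeometry.IsReduced (U x : Scheme)
    haveI : IsAffine (U x : Scheme) := hU x
    haveI : _root_.IsReduced Γ((U x : Scheme), ⊤) := by
      have hinj : Function.Injective ((U x).topIso.hom.hom) :=
        (ConcreteCategory.bijective_of_isIso (U x).topIso.hom).1
      haveI := hred x
      exact isReduced_of_injective _ hinj
    exact isReduced_of_isAffine_isReduced _
  exact IsReduced.of_openCover X (X.openCoverOfIsOpenCover U hcov)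

variable {Ω : Type u} [Field Ω] [IsAlgClosed Ω] [CharZero Ω]
  (G : Over (Spec (CommRingCat.of Ω))) [GrpObj G] [LocallyOfFiniteType G.hom]

theorem isReduced_sections {U : G.left.Opens} (hU : IsAffineOpen U) :
    _root_.IsReduced Γ(G.left, U) := by
  letI : Algebra Ω Γ(G.left, U) := (iota G hU).toAlgebra
  have hft : LocallyOfFiniteType (Spec.map (CommRingCat.ofHom (iota G hU))) := by
    rw [spec_iota]
    infer_instance
  rw [HasRingHomProperty.Spec_iff (P := @LocallyOfFiniteType)] at hft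
  haveI : Algebra.FiniteType Ω Γ(G.left, U) := hft
  apply Groth.Agent.H42.CartierAlg.isReduced_of_forall_derivation (k := Ω)
  intro φ
  have hφ : φ.toRingHom.comp (iota G hU) = algebraMap Ω (DualNumber Ω) :=
    AlgHom.comp_algebraMap φ
  have hev : ((TrivSqZeroExt.fstHom Ω Ω Ω).toRingHom.comp φ.toRingHom).comp (iota G hU) =
      RingHom.id Ω := by
    rw [RingHom.comp_assoc, hφ, fstHom_comp_algebraMap]
  exact exists_derivation_of_psi φ (psi G hU _ hev φ.toRingHom hφ rfl)
    (fstHom_comp_psi G hU _ hev _ hφ rfl) (psi_comp_iota G hU _ hev _ hφ rfl)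
    (bcHom_comp_psi G hU _ hev _ hφ rfl)

theorem isReduced_of_isAlgClosed : AlgebraicGeometry.IsReduced G.left := by
  apply isReduced_of_affine_cover
  intro x
  obtain ⟨U, hU, hxU, -⟩ := (TopologicalSpace.Opens.isBasis_iff_nbhd.1 G.left.isBasis_affineOpens)
    (show x ∈ (⊤ : G.left.Opens) from trivial)
  exact ⟨U, hU, hxU, isReduced_sections G hU⟩

end Closed

end

end Groth.Agent.H42.Cartier
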