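import Mathlib

set_option autoImplicit false
open MvPolynomial

namespace Groth.Agent.H42.CartierAlg

section Basic

variable {k B : Type*} [CommRing k] [CommRing B] [Algebra k B]

/-- A derivation lowers powers of an ideal by at most one. -/
theorem deriv_mem_pow (D : Derivation k B B) (I : Ideal B) (d : ℕ) {b : B}
    (hb : b ∈ I ^ (d + 1)) : D b ∈ I ^ d := by
  induction d generalizing b with
  | zero => simp
  | succ d ih =>
    rw [pow_succ'] at hb
    refine Submodule.mul_induction_on hb ?_ ?_
    · intro a ha c hc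
      rw [D.leibniz]
      refine add_mem ?_ ?_
      · rw [smul_eq_mul, pow_succ']
        exact Ideal.mul_mem_mul ha (ih hc)
      · rw [smul_eq_mul]
        exact Ideal.mul_mem_right _ _ hc
    · intro a c ha hc
      rw [map_add]
      exact add_mem ha hc

/-- A homogeneous polynomial of degree `d` evaluated at elements of `I` lies in `I ^ d`. -/
theorem aeval_mem_pow {n : ℕ} (I : Ideal B) (x : Fin n → B) (hx : ∀ i, x i ∈ I)
    {P : MvPolynomial (Fin n) k} {d : ℕ} (hP : P.IsHomogeneous d) : aeval x P ∈ I ^ d := by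
  have h1 : aeval x P = eval x (map (algebraMap k B) P) := by
    rw [eval_map, aeval_def]
  have h2 : eval x (map (algebraMap k B) P) ∈ Ideal.span (Set.range x) ^ d :=
    (Ideal.mem_span_pow_iff_exists_isHomogeneous x _).mpr ⟨_, hP.map _, rfl⟩
  rw [h1]
  refine Ideal.pow_right_mono ?_ d h2
  rw [Ideal.span_le]
  rintro _ ⟨i, rfl⟩
  exact hx i

/-- Chain rule for derivations and polynomial expressions. -/
theorem deriv_aeval {n : ℕ} (D : Derivation k B B) (x : Fin n → B) (P : MvPolynomial (Fin n) k) :
    D (aeval x P) = ∑ i, aeval x (pderiv i P) * D (x i) := by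
  induction P using MvPolynomial.induction_on with
  | C a => simp
  | add p q hp hq =>
    simp only [map_add, hp, hq, add_mul, Finset.sum_add_distrib]
  | mul_X p j hp =>
    have e : ∀ i, aeval x (pderiv i (p * X j)) =
        aeval x p * (if i = j then 1 else 0) + x j * aeval x (pderiv i p) := by
      intro i
      rw [Derivation.leibniz, pderiv_X, map_add, smul_eq_mul, smul_eq_mul, map_mul, map_mul,
        aeval_X, Pi.single_apply]
      congr 2
      by_cases h : i = j
      · rw [if_pos h, if_pos h.symm, map_one]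
      · rw [if_neg h, if_neg (Ne.symm h), map_zero]
    rw [map_mul, aeval_X, D.leibniz, hp, smul_eq_mul, smul_eq_mul]
    simp only [e, add_mul, Finset.sum_add_distrib]
    congr 1
    · rw [Finset.sum_eq_single j]
      · rw [if_pos rfl, mul_one]
      · intro i _ hij
        rw [if_neg hij, mul_zero, zero_mul]
      · intro h
        exact absurd (Finset.mem_univ j) h
    · rw [Finset.mul_sum]
      refine Finset.sum_congr rfl fun i _ => ?_
      ring

end Basic


section Main

variable {k B : Type*} [Field k] [CommRing B] [Algebra k B]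
  (ev : B →ₐ[k] k) {n : ℕ} (x : Fin n → B) (D : Fin n → Derivation k B B)

/-- The maximal ideal of a rational point. -/
abbrev mx : Ideal B := RingHom.ker (ev : B →+* k)

theorem mem_mx {b : B} : b ∈ mx ev ↔ ev b = 0 := RingHom.mem_ker

theorem sub_algebraMap_mem (b : B) : b - algebraMap k B (ev b) ∈ mx ev := by
  rw [mem_mx, map_sub, AlgHom.commutes, Algebra.algebraMap_self_apply, sub_self]

theorem pow_sub_pow_mem (I : Ideal B) (d : ℕ) {u v : B} (hu : u ∈ I ^ d) (hv : v ∈ I ^ d)
    (h : u - v ∈ I ^ (d + 1)) : ∀ N : ℕ, u ^ N - v ^ N ∈ I ^ (N * d + 1) := by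
  intro N
  induction N with
  | zero => simp
  | succ N ih =>
    have e : u ^ (N + 1) - v ^ (N + 1) = u ^ N * (u - v) + (u ^ N - v ^ N) * v := by ring
    rw [e]
    have h1 : u ^ N ∈ I ^ (N * d) := by
      rw [mul_comm, pow_mul]
      exact Ideal.pow_mem_pow hu N
    refine add_mem ?_ ?_
    · have := Ideal.mul_mem_mul h1 h
      rw [← pow_add] at this
      convert this using 2
      ring
    · have := Ideal.mul_mem_mul ih hv
      rw [← pow_add] at this
      convert this using 2
      ring

variable [CharZero k]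

include D in
/-- The key claim: homogeneous forms in the `x i` are independent modulo higher powers of the
maximal ideal. -/
theorem eq_zero_of_aeval_mem (hx : ∀ i, ev (x i) = 0)
    (hD : ∀ i j, ev (D i (x j)) = if i = j then 1 else 0) :
    ∀ (d : ℕ) (P : MvPolynomial (Fin n) k), P.IsHomogeneous d →
      aeval x P ∈ mx ev ^ (d + 1) → P = 0 := by
  have hxm : ∀ i, x i ∈ mx ev := fun i => (mem_mx ev).mpr (hx i)
  intro d
  induction d with
  | zero =>
    intro P hP hmem
    rw [← totalDegree_zero_iff_isHomogeneous, totalDegree_eq_zero_iff_eq_C] at hP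
    rw [hP, aeval_C, zero_add, pow_one, mem_mx, AlgHom.commutes,
      Algebra.algebraMap_self_apply] at hmem
    rw [hP, hmem, map_zero]
  | succ d ih =>
    intro P hP hmem
    have hpd : ∀ i, pderiv i P = 0 := by
      intro i
      have hhom : ∀ j, (pderiv j P).IsHomogeneous d := fun j => by
        have := hP.pderiv (i := j)
        rwa [Nat.add_sub_cancel] at this
      apply ih _ (hhom i)
      have h1 : D i (aeval x P) ∈ mx ev ^ (d + 1) := deriv_mem_pow (D i) (mx ev) (d + 1) hmem
      rw [deriv_aeval] at h1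
      have h2 : ∑ j, aeval x (pderiv j P) *
          (D i (x j) - algebraMap k B (if i = j then 1 else 0)) ∈ mx ev ^ (d + 1) := by
        refine Ideal.sum_mem _ fun j _ => ?_
        rw [pow_succ]
        refine Ideal.mul_mem_mul (aeval_mem_pow (mx ev) x hxm (hhom j)) ?_
        rw [mem_mx, map_sub, hD, AlgHom.commutes, Algebra.algebraMap_self_apply, sub_self]
      have h3 : aeval x (pderiv i P) = ∑ j, aeval x (pderiv j P) * D i (x j) -
          ∑ j, aeval x (pderiv j P) *
            (D i (x j) - algebraMap k B (if i = j then 1 else 0)) := by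
        rw [← Finset.sum_sub_distrib]
        rw [Finset.sum_eq_single i]
        · rw [if_pos rfl, map_one]
          ring
        · intro j _ hji
          rw [if_neg (Ne.symm hji), map_zero]
          ring
        · intro h
          exact absurd (Finset.mem_univ i) h
      rw [h3]
      exact sub_mem h1 h2
    have he := hP.sum_X_mul_pderiv
    simp only [hpd, mul_zero, Finset.sum_const_zero] at he
    have h0 : ((d + 1 : ℕ) : MvPolynomial (Fin n) k) * P = 0 := by
      rw [← nsmul_eq_mul]
      exact he.symm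
    rcases mul_eq_zero.mp h0 with h | h
    · exfalso
      have : ((d + 1 : ℕ) : MvPolynomial (Fin n) k) = C ((d + 1 : ℕ) : k) := by
        rw [map_natCast]
      rw [this, ← C_0, C_inj] at h
      exact Nat.cast_ne_zero.mpr (Nat.succ_ne_zero d) h
    · exact h

omit [CharZero k] in
theorem exists_leading (hx : ∀ i, ev (x i) = 0)
    (hspan : ∀ b ∈ mx ev, ∃ c : Fin n → k, b - ∑ i, c i • x i ∈ mx ev ^ 2) :
    ∀ (d : ℕ) (a : B), a ∈ mx ev ^ d →
      ∃ P : MvPolynomial (Fin n) k, P.IsHomogeneous d ∧ a - aeval x P ∈ mx ev ^ (d + 1) := by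
  have hxm : ∀ i, x i ∈ mx ev := fun i => (mem_mx ev).mpr (hx i)
  intro d
  induction d with
  | zero =>
    intro a _
    refine ⟨C (ev a), isHomogeneous_C _ _, ?_⟩
    rw [aeval_C, zero_add, pow_one]
    exact sub_algebraMap_mem ev a
  | succ d ih =>
    intro a ha
    rw [pow_succ'] at ha
    refine Submodule.mul_induction_on ha ?_ ?_
    · intro b hb c hc
      obtain ⟨cf, hcf⟩ := hspan b hb
      obtain ⟨Q, hQ, hQm⟩ := ih c hc
      let L : MvPolynomial (Fin n) k := ∑ i, C (cf i) * X i
      have hL : L.IsHomogeneous 1 := by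
        apply IsHomogeneous.sum
        intro i _
        exact isHomogeneous_C_mul_X _ _
      have hLx : aeval x L = ∑ i, cf i • x i := by
        simp only [L, map_sum, map_mul, aeval_C, aeval_X, Algebra.smul_def]
      refine ⟨L * Q, ?_, ?_⟩
      · have := hL.mul hQ
        rwa [add_comm] at this
      · have e : b * c - aeval x (L * Q) =
            (b - aeval x L) * c + aeval x L * (c - aeval x Q) := by
          rw [map_mul]
          ring
        rw [e]
        refine add_mem ?_ ?_
        · have := Ideal.mul_mem_mul (hLx ▸ hcf : b - aeval x L ∈ mx ev ^ 2) hc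
          rw [← pow_add] at this
          convert this using 2
          ring
        · have := Ideal.mul_mem_mul (aeval_mem_pow (mx ev) x hxm hL) hQm
          rw [← pow_add] at this
          convert this using 2
          ring
    · rintro a₁ a₂ ⟨P₁, hP₁, h₁⟩ ⟨P₂, hP₂, h₂⟩
      refine ⟨P₁ + P₂, hP₁.add hP₂, ?_⟩
      have e : a₁ + a₂ - aeval x (P₁ + P₂) = (a₁ - aeval x P₁) + (a₂ - aeval x P₂) := by
        rw [map_add]
        ring
      rw [e]
      exact add_mem h₁ h₂

include D in
/-- Over a field of characteristic zero: if the tangent vectors at a rational point of a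
Noetherian algebra are induced by global derivations, nilpotents die in the local ring. -/
theorem exists_mul_eq_zero_of_isNilpotent [IsNoetherianRing B] (hx : ∀ i, ev (x i) = 0)
    (hD : ∀ i j, ev (D i (x j)) = if i = j then 1 else 0)
    (hspan : ∀ b ∈ mx ev, ∃ c : Fin n → k, b - ∑ i, c i • x i ∈ mx ev ^ 2)
    {a : B} (ha : IsNilpotent a) : ∃ u : B, ev u = 1 ∧ u * a = 0 := by
  have hxm : ∀ i, x i ∈ mx ev := fun i => (mem_mx ev).mpr (hx i)
  obtain ⟨N, hN⟩ := ha
  have hall : ∀ d : ℕ, a ∈ mx ev ^ d := by
    intro d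
    induction d with
    | zero => simp
    | succ d ih =>
      obtain ⟨P, hP, hPm⟩ := exists_leading ev x hx hspan d a ih
      have hPx : aeval x P ∈ mx ev ^ d := aeval_mem_pow (mx ev) x hxm hP
      have h1 := pow_sub_pow_mem (mx ev) d ih hPx hPm N
      rw [hN, zero_sub, neg_mem_iff, ← map_pow] at h1
      have hP0 : P ^ N = 0 := by
        apply eq_zero_of_aeval_mem ev x D hx hD (d * N) (P ^ N) (hP.pow N)
        rwa [mul_comm]
      have : P = 0 := IsNilpotent.eq_zero ⟨N, hP0⟩
      rw [this, map_zero, sub_zero] at hPm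
      exact hPm
  have hinf : a ∈ (⨅ i : ℕ, mx ev ^ i • ⊤ : Submodule B B) := by
    rw [Submodule.mem_iInf]
    intro i
    rw [smul_eq_mul, Ideal.mul_top]
    exact hall i
  obtain ⟨r, hr⟩ := (Ideal.mem_iInf_smul_pow_eq_bot_iff (mx ev) a).mp hinf
  refine ⟨1 - r, ?_, ?_⟩
  · rw [map_sub, map_one, (mem_mx ev).mp r.2, sub_zero]
  · rw [sub_mul, one_mul, ← smul_eq_mul, hr, sub_self]

end Main


section Tangent

variable {k B : Type*} [Field k] [CommRing B] [Algebra k B] (ev : B →ₐ[k] k)

/-- The "universal tangent functional": `b ↦ (b - b(x)) mod m²`. -/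
noncomputable def theta : B →ₗ[k] (B ⧸ (mx ev) ^ 2) :=
  (Ideal.Quotient.mkₐ k ((mx ev) ^ 2)).toLinearMap ∘ₗ
    (LinearMap.id - (Algebra.linearMap k B) ∘ₗ ev.toLinearMap)

theorem theta_apply (b : B) :
    theta ev b = Ideal.Quotient.mk ((mx ev) ^ 2) (b - algebraMap k B (ev b)) := rfl

theorem theta_of_mem {b : B} (hb : b ∈ mx ev) : theta ev b = Ideal.Quotient.mk ((mx ev) ^ 2) b := by
  rw [theta_apply, (mem_mx ev).mp hb, map_zero, sub_zero]

theorem theta_mul (b c : B) : theta ev (b * c) = ev b • theta ev c + ev c • theta ev b := by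
  simp only [theta_apply]
  rw [← sub_eq_zero]
  have e : ∀ (r : k) (z : B), r • Ideal.Quotient.mk ((mx ev) ^ 2) z =
      Ideal.Quotient.mk ((mx ev) ^ 2) (algebraMap k B r * z) := by
    intro r z
    rw [← Algebra.smul_def]
    rfl
  rw [e, e, ← map_add, ← map_sub, Ideal.Quotient.eq_zero_iff_mem]
  have h : b * c - algebraMap k B (ev (b * c)) -
      (algebraMap k B (ev b) * (c - algebraMap k B (ev c)) +
        algebraMap k B (ev c) * (b - algebraMap k B (ev b))) =
      (b - algebraMap k B (ev b)) * (c - algebraMap k B (ev c)) := by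
    rw [map_mul, map_mul]
    ring
  rw [h, pow_two]
  exact Ideal.mul_mem_mul (sub_algebraMap_mem ev b) (sub_algebraMap_mem ev c)

/-- The dual-number point attached to a functional factoring through `theta`. -/
noncomputable def tangentHom (l : (B ⧸ (mx ev) ^ 2) →ₗ[k] k) : B →ₐ[k] DualNumber k :=
  AlgHom.ofLinearMap
    ((TrivSqZeroExt.inlAlgHom k k k).toLinearMap ∘ₗ ev.toLinearMap +
      (TrivSqZeroExt.inrHom k k) ∘ₗ l ∘ₗ theta ev)
    (by
      apply TrivSqZeroExt.ext
      · simp
      · simp [theta_apply])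
    (by
      intro b c
      apply TrivSqZeroExt.ext
      · simp
      · simp [theta_mul]
        ring)

theorem tangentHom_fst (l : (B ⧸ (mx ev) ^ 2) →ₗ[k] k) (b : B) :
    (tangentHom ev l b).fst = ev b := by
  simp [tangentHom]

theorem tangentHom_snd (l : (B ⧸ (mx ev) ^ 2) →ₗ[k] k) (b : B) :
    (tangentHom ev l b).snd = l (theta ev b) := by
  simp [tangentHom]


theorem mk_mem_span [IsNoetherianRing B] (s : Finset B) (hs : Ideal.span (s : Set B) = mx ev)
    {z : B} (hz : z ∈ mx ev) :
    Ideal.Quotient.mk ((mx ev) ^ 2) z ∈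
      Submodule.span k ((fun g => Ideal.Quotient.mk ((mx ev) ^ 2) g) '' (s : Set B)) := by
  rw [← hs] at hz
  refine Submodule.span_induction ?_ ?_ ?_ ?_ hz
  · intro g hg
    exact Submodule.subset_span ⟨g, hg, rfl⟩
  · rw [map_zero]
    exact zero_mem _
  · intro u v _ _ hu hv
    rw [map_add]
    exact add_mem hu hv
  · intro r z hz' hz''
    have hzm : z ∈ mx ev := hs ▸ hz'
    have e : Ideal.Quotient.mk ((mx ev) ^ 2) (r • z) =
        ev r • Ideal.Quotient.mk ((mx ev) ^ 2) z := by
      have e1 : ev r • Ideal.Quotient.mk ((mx ev) ^ 2) z =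
          Ideal.Quotient.mk ((mx ev) ^ 2) (algebraMap k B (ev r) * z) := by
        rw [← Algebra.smul_def]
        rfl
      rw [e1, smul_eq_mul, ← sub_eq_zero, ← map_sub, Ideal.Quotient.eq_zero_iff_mem, ← sub_mul,
        pow_two]
      exact Ideal.mul_mem_mul (sub_algebraMap_mem ev r) hzm
    rw [e]
    exact Submodule.smul_mem _ _ hz''

theorem range_theta_fg [IsNoetherianRing B] : (LinearMap.range (theta ev)).FG := by
  obtain ⟨s, hs⟩ := (isNoetherianRing_iff_ideal_fg B).mp inferInstance (mx ev)
  refine Submodule.FG.of_le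
    (T := Submodule.span k ((fun g => Ideal.Quotient.mk ((mx ev) ^ 2) g) '' (s : Set B)))
    (Submodule.fg_span ((s.finite_toSet).image _)) ?_
  rintro _ ⟨b, rfl⟩
  rw [theta_apply]
  exact mk_mem_span ev s hs (sub_algebraMap_mem ev b)

variable [CharZero k]

/-- At a rational point of a Noetherian algebra over a field of characteristic zero all of whose
tangent vectors are induced by global derivations, nilpotents die locally. -/
theorem exists_mul_eq_zero_of_point [IsNoetherianRing B]
    (H : ∀ φ : B →ₐ[k] DualNumber k, (∀ b, (φ b).fst = ev b) →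
      ∃ D : Derivation k B B, ∀ b, (φ b).snd = ev (D b))
    {a : B} (ha : IsNilpotent a) : ∃ u : B, ev u = 1 ∧ u * a = 0 := by
  have hfin : Module.Finite k (LinearMap.range (theta ev)) :=
    Module.Finite.iff_fg.mpr (range_theta_fg ev)
  let bas := Module.finBasis k (LinearMap.range (theta ev))
  have hpre : ∀ i, ∃ y : B, theta ev y = (bas i : B ⧸ (mx ev) ^ 2) := fun i => (bas i).2
  choose y hy using hpre
  let x : Fin (Module.finrank k (LinearMap.range (theta ev))) → B :=
    fun i => y i - algebraMap k B (ev (y i))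
  have hxm : ∀ i, x i ∈ mx ev := fun i => sub_algebraMap_mem ev (y i)
  have hθx : ∀ i, theta ev (x i) = (bas i : B ⧸ (mx ev) ^ 2) := by
    intro i
    rw [theta_of_mem ev (hxm i), ← hy i, theta_apply]
  have hext : ∀ i, ∃ g : (B ⧸ (mx ev) ^ 2) →ₗ[k] k,
      g ∘ₗ (LinearMap.range (theta ev)).subtype = bas.coord i :=
    fun i => LinearMap.exists_extend (bas.coord i)
  choose l hl using hext
  have hlb : ∀ i (v : LinearMap.range (theta ev)), l i (v : B ⧸ (mx ev) ^ 2) = bas.coord i v := by
    intro i v
    rw [← hl i]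
    rfl
  have hDex : ∀ i, ∃ D : Derivation k B B, ∀ b, (tangentHom ev (l i) b).snd = ev (D b) :=
    fun i => H (tangentHom ev (l i)) (tangentHom_fst ev (l i))
  choose D hDs using hDex
  refine exists_mul_eq_zero_of_isNilpotent ev x D (fun i => (mem_mx ev).mp (hxm i)) ?_ ?_ ha
  · intro i j
    rw [← hDs i (x j), tangentHom_snd, hθx j, hlb, Module.Basis.coord_apply,
      Module.Basis.repr_self, Finsupp.single_apply]
    by_cases h : i = j
    · rw [if_pos h, if_pos h.symm]
    · rw [if_neg h, if_neg (Ne.symm h)]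
  · intro b hb
    have hc : ∀ i, l i (theta ev b) =
        bas.repr ⟨theta ev b, LinearMap.mem_range_self _ b⟩ i := by
      intro i
      rw [hlb i ⟨theta ev b, LinearMap.mem_range_self _ b⟩, Module.Basis.coord_apply]
    refine ⟨fun i => bas.repr ⟨theta ev b, LinearMap.mem_range_self _ b⟩ i, ?_⟩
    rw [← Ideal.Quotient.eq_zero_iff_mem, map_sub, ← theta_of_mem ev hb, map_sum, sub_eq_zero]
    have h1 : ∀ i, Ideal.Quotient.mk ((mx ev) ^ 2)
        (bas.repr ⟨theta ev b, LinearMap.mem_range_self _ b⟩ i • x i) =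
        bas.repr ⟨theta ev b, LinearMap.mem_range_self _ b⟩ i • (bas i : B ⧸ (mx ev) ^ 2) := by
      intro i
      rw [← hθx i, theta_of_mem ev (hxm i)]
      rfl
    simp only [h1]
    have h2 := bas.sum_repr ⟨theta ev b, LinearMap.mem_range_self _ b⟩
    have h3 := congrArg (fun v : LinearMap.range (theta ev) => (v : B ⧸ (mx ev) ^ 2)) h2
    simp only [Submodule.coe_sum, Submodule.coe_smul] at h3
    exact h3.symm

end Tangent

section Reduced

variable {k B : Type*} [Field k] [IsAlgClosed k] [CharZero k] [CommRing B] [Algebra k B]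
  [Algebra.FiniteType k B]

/-- **Cartier's theorem, algebraic core**: a finitely generated algebra over an algebraically
closed field of characteristic zero, all of whose tangent vectors at rational points are induced
by global derivations, is reduced. -/
theorem isReduced_of_forall_derivation
    (H : ∀ φ : B →ₐ[k] DualNumber k,
      ∃ D : Derivation k B B, ∀ b, (φ b).snd = (φ (D b)).fst) : IsReduced B := by
  have hN : IsNoetherianRing B := Algebra.FiniteType.isNoetherianRing k B
  refine ⟨fun a ha => ?_⟩
  by_contra hne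
  let J : Ideal B := LinearMap.ker (LinearMap.mulLeft B a)
  have hJ : J ≠ ⊤ := by
    intro h
    have h1 : (1 : B) ∈ J := h ▸ Submodule.mem_top
    rw [LinearMap.mem_ker, LinearMap.mulLeft_apply, mul_one] at h1
    exact hne h1
  obtain ⟨M, hM, hJM⟩ := Ideal.exists_le_maximal J hJ
  letI : Field (B ⧸ M) := Ideal.Quotient.field M
  have hft : Algebra.FiniteType k (B ⧸ M) :=
    Algebra.FiniteType.of_surjective (Ideal.Quotient.mkₐ k M) (Ideal.Quotient.mkₐ_surjective k M)
  have hfin : Module.Finite k (B ⧸ M) := finite_of_finite_type_of_isJacobsonRing k (B ⧸ M)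
  have hbij : Function.Bijective (algebraMap k (B ⧸ M)) :=
    IsAlgClosed.algebraMap_bijective_of_isIntegral
  let e : k ≃ₐ[k] (B ⧸ M) := AlgEquiv.ofBijective (Algebra.ofId k (B ⧸ M)) hbij
  let ev : B →ₐ[k] k := (e.symm : (B ⧸ M) →ₐ[k] k).comp (Ideal.Quotient.mkₐ k M)
  have hker : ∀ b, ev b = 0 ↔ b ∈ M := by
    intro b
    show e.symm (Ideal.Quotient.mk M b) = 0 ↔ _
    rw [map_eq_zero_iff _ e.symm.injective, Ideal.Quotient.eq_zero_iff_mem]
  obtain ⟨u, hu1, hu2⟩ := exists_mul_eq_zero_of_point ev (fun φ hφ => by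
    obtain ⟨D, hD⟩ := H φ
    exact ⟨D, fun b => by rw [hD b, hφ]⟩) ha
  have huJ : u ∈ J := by
    rw [LinearMap.mem_ker, LinearMap.mulLeft_apply, mul_comm]
    exact hu2
  have := (hker u).mpr (hJM huJ)
  rw [hu1] at this
  exact one_ne_zero this

end Reduced

end Groth.Agent.H42.CartierAlg
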