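import Mathlib
import Groth.Agent.H7.FlatCancel

/-!
# A local homomorphism of noetherian local rings inducing isomorphisms on all truncations
`A/m^n ≅ B/m^n` is flat (it induces an isomorphism of completions).
-/

set_option autoImplicit false

namespace Groth.Agent.H42.ComplFlat

open IsLocalRing

variable {A B : Type*} [CommRing A] [CommRing B] [IsLocalRing A] [IsLocalRing B]
  [IsNoetherianRing A] [IsNoetherianRing B]

theorem flat_of_bijective_truncations (φ : A →+* B)
    (h : ∀ n : ℕ,
      Function.Surjective ((Ideal.Quotient.mk (maximalIdeal B ^ (n + 1))).comp φ) ∧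
      ∀ a : A, φ a ∈ maximalIdeal B ^ (n + 1) ↔ a ∈ maximalIdeal A ^ (n + 1)) : φ.Flat := by
  set mA := maximalIdeal A with hmA
  set mB := maximalIdeal B with hmB
  have hsurj : ∀ j : ℕ, Function.Surjective ((Ideal.Quotient.mk (mB ^ j)).comp φ) := by
    intro j
    cases j with
    | zero =>
      intro y
      refine ⟨0, ?_⟩
      haveI : Subsingleton (B ⧸ mB ^ 0) := by
        rw [pow_zero, Ideal.one_eq_top]
        exact Ideal.Quotient.subsingleton_iff.mpr rfl
      exact Subsingleton.elim _ _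
    | succ n => exact (h n).1
  have hiff : ∀ (j : ℕ) (a : A), φ a ∈ mB ^ j ↔ a ∈ mA ^ j := by
    intro j a
    cases j with
    | zero => simp
    | succ n => exact (h n).2 a
  have hle : ∀ j : ℕ, mA ^ j ≤ (mB ^ j).comap φ := fun j a ha => (hiff j a).mpr ha
  let q : ∀ j : ℕ, (A ⧸ mA ^ j) →+* (B ⧸ mB ^ j) := fun j => Ideal.quotientMap (mB ^ j) φ (hle j)
  have hq : ∀ j (x : A), q j (Ideal.Quotient.mk _ x) = Ideal.Quotient.mk _ (φ x) := fun j x =>
    Ideal.quotientMap_mk
  have hqs : ∀ j, Function.Surjective (q j) := by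
    intro j y
    obtain ⟨a, ha⟩ := hsurj j y
    exact ⟨Ideal.Quotient.mk _ a, by rw [hq]; exact ha⟩
  have hqi : ∀ j, Function.Injective (q j) := by
    intro j
    rw [injective_iff_map_eq_zero]
    intro x hx
    obtain ⟨a, rfl⟩ := Ideal.Quotient.mk_surjective x
    rw [hq, Ideal.Quotient.eq_zero_iff_mem] at hx
    exact Ideal.Quotient.eq_zero_iff_mem.mpr ((hiff j a).mp hx)
  let e : ∀ j : ℕ, (A ⧸ mA ^ j) ≃+* (B ⧸ mB ^ j) := fun j =>
    RingEquiv.ofBijective (q j) ⟨hqi j, hqs j⟩
  have he : ∀ j x, e j x = q j x := fun j x => rfl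
  have hcompat : ∀ {i j : ℕ} (hij : i ≤ j) (x : A ⧸ mA ^ j),
      Ideal.Quotient.factorPow mB hij (q j x) = q i (Ideal.Quotient.factorPow mA hij x) := by
    intro i j hij x
    obtain ⟨a, rfl⟩ := Ideal.Quotient.mk_surjective x
    simp [hq]
  have hevalA : ∀ {i j : ℕ} (hij : i ≤ j) (x : AdicCompletion mA A),
      Ideal.Quotient.factorPow mA hij (AdicCompletion.evalₐ mA j x) =
        AdicCompletion.evalₐ mA i x := by
    intro i j hij x
    obtain ⟨c, rfl⟩ := AdicCompletion.mk_surjective mA A x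
    simp only [AdicCompletion.evalₐ_mk, Ideal.Quotient.factor_mk]
    rw [Ideal.Quotient.eq]
    have := (c.2 hij).symm
    rw [SModEq.sub_mem] at this
    simpa using this
  have hevalB : ∀ {i j : ℕ} (hij : i ≤ j) (x : AdicCompletion mB B),
      Ideal.Quotient.factorPow mB hij (AdicCompletion.evalₐ mB j x) =
        AdicCompletion.evalₐ mB i x := by
    intro i j hij x
    obtain ⟨c, rfl⟩ := AdicCompletion.mk_surjective mB B x
    simp only [AdicCompletion.evalₐ_mk, Ideal.Quotient.factor_mk]
    rw [Ideal.Quotient.eq]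
    have := (c.2 hij).symm
    rw [SModEq.sub_mem] at this
    simpa using this
  let F : ∀ j : ℕ, AdicCompletion mA A →+* B ⧸ mB ^ j :=
    fun j => ((e j : (A ⧸ mA ^ j) →+* (B ⧸ mB ^ j))).comp (AdicCompletion.evalₐ mA j).toRingHom
  let G : ∀ j : ℕ, AdicCompletion mB B →+* A ⧸ mA ^ j :=
    fun j => ((e j).symm : (B ⧸ mB ^ j) →+* (A ⧸ mA ^ j)).comp (AdicCompletion.evalₐ mB j).toRingHom
  have hF : ∀ j x, F j x = q j (AdicCompletion.evalₐ mA j x) := fun j x => rfl
  have hG : ∀ j x, G j x = (e j).symm (AdicCompletion.evalₐ mB j x) := fun j x => rfl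
  have hFc : ∀ {i j : ℕ} (hij : i ≤ j), (Ideal.Quotient.factorPow mB hij).comp (F j) = F i := by
    intro i j hij
    refine RingHom.ext fun x => ?_
    rw [RingHom.comp_apply, hF, hF, hcompat hij, hevalA hij]
  have hGc : ∀ {i j : ℕ} (hij : i ≤ j), (Ideal.Quotient.factorPow mA hij).comp (G j) = G i := by
    intro i j hij
    refine RingHom.ext fun x => ?_
    rw [RingHom.comp_apply, hG, hG]
    apply (e i).injective
    rw [RingEquiv.apply_symm_apply, he, ← hcompat hij, ← he, RingEquiv.apply_symm_apply,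
      hevalB hij]
  let Φ : AdicCompletion mA A →+* AdicCompletion mB B := AdicCompletion.liftRingHom mB F hFc
  let Ψ : AdicCompletion mB B →+* AdicCompletion mA A := AdicCompletion.liftRingHom mA G hGc
  have hΦ : ∀ j x, AdicCompletion.evalₐ mB j (Φ x) = q j (AdicCompletion.evalₐ mA j x) :=
    fun j x => (AdicCompletion.evalₐ_liftRingHom mB F hFc j x).trans (hF j x)
  have hΨ : ∀ j x, AdicCompletion.evalₐ mA j (Ψ x) = (e j).symm (AdicCompletion.evalₐ mB j x) :=
    fun j x => (AdicCompletion.evalₐ_liftRingHom mA G hGc j x).trans (hG j x)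
  have hΦΨ : ∀ x, Φ (Ψ x) = x := by
    intro x
    refine AdicCompletion.ext_evalₐ fun j => ?_
    rw [hΦ, hΨ, ← he, RingEquiv.apply_symm_apply]
  have hΨΦ : ∀ x, Ψ (Φ x) = x := by
    intro x
    refine AdicCompletion.ext_evalₐ fun j => ?_
    rw [hΨ, hΦ, ← he, RingEquiv.symm_apply_apply]
  have hbij : Function.Bijective Φ :=
    ⟨Function.LeftInverse.injective hΨΦ, Function.RightInverse.surjective hΦΨ⟩
  have hcomm : Φ.comp (algebraMap A (AdicCompletion mA A)) =
      (algebraMap B (AdicCompletion mB B)).comp φ := by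
    refine RingHom.ext fun x => ?_
    refine AdicCompletion.ext_evalₐ fun j => ?_
    rw [RingHom.comp_apply, RingHom.comp_apply, hΦ]
    change q j (AdicCompletion.evalₐ mA j (AdicCompletion.of mA A x)) =
      AdicCompletion.evalₐ mB j (AdicCompletion.of mB B (φ x))
    rw [AdicCompletion.evalₐ_of, AdicCompletion.evalₐ_of, hq]
  have hflatA : (algebraMap A (AdicCompletion mA A)).Flat := by
    rw [RingHom.flat_algebraMap_iff]
    infer_instance
  have hflatB : (algebraMap B (AdicCompletion mB B)).Flat := by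
    rw [RingHom.flat_algebraMap_iff]
    infer_instance
  have h3 : ((algebraMap B (AdicCompletion mB B)).comp φ).Flat := by
    rw [← hcomm]
    exact RingHom.Flat.comp hflatA (RingHom.Flat.of_bijective hbij)
  exact Groth.Agent.H7.RingHom.flat_of_comp_of_flat_of_isLocalHom φ
    (algebraMap B (AdicCompletion mB B)) hflatB h3

end Groth.Agent.H42.ComplFlat
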