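import Mathlib

/-!
# The constant scheme `∐_I S → S` (helper42)

`cst S I : ∐_I S ⟶ S` is étale, separated and satisfies the existence part of the valuative
criterion.
-/

set_option autoImplicit false
universe u
open CategoryTheory Limits AlgebraicGeometry MorphismProperty

namespace Groth.Agent.H42.ConstSch

variable (S : Scheme.{u}) (I : Type u)

/-- The structure morphism of the constant scheme. -/
noncomputable abbrev cst : (∐ fun _ : I => S) ⟶ S := Sigma.desc fun _ => 𝟙 S

set_option backward.isDefEq.respectTransparency.types false in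
theorem etale_cst : Etale (cst S I) :=
  IsZariskiLocalAtSource.sigmaDesc (fun _ => inferInstance)

theorem exists_mem_range (y : ↥(∐ fun _ : I => S)) :
    ∃ i : I, y ∈ Set.range (Sigma.ι (fun _ : I => S) i) := by
  obtain ⟨i, z, hz⟩ := (sigmaOpenCover (fun _ : I => S)).exists_eq y
  exact ⟨i, z, hz⟩

theorem existence_cst : ValuativeCriterion.Existence (cst S I) := by
  intro Sq
  obtain ⟨i, hi⟩ := exists_mem_range S I (Sq.i₁ (IsLocalRing.closedPoint Sq.K))
  have hrange : Set.range Sq.i₁ ⊆ Set.range (Sigma.ι (fun _ : I => S) i) := by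
    rintro _ ⟨z, rfl⟩
    rw [Subsingleton.elim z (IsLocalRing.closedPoint Sq.K)]
    exact hi
  let j := IsOpenImmersion.lift (Sigma.ι (fun _ : I => S) i) Sq.i₁ hrange
  have hj : j ≫ Sigma.ι (fun _ : I => S) i = Sq.i₁ := IsOpenImmersion.lift_fac _ _ _
  have hj2 : j = Spec.map (CommRingCat.ofHom (algebraMap Sq.R Sq.K)) ≫ Sq.i₂ := by
    rw [← Sq.commSq.w, ← hj, Category.assoc, Sigma.ι_desc, Category.comp_id]
  refine ⟨⟨⟨Sq.i₂ ≫ Sigma.ι (fun _ : I => S) i, ?_, ?_⟩⟩⟩
  · rw [← Category.assoc, ← hj2, hj]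
  · rw [Category.assoc, Sigma.ι_desc, Category.comp_id]

theorem isSeparated_cst : IsSeparated (cst S I) := by
  refine ⟨IsClosedImmersion.of_isPreimmersion _ ?_⟩
  rw [← isOpen_compl_iff, isOpen_iff_forall_mem_open]
  intro z hz
  obtain ⟨i, hi⟩ := exists_mem_range S I (pullback.fst (cst S I) (cst S I) z)
  obtain ⟨j, hj⟩ := exists_mem_range S I (pullback.snd (cst S I) (cst S I) z)
  by_cases hij : i = j
  · subst hij
    exfalso
    apply hz
    have e1 : 𝟙 S ≫ 𝟙 S = Sigma.ι (fun _ : I => S) i ≫ cst S I := by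
      rw [Sigma.ι_desc, Category.comp_id]
    have hzr : z ∈ Set.range (pullback.map (𝟙 S) (𝟙 S) (cst S I) (cst S I)
        (Sigma.ι (fun _ : I => S) i) (Sigma.ι (fun _ : I => S) i) (𝟙 S) e1 e1) := by
      rw [Scheme.Pullback.range_map]
      exact ⟨hi, hj⟩
    obtain ⟨w, rfl⟩ := hzr
    have key : pullback.map (𝟙 S) (𝟙 S) (cst S I) (cst S I)
        (Sigma.ι (fun _ : I => S) i) (Sigma.ι (fun _ : I => S) i) (𝟙 S) e1 e1 =
        pullback.fst (𝟙 S) (𝟙 S) ≫ Sigma.ι (fun _ : I => S) i ≫ pullback.diagonal (cst S I) := by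
      apply pullback.hom_ext
      · rw [pullback.lift_fst, Category.assoc, Category.assoc]
        erw [pullback.diagonal_fst]
        rw [Category.comp_id]
      · have hc : pullback.fst (𝟙 S) (𝟙 S) = pullback.snd (𝟙 S) (𝟙 S) := by
          have := pullback.condition (f := 𝟙 S) (g := 𝟙 S)
          simpa using this
        rw [pullback.lift_snd, Category.assoc, Category.assoc]
        erw [pullback.diagonal_snd]
        rw [Category.comp_id, hc]
    rw [key]
    exact ⟨_, rfl⟩
  · refine ⟨pullback.fst (cst S I) (cst S I) ⁻¹' (Set.range (Sigma.ι (fun _ : I => S) i)) ∩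
      pullback.snd (cst S I) (cst S I) ⁻¹' (Set.range (Sigma.ι (fun _ : I => S) j)), ?_, ?_,
      ⟨hi, hj⟩⟩
    · rintro _ ⟨h1, h2⟩ ⟨y, rfl⟩
      have h1' : y ∈ Set.range (Sigma.ι (fun _ : I => S) i) := by
        have : pullback.fst (cst S I) (cst S I) (pullback.diagonal (cst S I) y) = y := by
          rw [← Scheme.Hom.comp_apply, pullback.diagonal_fst]; rfl
        rw [← this]; exact h1
      have h2' : y ∈ Set.range (Sigma.ι (fun _ : I => S) j) := by
        have : pullback.snd (cst S I) (cst S I) (pullback.diagonal (cst S I) y) = y := by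
          rw [← Scheme.Hom.comp_apply, pullback.diagonal_snd]; rfl
        rw [← this]; exact h2
      have hd := disjoint_opensRange_sigmaι (fun _ : I => S) i j hij
      exact (Set.disjoint_left.mp (by simpa using
        (TopologicalSpace.Opens.coe_disjoint.mpr hd)) h1' h2')
    · exact ((Sigma.ι (fun _ : I => S) i).isOpenEmbedding.isOpen_range.preimage
        (pullback.fst (cst S I) (cst S I)).continuous).inter
        ((Sigma.ι (fun _ : I => S) j).isOpenEmbedding.isOpen_range.preimage
        (pullback.snd (cst S I) (cst S I)).continuous)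

end Groth.Agent.H42.ConstSch
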