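import Mathlib
import Groth.Prelude.Def_TwC
import Groth.Agent.H42.ConstSch

/-!
# Base change of constant schemes (helper42)

For `r : W ⟶ S'`, the base change of the constant scheme `∐_I S' ⟶ S'` along `r` is the constant
scheme `∐_I W ⟶ W`.

* `sheet r I i : W ⟶ pullback (cst S' I) r`: the `i`-th sheet; `isPullback_sheet`,
  `isOpenImmersion_sheet`, `range_sheet`.
* `isIso_desc_sheet`: the sheets make the base change a coproduct of copies of `W`.
* `bcConstIso : Red.bc r (TwC.const S' I) ≅ TwC.const W I`.
-/

set_option autoImplicit false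
universe u
open CategoryTheory Limits AlgebraicGeometry MorphismProperty

namespace Groth.Agent.H42.ConstBC

open Groth.Agent.H42 Groth.Agent.H42.ConstSch

variable {S' W : Scheme.{u}} (r : W ⟶ S') (I : Type u)

/-- the `i`-th sheet of the base change of the constant scheme -/
noncomputable def sheet (i : I) : W ⟶ pullback (cst S' I) r :=
  pullback.lift (r ≫ Sigma.ι (fun _ : I => S') i) (𝟙 W) (by
    rw [Category.assoc, Sigma.ι_desc, Category.comp_id, Category.id_comp])

@[reassoc (attr := simp)]
theorem sheet_fst (i : I) :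
    sheet r I i ≫ pullback.fst (cst S' I) r = r ≫ Sigma.ι (fun _ : I => S') i :=
  pullback.lift_fst _ _ _

@[reassoc (attr := simp)]
theorem sheet_snd (i : I) : sheet r I i ≫ pullback.snd (cst S' I) r = 𝟙 W :=
  pullback.lift_snd _ _ _

theorem isPullback_sheet (i : I) :
    IsPullback (sheet r I i) r (pullback.fst (cst S' I) r) (Sigma.ι (fun _ : I => S') i) := by
  have hright : IsPullback (pullback.fst (cst S' I) r) (pullback.snd (cst S' I) r) (cst S' I) r :=
    IsPullback.of_hasPullback _ _
  have houter : IsPullback (sheet r I i ≫ pullback.snd (cst S' I) r) r r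
      (Sigma.ι (fun _ : I => S') i ≫ cst S' I) := by
    rw [sheet_snd, Sigma.ι_desc]
    exact IsPullback.of_horiz_isIso ⟨by simp⟩
  exact IsPullback.of_right houter (sheet_fst r I i) hright.flip

instance isOpenImmersion_sheet (i : I) : IsOpenImmersion (sheet r I i) :=
  MorphismProperty.of_isPullback (P := @IsOpenImmersion) (isPullback_sheet r I i).flip inferInstance

theorem range_sheet (i : I) :
    Set.range (sheet r I i) =
      pullback.fst (cst S' I) r ⁻¹' Set.range (Sigma.ι (fun _ : I => S') i) := by
  ext z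
  constructor
  · rintro ⟨y, rfl⟩
    refine ⟨r y, ?_⟩
    rw [← Scheme.Hom.comp_apply, ← Scheme.Hom.comp_apply, sheet_fst]
  · rintro ⟨y, hy⟩
    obtain ⟨a, ha, -⟩ := Scheme.exists_preimage_of_isPullback (isPullback_sheet r I i)
      z y hy.symm
    exact ⟨a, ha⟩

open scoped Function in
theorem isIso_desc_sheet : IsIso (Sigma.desc (sheet r I)) := by
  have hcov : ⨆ i, (sheet r I i).opensRange = ⊤ := by
    rw [eq_top_iff]
    intro z _
    obtain ⟨i, hi⟩ := exists_mem_range S' I (pullback.fst (cst S' I) r z)
    have hz : z ∈ Set.range (sheet r I i) := by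
      rw [range_sheet]
      exact hi
    exact TopologicalSpace.Opens.mem_iSup.mpr ⟨i, hz⟩
  have hdisj : Pairwise (Disjoint on (sheet r I · |>.opensRange)) := by
    intro i j hij
    rw [Function.onFun_apply, disjoint_iff, eq_bot_iff]
    rintro z ⟨hzi, hzj⟩
    have hzi' : z ∈ Set.range (sheet r I i) := hzi
    have hzj' : z ∈ Set.range (sheet r I j) := hzj
    rw [range_sheet] at hzi' hzj'
    have := disjoint_opensRange_sigmaι (fun _ : I => S') i j hij
    rw [disjoint_iff, eq_bot_iff] at this
    exact this ⟨hzi', hzj'⟩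
  have h := nonempty_isColimit_cofanMk_of (sheet r I) hcov hdisj
  rwa [Cofan.nonempty_isColimit_iff_isIso_sigmaDesc] at h

theorem desc_sheet_snd :
    Sigma.desc (sheet r I) ≫ pullback.snd (cst S' I) r = cst W I := by
  refine Sigma.hom_ext _ _ (fun i => ?_)
  rw [Sigma.ι_desc_assoc, sheet_snd, Sigma.ι_desc]

/-- the base change of a constant scheme is constant -/
noncomputable def bcConstIso : Red.bc r (TwC.const S' I) ≅ TwC.const W I :=
  (CategoryTheory.Over.isoMk (f := TwC.const W I) (g := Red.bc r (TwC.const S' I))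
    (@asIso _ _ _ _ (Limits.Sigma.desc (sheet r I)) (isIso_desc_sheet r I))
    (desc_sheet_snd r I)).symm

/-- a trivialisation over `S'` induces one over every `W ⟶ S'` -/
noncomputable def transport {S : Scheme.{u}} (X : Over S) (f' : S' ⟶ S)
    (e : Red.bc f' X ≅ TwC.const S' I) : Red.bc (r ≫ f') X ≅ TwC.const W I :=
  (Over.pullbackComp r f').app X ≪≫ (Over.pullback r).mapIso e ≪≫ bcConstIso r I

theorem nonempty_transport {S : Scheme.{u}} (X : Over S) (f' : S' ⟶ S) (h : W ⟶ S)
    (hr : r ≫ f' = h) (e : Red.bc f' X ≅ TwC.const S' I) :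
    Nonempty (Red.bc h X ≅ TwC.const W I) := by
  subst hr
  exact ⟨transport r I X f' e⟩

end Groth.Agent.H42.ConstBC
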