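import Mathlib
import Groth.Agent.H40.Torsor

/-!
# Extensions `1 → G → E → P → 1` of group objects: categorical lemmas (helper42)

`hpb : IsPullback (fst E G) ((E ◁ u) ≫ μ[E]) v v` says that `E` is a pseudo-torsor over `P` under
right translations by `G` through `u`.
-/

set_option autoImplicit false
universe u v
open CategoryTheory Limits MonoidalCategory CartesianMonoidalCategory MonObj GrpObj

namespace Groth.Agent.H42.ConstExtCat

variable {C : Type u} [Category.{v} C] [CartesianMonoidalCategory C]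
variable {G E P : C} [GrpObj G] [GrpObj E] [GrpObj P] (u : G ⟶ E) (v : E ⟶ P)

/-- two points of `E` with the same image in `P` differ by a point of `G`. -/
theorem exists_eq_mul (hpb : IsPullback (fst E G) ((E ◁ u) ≫ μ[E]) v v) {T : C} (x y : T ⟶ E)
    (h : x ≫ v = y ≫ v) : ∃ g : T ⟶ G, y = x * (g ≫ u) := by
  obtain ⟨l, hl⟩ : ∃ l, l = hpb.lift x y h := ⟨_, rfl⟩
  have h1 : l ≫ fst E G = x := by rw [hl]; exact hpb.lift_fst _ _ _
  have h2 : l ≫ (E ◁ u) ≫ μ[E] = y := by rw [hl]; exact hpb.lift_snd _ _ _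
  refine ⟨l ≫ snd E G, ?_⟩
  have h3 : l = lift x (l ≫ snd E G) := by
    apply CartesianMonoidalCategory.hom_ext
    · rw [lift_fst, h1]
    · rw [lift_snd]
  rw [← h2, Hom.mul_def]
  conv_lhs => rw [h3]
  rw [← Category.assoc, lift_whiskerLeft]

/-- the kernel of `v` is `G`. -/
theorem exists_eq_comp (hpb : IsPullback (fst E G) ((E ◁ u) ≫ μ[E]) v v) [IsMonHom v] {T : C}
    (x : T ⟶ E) (h : x ≫ v = 1) : ∃ g : T ⟶ G, x = g ≫ u := by
  obtain ⟨g, hg⟩ := exists_eq_mul u v hpb (1 : T ⟶ E) x (by rw [h, MonObj.one_comp])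
  exact ⟨g, by rw [hg, _root_.one_mul]⟩

/-- uniqueness of the point of `G`. -/
theorem eq_of_mul_eq (hpb : IsPullback (fst E G) ((E ◁ u) ≫ μ[E]) v v) {T : C} (x : T ⟶ E)
    (g g' : T ⟶ G) (h : x * (g ≫ u) = x * (g' ≫ u)) : g = g' := by
  have key : lift x g = lift x g' := by
    apply hpb.hom_ext
    · rw [lift_fst, lift_fst]
    · rw [← Category.assoc, ← Category.assoc, lift_whiskerLeft, lift_whiskerLeft, ← Hom.mul_def,
        ← Hom.mul_def, h]
  have := congrArg (fun t => t ≫ snd E G) key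
  simpa using this

theorem mono_of_isPullback (hpb : IsPullback (fst E G) ((E ◁ u) ≫ μ[E]) v v) : Mono u :=
  ⟨fun {T} g g' h => eq_of_mul_eq u v hpb (1 : T ⟶ E) g g' (by rw [h])⟩

/-- the base change of `v` along `s' ≫ v` is the projection `T ⊗ G ⟶ T`. -/
theorem isPullback_section (hpb : IsPullback (fst E G) ((E ◁ u) ≫ μ[E]) v v) {T : C}
    (s' : T ⟶ E) : IsPullback ((s' ▷ G) ≫ (E ◁ u) ≫ μ[E]) (fst T G) v (s' ≫ v) :=
  (Groth.Agent.H40.isPullback_whiskerRight_fst s' G).paste_horiz hpb.flip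

/-- `u` is the base change of the unit section of `P`. -/
theorem isPullback_kernel (hpb : IsPullback (fst E G) ((E ◁ u) ≫ μ[E]) v v) [IsMonHom v] :
    IsPullback ((λ_ G).hom ≫ u) (fst (𝟙_ C) G) v η[P] := by
  have h := isPullback_section u v hpb η[E]
  have h1 : (η[E] ▷ G) ≫ (E ◁ u) ≫ μ[E] = (λ_ G).hom ≫ u := by
    rw [← Category.assoc, ← whisker_exchange, Category.assoc, MonObj.one_mul,
      leftUnitor_naturality]
  have h2 : η[E] ≫ v = η[P] := IsMonHom.one_hom v
  rw [h1, h2] at h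
  exact h

/-- a homomorphism with trivial kernel on points is a monomorphism. -/
theorem mono_of_kernel_trivial {A B : C} [GrpObj A] [GrpObj B] (w : A ⟶ B) [IsMonHom w]
    (h : ∀ (T : C) (x : T ⟶ A), x ≫ w = 1 → x = 1) : Mono w := by
  refine ⟨fun {T} x y hxy => ?_⟩
  have h1 : (x * y⁻¹) ≫ w = 1 := by
    rw [MonObj.mul_comp, GrpObj.inv_comp, hxy, mul_inv_cancel]
  have h2 := h T _ h1
  exact mul_inv_eq_one.mp h2

end Groth.Agent.H42.ConstExtCat
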