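import Mathlib
import Groth.Prelude.Def_NonAbH2
import Groth.Prelude.Def_TwC
import Groth.Agent.H42.ConstSch
import Groth.Agent.H42.ConstExtCat
import Groth.Agent.H40.FpqcTors

/-!
# Extensions by a constant group scheme: descent of properties and rigidity (helper42)
-/

set_option autoImplicit false
universe u
open CategoryTheory Limits MonoidalCategory CartesianMonoidalCategory MonObj GrpObj AlgebraicGeometry

namespace Groth.Agent.H42.ConstExtSch

open Groth.Agent.H42.ConstExtCat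

section Const

variable {S : Scheme.{u}} (M : Type u)

theorem pt_left (z : M) : (TwC.pt S M z).left = Sigma.ι (fun _ : M => S) z := rfl

/-- a morphism to the constant scheme whose range lies in the piece `z` is the constant `z`. -/
theorem eq_pt_of_range_subset {T : Over S} (c : T ⟶ TwC.const S M) (z : M)
    (h : Set.range c.left ⊆ Set.range (Sigma.ι (fun _ : M => S) z)) :
    c = toUnit T ≫ TwC.pt S M z := by
  obtain ⟨l, hl⟩ : ∃ l : T.left ⟶ S, l ≫ Sigma.ι (fun _ : M => S) z = c.left :=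
    ⟨IsOpenImmersion.lift (Sigma.ι (fun _ : M => S) z) c.left h, IsOpenImmersion.lift_fac _ _ _⟩
  have hl2 : l = T.hom := by
    have h1 := Over.w c
    have h2 : (TwC.const S M).hom = Sigma.desc fun _ : M => 𝟙 S := rfl
    rw [← h1, ← hl, Category.assoc, h2, Sigma.ι_desc, Category.comp_id]
  ext
  rw [Over.comp_left, pt_left, ← hl, hl2, Over.toUnit_left]

theorem range_subset_of_eq_pt {T : Over S} (c : T ⟶ TwC.const S M) (z : M)
    (h : c = toUnit T ≫ TwC.pt S M z) :
    Set.range c.left ⊆ Set.range (Sigma.ι (fun _ : M => S) z) := by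
  rintro _ ⟨t, rfl⟩
  rw [h, Over.comp_left, pt_left]
  exact ⟨_, rfl⟩

variable {M} in
theorem unit_eq_pt_one [Group M] (G : Over S) [GrpObj G] (e : G ≅ TwC.const S M)
    (h : TwC.IsConstGrp M G e) : η[G] = TwC.pt S M 1 ≫ e.inv := by
  have h1 := h 1 1
  rw [_root_.mul_one] at h1
  have h2 : TwC.pt S M 1 ≫ e.inv = 1 := by
    have := mul_eq_left (a := TwC.pt S M 1 ≫ e.inv) (b := TwC.pt S M 1 ≫ e.inv)
    exact this.mp h1
  rw [h2, Hom.one_def]
  have : toUnit (𝟙_ (Over S)) = 𝟙 _ := Subsingleton.elim _ _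
  rw [this, Category.id_comp]

end Const

section Descent

variable {S : Scheme.{u}} {G E P : Over S} [GrpObj G] [GrpObj E] [GrpObj P] (u : G ⟶ E) (v : E ⟶ P)

/-- In an extension `1 → G → E → P → 1`, `E ⟶ P` inherits the properties of `G ⟶ S` which descend
along fpqc coverings. -/
theorem prop_of_isExactSeq (Q : MorphismProperty Scheme.{u}) [IsZariskiLocalAtTarget Q]
    [Q.IsStableUnderBaseChange]
    (hQ : Q.DescendsAlong (@Surjective ⊓ @Flat ⊓ @QuasiCompact : MorphismProperty Scheme.{u}))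
    (hpb : IsPullback (fst E G) ((E ◁ u) ≫ μ[E]) v v)
    (hloc : NonAbH1.IsLocallyTrivialFor Scheme.fppfPrecoverage (Over.mk v.left : Over P.left))
    (hG : Q G.hom) : Q v.left := by
  obtain ⟨R, hR, hsec⟩ := hloc
  have hR' : R ∈ Scheme.fpqcPrecoverage P.left := Scheme.fppfPrecoverage_le_fpqcPrecoverage _ hR
  refine Groth.Agent.H40.prop_hom_of_fpqc_family Q hQ (Over.mk v.left) hR' ?_
  intro S' g hg
  obtain ⟨s, hs⟩ := hsec g hg
  have hs' : s ≫ v.left = g := hs
  obtain ⟨s', hs'l⟩ : ∃ s' : Over.mk (g ≫ P.hom) ⟶ E, s'.left = s :=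
    ⟨Over.homMk s (by rw [← hs', Category.assoc, Over.w v]; rfl), rfl⟩
  have hleft : (s' ≫ v).left = g := by rw [Over.comp_left, hs'l, hs']
  have hpb' : IsPullback ((s' ▷ G) ≫ (E ◁ u) ≫ μ[E]).left (fst (Over.mk (g ≫ P.hom)) G).left
      v.left g := by
    have h0 : IsPullback ((s' ▷ G) ≫ (E ◁ u) ≫ μ[E]).left (fst (Over.mk (g ≫ P.hom)) G).left
        v.left (s' ≫ v).left := (isPullback_section u v hpb s').map (Over.forget S)
    rw [hleft] at h0
    exact h0
  have hfst : Q (fst (Over.mk (g ≫ P.hom)) G).left := by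
    rw [Over.fst_left]
    exact Q.pullback_fst _ _ hG
  change Q (pullback.snd v.left g)
  have e := hpb'.isoPullback_hom_snd
  rw [← (Q.cancel_left_of_respectsIso hpb'.isoPullback.hom), e]
  exact hfst

set_option backward.isDefEq.respectTransparency.types false in
/-- In an extension `1 → G → E → P → 1` with `G` étale, `E ⟶ P` is étale. -/
theorem etale_of_isExactSeq (hpb : IsPullback (fst E G) ((E ◁ u) ≫ μ[E]) v v)
    (hloc : NonAbH1.IsLocallyTrivialFor Scheme.fppfPrecoverage (Over.mk v.left : Over P.left))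
    (hG : Etale G.hom) : Etale v.left :=
  prop_of_isExactSeq u v @Etale inferInstance hpb hloc hG

theorem surjective_of_isLocallyTrivialFor
    (hloc : NonAbH1.IsLocallyTrivialFor Scheme.fppfPrecoverage (Over.mk v.left : Over P.left)) :
    Function.Surjective v.left := by
  obtain ⟨R, hR, hsec⟩ := hloc
  intro p
  have : Scheme.JointlySurjective Scheme.fppfPrecoverage.{u} := by
    unfold Scheme.fppfPrecoverage; infer_instance
  obtain ⟨Y, g, hg, y, hy⟩ := Scheme.JointlySurjective.exists_eq R hR p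
  obtain ⟨s, hs⟩ := hsec g hg
  have hs' : s ≫ v.left = g := hs
  refine ⟨s y, ?_⟩
  rw [← Scheme.Hom.comp_apply, hs', hy]

end Descent

section Rigid

variable {S : Scheme.{u}} {M : Type u} [Group M] {G E P : Over S} [GrpObj G] [GrpObj E] [GrpObj P]
  (eG : G ≅ TwC.const S M) (hG : TwC.IsConstGrp M G eG) (u : G ⟶ E) (v : E ⟶ P)

include hG in
/-- a point of `G` is trivial iff it lands in the piece `1`. -/
theorem eq_one_iff {T : Over S} (g : T ⟶ G) :
    g = 1 ↔ Set.range (g ≫ eG.hom).left ⊆ Set.range (Sigma.ι (fun _ : M => S) 1) := by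
  have hη := unit_eq_pt_one G eG hG
  constructor
  · intro h
    apply range_subset_of_eq_pt
    rw [h, Hom.one_def, hη, Category.assoc, Category.assoc, Iso.inv_hom_id, Category.comp_id]
  · intro h
    have h1 := eq_pt_of_range_subset M (g ≫ eG.hom) 1 h
    have h2 : g = (g ≫ eG.hom) ≫ eG.inv := by rw [Category.assoc, Iso.hom_inv_id, Category.comp_id]
    rw [h2, h1, Category.assoc, ← hη, Hom.one_def]

include hG in
/-- Rigidity: an endomorphism of the extension inducing the identity on `G` and `P` is the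
identity, when `P` is connected and `E ⟶ P` is open and surjective. -/
theorem rigid [IsMonHom u] [IsMonHom v]
    (hpb : IsPullback (fst E G) ((E ◁ u) ≫ μ[E]) v v)
    (hopen : IsOpenMap v.left) (hsurj : Function.Surjective v.left) [ConnectedSpace ↥P.left]
    (φ : E ⟶ E) [IsMonHom φ] (h1 : u ≫ φ = u) (h2 : φ ≫ v = v) : φ = 𝟙 E := by
  obtain ⟨δ, hδ⟩ := exists_eq_mul u v hpb (𝟙 E) φ (by rw [Category.id_comp, h2])
  have hφ : ∀ {T : Over S} (e : T ⟶ E), e ≫ φ = e * ((e ≫ δ) ≫ u) := by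
    intro T e
    rw [hδ, MonObj.comp_mul, Category.comp_id, Category.assoc]
  have key : ∀ {T : Over S} (e : T ⟶ E) (g : T ⟶ G),
      (e * (g ≫ u)) ≫ δ = g⁻¹ * (e ≫ δ) * g := by
    intro T e g
    apply eq_of_mul_eq u v hpb (e * (g ≫ u))
    rw [← hφ, MonObj.mul_comp, hφ e, Category.assoc g u φ, h1, MonObj.mul_comp, MonObj.mul_comp,
      GrpObj.inv_comp]
    group
  -- the open set where δ is trivial
  obtain ⟨c, hc⟩ : ∃ c : E ⟶ TwC.const S M, c = δ ≫ eG.hom := ⟨_, rfl⟩
  set U₁ : Set ↥E.left := c.left ⁻¹' Set.range (Sigma.ι (fun _ : M => S) 1) with hU₁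
  have hU₁open : IsOpen U₁ :=
    (Scheme.Hom.isOpenEmbedding (Sigma.ι (fun _ : M => S) 1)).isOpen_range.preimage
      c.left.continuous
  have hU₁c : IsOpen U₁ᶜ := by
    have : U₁ᶜ = ⋃ z : {z : M // z ≠ 1},
        c.left ⁻¹' Set.range (Sigma.ι (fun _ : M => S) z.1) := by
      ext x
      simp only [Set.mem_compl_iff, Set.mem_iUnion, Set.mem_preimage, hU₁]
      constructor
      · intro hx
        obtain ⟨z, hz⟩ := ConstSch.exists_mem_range S M (c.left x)
        refine ⟨⟨z, ?_⟩, hz⟩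
        rintro rfl
        exact hx hz
      · rintro ⟨⟨z, hz⟩, hx⟩ hx1
        have := (disjoint_opensRange_sigmaι (fun _ : M => S) z 1 hz).le_bot
        exact this ⟨hx, hx1⟩
    rw [this]
    exact isOpen_iUnion fun z =>
      (Scheme.Hom.isOpenEmbedding (Sigma.ι (fun _ : M => S) z.1)).isOpen_range.preimage
        c.left.continuous
  have hL1 : ∀ {T : Over S} (a : T ⟶ E), a ≫ δ = 1 ↔ Set.range a.left ⊆ U₁ := by
    intro T a
    rw [eq_one_iff eG hG, Category.assoc, ← hc, Over.comp_left]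
    constructor
    · rintro h _ ⟨t, rfl⟩
      exact h ⟨t, rfl⟩
    · rintro h _ ⟨t, rfl⟩
      exact h ⟨t, rfl⟩
  -- saturation
  have hsat : ∀ x y : ↥E.left, x ∈ U₁ → v.left x = v.left y → y ∈ U₁ := by
    intro x y hx hxy
    obtain ⟨w, hw1, hw2⟩ := Scheme.Pullback.exists_preimage_pullback x y hxy
    have hpbS : IsPullback (fst E G).left ((E ◁ u) ≫ μ[E]).left v.left v.left :=
      hpb.map (Over.forget S)
    obtain ⟨w', hw'⟩ : ∃ w' : ↥(E ⊗ G).left, hpbS.isoPullback.hom w' = w :=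
      ⟨hpbS.isoPullback.inv w, by rw [← Scheme.Hom.comp_apply, Iso.inv_hom_id]; rfl⟩
    have hw'1 : (fst E G).left w' = x := by
      rw [← hw1, ← hw', ← Scheme.Hom.comp_apply, hpbS.isoPullback_hom_fst]
    have hw'2 : ((E ◁ u) ≫ μ[E]).left w' = y := by
      rw [← hw2, ← hw', ← Scheme.Hom.comp_apply, hpbS.isoPullback_hom_snd]
    let T' : (E ⊗ G).left.Opens := (fst E G).left ⁻¹ᵁ ⟨U₁, hU₁open⟩
    obtain ⟨j, hj⟩ : ∃ j : Over.mk (T'.ι ≫ (E ⊗ G).hom) ⟶ E ⊗ G, j.left = T'.ι :=
      ⟨Over.homMk T'.ι rfl, rfl⟩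
    have he : (j ≫ fst E G) ≫ δ = 1 := by
      rw [hL1]
      rintro _ ⟨t, rfl⟩
      rw [Over.comp_left, hj, Scheme.Hom.comp_apply]
      exact t.2
    have h3 := key (j ≫ fst E G) (j ≫ snd E G)
    rw [he, _root_.mul_one, inv_mul_cancel, hL1] at h3
    have h4 : (j ≫ fst E G) * ((j ≫ snd E G) ≫ u) = j ≫ (E ◁ u) ≫ μ[E] := by
      rw [Hom.mul_def, ← lift_whiskerLeft, Category.assoc, ← comp_lift, lift_fst_snd,
        Category.comp_id]
    rw [h4] at h3
    have hw'T : w' ∈ T' := by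
      change (fst E G).left w' ∈ U₁
      rw [hw'1]; exact hx
    rw [← hw'2]
    apply h3
    obtain ⟨t, ht⟩ : ∃ t : ↥(T' : Scheme.{u}), T'.ι t = w' := by
      have : w' ∈ Set.range T'.ι := by rw [Scheme.Opens.range_ι]; exact hw'T
      exact this
    refine ⟨t, ?_⟩
    rw [Over.comp_left, hj, Scheme.Hom.comp_apply, ht]
  -- connectedness
  have hU₁univ : U₁ = Set.univ := by
    by_contra hne
    have hne' : U₁ᶜ.Nonempty := by
      rw [Set.nonempty_compl]; exact hne
    obtain ⟨y, hy⟩ := hne'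
    have hnonempty : U₁.Nonempty := by
      obtain ⟨p⟩ : Nonempty ↥P.left := inferInstance
      have hη : (η[E] : 𝟙_ (Over S) ⟶ E) ≫ δ = 1 := by
        apply eq_of_mul_eq u v hpb η[E]
        rw [← hφ, IsMonHom.one_hom, MonObj.one_comp, _root_.mul_one]
      rw [hL1] at hη
      exact ⟨_, hη ⟨P.hom p, rfl⟩⟩
    obtain ⟨x, hx⟩ := hnonempty
    have hpre := (isPreconnected_univ (α := ↥P.left)) (v.left '' U₁) (v.left '' U₁ᶜ)
      (hopen _ hU₁open) (hopen _ hU₁c)
      (by
        intro p _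
        obtain ⟨e, rfl⟩ := hsurj p
        by_cases he : e ∈ U₁
        · exact Or.inl ⟨e, he, rfl⟩
        · exact Or.inr ⟨e, he, rfl⟩)
      ⟨v.left x, Set.mem_univ _, x, hx, rfl⟩ ⟨v.left y, Set.mem_univ _, y, hy, rfl⟩
    obtain ⟨p, -, ⟨a, ha, rfl⟩, ⟨b, hb, hab⟩⟩ := hpre
    exact hb (hsat a b ha hab.symm)
  have hδ1 : δ = 1 := by
    have := (hL1 (𝟙 E)).mpr (by rw [hU₁univ]; exact Set.subset_univ _)
    rwa [Category.id_comp] at this
  rw [hδ, hδ1, MonObj.one_comp, _root_.mul_one]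

end Rigid

end Groth.Agent.H42.ConstExtSch
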