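import Mathlib
import Groth.Agent.H42.ConstExtSch
import Groth.Agent.H38.GrpConnComp
import Groth.Agent.H90.GrpFlatIso

/-!
# Extensions of a connected group scheme over a field by a torsion-free constant group split
(helper42)
-/

set_option autoImplicit false
universe u
open CategoryTheory Limits MonoidalCategory CartesianMonoidalCategory MonObj GrpObj AlgebraicGeometry

namespace Groth.Agent.H42.ConstExtSplit

open Groth.Agent.H42.ConstExtCat Groth.Agent.H42.ConstExtSch

/-- a finite subset of a torsion-free group which is stable under multiplication is trivial. -/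
theorem eq_one_of_finite_of_mul_mem {Z : Type*} [Group Z] (hZ : ∀ z : Z, IsOfFinOrder z → z = 1)
    (A : Set Z) (hfin : A.Finite) (hmul : ∀ a ∈ A, ∀ b ∈ A, a * b ∈ A) : ∀ z ∈ A, z = 1 := by
  intro z hz
  apply hZ
  have hpow : ∀ n : ℕ, z ^ (n + 1) ∈ A := by
    intro n
    induction n with
    | zero => simpa using hz
    | succ n ih => rw [pow_succ]; exact hmul _ ih _ hz
  obtain ⟨a, b, hab, heq⟩ :=
    hfin.exists_lt_map_eq_of_forall_mem (f := fun n : ℕ => z ^ (n + 1)) hpow
  rw [isOfFinOrder_iff_pow_eq_one]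
  refine ⟨b - a, Nat.sub_pos_of_lt hab, ?_⟩
  have h1 : z ^ (b + 1) = z ^ (a + 1) * z ^ (b - a) := by
    rw [← pow_add]; congr 1; omega
  have h2 : z ^ (a + 1) = z ^ (a + 1) * z ^ (b - a) := by
    rw [← h1]; exact heq
  exact (mul_eq_left.mp h2.symm)

section Tr

variable {S : Scheme.{u}} {X : Over S} [GrpObj X]

/-- left translation by a section. -/
noncomputable def tr (g : 𝟙_ (Over S) ⟶ X) : X ⟶ X := (toUnit X ≫ g) * 𝟙 X

lemma comp_tr {T : Over S} (t : T ⟶ X) (g : 𝟙_ (Over S) ⟶ X) :
    t ≫ tr g = (toUnit T ≫ g) * t := by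
  rw [tr, MonObj.comp_mul, Category.comp_id, ← Category.assoc]
  congr 2
  exact Subsingleton.elim _ _

lemma pt_comp_tr (a g : 𝟙_ (Over S) ⟶ X) : a ≫ tr g = g * a := by
  rw [comp_tr]
  have : toUnit (𝟙_ (Over S)) = 𝟙 _ := Subsingleton.elim _ _
  rw [this, Category.id_comp]

end Tr

section Main

variable {k : Type u} [Field k] {Z : Type u} [Group Z]
  {P E G : Over (Spec (CommRingCat.of k))} [GrpObj P] [GrpObj E] [GrpObj G]
  (eG : G ≅ TwC.const (Spec (CommRingCat.of k)) Z) (u : G ⟶ E) (v : E ⟶ P)

/-- the rational point of `E` of index `z`. -/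
noncomputable def apt (z : Z) : 𝟙_ (Over (Spec (CommRingCat.of k))) ⟶ E :=
  TwC.pt (Spec (CommRingCat.of k)) Z z ≫ eG.inv ≫ u

lemma apt_mul (hG : TwC.IsConstGrp Z G eG) [IsMonHom u] (z z' : Z) :
    apt eG u (z * z') = apt eG u z * apt eG u z' := by
  unfold apt
  rw [← Category.assoc, ← hG z z', MonObj.mul_comp, Category.assoc, Category.assoc]

lemma apt_one (hG : TwC.IsConstGrp Z G eG) [IsMonHom u] : apt eG u (1 : Z) = 1 := by
  unfold apt
  rw [← Category.assoc, ← unit_eq_pt_one G eG hG, IsMonHom.one_hom, Hom.one_def]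
  have : toUnit (𝟙_ (Over (Spec (CommRingCat.of k)))) = 𝟙 _ := Subsingleton.elim _ _
  rw [this, Category.id_comp]

lemma eq_closedPoint (s : ↥(Spec (CommRingCat.of k))) : s = IsLocalRing.closedPoint k :=
  @Subsingleton.elim _ (inferInstanceAs (Subsingleton (PrimeSpectrum k))) _ _

variable (k) in
/-- the point of `Spec k`, as a point of the unit object. -/
noncomputable def cpt : ↥(𝟙_ (Over (Spec (CommRingCat.of k)))).left := IsLocalRing.closedPoint k

/-- the point of `E` of index `z`. -/
noncomputable def ppt (z : Z) : ↥E.left := (apt eG u z).left (cpt k)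

open Groth.Agent.H38.GrpComp in
lemma ppt_one (hG : TwC.IsConstGrp Z G eG) [IsMonHom u] : ppt eG u (1 : Z) = unitPt k E := by
  unfold ppt
  rw [apt_one eG u hG, Hom.one_def]
  have : toUnit (𝟙_ (Over (Spec (CommRingCat.of k)))) = 𝟙 _ := Subsingleton.elim _ _
  rw [this, Category.id_comp]
  rfl

open Groth.Agent.H38.GrpComp in
/-- the set of indices whose point lies in the identity component is stable under products. -/
lemma ppt_mul_mem (hG : TwC.IsConstGrp Z G eG) [IsMonHom u] (z z' : Z)
    (hz : ppt eG u z ∈ connectedComponent (unitPt k E))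
    (hz' : ppt eG u z' ∈ connectedComponent (unitPt k E)) :
    ppt eG u (z * z') ∈ connectedComponent (unitPt k E) := by
  have h1 : ppt eG u (z * z') = (tr (apt eG u z)).left (ppt eG u z') := by
    unfold ppt
    rw [apt_mul eG u hG, ← pt_comp_tr, Over.comp_left, Scheme.Hom.comp_apply]
  have h2 : (tr (apt eG u z)).left (unitPt k E) = ppt eG u z := by
    rw [← ppt_one eG u hG]
    unfold ppt
    rw [← Scheme.Hom.comp_apply, ← Over.comp_left, pt_comp_tr, apt_one eG u hG, _root_.mul_one]
  have h3 : (tr (apt eG u z)).left '' connectedComponent (unitPt k E) ⊆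
      connectedComponent (ppt eG u z) := by
    apply IsPreconnected.subset_connectedComponent
    · exact isPreconnected_connectedComponent.image _
        (tr (apt eG u z)).left.continuous.continuousOn
    · exact ⟨_, mem_connectedComponent, h2⟩
  rw [← connectedComponent_eq hz] at h3
  rw [h1]
  exact h3 ⟨_, hz', rfl⟩

/-- `u` is a closed immersion. -/
lemma isClosedImmersion_u [IsMonHom v] (hpb : IsPullback (fst E G) ((E ◁ u) ≫ μ[E]) v v) :
    IsClosedImmersion u.left := by
  have hk : IsPullback (fst (𝟙_ (Over (Spec (CommRingCat.of k)))) G).left ((λ_ G).hom ≫ u).left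
      η[P].left v.left := (isPullback_kernel u v hpb).flip.map (Over.forget _)
  have hη : IsClosedImmersion η[P].left :=
    (Groth.Agent.H90.separated_iff_unit _ P).1.mp (Groth.Agent.H90.isSeparated_of_field k P)
  have h1 : IsClosedImmersion ((λ_ G).hom ≫ u).left :=
    MorphismProperty.of_isPullback (P := @IsClosedImmersion) hk hη
  have h2 : u.left = (λ_ G).inv.left ≫ ((λ_ G).hom ≫ u).left := by
    rw [← Over.comp_left, Iso.inv_hom_id_assoc]
  have : IsIso (λ_ G).inv.left := inferInstanceAs (IsIso ((Over.forget _).map (λ_ G).inv))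
  rw [h2]
  infer_instance

/-- only finitely many of the points `ppt z` lie in a given compact set. -/
lemma finite_setOf_ppt_mem [IsClosedImmersion u.left] (K : Set ↥E.left) (hK : IsCompact K) :
    {z : Z | ppt eG u z ∈ K}.Finite := by
  have hA : IsCompact (u.left ⁻¹' K) := u.left.isClosedEmbedding.isCompact_preimage hK
  obtain ⟨t, ht⟩ := hA.elim_finite_subcover
    (fun z : Z => eG.hom.left ⁻¹' Set.range (Sigma.ι (fun _ : Z => Spec (CommRingCat.of k)) z))
    (fun z => (Scheme.Hom.isOpenEmbedding
      (Sigma.ι (fun _ : Z => Spec (CommRingCat.of k)) z)).isOpen_range.preimage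
        eG.hom.left.continuous)
    (fun x _ => by
      obtain ⟨z, hz⟩ := ConstSch.exists_mem_range _ Z (eG.hom.left x)
      exact Set.mem_iUnion.mpr ⟨z, hz⟩)
  refine (t.finite_toSet).subset ?_
  intro z hz
  have hq : (TwC.pt _ Z z ≫ eG.inv).left (cpt k) ∈ u.left ⁻¹' K := by
    change u.left _ ∈ K
    rw [← Scheme.Hom.comp_apply, ← Over.comp_left, Category.assoc]
    exact hz
  have h0 := ht hq
  simp only [Set.mem_iUnion] at h0
  obtain ⟨z', hz't, hz'⟩ := h0
  have h1 : eG.hom.left ((TwC.pt _ Z z ≫ eG.inv).left (cpt k)) =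
      Sigma.ι (fun _ : Z => Spec (CommRingCat.of k)) z (cpt k) := by
    rw [← Scheme.Hom.comp_apply, ← Over.comp_left, Category.assoc, Iso.inv_hom_id,
      Category.comp_id]
    rfl
  obtain ⟨y, hy⟩ := hz'
  rw [h1] at hy
  have h2 := (sigmaι_eq_iff _ _ _ _ _).mp hy
  have h3 : z' = z := congrArg Sigma.fst h2
  rw [← h3]
  exact hz't

open Groth.Agent.H38.GrpComp in
/-- An extension of a connected group scheme locally of finite type over a field by a torsion-free
constant group splits. -/
theorem exists_splitting (hZ : ∀ z : Z, IsOfFinOrder z → z = 1) (hG : TwC.IsConstGrp Z G eG)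
    [LocallyOfFiniteType P.hom] [ConnectedSpace ↥P.left] [IsMonHom u] [IsMonHom v]
    (hpb : IsPullback (fst E G) ((E ◁ u) ≫ μ[E]) v v) [Etale v.left]
    (hsurj : Function.Surjective v.left) :
    ∃ s : P ⟶ E, IsMonHom s ∧ s ≫ v = 𝟙 P := by
  obtain ⟨G₀, instG₀, incl, hincl, hci, hflat, hrange, -, hcompact⟩ :=
    Groth.Agent.H38.GrpConnComp.exists_identityComponent k E
  have hElft : LocallyOfFiniteType E.hom := by
    rw [← Over.w v]; infer_instance
  have hEnoeth : IsLocallyNoetherian E.left := LocallyOfFiniteType.isLocallyNoetherian E.hom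
  have hPnoeth : IsLocallyNoetherian P.left := LocallyOfFiniteType.isLocallyNoetherian P.hom
  have hucl : IsClosedImmersion u.left := isClosedImmersion_u u v hpb
  -- the indices in the identity component
  have hZ' : ∀ z : Z, ppt eG u z ∈ connectedComponent (unitPt k E) → z = 1 :=
    eq_one_of_finite_of_mul_mem hZ {z : Z | ppt eG u z ∈ connectedComponent (unitPt k E)}
      (finite_setOf_ppt_mem eG u _ (by
        rw [← hrange]
        exact isCompact_range incl.left.continuous))
      (fun a ha b hb => ppt_mul_mem eG u hG a b ha hb)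
  obtain ⟨w, hw⟩ : ∃ w : G₀ ⟶ P, w = incl ≫ v := ⟨_, rfl⟩
  have hwl : w.left = incl.left ≫ v.left := by rw [hw, Over.comp_left]
  have hwhom : IsMonHom w := by rw [hw]; infer_instance
  have hwflat : Flat w.left := by rw [hwl]; infer_instance
  have hwlfp : LocallyOfFinitePresentation w.left := by rw [hwl]; infer_instance
  -- mono
  have hmono : Mono w := by
    apply mono_of_kernel_trivial
    intro T x hx
    rw [hw, ← Category.assoc] at hx
    obtain ⟨g, hg⟩ := exists_eq_comp u v hpb (x ≫ incl) hx
    have hg1 : g = 1 := by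
      rw [eq_one_iff eG hG]
      rintro _ ⟨t, rfl⟩
      obtain ⟨z, y, hy⟩ := ConstSch.exists_mem_range _ Z ((g ≫ eG.hom).left t)
      have hyc : y = cpt k := eq_closedPoint y
      have hgt : g.left t = (TwC.pt _ Z z ≫ eG.inv).left (cpt k) := by
        have h1 : g.left t = eG.inv.left ((g ≫ eG.hom).left t) := by
          rw [← Scheme.Hom.comp_apply, ← Over.comp_left, Category.assoc, Iso.hom_inv_id,
            Category.comp_id]
        rw [h1, ← hy, hyc, Over.comp_left, Scheme.Hom.comp_apply]
        rfl
      have hz : ppt eG u z ∈ connectedComponent (unitPt k E) := by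
        rw [← hrange]
        refine ⟨x.left t, ?_⟩
        rw [← Scheme.Hom.comp_apply, ← Over.comp_left, hg, Over.comp_left, Scheme.Hom.comp_apply,
          hgt]
        unfold ppt apt
        rw [← Scheme.Hom.comp_apply, ← Over.comp_left, Category.assoc]
      have hz1 := hZ' z hz
      rw [← hy, hz1]
      exact ⟨y, rfl⟩
    have hmonoincl : Mono incl := by
      have : Mono incl.left := inferInstance
      exact (Over.forget _).mono_of_mono_map this
    rw [hg1, MonObj.one_comp] at hg
    rw [← cancel_mono incl, hg, MonObj.one_comp]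
  have hmonol : Mono w.left := inferInstanceAs (Mono ((Over.forget _).map w))
  -- surjective
  have hqc : QuasiCompact G₀.hom := (quasiCompact_iff_compactSpace G₀.hom).mpr hcompact
  have hqcw : QuasiCompact w.left := Groth.Agent.H90.quasiCompact_hom_of_field k G₀ P w
  have hirr : IrreducibleSpace ↥P.left :=
    Groth.Agent.H38.GrpConnIrr.irreducibleSpace_of_connectedSpace k P
  have hdense : DenseRange w.left := by
    have hopen : IsOpen (Set.range w.left) := w.left.isOpenMap.isOpen_range
    exact hopen.dense ⟨_, ⟨unitPt k G₀, rfl⟩⟩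
  have hsurjw : Surjective w.left :=
    ⟨Groth.Agent.H90.surjective_of_quasiCompact_dominant k G₀ P w hdense⟩
  have hiso : IsIso w.left := Flat.isIso_of_surjective_of_mono w.left
  have hiso' : IsIso w := by
    have : IsIso ((Over.forget _).map w) := hiso
    exact isIso_of_reflects_iso w (Over.forget _)
  refine ⟨inv w ≫ incl, ?_, ?_⟩
  · have h1 : IsMonHom (asIso w).hom := hwhom
    have h2 : IsMonHom (asIso w).inv := inferInstance
    have h3 : IsMonHom (inv w) := h2
    infer_instance
  · rw [Category.assoc, ← hw, IsIso.inv_hom_id]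

end Main

end Groth.Agent.H42.ConstExtSplit
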