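import Mathlib
import Groth.Agent.H42.ConstExtSplit

/-!
# Rigidity of commutative extensions of a finite type group by a torsion-free constant group
(helper42)
-/

set_option autoImplicit false
universe u
open CategoryTheory Limits MonoidalCategory CartesianMonoidalCategory MonObj GrpObj AlgebraicGeometry

namespace Groth.Agent.H42.ConstExtRigidComm

open Groth.Agent.H42.ConstExtCat Groth.Agent.H42.ConstExtSch Groth.Agent.H42.ConstExtSplit

section

variable {S : Scheme.{u}} {M : Type u} {G : Over S} (eG : G ≅ TwC.const S M)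

/-- a point of `G ≅ M_S` is the constant `z` iff it lands in the piece `z`. -/
theorem eq_pt_iff {T : Over S} (g : T ⟶ G) (z : M) :
    g = toUnit T ≫ TwC.pt S M z ≫ eG.inv ↔
      Set.range (g ≫ eG.hom).left ⊆ Set.range (Sigma.ι (fun _ : M => S) z) := by
  constructor
  · intro h
    apply range_subset_of_eq_pt
    rw [h, Category.assoc, Category.assoc, Iso.inv_hom_id, Category.comp_id]
  · intro h
    have h1 := eq_pt_of_range_subset M (g ≫ eG.hom) z h
    have h2 : g = (g ≫ eG.hom) ≫ eG.inv := by rw [Category.assoc, Iso.hom_inv_id, Category.comp_id]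
    rw [h2, h1, Category.assoc]

end

section Main

variable {k : Type u} [Field k] {Z : Type u} [CommGroup Z]
  {P E G : Over (Spec (CommRingCat.of k))} [GrpObj P] [GrpObj E] [GrpObj G]
  (eG : G ≅ TwC.const (Spec (CommRingCat.of k)) Z) (u : G ⟶ E) (v : E ⟶ P)

/-- Rigidity of a commutative extension of a quasi-compact group by a torsion-free constant
group. -/
theorem rigid_comm (hZ : ∀ z : Z, IsOfFinOrder z → z = 1) (hG : TwC.IsConstGrp Z G eG)
    [IsCommMonObj E] [CompactSpace ↥P.left] [IsMonHom u] [IsMonHom v]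
    (hpb : IsPullback (fst E G) ((E ◁ u) ≫ μ[E]) v v)
    (hopen : IsOpenMap v.left) (hsurj : Function.Surjective v.left)
    (φ : E ⟶ E) [IsMonHom φ] (h1 : u ≫ φ = u) (h2 : φ ≫ v = v) : φ = 𝟙 E := by
  obtain ⟨δ, hδ⟩ := exists_eq_mul u v hpb (𝟙 E) φ (by rw [Category.id_comp, h2])
  have hφ : ∀ {T : Over (Spec (CommRingCat.of k))} (e : T ⟶ E), e ≫ φ = e * ((e ≫ δ) ≫ u) := by
    intro T e
    rw [hδ, MonObj.comp_mul, Category.comp_id, Category.assoc]
  have hcomm : ∀ {T : Over (Spec (CommRingCat.of k))} (a b : T ⟶ E), a * b = b * a := by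
    intro T a b
    exact mul_comm a b
  have hδmul : ∀ {T : Over (Spec (CommRingCat.of k))} (e e' : T ⟶ E),
      (e * e') ≫ δ = (e ≫ δ) * (e' ≫ δ) := by
    intro T e e'
    apply eq_of_mul_eq u v hpb (e * e')
    rw [← hφ, MonObj.mul_comp, hφ e, hφ e', MonObj.mul_comp]
    rw [_root_.mul_assoc, _root_.mul_assoc, ← _root_.mul_assoc ((e ≫ δ) ≫ u),
      hcomm ((e ≫ δ) ≫ u) e', _root_.mul_assoc]
  have hδu : ∀ {T : Over (Spec (CommRingCat.of k))} (g : T ⟶ G), (g ≫ u) ≫ δ = 1 := by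
    intro T g
    apply eq_of_mul_eq u v hpb (g ≫ u)
    rw [← hφ, Category.assoc, h1, MonObj.one_comp, _root_.mul_one]
  obtain ⟨c, hc⟩ : ∃ c : E ⟶ TwC.const (Spec (CommRingCat.of k)) Z, c = δ ≫ eG.hom := ⟨_, rfl⟩
  obtain ⟨Ez, hEz⟩ : ∃ Ez : Z → Set ↥E.left, Ez = fun z =>
      c.left ⁻¹' Set.range (Sigma.ι (fun _ : Z => Spec (CommRingCat.of k)) z) := ⟨_, rfl⟩
  have hEzopen : ∀ z, IsOpen (Ez z) := by
    intro z
    rw [hEz]
    exact (Scheme.Hom.isOpenEmbedding _).isOpen_range.preimage c.left.continuous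
  have hEzcover : ∀ x, ∃ z, x ∈ Ez z := by
    intro x
    rw [hEz]
    exact ConstSch.exists_mem_range _ Z (c.left x)
  have hEzdisj : ∀ z z' x, x ∈ Ez z → x ∈ Ez z' → z = z' := by
    intro z z' x hx hx'
    rw [hEz] at hx hx'
    by_contra hne
    exact (disjoint_opensRange_sigmaι (fun _ : Z => Spec (CommRingCat.of k)) z z' hne).le_bot
      ⟨hx, hx'⟩
  have hL : ∀ {T : Over (Spec (CommRingCat.of k))} (a : T ⟶ E) (z : Z),
      a ≫ δ = toUnit T ≫ TwC.pt _ Z z ≫ eG.inv ↔ Set.range a.left ⊆ Ez z := by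
    intro T a z
    rw [eq_pt_iff eG, Category.assoc, ← hc, Over.comp_left, hEz]
    constructor
    · rintro h _ ⟨t, rfl⟩
      exact h ⟨t, rfl⟩
    · rintro h _ ⟨t, rfl⟩
      exact h ⟨t, rfl⟩
  -- saturation
  have hsat : ∀ z (x y : ↥E.left), x ∈ Ez z → v.left x = v.left y → y ∈ Ez z := by
    intro z x y hx hxy
    obtain ⟨w, hw1, hw2⟩ := Scheme.Pullback.exists_preimage_pullback x y hxy
    have hpbS : IsPullback (fst E G).left ((E ◁ u) ≫ μ[E]).left v.left v.left :=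
      hpb.map (Over.forget _)
    obtain ⟨w', hw'⟩ : ∃ w' : ↥(E ⊗ G).left, hpbS.isoPullback.hom w' = w :=
      ⟨hpbS.isoPullback.inv w, by rw [← Scheme.Hom.comp_apply, Iso.inv_hom_id]; rfl⟩
    have hw'1 : (fst E G).left w' = x := by
      rw [← hw1, ← hw', ← Scheme.Hom.comp_apply, hpbS.isoPullback_hom_fst]
    have hw'2 : ((E ◁ u) ≫ μ[E]).left w' = y := by
      rw [← hw2, ← hw', ← Scheme.Hom.comp_apply, hpbS.isoPullback_hom_snd]
    let T' : (E ⊗ G).left.Opens := (fst E G).left ⁻¹ᵁ ⟨Ez z, hEzopen z⟩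
    obtain ⟨j, hj⟩ : ∃ j : Over.mk (T'.ι ≫ (E ⊗ G).hom) ⟶ E ⊗ G, j.left = T'.ι :=
      ⟨Over.homMk T'.ι rfl, rfl⟩
    have he : (j ≫ fst E G) ≫ δ = toUnit _ ≫ TwC.pt _ Z z ≫ eG.inv := by
      rw [hL]
      rintro _ ⟨t, rfl⟩
      rw [Over.comp_left, hj, Scheme.Hom.comp_apply]
      exact t.2
    have h3 : ((j ≫ fst E G) * ((j ≫ snd E G) ≫ u)) ≫ δ = toUnit _ ≫ TwC.pt _ Z z ≫ eG.inv := by
      rw [hδmul, hδu, _root_.mul_one, he]
    have h4 : (j ≫ fst E G) * ((j ≫ snd E G) ≫ u) = j ≫ (E ◁ u) ≫ μ[E] := by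
      rw [Hom.mul_def, ← lift_whiskerLeft, Category.assoc, ← comp_lift, lift_fst_snd,
        Category.comp_id]
    rw [h4, hL] at h3
    have hw'T : w' ∈ T' := by
      change (fst E G).left w' ∈ Ez z
      rw [hw'1]; exact hx
    rw [← hw'2]
    apply h3
    obtain ⟨t, ht⟩ : ∃ t : ↥(T' : Scheme.{u}), T'.ι t = w' := by
      have : w' ∈ Set.range T'.ι := by rw [Scheme.Opens.range_ι]; exact hw'T
      exact this
    refine ⟨t, ?_⟩
    rw [Over.comp_left, hj, Scheme.Hom.comp_apply, ht]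
  -- the set of indices with nonempty piece
  have hAfin : {z : Z | (Ez z).Nonempty}.Finite := by
    obtain ⟨t, ht⟩ := isCompact_univ.elim_finite_subcover (fun z : Z => v.left '' Ez z)
      (fun z => hopen _ (hEzopen z))
      (fun p _ => by
        obtain ⟨e, rfl⟩ := hsurj p
        obtain ⟨z, hz⟩ := hEzcover e
        exact Set.mem_iUnion.mpr ⟨z, e, hz, rfl⟩)
    refine (t.finite_toSet).subset ?_
    rintro z ⟨x, hx⟩
    have h0 := ht (Set.mem_univ (v.left x))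
    simp only [Set.mem_iUnion] at h0
    obtain ⟨z', hz't, y, hy, hyx⟩ := h0
    have hx' := hsat z' y x hy hyx
    rw [hEzdisj z z' x hx hx']
    exact hz't
  have hAmul : ∀ a ∈ {z : Z | (Ez z).Nonempty}, ∀ b ∈ {z : Z | (Ez z).Nonempty},
      a * b ∈ {z : Z | (Ez z).Nonempty} := by
    rintro z ⟨x, hx⟩ z' ⟨y, hy⟩
    obtain ⟨w, hw1, hw2⟩ := Scheme.Pullback.exists_preimage_pullback (f := E.hom) (g := E.hom) x y
      (by rw [eq_closedPoint (E.hom x), eq_closedPoint (E.hom y)])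
    let T' : (E ⊗ E).left.Opens :=
      (fst E E).left ⁻¹ᵁ ⟨Ez z, hEzopen z⟩ ⊓ (snd E E).left ⁻¹ᵁ ⟨Ez z', hEzopen z'⟩
    obtain ⟨j, hj⟩ : ∃ j : Over.mk (T'.ι ≫ (E ⊗ E).hom) ⟶ E ⊗ E, j.left = T'.ι :=
      ⟨Over.homMk T'.ι rfl, rfl⟩
    have he1 : (j ≫ fst E E) ≫ δ = toUnit _ ≫ TwC.pt _ Z z ≫ eG.inv := by
      rw [hL]
      rintro _ ⟨t, rfl⟩
      rw [Over.comp_left, hj, Scheme.Hom.comp_apply]
      exact t.2.1
    have he2 : (j ≫ snd E E) ≫ δ = toUnit _ ≫ TwC.pt _ Z z' ≫ eG.inv := by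
      rw [hL]
      rintro _ ⟨t, rfl⟩
      rw [Over.comp_left, hj, Scheme.Hom.comp_apply]
      exact t.2.2
    have h3 : ((j ≫ fst E E) * (j ≫ snd E E)) ≫ δ = toUnit _ ≫ TwC.pt _ Z (z * z') ≫ eG.inv := by
      rw [hδmul, he1, he2, ← MonObj.comp_mul, hG z z']
    have h4 : (j ≫ fst E E) * (j ≫ snd E E) = j ≫ μ[E] := by
      rw [Hom.mul_def, ← comp_lift, lift_fst_snd, Category.comp_id]
    rw [h4, hL] at h3
    have hwT : w ∈ T' := ⟨by change (fst E E).left w ∈ Ez z; rw [Over.fst_left, hw1]; exact hx,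
      by change (snd E E).left w ∈ Ez z'; rw [Over.snd_left, hw2]; exact hy⟩
    obtain ⟨t, ht⟩ : ∃ t : ↥(T' : Scheme.{u}), T'.ι t = w := by
      have : w ∈ Set.range T'.ι := by rw [Scheme.Opens.range_ι]; exact hwT
      exact this
    refine ⟨μ[E].left w, h3 ⟨t, ?_⟩⟩
    rw [Over.comp_left, hj, Scheme.Hom.comp_apply, ht]
  have hA1 := eq_one_of_finite_of_mul_mem hZ _ hAfin hAmul
  have hall : ∀ x : ↥E.left, x ∈ Ez 1 := by
    intro x
    obtain ⟨z, hz⟩ := hEzcover x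
    have := hA1 z ⟨x, hz⟩
    rwa [this] at hz
  have hδ1 : δ = 1 := by
    have h5 := (hL (𝟙 E) 1).mpr (by rintro _ ⟨x, rfl⟩; exact hall _)
    rw [Category.id_comp, ← unit_eq_pt_one G eG hG] at h5
    rw [h5, Hom.one_def]
  rw [hδ, hδ1, MonObj.one_comp, _root_.mul_one]

end Main

end Groth.Agent.H42.ConstExtRigidComm
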