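import Mathlib
import Groth.Prelude.Def_AlgGrp
import Groth.Agent.H38.GrpConnIrr

/-!
# An étale equivariant morphism reflects fixed points (helper42)

`G` a group scheme over `S` with connected fibres acting on `X`, `Y`; `f : X ⟶ Y` equivariant with
open diagonal.  A `T`-point of `X` whose image in `Y` is (universally) fixed is (universally) fixed.
-/

set_option autoImplicit false
universe u
open CategoryTheory Limits MonoidalCategory CartesianMonoidalCategory MonObj GrpObj AlgebraicGeometry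

namespace Groth.Agent.H42.FixedPtEtale

/-- The coincidence locus of two morphisms to `X` agreeing in `Y`, when `X ⟶ Y` has open diagonal. -/
theorem exists_eqLocus {X Y Z : Scheme.{u}} (f : X ⟶ Y) [IsOpenImmersion (pullback.diagonal f)]
    (p q : Z ⟶ X) (h : p ≫ f = q ≫ f) :
    ∃ W : Z.Opens, ∀ (Z' : Scheme.{u}) (j : Z' ⟶ Z),
      j ≫ p = j ≫ q ↔ Set.range j ⊆ (W : Set Z) := by
  obtain ⟨c, hc1, hc2⟩ : ∃ c : Z ⟶ pullback f f, c ≫ pullback.fst f f = p ∧
      c ≫ pullback.snd f f = q := ⟨pullback.lift p q h, pullback.lift_fst _ _ _, pullback.lift_snd _ _ _⟩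
  refine ⟨c ⁻¹ᵁ (pullback.diagonal f).opensRange, fun Z' j => ⟨fun hj => ?_, fun hj => ?_⟩⟩
  · rintro _ ⟨z, rfl⟩
    show c (j z) ∈ Set.range (pullback.diagonal f)
    have h1 : j ≫ c = (j ≫ p) ≫ pullback.diagonal f := by
      apply pullback.hom_ext
      · simp [hc1]
      · simp [hc2, hj]
    refine ⟨(j ≫ p) z, ?_⟩
    rw [← Scheme.Hom.comp_apply, ← h1, Scheme.Hom.comp_apply]
  · have hr : Set.range (j ≫ c) ⊆ Set.range (pullback.diagonal f) := by
      rintro _ ⟨z, rfl⟩
      exact hj ⟨z, rfl⟩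
    have h0 := IsOpenImmersion.lift_fac (pullback.diagonal f) (j ≫ c) hr
    have h1 := congrArg (· ≫ pullback.fst f f) h0
    have h2 := congrArg (· ≫ pullback.snd f f) h0
    simp only [Category.assoc, pullback.diagonal_fst, pullback.diagonal_snd, Category.comp_id,
      hc1, hc2] at h1 h2
    rw [← h1, ← h2]

section action

variable {S : Scheme.{u}} {G X Y : Over S} [GrpObj G]

theorem act_one (a : AlgGrp.Action G X) {T : Over S} (x : T ⟶ X) :
    lift (toUnit T ≫ η[G]) x ≫ a.act = x := by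
  have h : lift (toUnit T ≫ η[G]) x = lift (toUnit T) x ≫ (η[G] ▷ X) := by
    rw [lift_whiskerRight]
  rw [h, Category.assoc, a.one_act, leftUnitor_hom, lift_snd]

theorem act_mul (a : AlgGrp.Action G X) {T : Over S} (g h : T ⟶ G) (x : T ⟶ X) :
    lift (g * h) x ≫ a.act = lift g (lift h x ≫ a.act) ≫ a.act := by
  have h0 : lift (g * h) x = lift (lift g h) x ≫ (μ[G] ▷ X) := by
    rw [lift_whiskerRight, Hom.mul_def]
  rw [h0, Category.assoc, a.mul_act, lift_lift_associator_hom_assoc, lift_whiskerLeft_assoc]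

theorem act_equivariant (a : AlgGrp.Action G X) (b : AlgGrp.Action G Y) (f : X ⟶ Y)
    (hf : a.act ≫ f = (G ◁ f) ≫ b.act) {T : Over S} (g : T ⟶ G) (x : T ⟶ X) :
    (lift g x ≫ a.act) ≫ f = lift g (x ≫ f) ≫ b.act := by
  rw [Category.assoc, hf, lift_whiskerLeft_assoc]

end action

section core

variable {S : Scheme.{u}} {G X Y : Over S} [GrpObj G]

/-- Core: if `G ×_S T` is irreducible, a `T`-point `x` of `X` with universally fixed image in `Y`
is fixed by `g` after some base change `T' ⟶ T` with `T'` nonempty. -/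
theorem exists_nonempty_fixed (a : AlgGrp.Action G X) (b : AlgGrp.Action G Y) (f : X ⟶ Y)
    [IsOpenImmersion (pullback.diagonal f.left)]
    (hf : a.act ≫ f = (G ◁ f) ≫ b.act) (T : Over S) [IrreducibleSpace ↥(G ⊗ T).left]
    (x : T ⟶ X)
    (hx : ∀ (T' : Over S) (t : T' ⟶ T) (g : T' ⟶ G), lift g (t ≫ x ≫ f) ≫ b.act = t ≫ x ≫ f)
    (g : T ⟶ G) :
    ∃ (T' : Over S) (t : T' ⟶ T), Nonempty ↥T'.left ∧ t ≫ lift g x ≫ a.act = t ≫ x := by
  obtain ⟨φ, hφ⟩ : ∃ φ : G ⊗ T ⟶ X, φ = lift (fst G T) (snd G T ≫ x) ≫ a.act := ⟨_, rfl⟩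
  obtain ⟨ψ, hψ⟩ : ∃ ψ : G ⊗ T ⟶ X, ψ = snd G T ≫ x := ⟨_, rfl⟩
  have hφψ : φ ≫ f = ψ ≫ f := by
    rw [hφ, hψ, act_equivariant a b f hf, Category.assoc]
    exact hx (G ⊗ T) (snd G T) (fst G T)
  have hφψ' : φ.left ≫ f.left = ψ.left ≫ f.left := by
    rw [← Over.comp_left, ← Over.comp_left, hφψ]
  obtain ⟨W, hW⟩ := exists_eqLocus f.left φ.left ψ.left hφψ'
  have key : ∀ (T' : Over S) (h : T' ⟶ G ⊗ T), Set.range h.left ⊆ (W : Set _) ↔
      lift (h ≫ fst G T) (h ≫ snd G T ≫ x) ≫ a.act = h ≫ snd G T ≫ x := by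
    intro T' h
    rw [← hW T'.left h.left]
    have e1 : h ≫ φ = lift (h ≫ fst G T) (h ≫ snd G T ≫ x) ≫ a.act := by
      rw [hφ, comp_lift_assoc]
    have e2 : h ≫ ψ = h ≫ snd G T ≫ x := by rw [hψ]
    rw [← e1, ← e2]
    constructor
    · intro h1
      exact Over.OverMorphism.ext (by simpa using h1)
    · intro h1
      have := congrArg (·.left) h1
      simpa using this
  obtain ⟨δ, hδ1, hδ2⟩ : ∃ δ : G ⊗ T ⟶ G ⊗ T,
      δ ≫ fst G T = (snd G T ≫ g) * fst G T ∧ δ ≫ snd G T = snd G T :=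
    ⟨lift ((snd G T ≫ g) * fst G T) (snd G T), lift_fst _ _, lift_snd _ _⟩
  have hδ2' : δ ≫ snd G T ≫ x = snd G T ≫ x := by rw [← Category.assoc, hδ2]
  have he : Set.range (lift (toUnit T ≫ η[G]) (𝟙 T)).left ⊆ (W : Set _) := by
    rw [key]
    simp only [lift_fst, lift_snd_assoc, Category.id_comp]
    exact act_one a x
  have hγ : Set.range (lift g⁻¹ (𝟙 T) ≫ δ).left ⊆ (W : Set _) := by
    rw [key]
    simp only [Category.assoc, hδ1, hδ2', lift_snd_assoc, Category.id_comp, MonObj.comp_mul,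
      lift_fst]
    rw [mul_inv_cancel, Hom.one_def]
    exact act_one a x
  obtain ⟨w₀⟩ : Nonempty ↥(G ⊗ T).left := inferInstance
  obtain ⟨w, hw1, hw2⟩ : ((W : Set ↥(G ⊗ T).left) ∩ (δ.left ⁻¹ᵁ W : (G ⊗ T).left.Opens)).Nonempty := by
    refine nonempty_preirreducible_inter W.2 (δ.left ⁻¹ᵁ W).2 ?_ ?_
    · exact ⟨_, he ⟨(snd G T).left w₀, rfl⟩⟩
    · refine ⟨(lift g⁻¹ (𝟙 T)).left ((snd G T).left w₀), ?_⟩
      show δ.left _ ∈ (W : Set _)
      refine hγ ⟨(snd G T).left w₀, ?_⟩
      rw [Over.comp_left, Scheme.Hom.comp_apply]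
  obtain ⟨j, hj⟩ : ∃ j : Spec ((G ⊗ T).left.residueField w) ⟶ (G ⊗ T).left,
      j = (G ⊗ T).left.fromSpecResidueField w := ⟨_, rfl⟩
  have hjr : Set.range j = {w} := by rw [hj]; exact Scheme.range_fromSpecResidueField w
  let T' : Over S := Over.mk (j ≫ (G ⊗ T).hom)
  let hw : T' ⟶ G ⊗ T := Over.homMk j rfl
  have k1 := (key T' hw).mp (by
    show Set.range j ⊆ _
    rw [hjr]; exact Set.singleton_subset_iff.mpr hw1)
  have k2 := (key T' (hw ≫ δ)).mp (by
    rw [Over.comp_left]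
    show Set.range (j ≫ δ.left) ⊆ _
    rintro _ ⟨z, rfl⟩
    have hz : j z = w := by
      have : j z ∈ Set.range j := ⟨z, rfl⟩
      rw [hjr] at this; exact this
    rw [Scheme.Hom.comp_apply, hz]; exact hw2)
  simp only [Category.assoc, hδ1, hδ2', MonObj.comp_mul] at k2
  refine ⟨T', hw ≫ snd G T,
    (inferInstance : Nonempty ↥(Spec ((G ⊗ T).left.residueField w))), ?_⟩
  rw [comp_lift_assoc]
  simp only [Category.assoc] at k1 k2 ⊢
  calc lift (hw ≫ snd G T ≫ g) (hw ≫ snd G T ≫ x) ≫ a.act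
      = lift (hw ≫ snd G T ≫ g) (lift (hw ≫ fst G T) (hw ≫ snd G T ≫ x) ≫ a.act) ≫ a.act := by
        rw [k1]
    _ = lift ((hw ≫ snd G T ≫ g) * (hw ≫ fst G T)) (hw ≫ snd G T ≫ x) ≫ a.act :=
        (act_mul a _ _ _).symm
    _ = hw ≫ snd G T ≫ x := k2

end core

section irr

variable {S : Scheme.{u}} (G : Over S) [GrpObj G]

/-- A group scheme with connected fibres has geometrically connected fibres. -/
theorem geometricallyConnected_of_fibres (hconn : ∀ s : S, ConnectedSpace (G.hom.fiber s)) :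
    GeometricallyConnected G.hom := by
  rw [GeometricallyConnected.iff_geometricallyConnected_fiber]
  intro s
  have hG : GrpObj (Over.mk G.hom) := ‹GrpObj G›
  let Gs : Over (Spec (CommRingCat.of (S.residueField s))) :=
    Over.mk (pullback.snd G.hom (S.fromSpecResidueField s))
  let _ : GrpObj Gs := Over.grpObjMkPullbackSnd (f := G.hom) (g := S.fromSpecResidueField s)
  have : ConnectedSpace ↥Gs.left := hconn s
  exact Groth.Agent.H38.GrpConnIrr.geometricallyConnected_of_connectedSpace (S.residueField s) Gs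

/-- For `G` with connected fibres and `K` a field, `G ×_S Spec K` is irreducible. -/
theorem irreducibleSpace_tensor_field (hconn : ∀ s : S, ConnectedSpace (G.hom.fiber s))
    (K : Type u) [Field K] (k : Spec (CommRingCat.of K) ⟶ S) :
    IrreducibleSpace ↥(G ⊗ Over.mk k).left := by
  have := geometricallyConnected_of_fibres G hconn
  have hG : GrpObj (Over.mk G.hom) := ‹GrpObj G›
  let GK : Over (Spec (CommRingCat.of K)) := Over.mk (pullback.snd G.hom k)
  let _ : GrpObj GK := Over.grpObjMkPullbackSnd (f := G.hom) (g := k)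
  have : Subsingleton ↥(Spec (CommRingCat.of K)) :=
    inferInstanceAs (Subsingleton (PrimeSpectrum K))
  have : Nonempty ↥(Spec (CommRingCat.of K)) := ⟨IsLocalRing.closedPoint _⟩
  have : ConnectedSpace ↥GK.left :=
    GeometricallyConnected.connectedSpace_of_subsingleton (f := pullback.snd G.hom k)
  exact Groth.Agent.H38.GrpConnIrr.irreducibleSpace_of_connectedSpace K GK

end irr

section main

variable {S : Scheme.{u}} (G : Over S) [GrpObj G]

/-- **An equivariant morphism with open diagonal reflects fixed points**, for `G` with connected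
fibres. -/
theorem main (hconn : ∀ s : S, ConnectedSpace (G.hom.fiber s))
    (X Y : Over S) (a : AlgGrp.Action G X) (b : AlgGrp.Action G Y) (f : X ⟶ Y)
    [IsOpenImmersion (pullback.diagonal f.left)]
    (hf : a.act ≫ f = (G ◁ f) ≫ b.act) (T : Over S) (x : T ⟶ X)
    (hx : ∀ (T' : Over S) (t : T' ⟶ T) (g : T' ⟶ G), lift g (t ≫ x ≫ f) ≫ b.act = t ≫ x ≫ f)
    (T' : Over S) (t : T' ⟶ T) (g : T' ⟶ G) : lift g (t ≫ x) ≫ a.act = t ≫ x := by
  have hpq : (lift g (t ≫ x) ≫ a.act) ≫ f = (t ≫ x) ≫ f := by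
    rw [act_equivariant a b f hf, Category.assoc]
    exact hx T' t g
  have hpq' : (lift g (t ≫ x) ≫ a.act).left ≫ f.left = (t ≫ x).left ≫ f.left := by
    rw [← Over.comp_left, ← Over.comp_left, hpq]
  obtain ⟨W, hW⟩ := exists_eqLocus f.left _ _ hpq'
  apply Over.OverMorphism.ext
  have hall : Set.range (𝟙 T'.left : T'.left ⟶ T'.left) ⊆ (W : Set ↥T'.left) := by
    rintro _ ⟨t', rfl⟩
    show t' ∈ (W : Set ↥T'.left)
    obtain ⟨j, hj⟩ : ∃ j : Spec (T'.left.residueField t') ⟶ T'.left,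
        j = T'.left.fromSpecResidueField t' := ⟨_, rfl⟩
    have hjr : Set.range j = {t'} := by rw [hj]; exact Scheme.range_fromSpecResidueField t'
    let TK : Over S := Over.mk (j ≫ T'.hom)
    let jo : TK ⟶ T' := Over.homMk j rfl
    have : IrreducibleSpace ↥(G ⊗ TK).left :=
      irreducibleSpace_tensor_field G hconn (T'.left.residueField t') (j ≫ T'.hom)
    obtain ⟨T'', t'', hne, h⟩ := exists_nonempty_fixed a b f hf TK (jo ≫ t ≫ x)
      (fun T₁ t₁ g₁ => by
        have := hx T₁ (t₁ ≫ jo ≫ t) g₁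
        simpa only [Category.assoc] using this) (jo ≫ g)
    have h2 : (t'' ≫ jo).left ≫ (lift g (t ≫ x) ≫ a.act).left =
        (t'' ≫ jo).left ≫ (t ≫ x).left := by
      rw [← Over.comp_left, ← Over.comp_left]
      congr 1
      rw [Category.assoc, comp_lift_assoc]
      simpa only [Category.assoc] using h
    have h3 := (hW _ _).mp h2
    obtain ⟨z⟩ := hne
    have hz : (t'' ≫ jo).left z = t' := by
      rw [Over.comp_left, Scheme.Hom.comp_apply]
      show j (t''.left z) = t'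
      have : j (t''.left z) ∈ Set.range j := ⟨_, rfl⟩
      rw [hjr] at this
      exact this
    rw [← hz]
    exact h3 ⟨z, rfl⟩
  have := (hW T'.left (𝟙 _)).mpr hall
  simpa only [Category.id_comp] using this

end main

end Groth.Agent.H42.FixedPtEtale
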