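import Mathlib

/-!
# Properties that hold fpqc-locally on the base (helper42)

`of_locally_fpqc`: let `P` be Zariski-local on the target, stable under base change and descending
along quasi-compact flat surjective morphisms. Let `f : S' ⟶ S` be flat and surjective such that every
affine open of `S` is the image of a quasi-compact open of `S'`. If every point of `S'` has an open
neighbourhood `U` such that the base change of `h : X ⟶ S` to `U` has `P`, then `h` has `P`.
-/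

set_option autoImplicit false
universe u
open CategoryTheory Limits AlgebraicGeometry MorphismProperty

namespace Groth.Agent.H42.FpqcLocal

theorem prop_congr (P : MorphismProperty Scheme.{u}) {X Y Z : Scheme.{u}} (f : X ⟶ Z)
    {g g' : Y ⟶ Z} (h : g = g') :
    P (pullback.snd f g) ↔ P (pullback.snd f g') := by
  subst h
  exact Iff.rfl

theorem prop_comp_iff (P : MorphismProperty Scheme.{u}) [P.RespectsIso] {X Y Z W : Scheme.{u}}
    (h : X ⟶ Z) (u : Y ⟶ Z) (a : W ⟶ Y) :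
    P (pullback.snd (pullback.snd h u) a) ↔ P (pullback.snd h (a ≫ u)) := by
  rw [← pullbackLeftPullbackSndIso_hom_snd, P.cancel_left_of_respectsIso]

theorem prop_restrict_iff (P : MorphismProperty Scheme.{u}) [P.RespectsIso] {X S T : Scheme.{u}}
    (h : X ⟶ S) (V : S.Opens) (g : T ⟶ (V : Scheme.{u})) :
    P (pullback.snd (h ∣_ V) g) ↔ P (pullback.snd h (g ≫ V.ι)) := by
  have sq := (IsPullback.of_hasPullback (h ∣_ V) g).paste_horiz (isPullback_morphismRestrict h V).flip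
  rw [← sq.isoPullback_hom_snd, P.cancel_left_of_respectsIso]

set_option backward.isDefEq.respectTransparency.types false in
theorem of_locally_fpqc (P : MorphismProperty Scheme.{u}) [IsZariskiLocalAtTarget P]
    [P.IsStableUnderBaseChange] [P.DescendsAlong (@Surjective ⊓ @Flat ⊓ @QuasiCompact)]
    {X S S' : Scheme.{u}} (h : X ⟶ S) (f : S' ⟶ S) [Flat f] [Surjective f]
    (hqc : ∀ V : S.Opens, IsAffineOpen V →
      ∃ W : S'.Opens, IsCompact (W : Set S') ∧ f.base '' (W : Set S') = (V : Set S))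
    (hloc : ∀ s' : S', ∃ U : S'.Opens, s' ∈ U ∧ P (pullback.snd h (U.ι ≫ f))) : P h := by
  rw [IsZariskiLocalAtTarget.iff_of_iSup_eq_top (P := P) (fun V : S.affineOpens => V.1)
    (iSup_affineOpens_eq_top S)]
  rintro ⟨V, hV⟩
  obtain ⟨W, hWc, hWV⟩ := hqc V hV
  choose U hU hPU using hloc
  -- affine neighbourhoods inside `U w ⊓ W`
  have hA : ∀ w : W, ∃ A : S'.Opens, IsAffineOpen A ∧ w.1 ∈ A ∧ A ≤ U w.1 ⊓ W := by
    intro w
    obtain ⟨_, ⟨A, hA, rfl⟩, hwA, hAle⟩ := S'.isBasis_affineOpens.exists_subset_of_mem_open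
      (show w.1 ∈ ((U w.1 ⊓ W : S'.Opens) : Set S') from ⟨hU w.1, w.2⟩) (U w.1 ⊓ W).isOpen
    exact ⟨A, hA, hwA, hAle⟩
  choose A hAaff hwA hAle using hA
  obtain ⟨t, ht⟩ := hWc.elim_finite_subcover (fun w : W => ((A w : S'.Opens) : Set S'))
    (fun w => (A w).isOpen) (fun x hx => Set.mem_iUnion.mpr ⟨⟨x, hx⟩, hwA ⟨x, hx⟩⟩)
  -- the finite affine cover
  have hrange : ∀ j : t, Set.range ((A j.1).ι ≫ f) ⊆ Set.range V.ι := by
    rintro j _ ⟨x, rfl⟩
    rw [Scheme.Opens.range_ι, ← hWV]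
    refine ⟨(A j.1).ι x, ?_, rfl⟩
    exact (hAle j.1 (by simp)).2
  let g0 : ∀ j : t, ((A j.1 : S'.Opens) : Scheme.{u}) ⟶ (V : Scheme.{u}) := fun j =>
    IsOpenImmersion.lift V.ι ((A j.1).ι ≫ f) (hrange j)
  have hg0 : ∀ j : t, g0 j ≫ V.ι = (A j.1).ι ≫ f := fun j => IsOpenImmersion.lift_fac _ _ _
  let g : (∐ fun j : t => ((A j.1 : S'.Opens) : Scheme.{u})) ⟶ (V : Scheme.{u}) := Sigma.desc g0
  have hflat0 : ∀ j : t, Flat (g0 j) := fun j =>
    MorphismProperty.of_postcomp (W := @Flat) (W' := @IsOpenImmersion) (g0 j) V.ι inferInstance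
      (by rw [hg0]; infer_instance)
  have hgflat : Flat g := inferInstance
  have hgsurj : Surjective g := by
    refine ⟨fun v => ?_⟩
    have hv : V.ι v ∈ f.base '' (W : Set S') := by
      rw [hWV]; exact v.2
    obtain ⟨w, hwW, hwv⟩ := hv
    obtain ⟨j, hj⟩ := Set.mem_iUnion.mp (ht hwW)
    obtain ⟨hjt, hwj⟩ := Set.mem_iUnion.mp hj
    obtain ⟨a, ha⟩ : w ∈ Set.range (A j).ι := by
      rw [Scheme.Opens.range_ι]; exact hwj
    refine ⟨Sigma.ι (fun j : t => ((A j.1 : S'.Opens) : Scheme.{u})) ⟨j, hjt⟩ a, ?_⟩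
    apply V.ι.isOpenEmbedding.injective
    rw [← Scheme.Hom.comp_apply, ← Scheme.Hom.comp_apply]
    change (Sigma.ι (fun j : t => ((A j.1 : S'.Opens) : Scheme.{u})) ⟨j, hjt⟩ ≫ Sigma.desc g0 ≫ V.ι) a = _
    rw [Sigma.ι_desc_assoc, hg0, Scheme.Hom.comp_apply, ha, hwv]
  have : ∀ j : t, IsAffine ((A j.1 : S'.Opens) : Scheme.{u}) := fun j => hAaff j.1
  have : IsAffine (V : Scheme.{u}) := hV
  have hgqc : QuasiCompact g := inferInstance
  refine MorphismProperty.of_pullback_snd_of_descendsAlong (P := P)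
    (Q := @Surjective ⊓ @Flat ⊓ @QuasiCompact) (f := h ∣_ V) (g := g) ⟨⟨hgsurj, hgflat⟩, hgqc⟩ ?_
  rw [IsZariskiLocalAtTarget.iff_of_openCover (P := P)
    (sigmaOpenCover fun j : t => ((A j.1 : S'.Opens) : Scheme.{u}))]
  intro (j : t)
  change P (pullback.snd (pullback.snd (h ∣_ V) g) (Sigma.ι _ j))
  rw [prop_comp_iff P, prop_congr P (h ∣_ V) (Sigma.ι_desc g0 j), prop_restrict_iff P,
    prop_congr P h (hg0 j)]
  have hle : A j.1 ≤ U j.1.1 := fun x hx => (hAle j.1 hx).1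
  have hι : (A j.1).ι ≫ f = S'.homOfLE hle ≫ (U j.1.1).ι ≫ f := by
    rw [← Category.assoc, Scheme.homOfLE_ι]
  rw [prop_congr P h hι, ← prop_comp_iff P]
  exact P.pullback_snd _ _ (hPU j.1.1)

end Groth.Agent.H42.FpqcLocal
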