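import Mathlib

/-!
# Descent of "universally specializing" along flat surjective morphisms (helper42)

* `specializingMap_of_isPullback`: in a pullback square whose base map `g` is surjective and
  generalizing, if the pulled-back map is specializing then so is the original one.
* `univSpecializing_descendsAlong`: `(topologically SpecializingMap).universally` (the existence part
  of the valuative criterion) descends along surjective flat morphisms.
-/

set_option autoImplicit false
universe u
open CategoryTheory Limits AlgebraicGeometry MorphismProperty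

namespace Groth.Agent.H42.SpecDescent

theorem specializingMap_of_isPullback {W' W T' T : Scheme.{u}} {q : W' ⟶ W} {h' : W' ⟶ T'}
    {h : W ⟶ T} {g : T' ⟶ T} (sq : IsPullback q h' h g) [Surjective g]
    (hg : GeneralizingMap g) (hh' : SpecializingMap h') : SpecializingMap h := by
  intro w t hwt
  obtain ⟨t', rfl⟩ := g.surjective t
  obtain ⟨y', hy't', hy'⟩ := hg hwt
  obtain ⟨z, hz1, hz2⟩ := Scheme.Pullback.exists_preimage_pullback (f := h) (g := g) w y' hy'.symm
  let w' : W' := sq.isoPullback.inv z
  have hw'1 : q w' = w := by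
    rw [← hz1]
    change (sq.isoPullback.inv ≫ q) z = _
    rw [sq.isoPullback_inv_fst]
  have hw'2 : h' w' = y' := by
    rw [← hz2]
    change (sq.isoPullback.inv ≫ h') z = _
    rw [sq.isoPullback_inv_snd]
  have h1 : h' w' ⤳ t' := by rw [hw'2]; exact hy't'
  obtain ⟨w₁', hw₁', hw₁'t⟩ := hh' h1
  refine ⟨q w₁', ?_, ?_⟩
  · change w ⤳ q w₁'
    rw [← hw'1]
    exact Specializes.map hw₁' q.continuous
  · rw [← hw₁'t]
    change (q ≫ h) w₁' = (h' ≫ g) w₁'
    rw [sq.w]

/-- "Universally specializing" descends along surjective flat morphisms. -/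
instance univSpecializing_descendsAlong :
    DescendsAlong (topologically @SpecializingMap).universally
      (@Surjective ⊓ @Flat : MorphismProperty Scheme.{u}) where
  of_isPullback {A X Y Z fst snd f g} hsq hf hfst := by
    have hfs : Surjective f := hf.1
    have hff : Flat f := hf.2
    intro Y' T i₁ i₂ g' hg'
    -- `hg' : IsPullback g' i₁ i₂ g`
    let pT : pullback i₂ f ⟶ T := pullback.fst i₂ f
    let pX : pullback i₂ f ⟶ X := pullback.snd i₂ f
    let q : pullback g' pT ⟶ Y' := pullback.fst g' pT
    let h' : pullback g' pT ⟶ pullback i₂ f := pullback.snd g' pT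
    have hc : (q ≫ i₁) ≫ g = (h' ≫ pX) ≫ f := by
      rw [Category.assoc, ← hg'.w, ← Category.assoc, pullback.condition, Category.assoc,
        Category.assoc, pullback.condition]
    let a : pullback g' pT ⟶ A := hsq.lift (h' ≫ pX) (q ≫ i₁) hc.symm
    have ha1 : a ≫ fst = h' ≫ pX := hsq.lift_fst _ _ _
    have ha2 : a ≫ snd = q ≫ i₁ := hsq.lift_snd _ _ _
    have hleft : IsPullback q h' g' pT := (IsPullback.of_hasPullback g' pT).flip.flip
    have houter : IsPullback (a ≫ snd) h' g (pX ≫ f) := by
      rw [ha2]
      have := (IsPullback.of_hasPullback g' pT).paste_horiz hg'.flip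
      rw [pullback.condition] at this
      exact this
    have hsq' : IsPullback a h' fst pX := IsPullback.of_right houter ha1 hsq.flip
    have h1 : (topologically @SpecializingMap).universally h' :=
      MorphismProperty.of_isPullback hsq' hfst
    have h2 : SpecializingMap h' := universally_le _ _ h1
    have : Surjective pT := inferInstanceAs (Surjective (pullback.fst i₂ f))
    have : Flat pT := inferInstanceAs (Flat (pullback.fst i₂ f))
    exact specializingMap_of_isPullback (IsPullback.of_hasPullback g' pT) (Flat.generalizingMap pT) h2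

theorem specializingMap_of_openCover {X Y : Scheme.{u}} (f : X ⟶ Y) {ι : Type u}
    (U : ι → Y.Opens) (hU : TopologicalSpace.IsOpenCover U)
    (H : ∀ i, SpecializingMap (f ∣_ U i)) : SpecializingMap f := by
  intro x y hxy
  replace hxy : f x ⤳ y := hxy
  have hy : y ∈ ⨆ i, U i := by rw [hU.iSup_eq_top]; trivial
  obtain ⟨i, hi⟩ := TopologicalSpace.Opens.mem_iSup.mp hy
  have hx : f x ∈ U i := hxy.mem_open (U i).isOpen hi
  obtain ⟨x0, rfl⟩ : x ∈ Set.range (f ⁻¹ᵁ U i).ι := by
    rw [Scheme.Opens.range_ι]; exact hx
  obtain ⟨y0, rfl⟩ : y ∈ Set.range (U i).ι := by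
    rw [Scheme.Opens.range_ι]; exact hi
  have hval : ∀ z, (U i).ι ((f ∣_ U i) z) = f ((f ⁻¹ᵁ U i).ι z) := by
    intro z
    rw [← Scheme.Hom.comp_apply, ← Scheme.Hom.comp_apply, morphismRestrict_ι]
  have h1 : (f ∣_ U i) x0 ⤳ y0 := by
    rw [← (U i).ι.isOpenEmbedding.isInducing.specializes_iff, hval]
    exact hxy
  obtain ⟨x1, hx1, hx1y⟩ := H i h1
  replace hx1 : x0 ⤳ x1 := hx1
  refine ⟨(f ⁻¹ᵁ U i).ι x1, ?_, ?_⟩
  · change (f ⁻¹ᵁ U i).ι x0 ⤳ (f ⁻¹ᵁ U i).ι x1
    exact hx1.map (f ⁻¹ᵁ U i).ι.continuous
  · rw [← hval, hx1y]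

instance univSpecializing_isZariskiLocalAtTarget :
    IsZariskiLocalAtTarget ((topologically @SpecializingMap).universally :
      MorphismProperty Scheme.{u}) :=
  universally_isZariskiLocalAtTarget _ fun f _ U hU H => specializingMap_of_openCover f U hU H

end Groth.Agent.H42.SpecDescent
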