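import Mathlib
import Groth.Prelude.Def_TwC
import Groth.Agent.H1.Descent
import Groth.Agent.H42.SpecDescent
import Groth.Agent.H42.ConstSch
import Groth.Agent.H42.FpqcLocal

/-!
# fpqc-locally constant schemes (helper42)

`of_twConst_fpqc`: a property `P` of morphisms that is Zariski-local on the target, stable under base
change, descends along fpqc covers and holds for the constant schemes `∐_I S' ⟶ S'` holds for every
`S`-scheme which is fpqc-locally constant (`TwC.IsTwConst .fpqc`).
`main_fpqc`: such a scheme is separated, étale and satisfies the existence part of the valuative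
criterion.
`isFinite_of_closed`: a closed subscheme of it which is quasi-compact over the base is finite over
the base (via Zariski's main theorem).
-/

set_option autoImplicit false
universe u
open CategoryTheory Limits AlgebraicGeometry MorphismProperty

namespace Groth.Agent.H42.FpqcTwConst

open Groth.Agent.H42

set_option backward.isDefEq.respectTransparency.types false in
theorem of_twConst_fpqc (P : MorphismProperty Scheme.{u}) [IsZariskiLocalAtTarget P]
    [P.IsStableUnderBaseChange] [P.DescendsAlong (@Surjective ⊓ @Flat ⊓ @QuasiCompact)]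
    (hconst : ∀ (S' : Scheme.{u}) (I : Type u), P (ConstSch.cst S' I))
    {S : Scheme.{u}} (X : Over S) (hX : TwC.IsTwConst TwC.Topology.fpqc X) : P X.hom := by
  obtain ⟨S', f, hf, hs, hqc, hloc⟩ := hX
  refine FpqcLocal.of_locally_fpqc P X.hom f hqc (fun s' => ?_)
  obtain ⟨U, hU, I, ⟨e⟩⟩ := hloc s'
  refine ⟨U, hU, ?_⟩
  have hw : e.hom.left ≫ ConstSch.cst U I = pullback.snd X.hom (U.ι ≫ f) := Over.w e.hom
  rw [← hw, P.cancel_left_of_respectsIso]
  exact hconst _ _

set_option backward.isDefEq.respectTransparency.types false in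
theorem main_fpqc {S : Scheme.{u}} (X : Over S) (hX : TwC.IsTwConst TwC.Topology.fpqc X) :
    IsSeparated X.hom ∧ Etale X.hom ∧ ValuativeCriterion.Existence X.hom := by
  have h1 : IsSeparated X.hom := by
    have := Groth.Agent.H1.isSeparated_descendsAlong_fpqc.{u}
    exact of_twConst_fpqc @IsSeparated (fun S' I => ConstSch.isSeparated_cst S' I) X hX
  have h2 : Etale X.hom := of_twConst_fpqc @Etale (fun S' I => ConstSch.etale_cst S' I) X hX
  have h3 : (topologically @SpecializingMap).universally X.hom := by
    have : DescendsAlong (topologically @SpecializingMap).universally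
        (@Surjective ⊓ @Flat ⊓ @QuasiCompact : MorphismProperty Scheme.{u}) :=
      DescendsAlong.of_le (Q := (@Surjective ⊓ @Flat : MorphismProperty Scheme.{u})) inf_le_left
    refine of_twConst_fpqc _ (fun S' I => ?_) X hX
    rw [← ValuativeCriterion.Existence.eq]
    exact ConstSch.existence_cst S' I
  refine ⟨h1, h2, ?_⟩
  rw [ValuativeCriterion.Existence.eq]
  exact h3

theorem existence_comp {X Y Z : Scheme.{u}} (f : X ⟶ Y) (g : Y ⟶ Z)
    (hf : ValuativeCriterion.Existence f) (hg : ValuativeCriterion.Existence g) :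
    ValuativeCriterion.Existence (f ≫ g) := by
  intro Sq
  let Sq1 : ValuativeCommSq g :=
    { R := Sq.R
      K := Sq.K
      i₁ := Sq.i₁ ≫ f
      i₂ := Sq.i₂
      commSq := ⟨by rw [Category.assoc]; exact Sq.commSq.w⟩ }
  obtain ⟨l, hl1, hl2⟩ := (hg Sq1).exists_lift
  let Sq2 : ValuativeCommSq f :=
    { R := Sq.R
      K := Sq.K
      i₁ := Sq.i₁
      i₂ := l
      commSq := ⟨hl1.symm⟩ }
  obtain ⟨l', hl1', hl2'⟩ := (hf Sq2).exists_lift
  exact ⟨⟨⟨l', hl1', by rw [← Category.assoc, hl2', hl2]⟩⟩⟩

theorem locallyQuasiFinite_of_etale {X Y : Scheme.{u}} (f : X ⟶ Y) [Etale f] :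
    LocallyQuasiFinite f := by
  refine ⟨fun {U} hU {V} hV e => ?_⟩
  have h : (f.appLE U V e).hom.Etale := Etale.etale_appLE (f := f) hU hV e
  algebraize [(f.appLE U V e).hom]
  show Algebra.QuasiFinite _ _
  infer_instance

theorem isFinite_of_closed {S : Scheme.{u}} (R : Over S)
    (hR : TwC.IsTwConst TwC.Topology.fpqc R)
    {Z : Scheme.{u}} (z : Z ⟶ R.left) [IsClosedImmersion z] [QuasiCompact (z ≫ R.hom)] :
    IsFinite (z ≫ R.hom) := by
  obtain ⟨h1, h2, h3⟩ := main_fpqc R hR
  have hz : ValuativeCriterion.Existence z := by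
    have : UniversallyClosed z := inferInstance
    rw [UniversallyClosed.eq_valuativeCriterion] at this
    exact this.1
  have hex : ValuativeCriterion.Existence (z ≫ R.hom) := existence_comp z R.hom hz h3
  have : UniversallyClosed (z ≫ R.hom) := UniversallyClosed.of_valuativeCriterion _ hex
  have : IsProper (z ≫ R.hom) := { }
  have : LocallyQuasiFinite R.hom := locallyQuasiFinite_of_etale R.hom
  exact IsFinite.of_isProper_of_locallyQuasiFinite _

end Groth.Agent.H42.FpqcTwConst
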