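import Mathlib
import Groth.Prelude.Def_TwC
import Groth.Agent.H1.Descent
import Groth.Agent.H42.SpecDescent
import Groth.Agent.H42.ConstSch

/-!
# Étale-locally constant schemes (helper42)

`of_twConst`: a property `P` of morphisms that is Zariski-local on the target, descends along fppf
covers and holds for the constant schemes `∐_I S' ⟶ S'` holds for every `S`-scheme which is
étale-locally constant (`TwC.IsTwConst .etale`).
`main`: such a scheme is separated, étale and satisfies the valuative criterion.
-/

set_option autoImplicit false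
universe u
open CategoryTheory Limits AlgebraicGeometry MorphismProperty

namespace Groth.Agent.H42.TwConstMain

open Groth.Agent.H42

theorem prop_congr (P : MorphismProperty Scheme.{u}) {X Y Z : Scheme.{u}} (f : X ⟶ Z)
    {g g' : Y ⟶ Z} (h : g = g') :
    P (pullback.snd f g) ↔ P (pullback.snd f g') := by
  subst h
  exact Iff.rfl

set_option backward.isDefEq.respectTransparency.types false in
theorem of_twConst (P : MorphismProperty Scheme.{u}) [IsZariskiLocalAtTarget P]
    [P.DescendsAlong (@Surjective ⊓ @Flat ⊓ @LocallyOfFinitePresentation)]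
    (hconst : ∀ (S' : Scheme.{u}) (I : Type u), P (ConstSch.cst S' I))
    {S : Scheme.{u}} (X : Over S) (hX : TwC.IsTwConst TwC.Topology.etale X) : P X.hom := by
  have hX' : ∀ s : S, ∃ (S' : Scheme.{u}) (f : S' ⟶ S), Etale f ∧ s ∈ Set.range f.base ∧
      ∃ I : Type u, Nonempty (Red.bc f X ≅ TwC.const S' I) := hX
  choose S' f hf hs I hiso using hX'
  let F : (∐ S') ⟶ S := Sigma.desc f
  have hFs : Surjective F := by
    apply Surjective.sigmaDesc_of_union_range_eq_univ
    rw [Set.eq_univ_iff_forall]
    intro s
    exact Set.mem_iUnion.mpr ⟨s, hs s⟩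
  have hFf : Flat F := by
    have : ∀ s, Flat (f s) := fun s => by have := hf s; infer_instance
    infer_instance
  have hFp : LocallyOfFinitePresentation F :=
    IsZariskiLocalAtSource.sigmaDesc (fun s => by have := hf s; infer_instance)
  refine MorphismProperty.of_pullback_snd_of_descendsAlong (P := P)
    (Q := @Surjective ⊓ @Flat ⊓ @LocallyOfFinitePresentation) (f := X.hom) (g := F)
    ⟨⟨hFs, hFf⟩, hFp⟩ ?_
  rw [IsZariskiLocalAtTarget.iff_of_openCover (P := P) (sigmaOpenCover S')]
  intro (s : S)
  change P (pullback.snd (pullback.snd X.hom F) (Sigma.ι S' s))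
  rw [← pullbackLeftPullbackSndIso_hom_snd, P.cancel_left_of_respectsIso]
  have hιF : Sigma.ι S' s ≫ F = f s := Sigma.ι_desc f s
  rw [prop_congr P X.hom hιF]
  obtain ⟨e⟩ := hiso s
  have hw : e.hom.left ≫ ConstSch.cst (S' s) (I s) = pullback.snd X.hom (f s) := Over.w e.hom
  rw [← hw, P.cancel_left_of_respectsIso]
  exact hconst _ _

set_option backward.isDefEq.respectTransparency.types false in
theorem main {S : Scheme.{u}} (X : Over S) (hX : TwC.IsTwConst TwC.Topology.etale X) :
    IsSeparated X.hom ∧ Etale X.hom ∧ ValuativeCriterion X.hom := by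
  have h1 : IsSeparated X.hom := by
    have := Groth.Agent.H1.isSeparated_descendsAlong_fpqc.{u}
    exact of_twConst @IsSeparated (fun S' I => ConstSch.isSeparated_cst S' I) X hX
  have h2 : Etale X.hom := of_twConst @Etale (fun S' I => ConstSch.etale_cst S' I) X hX
  have h3 : (topologically @SpecializingMap).universally X.hom := by
    have : DescendsAlong (topologically @SpecializingMap).universally
        (@Surjective ⊓ @Flat ⊓ @LocallyOfFinitePresentation : MorphismProperty Scheme.{u}) :=
      DescendsAlong.of_le (Q := (@Surjective ⊓ @Flat : MorphismProperty Scheme.{u})) inf_le_left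
    refine of_twConst _ (fun S' I => ?_) X hX
    rw [← ValuativeCriterion.Existence.eq]
    exact ConstSch.existence_cst S' I
  refine ⟨h1, h2, ValuativeCriterion.iff.mpr ⟨?_, IsSeparated.valuativeCriterion _⟩⟩
  rw [ValuativeCriterion.Existence.eq]
  exact h3

end Groth.Agent.H42.TwConstMain
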