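import Mathlib
import Groth.Prelude.Def_TwC
import Groth.Agent.H1.Descent
import Groth.Agent.H12.Topo
import Groth.Agent.H42.ConstSch
import Groth.Agent.H42.TwConstMain
import Groth.Agent.H42.FpqcLocal
import Groth.Agent.H42.FpqcTwConst

/-!
# Open and closed subschemes of étale-locally constant schemes (helper42)

Let `S` be locally Noetherian and connected, `P` an étale-locally constant `S`-scheme and `Z ⊆ P`
open and closed with one finite fibre over `S`. Then `Z` is finite over `S` (`main`).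

* `finite_fibre_bc`, `finite_fibre_of_bc`: finiteness of fibres of a locally quasi-finite morphism
  and of its base changes.
* `chart_finite`, `chart_qc`: for an open and closed subscheme of `∐_I S'`, finiteness of the fibres
  is constant on preconnected subsets of `S'`, and implies quasi-compactness over preconnected opens.
* `of_locally_etale`: étale-local verification of fppf-local properties.
-/

set_option autoImplicit false
set_option linter.unusedSectionVars false
universe u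
open CategoryTheory Limits AlgebraicGeometry MorphismProperty

namespace Groth.Agent.H42.EtConstFin

open Groth.Agent.H42 Groth.Agent.H42.ConstSch


/-- finiteness of a fibre is inherited by base change (locally quasi-finite morphisms) -/
theorem finite_fibre_bc {X S S' : Scheme.{u}} (h : X ⟶ S) [LocallyQuasiFinite h]
    [QuasiSeparatedSpace S] (f : S' ⟶ S) (s' : S') (hfin : (h ⁻¹' {f s'}).Finite) :
    ((pullback.snd h f) ⁻¹' {s'}).Finite := by
  have hA : ∀ x : X, ∃ A : X.Opens, IsAffineOpen A ∧ x ∈ A := by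
    intro x
    obtain ⟨W, hW, hxW, -⟩ := exists_isAffineOpen_mem_and_subset (x := x) (U := ⊤) trivial
    exact ⟨W, hW, hxW⟩
  choose A hAaff hxA using hA
  let X₀ : X.Opens := ⨆ x ∈ h ⁻¹' {f s'}, A x
  have hX₀c : IsCompact (X₀ : Set X) := by
    have : (X₀ : Set X) = ⋃ x ∈ h ⁻¹' {f s'}, (A x : Set X) := by
      simp [X₀]
    rw [this]
    exact hfin.isCompact_biUnion (fun x _ => (hAaff x).isCompact)
  have hsub : h ⁻¹' {f s'} ⊆ (X₀ : Set X) := by
    intro x hx
    have : (A x : X.Opens) ≤ X₀ := le_iSup₂ (f := fun x (_ : x ∈ h ⁻¹' {f s'}) => A x) x hx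
    exact this (hxA x)
  have : CompactSpace ↥(X₀ : Scheme.{u}) := isCompact_iff_compactSpace.mp hX₀c
  let h₀ : (X₀ : Scheme.{u}) ⟶ S := X₀.ι ≫ h
  have hqc : QuasiCompact h₀ := inferInstance
  have hfin' := Scheme.Hom.finite_preimage_singleton (pullback.snd h₀ f) s'
  let m : pullback h₀ f ⟶ pullback h f :=
    pullback.map h₀ f h f X₀.ι (𝟙 S') (𝟙 S) (by simp [h₀]) (by simp)
  refine (hfin'.image m).subset ?_
  intro y hy
  have hy' : pullback.snd h f y = s' := hy
  have hyr : y ∈ Set.range m := by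
    rw [Scheme.Pullback.range_map]
    refine ⟨?_, by simp⟩
    rw [Set.mem_preimage, Scheme.Opens.range_ι]
    apply hsub
    change h (pullback.fst h f y) = f s'
    rw [← hy', ← Scheme.Hom.comp_apply, ← Scheme.Hom.comp_apply, pullback.condition]
  obtain ⟨w, rfl⟩ := hyr
  refine ⟨w, ?_, rfl⟩
  change pullback.snd h₀ f w = s'
  have hm : m ≫ pullback.snd h f = pullback.snd h₀ f := by
    change pullback.map h₀ f h f X₀.ι (𝟙 S') (𝟙 S) _ _ ≫ pullback.snd h f = _
    rw [pullback.lift_snd, Category.comp_id]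
  rw [← hy', ← Scheme.Hom.comp_apply, hm]

/-- finiteness of a fibre after base change implies finiteness of the fibre -/
theorem finite_fibre_of_bc {X S S' : Scheme.{u}} (h : X ⟶ S) (f : S' ⟶ S) (s' : S')
    (hfin : ((pullback.snd h f) ⁻¹' {s'}).Finite) : (h ⁻¹' {f s'}).Finite := by
  refine (hfin.image (pullback.fst h f)).subset ?_
  intro x hx
  obtain ⟨z, hz1, hz2⟩ := Scheme.Pullback.exists_preimage_pullback (f := h) (g := f) x s' hx
  exact ⟨z, hz2, hz1⟩




section Topo

variable (S' : Scheme.{u}) (I : Type u)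

theorem cst_inj (i : I) (u : S') : cst S' I (Sigma.ι (fun _ : I => S') i u) = u := by
  rw [← Scheme.Hom.comp_apply, Sigma.ι_desc]
  rfl

theorem exists_eq_inj (y : ↥(∐ fun _ : I => S')) :
    ∃ i, y = Sigma.ι (fun _ : I => S') i (cst S' I y) := by
  obtain ⟨i, z, rfl⟩ := exists_mem_range S' I y
  exact ⟨i, by rw [cst_inj]⟩

theorem inj_index_eq {i j : I} {x y : S'}
    (h : Sigma.ι (fun _ : I => S') i x = Sigma.ι (fun _ : I => S') j y) : i = j := by
  have := (sigmaι_eq_iff (fun _ : I => S') i j x y).mp h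
  exact congrArg Sigma.fst this

variable {S' I}

/-- membership of the `i`-th sheet in a clopen set is constant along preconnected sets -/
theorem inj_mem_of_preconnected {C : Set ↥(∐ fun _ : I => S')} (hC : IsClopen C) {U : Set S'}
    (hU : _root_.IsPreconnected U) {u₀ u₁ : S'} (h₀ : u₀ ∈ U) (h₁ : u₁ ∈ U) (i : I)
    (hi : Sigma.ι (fun _ : I => S') i u₀ ∈ C) : Sigma.ι (fun _ : I => S') i u₁ ∈ C := by
  have hpre : _root_.IsPreconnected (Sigma.ι (fun _ : I => S') i '' U) :=
    hU.image _ (Sigma.ι (fun _ : I => S') i).continuous.continuousOn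
  exact hpre.subset_isClopen hC ⟨_, ⟨u₀, h₀, rfl⟩, hi⟩ ⟨u₁, h₁, rfl⟩

theorem finite_index_of_finite_fibre {C : Set ↥(∐ fun _ : I => S')} (u₀ : S')
    (hfin : (C ∩ cst S' I ⁻¹' {u₀}).Finite) :
    {i : I | Sigma.ι (fun _ : I => S') i u₀ ∈ C}.Finite := by
  refine Set.Finite.of_finite_image (f := fun i => Sigma.ι (fun _ : I => S') i u₀)
    (hfin.subset ?_) ?_
  · rintro _ ⟨i, hi, rfl⟩
    exact ⟨hi, cst_inj S' I i u₀⟩
  · intro i _ j _ hij
    exact inj_index_eq S' I hij

theorem inter_preimage_eq {C : Set ↥(∐ fun _ : I => S')} (hC : IsClopen C) {U : Set S'}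
    (hU : _root_.IsPreconnected U) {u₀ : S'} (h₀ : u₀ ∈ U) {K : Set S'} (hK : K ⊆ U) :
    C ∩ cst S' I ⁻¹' K =
      ⋃ i ∈ {i : I | Sigma.ι (fun _ : I => S') i u₀ ∈ C}, Sigma.ι (fun _ : I => S') i '' K := by
  ext y
  simp only [Set.mem_inter_iff, Set.mem_preimage, Set.mem_iUnion, Set.mem_ofPred_eq, Set.mem_image,
    exists_prop]
  constructor
  · rintro ⟨hyC, hyK⟩
    obtain ⟨i, hi⟩ := exists_eq_inj S' I y
    refine ⟨i, ?_, cst S' I y, hyK, hi.symm⟩
    refine inj_mem_of_preconnected hC hU (hK hyK) h₀ i ?_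
    rw [← hi]
    exact hyC
  · rintro ⟨i, hi, k, hk, rfl⟩
    refine ⟨inj_mem_of_preconnected hC hU h₀ (hK hk) i hi, ?_⟩
    rw [cst_inj]
    exact hk

theorem isCompact_inter_preimage {C : Set ↥(∐ fun _ : I => S')} (hC : IsClopen C) {U : Set S'}
    (hU : _root_.IsPreconnected U) {u₀ : S'} (h₀ : u₀ ∈ U)
    (hfin : (C ∩ cst S' I ⁻¹' {u₀}).Finite) {K : Set S'} (hK : K ⊆ U) (hKc : IsCompact K) :
    IsCompact (C ∩ cst S' I ⁻¹' K) := by
  rw [inter_preimage_eq hC hU h₀ hK]
  exact (finite_index_of_finite_fibre u₀ hfin).isCompact_biUnion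
    (fun i _ => hKc.image (Sigma.ι (fun _ : I => S') i).continuous)

theorem finite_fibre_of_preconnected {C : Set ↥(∐ fun _ : I => S')} (hC : IsClopen C) {U : Set S'}
    (hU : _root_.IsPreconnected U) {u₀ u₁ : S'} (h₀ : u₀ ∈ U) (h₁ : u₁ ∈ U)
    (hfin : (C ∩ cst S' I ⁻¹' {u₀}).Finite) : (C ∩ cst S' I ⁻¹' {u₁}).Finite := by
  rw [inter_preimage_eq hC hU h₀ (K := {u₁}) (by simpa using h₁)]
  refine (finite_index_of_finite_fibre u₀ hfin).biUnion (fun i _ => ?_)
  simp

end Topo

section Chart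

variable {S' Z' : Scheme.{u}} {I : Type u} (c : Z' ⟶ ∐ fun _ : I => S') [IsClosedImmersion c]
  [IsOpenImmersion c] (h' : Z' ⟶ S') (hh' : c ≫ cst S' I = h')

include hh'

theorem image_fibre (K : Set S') : c '' (h' ⁻¹' K) = Set.range c ∩ cst S' I ⁻¹' K := by
  subst hh'
  ext y
  constructor
  · rintro ⟨w, hw, rfl⟩
    exact ⟨⟨w, rfl⟩, hw⟩
  · rintro ⟨⟨w, rfl⟩, hw⟩
    exact ⟨w, hw, rfl⟩

theorem fibre_eq_preimage (K : Set S') : h' ⁻¹' K = c ⁻¹' (Set.range c ∩ cst S' I ⁻¹' K) := by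
  subst hh'
  ext w
  constructor
  · intro hw
    exact ⟨⟨w, rfl⟩, hw⟩
  · rintro ⟨-, hw⟩
    exact hw

theorem isClopen_range : IsClopen (Set.range c) :=
  ⟨c.isClosedEmbedding.isClosed_range, c.isOpenEmbedding.isOpen_range⟩

theorem chart_finite {U : Set S'} (hU : _root_.IsPreconnected U) {u₀ u₁ : S'} (h₀ : u₀ ∈ U)
    (h₁ : u₁ ∈ U) (hfin : (h' ⁻¹' {u₀}).Finite) : (h' ⁻¹' {u₁}).Finite := by
  have h1 : (Set.range c ∩ cst S' I ⁻¹' {u₀}).Finite := by
    rw [← image_fibre c h' hh']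
    exact hfin.image _
  have h2 := finite_fibre_of_preconnected (isClopen_range c h' hh') hU h₀ h₁ h1
  rw [fibre_eq_preimage c h' hh']
  exact h2.preimage (Set.injOn_of_injective c.isOpenEmbedding.injective)

theorem chart_compact {U : Set S'} (hU : _root_.IsPreconnected U) {u₀ : S'} (h₀ : u₀ ∈ U)
    (hfin : (h' ⁻¹' {u₀}).Finite) {K : Set S'} (hK : K ⊆ U) (hKc : IsCompact K) :
    IsCompact (h' ⁻¹' K) := by
  have h1 : (Set.range c ∩ cst S' I ⁻¹' {u₀}).Finite := by
    rw [← image_fibre c h' hh']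
    exact hfin.image _
  rw [fibre_eq_preimage c h' hh']
  exact c.isClosedEmbedding.isCompact_preimage
    (isCompact_inter_preimage (isClopen_range c h' hh') hU h₀ h1 hK hKc)

theorem chart_qc {U : S'.Opens} (hU : _root_.IsPreconnected (U : Set S')) {u₀ : S'} (h₀ : u₀ ∈ U)
    (hfin : (h' ⁻¹' {u₀}).Finite) : QuasiCompact (pullback.snd h' U.ι) := by
  refine ⟨fun K hKo hKc => ?_⟩
  have hK₀ : IsCompact (h' ⁻¹' (U.ι '' K)) := by
    refine chart_compact c h' hh' hU h₀ hfin ?_ (hKc.image U.ι.continuous)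
    rintro _ ⟨k, -, rfl⟩
    exact k.2
  have heq : pullback.snd h' U.ι ⁻¹' K = pullback.fst h' U.ι ⁻¹' (h' ⁻¹' (U.ι '' K)) := by
    ext y
    simp only [Set.mem_preimage]
    rw [← Scheme.Hom.comp_apply, pullback.condition, Scheme.Hom.comp_apply]
    exact (U.ι.isOpenEmbedding.injective.mem_set_image).symm
  rw [heq]
  refine (pullback.fst h' U.ι).isOpenEmbedding.isInducing.isCompact_preimage' hK₀ ?_
  rw [Scheme.Pullback.range_fst]
  apply Set.preimage_mono
  exact Set.image_subset_range _ _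

end Chart


section Main

set_option backward.isDefEq.respectTransparency.types false in
theorem of_locally_etale (P : MorphismProperty Scheme.{u}) [IsZariskiLocalAtTarget P]
    [P.DescendsAlong (@Surjective ⊓ @Flat ⊓ @LocallyOfFinitePresentation)]
    {X S : Scheme.{u}} (h : X ⟶ S)
    (H : ∀ s : S, ∃ (S' : Scheme.{u}) (f : S' ⟶ S), Etale f ∧ s ∈ Set.range f.base ∧
      P (pullback.snd h f)) : P h := by
  choose S' f hf hs hP using H
  let F : (∐ S') ⟶ S := Sigma.desc f
  have hFs : Surjective F := by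
    apply Surjective.sigmaDesc_of_union_range_eq_univ
    rw [Set.eq_univ_iff_forall]
    intro s
    exact Set.mem_iUnion.mpr ⟨s, hs s⟩
  have hFf : Flat F := by
    have : ∀ s, Flat (f s) := fun s => by have := hf s; infer_instance
    infer_instance
  have hFp : LocallyOfFinitePresentation F :=
    IsZariskiLocalAtSource.sigmaDesc (fun s => by have := hf s; infer_instance)
  refine MorphismProperty.of_pullback_snd_of_descendsAlong (P := P)
    (Q := @Surjective ⊓ @Flat ⊓ @LocallyOfFinitePresentation) (f := h) (g := F)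
    ⟨⟨hFs, hFf⟩, hFp⟩ ?_
  rw [IsZariskiLocalAtTarget.iff_of_openCover (P := P) (sigmaOpenCover S')]
  intro (s : S)
  change P (pullback.snd (pullback.snd h F) (Sigma.ι S' s))
  rw [FpqcLocal.prop_comp_iff P, FpqcLocal.prop_congr P h (Sigma.ι_desc f s)]
  exact hP s

theorem chart_data {S : Scheme.{u}} (P : Over S) {Z : Scheme.{u}} (z : Z ⟶ P.left)
    [IsOpenImmersion z] [IsClosedImmersion z] {S' : Scheme.{u}} (f : S' ⟶ S) (I : Type u)
    (e : Red.bc f P ≅ TwC.const S' I) :
    ∃ c : pullback (z ≫ P.hom) f ⟶ ∐ fun _ : I => S', IsClosedImmersion c ∧ IsOpenImmersion c ∧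
      c ≫ cst S' I = pullback.snd (z ≫ P.hom) f := by
  have hw : e.hom.left ≫ cst S' I = pullback.snd P.hom f := Over.w e.hom
  have : IsIso e.hom.left := inferInstanceAs (IsIso ((Over.forget S').mapIso e).hom)
  refine ⟨(pullbackRightPullbackFstIso P.hom f z).inv ≫ pullback.snd z (pullback.fst P.hom f) ≫
    e.hom.left, inferInstance, inferInstance, ?_⟩
  rw [Category.assoc, Category.assoc, hw, pullbackRightPullbackFstIso_inv_snd_snd]

set_option backward.isDefEq.respectTransparency.types false in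
theorem main {S : Scheme.{u}} [IsLocallyNoetherian S] [ConnectedSpace S]
    (P : Over S) (hP : TwC.IsTwConst TwC.Topology.etale P)
    {Z : Scheme.{u}} (z : Z ⟶ P.left) [IsOpenImmersion z] [IsClosedImmersion z]
    (hs : ∃ s : S, Set.Finite ((z ≫ P.hom).base ⁻¹' {s})) :
    IsFinite (z ≫ P.hom) := by
  obtain ⟨h1, h2, h3⟩ := TwConstMain.main P hP
  have : IsSeparated P.hom := h1
  have : Etale P.hom := h2
  have hEt : Etale (z ≫ P.hom) := inferInstance
  have hLQF : LocallyQuasiFinite (z ≫ P.hom) := FpqcTwConst.locallyQuasiFinite_of_etale _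
  have hP' : ∀ s : S, ∃ (S' : Scheme.{u}) (f : S' ⟶ S), Etale f ∧ s ∈ Set.range f.base ∧
      ∃ I : Type u, Nonempty (Red.bc f P ≅ TwC.const S' I) := hP
  -- local charts
  have hchart : ∀ s : S, ∃ (S' : Scheme.{u}) (f : S' ⟶ S) (U : S'.Opens) (u : S'), Etale f ∧
      f u = s ∧ u ∈ U ∧ _root_.IsPreconnected (U : Set S') ∧
      (∀ u₀ u₁, u₀ ∈ U → u₁ ∈ U → (pullback.snd (z ≫ P.hom) f ⁻¹' {u₀}).Finite →
        (pullback.snd (z ≫ P.hom) f ⁻¹' {u₁}).Finite) ∧
      (∀ u₀ ∈ U, (pullback.snd (z ≫ P.hom) f ⁻¹' {u₀}).Finite →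
        QuasiCompact (pullback.snd (pullback.snd (z ≫ P.hom) f) U.ι)) := by
    intro s
    obtain ⟨S', f, hf, ⟨u, hu⟩, I, ⟨e⟩⟩ := hP' s
    have : IsLocallyNoetherian S' := LocallyOfFiniteType.isLocallyNoetherian f
    have : LocallyConnectedSpace S' := by
      apply Groth.Agent.H12.locallyConnectedSpace_of_locallyNoetherian
      intro x
      obtain ⟨W, hW, hxW, -⟩ := exists_isAffineOpen_mem_and_subset (x := x) (U := ⊤) trivial
      have := IsLocallyNoetherian.component_noetherian ⟨W, hW⟩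
      exact ⟨W, W.2.mem_nhds hxW, noetherianSpace_of_isAffineOpen W hW⟩
    obtain ⟨U, hUo, huU, hUc⟩ := (LocallyConnectedSpace.open_connected_basis u).ex_mem
    obtain ⟨c, hc1, hc2, hc3⟩ := chart_data P z f I e
    refine ⟨S', f, ⟨U, hUo⟩, u, hf, hu, huU, hUc.isPreconnected, ?_, ?_⟩
    · intro u₀ u₁ h₀ h₁ hfin
      exact chart_finite c _ hc3 hUc.isPreconnected h₀ h₁ hfin
    · intro u₀ h₀ hfin
      exact chart_qc c _ hc3 hUc.isPreconnected h₀ hfin
  choose S' f U u hf hu huU hUc hfinU hqcU using hchart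
  -- the set of points with finite fibre is open and closed
  let F : Set S := {s | ((z ≫ P.hom) ⁻¹' {s}).Finite}
  have hloc : ∀ s : S, ∃ V : Set S, IsOpen V ∧ s ∈ V ∧ ∀ t₀ ∈ V, ∀ t₁ ∈ V, t₀ ∈ F → t₁ ∈ F := by
    intro s
    have := hf s
    refine ⟨f s '' (U s : Set (S' s)), (f s).isOpenMap _ (U s).isOpen, ⟨u s, huU s, hu s⟩, ?_⟩
    rintro _ ⟨u₀, h₀, rfl⟩ _ ⟨u₁, h₁, rfl⟩ hfin
    exact finite_fibre_of_bc (z ≫ P.hom) (f s) u₁
      (hfinU s u₀ u₁ h₀ h₁ (finite_fibre_bc (z ≫ P.hom) (f s) u₀ hfin))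
  have hFclopen : IsClopen F := by
    constructor
    · rw [← isOpen_compl_iff, isOpen_iff_forall_mem_open]
      intro s hs
      obtain ⟨V, hVo, hsV, hV⟩ := hloc s
      exact ⟨V, fun t ht htF => hs (hV t ht s hsV htF), hVo, hsV⟩
    · rw [isOpen_iff_forall_mem_open]
      intro s hs
      obtain ⟨V, hVo, hsV, hV⟩ := hloc s
      exact ⟨V, fun t ht => hV s hsV t ht hs, hVo, hsV⟩
  have hFuniv : F = Set.univ := hFclopen.eq_univ hs
  have hqc : QuasiCompact (z ≫ P.hom) := by
    have := Groth.Agent.H1.quasiCompact_descendsAlong_fpqc.{u}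
    refine of_locally_etale @QuasiCompact (z ≫ P.hom) (fun s => ?_)
    have := hf s
    refine ⟨U s, (U s).ι ≫ f s, inferInstance, ⟨⟨u s, huU s⟩, hu s⟩, ?_⟩
    rw [← FpqcLocal.prop_comp_iff @QuasiCompact]
    refine hqcU s (u s) (huU s) (finite_fibre_bc (z ≫ P.hom) (f s) (u s) ?_)
    have : f s (u s) ∈ F := by rw [hFuniv]; trivial
    exact this
  -- conclusion via Zariski's main theorem
  have hz : ValuativeCriterion.Existence z := by
    have : UniversallyClosed z := inferInstance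
    rw [UniversallyClosed.eq_valuativeCriterion] at this
    exact this.1
  have hex : ValuativeCriterion.Existence (z ≫ P.hom) :=
    FpqcTwConst.existence_comp z P.hom hz h3.existence
  have : UniversallyClosed (z ≫ P.hom) := UniversallyClosed.of_valuativeCriterion _ hex
  have : IsProper (z ≫ P.hom) := { }
  exact IsFinite.of_isProper_of_locallyQuasiFinite _

end Main

end Groth.Agent.H42.EtConstFin
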