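import Mathlib

/-!
# Finiteness of fibres under base change, without separation hypotheses (helper42)

`finite_fibre_bc'`: for a locally quasi-finite morphism `h : X ⟶ S` and any `f : S' ⟶ S`, if the
fibre of `h` over `f s'` is finite then so is the fibre of the base change `X ×_S S' ⟶ S'` over `s'`.
(Same as `EtConstFin.finite_fibre_bc` but without `QuasiSeparatedSpace S`.)
-/

set_option autoImplicit false
universe u
open CategoryTheory Limits AlgebraicGeometry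

namespace Groth.Agent.H42.FibreBC

theorem finite_fibre_bc' {X S S' : Scheme.{u}} (h : X ⟶ S) [LocallyQuasiFinite h]
    (f : S' ⟶ S) (s' : S') (hfin : (h ⁻¹' {f s'}).Finite) :
    ((pullback.snd h f) ⁻¹' {s'}).Finite := by
  obtain ⟨S₀, hS₀, hsS₀, -⟩ := exists_isAffineOpen_mem_and_subset (x := f s') (U := ⊤) trivial
  have hA : ∀ x : X, ∃ A : X.Opens, IsAffineOpen A ∧ (h x = f s' → x ∈ A ∧ A ≤ h ⁻¹ᵁ S₀) := by
    intro x
    by_cases hx : h x = f s'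
    · have hx' : x ∈ h ⁻¹ᵁ S₀ := by
        change h x ∈ S₀
        rw [hx]; exact hsS₀
      obtain ⟨W, hW, hxW, hWS⟩ := exists_isAffineOpen_mem_and_subset (x := x) (U := h ⁻¹ᵁ S₀) hx'
      exact ⟨W, hW, fun _ => ⟨hxW, hWS⟩⟩
    · obtain ⟨W, hW, -, -⟩ := exists_isAffineOpen_mem_and_subset (x := x) (U := ⊤) trivial
      exact ⟨W, hW, fun h' => absurd h' hx⟩
  choose A hAaff hxA using hA
  let X₀ : X.Opens := ⨆ x ∈ h ⁻¹' {f s'}, A x
  have hX₀c : IsCompact (X₀ : Set X) := by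
    have : (X₀ : Set X) = ⋃ x ∈ h ⁻¹' {f s'}, (A x : Set X) := by
      simp [X₀]
    rw [this]
    exact hfin.isCompact_biUnion (fun x _ => (hAaff x).isCompact)
  have hsub : h ⁻¹' {f s'} ⊆ (X₀ : Set X) := by
    intro x hx
    have : (A x : X.Opens) ≤ X₀ := le_iSup₂ (f := fun x (_ : x ∈ h ⁻¹' {f s'}) => A x) x hx
    exact this (hxA x hx).1
  have hX₀S₀ : X₀ ≤ h ⁻¹ᵁ S₀ := iSup₂_le fun x hx => (hxA x hx).2
  have : CompactSpace ↥(X₀ : Scheme.{u}) := isCompact_iff_compactSpace.mp hX₀c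
  have hrange : Set.range (X₀.ι ≫ h) ⊆ Set.range S₀.ι := by
    rintro _ ⟨v, rfl⟩
    rw [Scheme.Opens.range_ι]
    exact hX₀S₀ v.2
  let h₀ : (X₀ : Scheme.{u}) ⟶ (S₀ : Scheme.{u}) := IsOpenImmersion.lift S₀.ι (X₀.ι ≫ h) hrange
  have hh₀ : h₀ ≫ S₀.ι = X₀.ι ≫ h := IsOpenImmersion.lift_fac _ _ _
  let f₀ : (f ⁻¹ᵁ S₀ : Scheme.{u}) ⟶ (S₀ : Scheme.{u}) := f ∣_ S₀
  have hf₀ : f₀ ≫ S₀.ι = (f ⁻¹ᵁ S₀).ι ≫ f := morphismRestrict_ι f S₀
  have : IsAffine (S₀ : Scheme.{u}) := hS₀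
  have : LocallyQuasiFinite (h₀ ≫ S₀.ι) := by rw [hh₀]; infer_instance
  have : LocallyQuasiFinite h₀ := LocallyQuasiFinite.of_comp h₀ S₀.ι
  have hqc : QuasiCompact h₀ := inferInstance
  let s'₀ : ↥((f ⁻¹ᵁ S₀ : S'.Opens) : Scheme.{u}) := ⟨s', hsS₀⟩
  have hfin' := Scheme.Hom.finite_preimage_singleton (pullback.snd h₀ f₀) s'₀
  let m : pullback h₀ f₀ ⟶ pullback h f :=
    pullback.map h₀ f₀ h f X₀.ι (f ⁻¹ᵁ S₀).ι S₀.ι hh₀ hf₀
  have hm : m ≫ pullback.snd h f = pullback.snd h₀ f₀ ≫ (f ⁻¹ᵁ S₀).ι := by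
    change pullback.map h₀ f₀ h f X₀.ι (f ⁻¹ᵁ S₀).ι S₀.ι _ _ ≫ pullback.snd h f = _
    rw [pullback.lift_snd]
  refine (hfin'.image m).subset ?_
  intro y hy
  have hy' : pullback.snd h f y = s' := hy
  have hyr : y ∈ Set.range m := by
    rw [Scheme.Pullback.range_map]
    refine ⟨?_, ?_⟩
    · rw [Set.mem_preimage, Scheme.Opens.range_ι]
      apply hsub
      change h (pullback.fst h f y) = f s'
      rw [← hy', ← Scheme.Hom.comp_apply, ← Scheme.Hom.comp_apply, pullback.condition]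
    · rw [Set.mem_preimage, Scheme.Opens.range_ι, hy']
      exact hsS₀
  obtain ⟨w, rfl⟩ := hyr
  refine ⟨w, ?_, rfl⟩
  change pullback.snd h₀ f₀ w = s'₀
  apply (f ⁻¹ᵁ S₀).ι.isOpenEmbedding.injective
  rw [← Scheme.Hom.comp_apply, ← hm, Scheme.Hom.comp_apply, hy']
  rfl

end Groth.Agent.H42.FibreBC
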