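import Mathlib
import Groth.Agent.H1.GeomUnibranchFlat
import Groth.Agent.H17.StalkComponents2
import Groth.Agent.H42.FpqcTwConst

/-!
# Étale schemes over an irreducible geometrically unibranch base (helper42)

Let `S` be an irreducible scheme with generic point `η`, all of whose local rings are geometrically
unibranch, and `h : Y ⟶ S` étale.  Then

* `exists_generic`, `existsUnique_generic`: every point of `Y` lies in the closure of exactly one
  point of the generic fibre `h⁻¹(η)`;
* `maximal_of_generic`: the points of the generic fibre are maximal points of `Y`;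
* `isOpen_closure_generic`: the closure of a point of the generic fibre is open (and closed and
  irreducible);
* `locallyConnectedSpace_of_etale`: `Y` is locally connected.
-/

set_option autoImplicit false
universe u
open CategoryTheory Limits AlgebraicGeometry TopologicalSpace

namespace Groth.Agent.H42.GUStruct

/-- A point of a locally quasi-finite `S`-scheme lying over the generic point of `S` is a maximal
point. -/
theorem maximal_of_generic {S Y : Scheme.{u}} [IrreducibleSpace S] (h : Y ⟶ S)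
    [LocallyQuasiFinite h] {l : Y} (hl : h l = genericPoint S) (y : Y) (hy : y ⤳ l) : y = l := by
  have h1 : h y ⤳ h l := hy.map h.continuous
  have h2 : h l ⤳ h y := by rw [hl]; exact genericPoint_specializes _
  have heq : h y = h l := (h1.antisymm h2).eq
  have hd := (Scheme.Hom.isDiscrete_preimage_singleton h (h l)).to_subtype
  have hs2 : (⟨y, heq⟩ : h ⁻¹' {h l}) ⤳ ⟨l, rfl⟩ :=
    (subtype_specializes_iff _ _).mpr hy
  exact congrArg Subtype.val hs2.eq

/-- Every point of a flat `S`-scheme has a generisation over the generic point. -/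
theorem exists_generic {S Y : Scheme.{u}} [IrreducibleSpace S] (h : Y ⟶ S) [Flat h] (y : Y) :
    ∃ l : Y, h l = genericPoint S ∧ y ∈ closure ({l} : Set Y) := by
  obtain ⟨l, hl1, hl2⟩ := Flat.generalizingMap h (genericPoint_specializes (h y))
  exact ⟨l, hl2, specializes_iff_mem_closure.mp hl1⟩

theorem eq_of_mem_closure {S Y : Scheme.{u}} [IrreducibleSpace S] (h : Y ⟶ S) [Etale h]
    (hS : ∀ s : S, CAlg2.IsGeomUnibranch (S.presheaf.stalk s)) {l l' y : Y}
    (hl : h l = genericPoint S) (hl' : h l' = genericPoint S)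
    (hy : y ∈ closure ({l} : Set Y)) (hy' : y ∈ closure ({l'} : Set Y)) : l = l' := by
  have hprime : ∀ y : Y, (nilradical (Y.presheaf.stalk y)).IsPrime := fun y =>
    Groth.Agent.H1.GeomUnibranchFlat.isPrime_nilradical_stalk_of_etale h y (hS _)
  have hdisj := (Groth.Agent.H17.pairwiseDisjoint_irreducibleComponents_iff Y).mpr hprime
  have hLQF : LocallyQuasiFinite h := FpqcTwConst.locallyQuasiFinite_of_etale h
  have hc : closure ({l} : Set Y) ∈ irreducibleComponents Y :=
    Groth.Agent.H17.mem_irreducibleComponents_of_maximal (maximal_of_generic h hl)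
  have hc' : closure ({l'} : Set Y) ∈ irreducibleComponents Y :=
    Groth.Agent.H17.mem_irreducibleComponents_of_maximal (maximal_of_generic h hl')
  have heq : closure ({l} : Set Y) = closure ({l'} : Set Y) := by
    by_contra hne
    have := hdisj hc hc' hne
    exact Set.disjoint_left.mp this hy hy'
  exact (isGenericPoint_closure (x := l)).eq (heq ▸ isGenericPoint_closure (x := l'))

theorem existsUnique_generic {S Y : Scheme.{u}} [IrreducibleSpace S] (h : Y ⟶ S) [Etale h]
    (hS : ∀ s : S, CAlg2.IsGeomUnibranch (S.presheaf.stalk s)) (y : Y) :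
    ∃! l : Y, h l = genericPoint S ∧ y ∈ closure ({l} : Set Y) := by
  obtain ⟨l, hl1, hl2⟩ := exists_generic h y
  exact ⟨l, ⟨hl1, hl2⟩, fun l' hl' => eq_of_mem_closure h hS hl'.1 hl1 hl'.2 hl2⟩

/-- Locally on the source, a locally quasi-finite morphism has finite fibres. -/
theorem exists_opens_finite_fibre {S Y : Scheme.{u}} (h : Y ⟶ S) [LocallyQuasiFinite h]
    (y : Y) (s : S) : ∃ V : Y.Opens, y ∈ V ∧ (h ⁻¹' {s} ∩ (V : Set Y)).Finite := by
  obtain ⟨S₀, hS₀, hyS₀, -⟩ := exists_isAffineOpen_mem_and_subset (x := h y) (U := ⊤) trivial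
  obtain ⟨V, hV, hyV, hVS₀⟩ :=
    exists_isAffineOpen_mem_and_subset (x := y) (U := h ⁻¹ᵁ S₀) hyS₀
  refine ⟨V, hyV, ?_⟩
  have hrange : Set.range (V.ι ≫ h) ⊆ Set.range S₀.ι := by
    rintro _ ⟨v, rfl⟩
    rw [Scheme.Opens.range_ι]
    exact hVS₀ v.2
  let g : (V : Scheme.{u}) ⟶ (S₀ : Scheme.{u}) := IsOpenImmersion.lift S₀.ι (V.ι ≫ h) hrange
  have hg : g ≫ S₀.ι = V.ι ≫ h := IsOpenImmersion.lift_fac _ _ _
  have : IsAffine (V : Scheme.{u}) := hV
  have : IsAffine (S₀ : Scheme.{u}) := hS₀
  have : LocallyQuasiFinite (g ≫ S₀.ι) := by rw [hg]; infer_instance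
  have : LocallyQuasiFinite g := LocallyQuasiFinite.of_comp g S₀.ι
  by_cases hs : s ∈ S₀
  · have hfin := Scheme.Hom.finite_preimage_singleton g ⟨s, hs⟩
    refine (hfin.image V.ι).subset ?_
    rintro v ⟨hv1, hv2⟩
    let v' : ↥((V : Y.Opens) : Scheme.{u}) := ⟨v, hv2⟩
    refine ⟨v', ?_, rfl⟩
    have : S₀.ι (g v') = h v := by
      rw [← Scheme.Hom.comp_apply, hg, Scheme.Hom.comp_apply]; rfl
    apply S₀.ι.isOpenEmbedding.injective
    rw [this]
    exact hv1
  · convert Set.finite_empty
    ext v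
    simp only [Set.mem_inter_iff, Set.mem_preimage, Set.mem_singleton_iff, SetLike.mem_coe,
      Set.mem_empty_iff_false, iff_false, not_and]
    rintro rfl hv
    exact hs (hVS₀ hv)

theorem isOpen_closure_generic {S Y : Scheme.{u}} [IrreducibleSpace S] (h : Y ⟶ S) [Etale h]
    (hS : ∀ s : S, CAlg2.IsGeomUnibranch (S.presheaf.stalk s)) {l : Y}
    (hl : h l = genericPoint S) : IsOpen (closure ({l} : Set Y)) := by
  have hLQF : LocallyQuasiFinite h := FpqcTwConst.locallyQuasiFinite_of_etale h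
  rw [isOpen_iff_forall_mem_open]
  intro y hy
  obtain ⟨V, hyV, hfin⟩ := exists_opens_finite_fibre h y (genericPoint S)
  let T : Set Y := (h ⁻¹' {genericPoint S} ∩ (V : Set Y)) \ {l}
  have hT : T.Finite := hfin.subset Set.sdiff_subset
  have hclosed : IsClosed (⋃ t ∈ T, closure ({t} : Set Y)) :=
    hT.isClosed_biUnion fun _ _ => isClosed_closure
  refine ⟨(V : Set Y) \ ⋃ t ∈ T, closure ({t} : Set Y), ?_, V.2.sdiff hclosed, ⟨hyV, ?_⟩⟩
  · rintro w ⟨hwV, hw⟩
    obtain ⟨lw, hlw1, hlw2⟩ := exists_generic h w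
    have hlwV : lw ∈ V := (specializes_iff_mem_closure.mpr hlw2).mem_open V.2 hwV
    by_cases hlwl : lw = l
    · rw [← hlwl]; exact hlw2
    · exfalso
      apply hw
      simp only [Set.mem_iUnion]
      exact ⟨lw, ⟨⟨hlw1, hlwV⟩, hlwl⟩, hlw2⟩
  · simp only [Set.mem_iUnion, not_exists]
    rintro t ⟨⟨ht1, -⟩, ht2⟩ hyt
    exact ht2 (eq_of_mem_closure h hS ht1 hl hyt hy)

/-- An étale scheme over an irreducible geometrically unibranch scheme is locally connected. -/
theorem locallyConnectedSpace_of_etale {S Y : Scheme.{u}} [IrreducibleSpace S] (h : Y ⟶ S)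
    [Etale h] (hS : ∀ s : S, CAlg2.IsGeomUnibranch (S.presheaf.stalk s)) :
    LocallyConnectedSpace Y := by
  rw [locallyConnectedSpace_iff_subsets_isOpen_isConnected]
  intro x U hU
  obtain ⟨W, hWU, hWo, hxW⟩ := mem_nhds_iff.mp hU
  let W' : Y.Opens := ⟨W, hWo⟩
  let x' : ↥(W' : Scheme.{u}) := ⟨x, hxW⟩
  obtain ⟨l, hl1, hl2⟩ := exists_generic (W'.ι ≫ h) x'
  have hopen := isOpen_closure_generic (W'.ι ≫ h) hS hl1
  refine ⟨W'.ι '' closure ({l} : Set ↥(W' : Scheme.{u})), ?_, ?_, ⟨x', hl2, rfl⟩, ?_⟩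
  · rintro _ ⟨w, -, rfl⟩
    exact hWU w.2
  · exact W'.ι.isOpenEmbedding.isOpenMap _ hopen
  · exact (isIrreducible_singleton.closure.isConnected).image _ W'.ι.continuous.continuousOn

end Groth.Agent.H42.GUStruct
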