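import Mathlib
import Groth.Prelude.Def_TwC
import Groth.Agent.H42.GUStruct
import Groth.Agent.H42.EtConstFin3
import Groth.Agent.H42.TwConstMain
import Groth.Agent.H7.PropA
import Groth.Agent.H20.RadicialFibre

/-!
# Étale-locally constant schemes over an irreducible geometrically unibranch base (helper42)

Let `S` be irreducible with generic point `η` and geometrically unibranch local rings, and `X` an
étale-locally constant `S`-scheme.

* `finite_closure`: for `l` in the generic fibre, `closure {l}` is open and closed, and finite étale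
  surjective over `S`;
* `section_ext`: sections of `X ⟶ S` agreeing at `η` are equal;
* `exists_section`: every `κ(η)`-point of the generic fibre extends to a section.
-/

set_option autoImplicit false
universe u
open CategoryTheory Limits AlgebraicGeometry TopologicalSpace

namespace Groth.Agent.H42.GUTwConst

theorem fibre_closure_generic {S Y : Scheme.{u}} [IrreducibleSpace S] (h : Y ⟶ S)
    [LocallyQuasiFinite h] {l a : Y} (_hl : h l = genericPoint S) (ha : h a = genericPoint S)
    (hmem : a ∈ closure ({l} : Set Y)) : a = l :=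
  (GUStruct.maximal_of_generic h ha l (specializes_iff_mem_closure.mpr hmem)).symm

theorem finite_closure {S : Scheme.{u}} [IrreducibleSpace S]
    (hS : ∀ s : S, CAlg2.IsGeomUnibranch (S.presheaf.stalk s))
    (X : Over S) (hX : TwC.IsTwConst TwC.Topology.etale X) (l : X.left)
    (hl : X.hom l = genericPoint S) :
    ∃ U : X.left.Opens, (U : Set X.left) = closure ({l} : Set X.left) ∧ IsClosed (U : Set X.left) ∧
      IsFinite (U.ι ≫ X.hom) ∧ Etale (U.ι ≫ X.hom) ∧ Surjective (U.ι ≫ X.hom) := by
  obtain ⟨h1, h2, h3⟩ := TwConstMain.main X hX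
  have : IsSeparated X.hom := h1
  have : Etale X.hom := h2
  have hLQF : LocallyQuasiFinite X.hom := FpqcTwConst.locallyQuasiFinite_of_etale _
  let U : X.left.Opens := ⟨closure ({l} : Set X.left), GUStruct.isOpen_closure_generic X.hom hS hl⟩
  have hlU : l ∈ U := subset_closure rfl
  have hcl : IsClosedImmersion U.ι :=
    IsClosedImmersion.of_isPreimmersion _ (by rw [Scheme.Opens.range_ι]; exact isClosed_closure)
  have hpc : PreconnectedSpace U :=
    Subtype.preconnectedSpace
      (isIrreducible_singleton (x := l)).closure.isPreirreducible.isPreconnected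
  have hLC : ∀ (S' : Scheme.{u}) (f : S' ⟶ S) [Etale f], LocallyConnectedSpace S' :=
    fun S' f _ => GUStruct.locallyConnectedSpace_of_etale f hS
  have hfin : IsFinite (U.ι ≫ X.hom) := by
    refine EtConstFin3.main_of_preconnected hLC X hX U.ι ⟨l, hlU⟩ ?_
    apply Set.Subsingleton.finite
    have key : ∀ a : U, a ∈ (U.ι ≫ X.hom) ⁻¹' {(U.ι ≫ X.hom) ⟨l, hlU⟩} → a = ⟨l, hlU⟩ := by
      intro a ha
      have ha' : X.hom (a : X.left) = X.hom l := ha
      exact Subtype.ext (fibre_closure_generic X.hom hl (ha'.trans hl) a.2)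
    intro a ha b hb
    rw [key a ha, key b hb]
  refine ⟨U, rfl, isClosed_closure, hfin, inferInstance, ⟨fun s => ?_⟩⟩
  have hclosed : IsClosed (Set.range (U.ι ≫ X.hom)) :=
    (U.ι ≫ X.hom).isClosedMap.isClosed_range
  have hη : genericPoint S ∈ Set.range (U.ι ≫ X.hom) := ⟨⟨l, hlU⟩, hl⟩
  have : s ∈ closure ({genericPoint S} : Set S) := by
    rw [(genericPoint_spec S).def]; trivial
  exact hclosed.closure_subset_iff.mpr (Set.singleton_subset_iff.mpr hη) this

set_option backward.isDefEq.respectTransparency false in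
theorem isOpenImmersion_equalizer_ι_left {S : Scheme.{u}} {X Y : Over S}
    [IsOpenImmersion (pullback.diagonal Y.hom)]
    (f g : X ⟶ Y) : IsOpenImmersion (equalizer.ι f g).left := by
  refine MorphismProperty.of_isPullback (P := @IsOpenImmersion)
    ((Limits.isPullback_equalizer_prod f g).map (Over.forget _)).flip ?_
  rw [← MorphismProperty.cancel_right_of_respectsIso @IsOpenImmersion _
    (Over.prodLeftIsoPullback Y Y).hom]
  convert! (inferInstance : IsOpenImmersion (pullback.diagonal Y.hom))
  ext1 <;> simp [← Over.comp_left]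

/-- Two sections of a separated unramified morphism over an irreducible base which agree at the
generic point are equal. -/
theorem section_ext {S : Scheme.{u}} [IrreducibleSpace S] {Y : Scheme.{u}} (h : Y ⟶ S)
    [IsSeparated h] [IsOpenImmersion (pullback.diagonal h)]
    (σ₁ σ₂ : S ⟶ Y) (h₁ : σ₁ ≫ h = 𝟙 S) (h₂ : σ₂ ≫ h = 𝟙 S)
    (hη : S.fromSpecResidueField (genericPoint S) ≫ σ₁ =
      S.fromSpecResidueField (genericPoint S) ≫ σ₂) : σ₁ = σ₂ := by
  let X' : Over S := Over.mk (𝟙 S)
  let Y' : Over S := Over.mk h
  let U' : Over S := Over.mk (S.fromSpecResidueField (genericPoint S))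
  let f' : X' ⟶ Y' := Over.homMk σ₁ h₁
  let g' : X' ⟶ Y' := Over.homMk σ₂ h₂
  let ι' : U' ⟶ X' := Over.homMk (S.fromSpecResidueField (genericPoint S)) (by simp [X', U'])
  have : IsSeparated Y'.hom := ‹_›
  have : IsOpenImmersion (pullback.diagonal Y'.hom) := ‹_›
  have hopen : IsOpenImmersion (equalizer.ι f' g').left := isOpenImmersion_equalizer_ι_left f' g'
  have hclosed : IsClosedImmersion (equalizer.ι f' g').left := inferInstance
  have hlift : (equalizer.lift ι' (by ext1; exact hη) : U' ⟶ equalizer f' g').left ≫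
      (equalizer.ι f' g').left = S.fromSpecResidueField (genericPoint S) := by
    rw [← Over.comp_left, equalizer.lift_ι]; rfl
  have hηr : genericPoint S ∈ Set.range (equalizer.ι f' g').left := by
    refine ⟨(equalizer.lift ι' (by ext1; exact hη) : U' ⟶ equalizer f' g').left
      (default : Spec (S.residueField (genericPoint S))), ?_⟩
    rw [← Scheme.Hom.comp_apply, hlift, Scheme.fromSpecResidueField_apply]
  have hsurj : Surjective (equalizer.ι f' g').left := by
    refine ⟨fun s => ?_⟩
    have hcl : IsClosed (Set.range (equalizer.ι f' g').left) :=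
      (Scheme.Hom.isClosedEmbedding _).isClosed_range
    have : s ∈ closure ({genericPoint S} : Set S) := by
      rw [(genericPoint_spec S).def]; trivial
    exact hcl.closure_subset_iff.mpr (Set.singleton_subset_iff.mpr hηr) this
  have : IsIso (equalizer.ι f' g').left := by
    have : Epi (equalizer.ι f' g').left.base := by
      rw [TopCat.epi_iff_surjective]
      exact hsurj.surj
    exact IsOpenImmersion.isIso _
  rw [← cancel_epi (equalizer.ι f' g').left]
  exact congr($(equalizer.condition f' g').left)

theorem exists_section {S : Scheme.{u}} [IrreducibleSpace S]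
    (hS : ∀ s : S, CAlg2.IsGeomUnibranch (S.presheaf.stalk s))
    (X : Over S) (hX : TwC.IsTwConst TwC.Topology.etale X)
    (τ : Spec (S.residueField (genericPoint S)) ⟶ X.left)
    (hτ : τ ≫ X.hom = S.fromSpecResidueField (genericPoint S)) :
    ∃ σ : S ⟶ X.left, σ ≫ X.hom = 𝟙 S ∧ S.fromSpecResidueField (genericPoint S) ≫ σ = τ := by
  obtain ⟨h1, h2, h3⟩ := TwConstMain.main X hX
  have : IsSeparated X.hom := h1
  have : Etale X.hom := h2
  have hLQF : LocallyQuasiFinite X.hom := FpqcTwConst.locallyQuasiFinite_of_etale _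
  let pt : Spec (S.residueField (genericPoint S)) := default
  let l : X.left := τ pt
  have hl : X.hom l = genericPoint S := by
    change X.hom (τ pt) = _
    rw [← Scheme.Hom.comp_apply, hτ, Scheme.fromSpecResidueField_apply]
  obtain ⟨U, hU, hUc, hfin, het, hsurj⟩ := finite_closure hS X hX l hl
  let p : (U : Scheme.{u}) ⟶ S := U.ι ≫ X.hom
  have hrange : Set.range τ ⊆ Set.range U.ι := by
    rintro _ ⟨q, rfl⟩
    rw [Scheme.Opens.range_ι, hU, Subsingleton.elim q pt]
    exact subset_closure rfl
  let τ' : Spec (S.residueField (genericPoint S)) ⟶ (U : Scheme.{u}) :=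
    IsOpenImmersion.lift U.ι τ hrange
  have hτ' : τ' ≫ U.ι = τ := IsOpenImmersion.lift_fac _ _ _
  have hτp : τ' ≫ p = S.fromSpecResidueField (genericPoint S) := by
    rw [← hτ, ← hτ', Category.assoc]
  let t₀ : ↥((U : X.left.Opens) : Scheme.{u}) := τ' pt
  have ht₀ : U.ι t₀ = l := by
    change U.ι (τ' pt) = τ pt
    rw [← Scheme.Hom.comp_apply, hτ']
  have hpt₀ : p t₀ = genericPoint S := by
    change X.hom (U.ι t₀) = _
    rw [ht₀, hl]
  have huniq : ∀ t : ↥((U : X.left.Opens) : Scheme.{u}), p t = p t₀ → t = t₀ := by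
    intro t ht
    apply U.ι.isOpenEmbedding.injective
    rw [ht₀]
    have htU : U.ι t ∈ closure ({l} : Set X.left) := by rw [← hU]; exact t.2
    exact fibre_closure_generic X.hom hl (ht.trans hpt₀) htU
  have hsep : Groth.Agent.H7.sepDeg p t₀ = 1 := by
    apply Groth.Agent.H7.sepDeg_eq_one_of_isPurelyInseparable
    have hsos : SurjectiveOnStalks (τ' ≫ p) := by rw [hτp]; infer_instance
    have hbij := Groth.Agent.H20.RadicialFibre.bijective_residueFieldMap (τ' ≫ p) pt
    rw [Scheme.residueFieldMap_comp] at hbij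
    have hpi : ((τ'.residueFieldMap pt).hom.comp (p.residueFieldMap (τ' pt)).hom).IsPurelyInseparable :=
      Groth.Agent.H20.RadicialFibre.pi_of_bijective _ hbij
    exact Groth.Agent.H20.RadicialFibre.pi_of_comp_bot hpi
  have hrank := Groth.Agent.H7.finrank_eq_one_of_unique_of_sepDeg p t₀ huniq hsep
  have hlc : IsLocallyConstant p.finrank := Scheme.Hom.isLocallyConstant_finrank p
  have hiso : IsIso p := by
    rw [Scheme.Hom.isIso_iff_finrank_eq p]
    ext z
    rw [hlc.apply_eq_of_preconnectedSpace z (p t₀), hrank]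
    rfl
  refine ⟨inv p ≫ U.ι, ?_, ?_⟩
  · rw [Category.assoc]
    exact IsIso.inv_hom_id p
  · rw [← hτp, Category.assoc, IsIso.hom_inv_id_assoc, hτ']

end Groth.Agent.H42.GUTwConst
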