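import Mathlib
import Groth.Agent.H42.ConstExtRigidComm
import Groth.Agent.H42.ConstBC
import Groth.Agent.H42.GUTwConst
import Groth.Agent.H42.FixedPtEtale

/-!
# Torsors under a torsion-free constant group over an irreducible geometrically unibranch base
(helper42)
-/

set_option autoImplicit false
universe u
open CategoryTheory Limits MonoidalCategory CartesianMonoidalCategory MonObj GrpObj AlgebraicGeometry

namespace Groth.Agent.H42.ConstTorsor

open Groth.Agent.H42.ConstExtSch Groth.Agent.H42.ConstExtSplit Groth.Agent.H42.ConstExtRigidComm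

section PseudoTorsor

variable {S : Scheme.{u}} {G X : Over S} [GrpObj G] (a : AlgGrp.Action G X)

/-- transitivity of a pseudo-torsor on points. -/
theorem exists_act_eq (hps : NonAbH1.IsPseudoTorsorSch a) {T : Over S} (y₁ y₂ : T ⟶ X) :
    ∃ g : T ⟶ G, lift g y₂ ≫ a.act = y₁ := by
  have : IsIso (lift a.act (snd G X)) := hps
  obtain ⟨w, hw⟩ : ∃ w : T ⟶ G ⊗ X, w = lift y₁ y₂ ≫ inv (lift a.act (snd G X)) := ⟨_, rfl⟩
  have h1 : w ≫ lift a.act (snd G X) = lift y₁ y₂ := by
    rw [hw, Category.assoc, IsIso.inv_hom_id, Category.comp_id]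
  have h2 : w ≫ a.act = y₁ := by
    have := congrArg (· ≫ fst X X) h1
    simpa using this
  have h3 : w ≫ snd G X = y₂ := by
    have := congrArg (· ≫ snd X X) h1
    simpa using this
  have h4 : w = lift (w ≫ fst G X) y₂ := by
    apply CartesianMonoidalCategory.hom_ext
    · rw [lift_fst]
    · rw [lift_snd, h3]
  refine ⟨w ≫ fst G X, ?_⟩
  rw [← h4, h2]

/-- freeness of a pseudo-torsor on points. -/
theorem eq_of_act_eq (hps : NonAbH1.IsPseudoTorsorSch a) {T : Over S} (g g' : T ⟶ G) (y : T ⟶ X)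
    (h : lift g y ≫ a.act = lift g' y ≫ a.act) : g = g' := by
  have : IsIso (lift a.act (snd G X)) := hps
  have h1 : lift g y ≫ lift a.act (snd G X) = lift g' y ≫ lift a.act (snd G X) := by
    apply CartesianMonoidalCategory.hom_ext
    · rw [Category.assoc, Category.assoc, lift_fst, h]
    · rw [Category.assoc, Category.assoc, lift_snd, lift_snd, lift_snd]
  have h2 := (cancel_mono _).mp h1
  have := congrArg (· ≫ fst G X) h2
  simpa using this

/-- A pseudo-torsor under a constant group, étale and surjective over the base, is étale-locally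
constant. -/
theorem isTwConst_etale (hps : NonAbH1.IsPseudoTorsorSch a) {Z : Type u}
    (eG : G ≅ TwC.const S Z) [Etale X.hom] (hsurj : Function.Surjective X.hom) :
    TwC.IsTwConst TwC.Topology.etale X := by
  have : IsIso (lift a.act (snd G X)) := hps
  intro s
  obtain ⟨x, hx⟩ := hsurj s
  refine ⟨X.left, X.hom, inferInstance, ⟨x, hx⟩, Z, ⟨?_⟩⟩
  have hΦ : IsIso (lift a.act (snd G X)).left :=
    inferInstanceAs (IsIso ((Over.forget S).map (lift a.act (snd G X))))
  have hcomm : (lift a.act (snd G X)).left ≫ pullback.snd X.hom X.hom = pullback.snd G.hom X.hom := by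
    have h1 : lift a.act (snd G X) ≫ snd X X = snd G X := lift_snd _ _
    have h2 : (lift a.act (snd G X) ≫ snd X X).left = (snd G X).left := by rw [h1]
    rw [Over.comp_left, Over.snd_left, Over.snd_left] at h2
    exact h2
  have e1 : Red.bc X.hom G ≅ Red.bc X.hom X :=
    Over.isoMk (asIso (lift a.act (snd G X)).left) hcomm
  exact e1.symm ≪≫ (Over.pullback X.hom).mapIso eG ≪≫ ConstBC.bcConstIso X.hom Z

end PseudoTorsor

/-- points of a pullback square of schemes. -/
theorem exists_of_isPullback {P X Y Z : Scheme.{u}} {fst : P ⟶ X} {snd : P ⟶ Y} {f : X ⟶ Z}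
    {g : Y ⟶ Z} (h : IsPullback fst snd f g) (x : X) (y : Y) (hxy : f x = g y) :
    ∃ p : P, fst p = x ∧ snd p = y := by
  obtain ⟨w, hw1, hw2⟩ := Scheme.Pullback.exists_preimage_pullback x y hxy
  refine ⟨h.isoPullback.inv w, ?_, ?_⟩
  · rw [← Scheme.Hom.comp_apply, h.isoPullback_inv_fst, hw1]
  · rw [← Scheme.Hom.comp_apply, h.isoPullback_inv_snd, hw2]

section Core

variable {B : Scheme.{u}} {Z : Type u} [Group Z] {G X : Over B} [GrpObj G]
  (eG : G ≅ TwC.const B Z) (a : AlgGrp.Action G X)

/-- the constant section of index `z`. -/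
noncomputable def cs (z : Z) : 𝟙_ (Over B) ⟶ G := TwC.pt B Z z ≫ eG.inv

lemma cs_mul (hG : TwC.IsConstGrp Z G eG) (z z' : Z) : cs eG (z * z') = cs eG z * cs eG z' :=
  (hG z z').symm

lemma cs_one (hG : TwC.IsConstGrp Z G eG) : cs eG (1 : Z) = η[G] :=
  (unit_eq_pt_one G eG hG).symm

/-- translation of a point by the constant section of index `z`. -/
noncomputable def trp (z : Z) {T : Over B} (y : T ⟶ X) : T ⟶ X :=
  lift (toUnit T ≫ cs eG z) y ≫ a.act

lemma trp_mul (hG : TwC.IsConstGrp Z G eG) (z z' : Z) {T : Over B} (y : T ⟶ X) :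
    trp eG a (z * z') y = trp eG a z (trp eG a z' y) := by
  unfold trp
  rw [cs_mul eG hG, MonObj.comp_mul, FixedPtEtale.act_mul]

lemma trp_one (hG : TwC.IsConstGrp Z G eG) {T : Over B} (y : T ⟶ X) : trp eG a 1 y = y := by
  unfold trp
  rw [cs_one eG hG, FixedPtEtale.act_one]

lemma comp_trp (z : Z) {T T' : Over B} (t : T' ⟶ T) (y : T ⟶ X) :
    t ≫ trp eG a z y = trp eG a z (t ≫ y) := by
  unfold trp
  rw [← Category.assoc, comp_lift, ← Category.assoc]
  congr 3
  exact Subsingleton.elim _ _

/-- the translation by the constant section of index `z`. -/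
noncomputable def rho (z : Z) : X ⟶ X := trp eG a z (𝟙 X)

lemma comp_rho (z : Z) {T : Over B} (y : T ⟶ X) : y ≫ rho eG a z = trp eG a z y := by
  unfold rho
  rw [comp_trp, Category.comp_id]

lemma rho_mul (hG : TwC.IsConstGrp Z G eG) (z z' : Z) :
    rho eG a (z * z') = rho eG a z' ≫ rho eG a z := by
  rw [comp_rho]
  unfold rho
  rw [trp_mul eG a hG]

lemma hom_rho_left (z : Z) (x : ↥X.left) : X.hom ((rho eG a z).left x) = X.hom x := by
  rw [← Scheme.Hom.comp_apply, Over.w]

/-- **Core**: a pseudo-torsor under a torsion-free constant group, étale and surjective over an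
irreducible base with geometrically unibranch local rings, has a section. -/
theorem exists_section_irreducible [IrreducibleSpace ↥B]
    (hB : ∀ b : ↥B, CAlg2.IsGeomUnibranch ↑(B.presheaf.stalk b))
    (hZ : ∀ z : Z, IsOfFinOrder z → z = 1) (hG : TwC.IsConstGrp Z G eG)
    (hps : NonAbH1.IsPseudoTorsorSch a) [Etale X.hom] (hsurj : Function.Surjective X.hom) :
    ∃ σ : B ⟶ X.left, σ ≫ X.hom = 𝟙 B := by
  have hTw := isTwConst_etale a hps eG hsurj
  obtain ⟨l, hl⟩ := hsurj (genericPoint ↥B)
  obtain ⟨U, hUcl, hUclosed, hfin, het, hsurjU⟩ := GUTwConst.finite_closure hB X hTw l hl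
  have hΦ : IsIso (lift a.act (snd G X)) := hps
  have hΦl : IsIso (lift a.act (snd G X)).left :=
    inferInstanceAs (IsIso ((Over.forget B).map (lift a.act (snd G X))))
  obtain ⟨j, hj⟩ : ∃ j : (U : Scheme.{u}) ⟶ B, j = U.ι ≫ X.hom := ⟨_, rfl⟩
  rw [← hj] at hfin het hsurjU
  have hlU : l ∈ U := by
    change l ∈ (U : Set ↥X.left)
    rw [hUcl]; exact subset_closure rfl
  -- the stabiliser of `l` is trivial
  have hHmul : ∀ z ∈ {z : Z | (rho eG a z).left l = l}, ∀ z' ∈ {z : Z | (rho eG a z).left l = l},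
      z * z' ∈ {z : Z | (rho eG a z).left l = l} := by
    intro z hz z' hz'
    change (rho eG a (z * z')).left l = l
    rw [rho_mul eG a hG, Over.comp_left, Scheme.Hom.comp_apply, hz', hz]
  have hHfin : {z : Z | (rho eG a z).left l = l}.Finite := by
    obtain ⟨k, hk⟩ : ∃ k : Over.mk j ⟶ X, k.left = U.ι := ⟨Over.homMk U.ι hj.symm, rfl⟩
    have hfinpr : IsFinite (snd (Over.mk j) X).left := by
      rw [Over.snd_left]
      change IsFinite (pullback.snd j X.hom)
      infer_instance
    have hfib := Scheme.Hom.finite_preimage_singleton (snd (Over.mk j) X).left l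
    obtain ⟨v, hv⟩ : ∃ v : Z → ↥(G ⊗ X).left,
        v = fun z => (lift (toUnit X ≫ cs eG z) (𝟙 X)).left l := ⟨_, rfl⟩
    have hv_act : ∀ z, a.act.left (v z) = (rho eG a z).left l := by
      intro z
      rw [hv, ← Scheme.Hom.comp_apply, ← Over.comp_left]
      rfl
    have hv_snd : ∀ z, (snd G X).left (v z) = l := by
      intro z
      rw [hv, ← Scheme.Hom.comp_apply, ← Over.comp_left, lift_snd]
      rfl
    have hv_fst : ∀ z, eG.hom.left ((fst G X).left (v z)) =
        Sigma.ι (fun _ : Z => B) z (X.hom l) := by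
      intro z
      have h0 : lift (toUnit X ≫ cs eG z) (𝟙 X) ≫ fst G X ≫ eG.hom = toUnit X ≫ TwC.pt B Z z := by
        rw [lift_fst_assoc, cs, Category.assoc, Category.assoc, Iso.inv_hom_id, Category.comp_id]
      rw [hv, ← Scheme.Hom.comp_apply, ← Scheme.Hom.comp_apply, ← Over.comp_left, ← Over.comp_left,
        h0, Over.comp_left, Scheme.Hom.comp_apply, pt_left, Over.toUnit_left]
    have hw : ∀ z : ↥{z : Z | (rho eG a z).left l = l}, ∃ w : ↥(Over.mk j ⊗ X).left,
        (k ▷ X).left w = (lift a.act (snd G X)).left (v z.1) := by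
      intro z
      have hpb : IsPullback (k ▷ X).left (fst (Over.mk j) X).left (fst X X).left k.left :=
        (Groth.Agent.H40.isPullback_whiskerRight_fst k X).map (Over.forget B)
      obtain ⟨lU, hlU'⟩ : ∃ lU : ↥(U : Scheme.{u}), U.ι lU = l := by
        have : l ∈ Set.range U.ι := by rw [Scheme.Opens.range_ι]; exact hlU
        exact this
      have hfst : (fst X X).left ((lift a.act (snd G X)).left (v z.1)) = k.left lU := by
        rw [hk, hlU', ← Scheme.Hom.comp_apply, ← Over.comp_left, lift_fst, hv_act]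
        exact z.2
      obtain ⟨w, hw1, -⟩ := exists_of_isPullback hpb _ _ hfst
      exact ⟨w, hw1⟩
    have hmaps : ∀ z : ↥{z : Z | (rho eG a z).left l = l},
        Classical.choose (hw z) ∈ (snd (Over.mk j) X).left ⁻¹' {l} := by
      intro z
      have h1 := Classical.choose_spec (hw z)
      change (snd (Over.mk j) X).left (Classical.choose (hw z)) = l
      have h2 : (snd (Over.mk j) X).left = (k ▷ X).left ≫ (snd X X).left := by
        rw [← Over.comp_left, whiskerRight_snd]
      rw [h2, Scheme.Hom.comp_apply, h1, ← Scheme.Hom.comp_apply, ← Over.comp_left, lift_snd,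
        hv_snd]
    have hfin' : Finite ↥((snd (Over.mk j) X).left ⁻¹' {l}) := hfib.to_subtype
    have hinj : Function.Injective (fun z : ↥{z : Z | (rho eG a z).left l = l} =>
        (⟨Classical.choose (hw z), hmaps z⟩ : ↥((snd (Over.mk j) X).left ⁻¹' {l}))) := by
      intro z z' hzz'
      have h0 : Classical.choose (hw z) = Classical.choose (hw z') := congrArg Subtype.val hzz'
      have h1 := Classical.choose_spec (hw z)
      have h1' := Classical.choose_spec (hw z')
      rw [h0, h1'] at h1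
      have h2 : v z'.1 = v z.1 := by
        have h := congrArg (inv (lift a.act (snd G X)).left) h1
        rw [← Scheme.Hom.comp_apply, ← Scheme.Hom.comp_apply, IsIso.hom_inv_id] at h
        exact h
      have h3 := hv_fst z.1
      rw [← h2, hv_fst z'.1] at h3
      have h4 := (sigmaι_eq_iff _ _ _ _ _).mp h3
      exact Subtype.ext (congrArg Sigma.fst h4).symm
    have := Finite.of_injective _ hinj
    exact Set.toFinite _
  have hH : ∀ z : Z, (rho eG a z).left l = l → z = 1 :=
    eq_one_of_finite_of_mul_mem hZ _ hHfin hHmul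
  -- `j` is a monomorphism
  have hmono : Mono j := by
    refine ⟨fun {T} x₁ x₂ hx => ?_⟩
    obtain ⟨y₁, hy₁⟩ : ∃ y₁ : Over.mk (x₁ ≫ j) ⟶ X, y₁.left = x₁ ≫ U.ι :=
      ⟨Over.homMk (x₁ ≫ U.ι) (by rw [Category.assoc, ← hj]; rfl), rfl⟩
    obtain ⟨y₂, hy₂⟩ : ∃ y₂ : Over.mk (x₁ ≫ j) ⟶ X, y₂.left = x₂ ≫ U.ι :=
      ⟨Over.homMk (x₂ ≫ U.ι) (by rw [Category.assoc, ← hj, ← hx]; rfl), rfl⟩
    obtain ⟨g, hg⟩ := exists_act_eq a hps y₁ y₂
    have hg1 : g = 1 := by
      rw [eq_one_iff eG hG]
      rintro _ ⟨t, rfl⟩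
      obtain ⟨z, hz⟩ := ConstSch.exists_mem_range _ Z ((g ≫ eG.hom).left t)
      suffices hz1 : z = 1 by rw [← hz1]; exact hz
      apply hH
      let T' : T.Opens := (g ≫ eG.hom).left ⁻¹ᵁ (Sigma.ι (fun _ : Z => B) z).opensRange
      obtain ⟨i, hi⟩ : ∃ i : Over.mk (T'.ι ≫ x₁ ≫ j) ⟶ Over.mk (x₁ ≫ j), i.left = T'.ι :=
        ⟨Over.homMk T'.ι rfl, rfl⟩
      have hgi : i ≫ g = toUnit _ ≫ cs eG z := by
        rw [cs, eq_pt_iff eG]
        rintro _ ⟨t', rfl⟩
        rw [Category.assoc, Over.comp_left, hi, Scheme.Hom.comp_apply]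
        exact t'.2
      have h1 : i ≫ y₁ = trp eG a z (i ≫ y₂) := by
        rw [← hg, comp_lift_assoc, hgi]
        rfl
      obtain ⟨t', ht'⟩ : ∃ t' : ↥(T' : Scheme.{u}), T'.ι t' = t := by
        have : t ∈ Set.range T'.ι := by rw [Scheme.Opens.range_ι]; exact hz
        exact this
      have h2 : y₁.left t = (rho eG a z).left (y₂.left t) := by
        rw [← comp_rho] at h1
        have h3 : (i ≫ y₁).left t' = ((i ≫ y₂) ≫ rho eG a z).left t' := by rw [h1]
        rw [Over.comp_left, Over.comp_left, Over.comp_left, hi, Scheme.Hom.comp_apply,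
          Scheme.Hom.comp_apply, Scheme.Hom.comp_apply, ht'] at h3
        exact h3
      have hy₁cl : y₁.left t ∈ closure ({l} : Set ↥X.left) := by
        rw [hy₁, Scheme.Hom.comp_apply, ← hUcl]
        exact (x₁ t).2
      have hy₂cl : y₂.left t ∈ closure ({l} : Set ↥X.left) := by
        rw [hy₂, Scheme.Hom.comp_apply, ← hUcl]
        exact (x₂ t).2
      have hy₁cl' : y₁.left t ∈ closure ({(rho eG a z).left l} : Set ↥X.left) := by
        rw [h2]
        have := image_closure_subset_closure_image (rho eG a z).left.continuous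
          (s := ({l} : Set ↥X.left)) ⟨_, hy₂cl, rfl⟩
        rwa [Set.image_singleton] at this
      exact (GUStruct.eq_of_mem_closure X.hom hB hl
        (by rw [hom_rho_left, hl]) hy₁cl hy₁cl').symm
    have hy : y₁ = y₂ := by
      rw [← hg, hg1, Hom.one_def, FixedPtEtale.act_one]
    have h5 : x₁ ≫ U.ι = x₂ ≫ U.ι := by rw [← hy₁, ← hy₂, hy]
    exact (cancel_mono U.ι).mp h5
  have hqc : QuasiCompact j := inferInstance
  have hflat : Flat j := inferInstance
  have hiso : IsIso j := Flat.isIso_of_surjective_of_mono j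
  refine ⟨inv j ≫ U.ι, ?_⟩
  rw [Category.assoc, ← hj, IsIso.inv_hom_id]

end Core

end Groth.Agent.H42.ConstTorsor
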