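import Mathlib
import Groth.Prelude.Def_ActBC
import Groth.Agent.H42.ConstTorsor

/-!
# Base change of a constant group scheme is a constant group scheme (helper42)
-/

set_option autoImplicit false
universe u
open CategoryTheory Limits MonoidalCategory CartesianMonoidalCategory MonObj GrpObj AlgebraicGeometry

namespace Groth.Agent.H42.ConstTorsorBC

open Groth.Agent.H42.ConstExtSch Groth.Agent.H42.ConstTorsor

variable {S S' : Scheme.{u}} (f : S' ⟶ S)

theorem homEquiv_left_fst (T : Over S') (G : Over S) (x : (Over.map f).obj T ⟶ G) :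
    ((Over.mapPullbackAdj f).homEquiv T G x).left ≫ pullback.fst G.hom f = x.left := by
  simp only [Adjunction.homEquiv_unit, Over.comp_left, Over.mapPullbackAdj_unit_app,
    Over.homMk_left, Over.pullback_map_left]
  rw [Category.assoc]
  erw [pullback.lift_fst, pullback.lift_fst_assoc, Category.id_comp]

variable {Z : Type u} [Group Z] {G : Over S} [GrpObj G] (eG : G ≅ TwC.const S Z)

/-- the base change of a constant scheme, as a constant scheme. -/
noncomputable def bcIso : Red.bc f G ≅ TwC.const S' Z :=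
  (Over.pullback f).mapIso eG ≪≫ ConstBC.bcConstIso f Z

theorem homEquiv_cs (m : Z) :
    (Over.mapPullbackAdj f).homEquiv (𝟙_ (Over S')) G (toUnit _ ≫ cs eG m) =
      TwC.pt S' Z m ≫ (bcIso f eG).inv := by
  rw [Iso.eq_comp_inv]
  have h1 : (Over.mapPullbackAdj f).homEquiv (𝟙_ (Over S')) G (toUnit _ ≫ cs eG m) ≫
      (bcIso f eG).hom =
      (Over.mapPullbackAdj f).homEquiv (𝟙_ (Over S')) (TwC.const S Z)
        (toUnit _ ≫ TwC.pt S Z m) ≫ (ConstBC.bcConstIso f Z).hom := by
    rw [bcIso, Iso.trans_hom, Functor.mapIso_hom, ← Category.assoc,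
      ← Adjunction.homEquiv_naturality_right, cs, Category.assoc, Category.assoc, Iso.inv_hom_id,
      Category.comp_id]
  rw [h1]
  have h2 := eq_pt_of_range_subset Z
    ((Over.mapPullbackAdj f).homEquiv (𝟙_ (Over S')) (TwC.const S Z)
      (toUnit _ ≫ TwC.pt S Z m) ≫ (ConstBC.bcConstIso f Z).hom) m ?_
  · rw [h2]
    have : toUnit (𝟙_ (Over S')) = 𝟙 _ := Subsingleton.elim _ _
    rw [this, Category.id_comp]
  · rintro _ ⟨s', rfl⟩
    rw [Over.comp_left, Scheme.Hom.comp_apply]
    set y := ((Over.mapPullbackAdj f).homEquiv (𝟙_ (Over S')) (TwC.const S Z)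
      (toUnit _ ≫ TwC.pt S Z m)).left s' with hy
    obtain ⟨m', s'', hs''⟩ := ConstSch.exists_mem_range S' Z ((ConstBC.bcConstIso f Z).hom.left y)
    have h3 : (ConstBC.bcConstIso f Z).inv.left (Sigma.ι (fun _ : Z => S') m' s'') = y := by
      rw [hs'', ← Scheme.Hom.comp_apply, ← Over.comp_left, Iso.hom_inv_id]
      rfl
    have h4 : (ConstBC.bcConstIso f Z).inv.left = Sigma.desc (ConstBC.sheet f Z) := rfl
    rw [h4, ← Scheme.Hom.comp_apply, Sigma.ι_desc] at h3
    have h5 : pullback.fst (ConstSch.cst S Z) f y = Sigma.ι (fun _ : Z => S) m' (f s'') := by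
      rw [← h3, ← Scheme.Hom.comp_apply, ConstBC.sheet_fst, Scheme.Hom.comp_apply]
    have h6 : pullback.fst (ConstSch.cst S Z) f y = Sigma.ι (fun _ : Z => S) m (f s') := by
      rw [hy, ← Scheme.Hom.comp_apply]
      erw [homEquiv_left_fst f (𝟙_ (Over S')) (TwC.const S Z) (toUnit _ ≫ TwC.pt S Z m)]
      rw [Over.comp_left, Scheme.Hom.comp_apply, pt_left, Over.toUnit_left]
      rfl
    rw [h5] at h6
    have h7 := (sigmaι_eq_iff _ _ _ _ _).mp h6
    have h8 : m' = m := congrArg Sigma.fst h7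
    rw [← hs'', h8]
    exact ⟨s'', rfl⟩

/-- the base change of a constant group scheme is a constant group scheme. -/
theorem isConstGrp_bc (hG : TwC.IsConstGrp Z G eG) :
    TwC.IsConstGrp Z (Red.bc f G) (bcIso f eG) := by
  intro m n
  rw [← homEquiv_cs, ← homEquiv_cs, ← homEquiv_cs, ← AlgGrp.Action.homEquiv_mul, ← MonObj.comp_mul,
    cs_mul eG hG]

end Groth.Agent.H42.ConstTorsorBC
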