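import Mathlib
import Groth.Agent.H1.GeomUnibranchFlat
import Groth.Agent.H17.StalkComponents2
import Groth.Agent.H17.MaxPoints
import Groth.Agent.H66.SmoothGUStalk

/-!
# Irreducible components of a smooth scheme over an irreducible geometrically unibranch base
(helper42)

If `S` is irreducible with geometrically unibranch local rings and `f : P ⟶ S` is smooth, the
irreducible components of `P` are open and pairwise disjoint.
-/

set_option autoImplicit false
universe u
open CategoryTheory Limits AlgebraicGeometry TopologicalSpace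

namespace Groth.Agent.H42.SmoothIrrComp

/-- the fibres of a quasi-compact morphism locally of finite type have finitely many irreducible
components. -/
theorem finite_irreducibleComponents_fiber {X Y : Scheme.{u}} (f : X ⟶ Y) [LocallyOfFiniteType f]
    [QuasiCompact f] (y : Y) : (irreducibleComponents ↥(f.fiber y)).Finite := by
  have hlft : LocallyOfFiniteType (f.fiberToSpecResidueField y) :=
    inferInstanceAs (LocallyOfFiniteType (pullback.snd f (Y.fromSpecResidueField y)))
  have hFN : IsLocallyNoetherian (f.fiber y) :=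
    LocallyOfFiniteType.isLocallyNoetherian (f.fiberToSpecResidueField y)
  have hFNoeth : IsNoetherian (f.fiber y) := ⟨⟩
  exact NoetherianSpace.finite_irreducibleComponents

/-- a flat scheme over an irreducible base whose generic fibre has finitely many irreducible
components has finitely many irreducible components. -/
theorem finite_irreducibleComponents_of_flat {V S₀ : Scheme.{u}} [IrreducibleSpace ↥S₀]
    (g : V ⟶ S₀) [Flat g]
    (hfin : (irreducibleComponents ↥(g.fiber (genericPoint ↥S₀))).Finite) :
    (irreducibleComponents ↥V).Finite := by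
  have hgp : genericPoints ↥V ⊆
      (g.fiberι (genericPoint ↥S₀)) '' (genericPoints ↥(g.fiber (genericPoint ↥S₀))) := by
    intro ξ hξ
    have hξ' : closure {ξ} ∈ irreducibleComponents ↥V := hξ
    obtain ⟨ξ', hξ'1, hξ'2⟩ := Flat.generalizingMap g (genericPoint_specializes (g ξ))
    have h1 : ξ' = ξ :=
      Groth.Agent.H17.eq_of_specializes_of_mem_irreducibleComponents hξ' hξ'1
    rw [h1] at hξ'2
    have h2 : ξ ∈ Set.range (g.fiberι (genericPoint ↥S₀)) := by
      rw [Scheme.Hom.range_fiberι]; exact hξ'2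
    obtain ⟨ξ₀, rfl⟩ := h2
    refine ⟨ξ₀, ?_, rfl⟩
    change closure {ξ₀} ∈ irreducibleComponents _
    apply Groth.Agent.H17.mem_irreducibleComponents_of_maximal
    intro y hy
    have h3 := Groth.Agent.H17.eq_of_specializes_of_mem_irreducibleComponents hξ'
      (hy.map (g.fiberι (genericPoint ↥S₀)).continuous)
    exact (g.fiberι (genericPoint ↥S₀)).isEmbedding.injective h3
  have hfin2 : (genericPoints ↥V).Finite := ((genericPoints.finite hfin).image _).subset hgp
  refine (hfin2.image (fun x => closure {x})).subset ?_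
  intro Z hZ
  obtain ⟨x, hx⟩ := QuasiSober.sober hZ.1 (isClosed_of_mem_irreducibleComponents Z hZ)
  refine ⟨x, ?_, hx.def⟩
  change closure {x} ∈ irreducibleComponents _
  rw [hx.def]; exact hZ

/-- on a scheme with finitely many, pairwise disjoint irreducible components, every point has
an irreducible open neighbourhood. -/
theorem exists_irreducible_open_nhd (V : Scheme.{u})
    (hfin : (irreducibleComponents ↥V).Finite)
    (hdisj : (irreducibleComponents ↥V).PairwiseDisjoint id) (s : V) :
    ∃ V' : V.Opens, s ∈ V' ∧ IsIrreducible (V' : Set V) := by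
  set Z₁ : Set V := irreducibleComponent s with hZ₁
  have hZ₁mem : Z₁ ∈ irreducibleComponents ↥V := irreducibleComponent_mem_irreducibleComponents s
  set C : Set V := ⋃₀ (irreducibleComponents ↥V \ {Z₁}) with hC
  have hCcl : IsClosed C := by
    rw [hC, Set.sUnion_eq_biUnion]
    refine Set.Finite.isClosed_biUnion (hfin.subset Set.sdiff_subset) ?_
    intro Z hZ
    exact isClosed_of_mem_irreducibleComponents Z hZ.1
  have hsC : s ∉ C := by
    rintro ⟨Z, ⟨hZ, hne⟩, hsZ⟩
    apply hne
    rw [Set.mem_singleton_iff]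
    by_contra hne'
    have := hdisj hZ hZ₁mem hne'
    exact Set.disjoint_left.mp this hsZ mem_irreducibleComponent
  have hsub : Cᶜ ⊆ Z₁ := by
    intro t ht
    by_contra htZ
    apply ht
    refine ⟨irreducibleComponent t, ⟨irreducibleComponent_mem_irreducibleComponents t, ?_⟩,
      mem_irreducibleComponent⟩
    rw [Set.mem_singleton_iff]
    intro heq
    apply htZ
    rw [← heq]
    exact mem_irreducibleComponent
  refine ⟨⟨Cᶜ, hCcl.isOpen_compl⟩, hsC, ⟨s, hsC⟩, ?_⟩
  exact hZ₁mem.1.2.open_subset hCcl.isOpen_compl hsub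

/-- a geometrically unibranch local ring has a prime nilradical. -/
theorem isPrime_nilradical_of_isGeomUnibranch (A : Type u) [CommRing A] [IsLocalRing A]
    (h : CAlg2.IsGeomUnibranch A) : (nilradical A).IsPrime :=
  (Ideal.Quotient.isDomain_iff_prime (nilradical A)).mp h.1.1

section Smooth

variable {P S : Scheme.{u}}

theorem isPrime_nilradical_stalk
    (hS : ∀ s : ↥S, CAlg2.IsGeomUnibranch ↑(S.presheaf.stalk s)) (f : P ⟶ S) [Smooth f] (x : P) : (nilradical ↑(P.presheaf.stalk x)).IsPrime :=
  isPrime_nilradical_of_isGeomUnibranch _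
    (Groth.Agent.H66.SmoothGU.isGeomUnibranch_stalk_of_smooth f x (hS _))

/-- the irreducible components of `P` are pairwise disjoint. -/
theorem pairwiseDisjoint_irreducibleComponents
    (hS : ∀ s : ↥S, CAlg2.IsGeomUnibranch ↑(S.presheaf.stalk s)) (f : P ⟶ S) [Smooth f] :
    (irreducibleComponents ↥P).PairwiseDisjoint id :=
  (Groth.Agent.H17.pairwiseDisjoint_irreducibleComponents_iff P).mpr
    (isPrime_nilradical_stalk hS f)

set_option backward.isDefEq.respectTransparency.types false in
/-- every point of `P` has an irreducible open neighbourhood. -/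
theorem exists_irreducible_open_nhd_of_smooth [IrreducibleSpace ↥S]
    (hS : ∀ s : ↥S, CAlg2.IsGeomUnibranch ↑(S.presheaf.stalk s)) (f : P ⟶ S) [Smooth f] (x : P) :
    ∃ W : P.Opens, x ∈ W ∧ IsIrreducible (W : Set P) := by
  obtain ⟨S₀, hS₀, hxS₀, -⟩ := exists_isAffineOpen_mem_and_subset (x := f x) (U := ⊤) trivial
  obtain ⟨V, hV, hxV, hVS₀⟩ :=
    exists_isAffineOpen_mem_and_subset (x := x) (U := f ⁻¹ᵁ S₀) hxS₀
  have hrange : Set.range (V.ι ≫ f) ⊆ Set.range S₀.ι := by
    rintro _ ⟨v, rfl⟩
    rw [Scheme.Opens.range_ι]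
    exact hVS₀ v.2
  obtain ⟨g, hg⟩ : ∃ g : (V : Scheme.{u}) ⟶ (S₀ : Scheme.{u}), g ≫ S₀.ι = V.ι ≫ f :=
    ⟨IsOpenImmersion.lift S₀.ι (V.ι ≫ f) hrange, IsOpenImmersion.lift_fac _ _ _⟩
  have : IsAffine (V : Scheme.{u}) := hV
  have : IsAffine (S₀ : Scheme.{u}) := hS₀
  have hfl : Flat g := MorphismProperty.of_postcomp (W := @Flat) (W' := @IsOpenImmersion)
    g S₀.ι inferInstance (by rw [hg]; infer_instance)
  have hlft : LocallyOfFiniteType g := MorphismProperty.of_postcomp (W := @LocallyOfFiniteType)
    (W' := @IsOpenImmersion) g S₀.ι inferInstance (by rw [hg]; infer_instance)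
  have hirrS₀ : IrreducibleSpace ↥(S₀ : Scheme.{u}) := by
    have h1 : IsIrreducible (S₀ : Set S) :=
      ⟨⟨f x, hxS₀⟩, (IrreducibleSpace.isIrreducible_univ _).2.open_subset S₀.2 (Set.subset_univ _)⟩
    exact Subtype.irreducibleSpace h1
  have hfinF := finite_irreducibleComponents_fiber g (genericPoint ↥(S₀ : Scheme.{u}))
  have hfinV := finite_irreducibleComponents_of_flat g hfinF
  have hdisj : (irreducibleComponents ↥(V : Scheme.{u})).PairwiseDisjoint id :=
    pairwiseDisjoint_irreducibleComponents hS (V.ι ≫ f)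
  obtain ⟨x', hx'⟩ : ∃ x' : ↥(V : Scheme.{u}), V.ι x' = x := by
    have : x ∈ Set.range V.ι := by rw [Scheme.Opens.range_ι]; exact hxV
    exact this
  obtain ⟨V', hxV', hirr⟩ := exists_irreducible_open_nhd V hfinV hdisj x'
  refine ⟨V.ι ''ᵁ V', ⟨x', hxV', hx'⟩, ?_⟩
  exact hirr.image V.ι V.ι.continuous.continuousOn

/-- the irreducible components of `P` are open. -/
theorem isOpen_of_mem_irreducibleComponents [IrreducibleSpace ↥S]
    (hS : ∀ s : ↥S, CAlg2.IsGeomUnibranch ↑(S.presheaf.stalk s)) (f : P ⟶ S) [Smooth f]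
    (Z : Set P) (hZ : Z ∈ irreducibleComponents ↥P) : IsOpen Z := by
  rw [isOpen_iff_forall_mem_open]
  intro x hx
  obtain ⟨W, hxW, hW⟩ := exists_irreducible_open_nhd_of_smooth hS f x
  refine ⟨W, ?_, W.2, hxW⟩
  obtain ⟨Z', hZ', hWZ'⟩ := exists_mem_irreducibleComponents_subset_of_isIrreducible _ hW
  have heq : Z = Z' := by
    by_contra hne
    have := pairwiseDisjoint_irreducibleComponents hS f hZ hZ' hne
    exact Set.disjoint_left.mp this hx (hWZ' hxW)
  rw [heq]
  exact hWZ'

end Smooth

end Groth.Agent.H42.SmoothIrrComp
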