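import Mathlib
import Groth.Agent.H42.ConstTorsorBC
import Groth.Agent.H42.SmoothIrrComp
import Groth.Agent.H40.FiniteTorsSection

/-!
# Torsors under a torsion-free constant group over a smooth scheme over an irreducible
geometrically unibranch base are trivial (helper42)
-/

set_option autoImplicit false
universe u
open CategoryTheory Limits MonoidalCategory CartesianMonoidalCategory MonObj GrpObj AlgebraicGeometry

namespace Groth.Agent.H42.ConstTorsorMain

open Groth.Agent.H42.ConstTorsor Groth.Agent.H42.ConstTorsorBC Groth.Agent.H42.SmoothIrrComp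

theorem surjective_hom_of_isLocallyTrivialFor {B : Scheme.{u}} (X : Over B)
    (hloc : NonAbH1.IsLocallyTrivialFor Scheme.fppfPrecoverage X) :
    Function.Surjective X.hom := by
  obtain ⟨R, hR, hsec⟩ := hloc
  intro p
  have : Scheme.JointlySurjective Scheme.fppfPrecoverage.{u} := by
    unfold Scheme.fppfPrecoverage; infer_instance
  obtain ⟨Y, g, hg, y, hy⟩ := Scheme.JointlySurjective.exists_eq R hR p
  obtain ⟨s, hs⟩ := hsec g hg
  refine ⟨s y, ?_⟩
  rw [← Scheme.Hom.comp_apply, hs, hy]

set_option backward.isDefEq.respectTransparency.types false in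
theorem etale_of_isTorsorFor {B : Scheme.{u}} {G X : Over B} [GrpObj G] (a : AlgGrp.Action G X)
    (ha : NonAbH1.IsTorsorFor Scheme.fppfPrecoverage a) (hG : Etale G.hom) : Etale X.hom :=
  Groth.Agent.H40.prop_hom_of_isTorsorFor_fpqc @Etale inferInstance a
    ⟨ha.1, Groth.Agent.H40.IsLocallyTrivialFor.mono Scheme.fppfPrecoverage_le_fpqcPrecoverage ha.2⟩ hG

/-- the restriction of the torsor to an irreducible open subscheme with geometrically unibranch
local rings has a section. -/
theorem exists_section_opens {P : Scheme.{u}} {Z : Type u} [Group Z]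
    (hZ : ∀ z : Z, IsOfFinOrder z → z = 1)
    {G X : Over P} [GrpObj G] (eG : G ≅ TwC.const P Z) (hG : TwC.IsConstGrp Z G eG)
    (a : AlgGrp.Action G X) (hps : NonAbH1.IsPseudoTorsorSch a) [Etale X.hom]
    (hsurj : Function.Surjective X.hom)
    (U : P.Opens) [IrreducibleSpace ↥(U : Scheme.{u})]
    (hU : ∀ b : ↥(U : Scheme.{u}), CAlg2.IsGeomUnibranch ↑((U : Scheme.{u}).presheaf.stalk b)) :
    ∃ σ : (U : Scheme.{u}) ⟶ X.left, σ ≫ X.hom = U.ι := by
  have hsurj' : Surjective X.hom := ⟨hsurj⟩
  have hsurjbc : Function.Surjective (Red.bc U.ι X).hom := by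
    have : Surjective (pullback.snd X.hom U.ι) := inferInstance
    exact this.surj
  have hetbc : Etale (Red.bc U.ι X).hom := by
    change Etale (pullback.snd X.hom U.ι)
    infer_instance
  obtain ⟨σ, hσ⟩ := exists_section_irreducible (bcIso U.ι eG) (a.bc U.ι) hU hZ
    (isConstGrp_bc U.ι eG hG) (NonAbH1.isPseudoTorsorSch_bc U.ι hps) hsurjbc
  refine ⟨σ ≫ pullback.fst X.hom U.ι, ?_⟩
  have hσ' : σ ≫ pullback.snd X.hom U.ι = 𝟙 _ := hσ
  rw [Category.assoc, pullback.condition, ← Category.assoc, hσ', Category.id_comp]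

/-- **S8707**. -/
theorem main (S : Scheme.{u}) [IrreducibleSpace ↥S]
    (hS : ∀ s : ↥S, CAlg2.IsGeomUnibranch ↑(S.presheaf.stalk s))
    (Z : Type u) [Group Z] (hZ : ∀ z : Z, IsOfFinOrder z → z = 1)
    (P : Scheme.{u}) (f : P ⟶ S) [Smooth f]
    (G : Over P) [GrpObj G] (eG : G ≅ TwC.const P Z) (hG : TwC.IsConstGrp Z G eG)
    (E : NonAbH1.TorsorSch G Scheme.fppfPrecoverage) :
    NonAbH1.HasSectionOver E.X (𝟙 P) := by
  have hGet : Etale G.hom := by
    have h1 : G.hom = eG.hom.left ≫ (TwC.const P Z).hom := (Over.w eG.hom).symm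
    have h2 : IsIso eG.hom.left := inferInstanceAs (IsIso ((Over.forget _).map eG.hom))
    have h3 : Etale (TwC.const P Z).hom := Groth.Agent.H42.ConstSch.etale_cst _ Z
    rw [h1]
    infer_instance
  have hXet : Etale E.X.hom := etale_of_isTorsorFor E.act E.isTorsor hGet
  have hsurj : Function.Surjective E.X.hom :=
    surjective_hom_of_isLocallyTrivialFor E.X E.isTorsor.2
  -- the open cover by irreducible components
  let J : Type u := {Zc : Set ↥P // Zc ∈ irreducibleComponents ↥P}
  let U : J → P.Opens := fun i => ⟨i.1, isOpen_of_mem_irreducibleComponents hS f i.1 i.2⟩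
  have hsec : ∀ i : J, ∃ σ : (U i : Scheme.{u}) ⟶ E.X.left, σ ≫ E.X.hom = (U i).ι := by
    intro i
    have hirr : IrreducibleSpace ↥(U i : Scheme.{u}) := Subtype.irreducibleSpace i.2.1
    exact exists_section_opens hZ eG hG E.act E.isTorsor.1 hsurj (U i)
      (fun b => Groth.Agent.H66.SmoothGU.isGeomUnibranch_stalk_of_smooth ((U i).ι ≫ f) b (hS _))
  choose σ hσ using hsec
  have hcov : ⨆ i, ((U i).ι).opensRange = ⊤ := by
    rw [eq_top_iff]
    intro x _
    obtain ⟨i0, hi0⟩ : ∃ i0 : J, i0 = ⟨irreducibleComponent x,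
      irreducibleComponent_mem_irreducibleComponents x⟩ := ⟨_, rfl⟩
    have hx : x ∈ U i0 := by
      rw [hi0]; exact mem_irreducibleComponent
    have h1 : U i0 ≤ ⨆ i, ((U i).ι).opensRange := by
      have h2 : U i0 = ((U i0).ι).opensRange := by rw [Scheme.Opens.opensRange_ι]
      rw [h2]
      exact le_iSup (fun i => ((U i).ι).opensRange) i0
    exact h1 hx
  have hdisj : Pairwise (Function.onFun Disjoint fun i => ((U i).ι).opensRange) := by
    intro i j hij
    simp only [Function.onFun, Scheme.Opens.opensRange_ι]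
    have h1 : i.1 ≠ j.1 := fun h => hij (Subtype.ext h)
    have h2 := pairwiseDisjoint_irreducibleComponents hS f i.2 j.2 h1
    rw [← TopologicalSpace.Opens.coe_disjoint] 
    exact h2
  obtain ⟨hc⟩ := nonempty_isColimit_cofanMk_of (fun i => (U i).ι) hcov hdisj
  refine ⟨Cofan.IsColimit.desc hc σ, ?_⟩
  apply Cofan.IsColimit.hom_ext hc
  intro i
  rw [← Category.assoc, Cofan.IsColimit.fac, hσ]
  exact (Category.comp_id _).symm

end Groth.Agent.H42.ConstTorsorMain
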