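import Mathlib.LinearAlgebra.Matrix.Determinant.Basic
import Mathlib.LinearAlgebra.Matrix.NonsingularInverse
import Mathlib.LinearAlgebra.Basis.VectorSpace
import Mathlib.LinearAlgebra.Multilinear.Basic

set_option autoImplicit false

namespace Groth.Agent.H42

open Matrix

/-- Descent of nonvanishing determinants along a field extension, one linear functional per
row. -/
theorem exists_functionals_det_ne_zero (k K : Type*) [Field k] [Field K] [Algebra k K] {n : ℕ}
    (N : Matrix (Fin n) (Fin n) K) (hN : N.det ≠ 0) :
    ∃ φ : Fin n → (K →ₗ[k] k), (Matrix.of fun i j => φ i (N i j)).det ≠ 0 := by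
  classical
  let b := Module.Basis.ofVectorSpace k K
  let T : Finset (Module.Basis.ofVectorSpaceIndex k K) :=
    Finset.univ.biUnion fun i : Fin n => Finset.univ.biUnion fun j : Fin n => (b.repr (N i j)).support
  have hentry : ∀ i j, N i j = ∑ t ∈ T, b t * algebraMap k K (b.repr (N i j) t) := by
    intro i j
    have hsub : (b.repr (N i j)).support ⊆ T := by
      intro t ht
      simp only [T, Finset.mem_biUnion, Finset.mem_univ, true_and]
      exact ⟨i, j, ht⟩
    conv_lhs => rw [← b.linearCombination_repr (N i j), Finsupp.linearCombination_apply]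
    rw [Finsupp.sum_of_support_subset _ hsub _ (by simp)]
    refine Finset.sum_congr rfl fun t _ => ?_
    rw [Algebra.smul_def, mul_comm]
  let v : Fin n → Module.Basis.ofVectorSpaceIndex k K → (Fin n → K) :=
    fun i t j => algebraMap k K (b.repr (N i j) t)
  have hrow : (fun i => N i) = fun i => ∑ t ∈ T, b t • v i t := by
    funext i j
    rw [Finset.sum_apply]
    simp only [Pi.smul_apply, smul_eq_mul, v]
    exact hentry i j
  have hdet : N.det = ∑ r ∈ Fintype.piFinset (fun _ : Fin n => T),
      (∏ i, b (r i)) • (Matrix.of fun i j => algebraMap k K (b.repr (N i j) (r i))).det := by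
    have h1 : N.det = (detRowAlternating : (Fin n → K) [⋀^Fin n]→ₗ[K] K).toMultilinearMap
        (fun i => N i) := rfl
    rw [h1, hrow, MultilinearMap.map_sum_finset]
    refine Finset.sum_congr rfl fun r _ => ?_
    rw [MultilinearMap.map_smul_univ]
    rfl
  rw [hdet] at hN
  obtain ⟨r, _, hr⟩ := Finset.exists_ne_zero_of_sum_ne_zero hN
  refine ⟨fun i => b.coord (r i), ?_⟩
  intro h0
  apply hr
  have : (Matrix.of fun i j => algebraMap k K (b.repr (N i j) (r i))) =
      (algebraMap k K).mapMatrix (Matrix.of fun i j => b.coord (r i) (N i j)) := by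
    ext i j
    simp [Module.Basis.coord_apply]
  rw [this, ← RingHom.map_det, h0, map_zero, smul_zero]

end Groth.Agent.H42
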