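import Groth.Agent.H42.GaGm4

/-!
# Points of diagonalisable groups `D_S(M)` as characters
-/

set_option autoImplicit false
universe u

open CategoryTheory MonoidalCategory CartesianMonoidalCategory MonObj GrpObj AlgebraicGeometry
open CategoryTheory.Limits

namespace Groth.Agent.H42

section DiagZ

variable {M : Type} [AddCommGroup M] {Y : Over (Spec (CommRingCat.of (ULift.{u} ℤ)))}

/-- The character values of a point of `D(M)` over `ℤ`. -/
noncomputable def diagFnZ (c : Y ⟶ Red.diag (ULift.{u} ℤ) M) : Multiplicative M →* Γ(Y.left, ⊤) :=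
  ((pb (ptL c) : MonoidAlgebra (ULift.{u} ℤ) (Multiplicative M) →+* Γ(Y.left, ⊤)) :
    MonoidAlgebra (ULift.{u} ℤ) (Multiplicative M) →* Γ(Y.left, ⊤)).comp
    (MonoidAlgebra.of (ULift.{u} ℤ) (Multiplicative M))

theorem diagFnZ_apply (c : Y ⟶ Red.diag (ULift.{u} ℤ) M) (m : Multiplicative M) :
    diagFnZ c m = pb (ptL c) (MonoidAlgebra.single m (1 : ULift.{u} ℤ)) := rfl

theorem diagFnZ_mul (c d : Y ⟶ Red.diag (ULift.{u} ℤ) M) (m : Multiplicative M) :
    diagFnZ (c * d) m = diagFnZ c m * diagFnZ d m :=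
  pb_ptL_mul_single c d m

theorem diagFnZ_injective : Function.Injective (diagFnZ (Y := Y) (M := M)) := by
  intro c d h
  apply ptL_injective
  apply pb_injective
  apply MonoidAlgebra.ringHom_ext
  · intro r
    have := ringHom_ext_uliftInt ((pb (ptL c)).comp MonoidAlgebra.singleOneRingHom)
      ((pb (ptL d)).comp MonoidAlgebra.singleOneRingHom)
    exact RingHom.congr_fun this r
  · intro m
    exact DFunLike.congr_fun h m

theorem diagFnZ_surjective : Function.Surjective (diagFnZ (Y := Y) (M := M)) := by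
  intro χ
  let φ : MonoidAlgebra (ULift.{u} ℤ) (Multiplicative M) →+* Γ(Y.left, ⊤) :=
    MonoidAlgebra.liftNCRingHom
      ((Int.castRingHom Γ(Y.left, ⊤)).comp (ULift.ringEquiv : ULift.{u} ℤ ≃+* ℤ).toRingHom)
      χ (fun _ _ => Commute.all _ _)
  obtain ⟨g, hg⟩ := pb_surjective (A := MonoidAlgebra (ULift.{u} ℤ) (Multiplicative M))
    (Y := Y.left) φ
  obtain ⟨c, hc⟩ := ptL_surjective (A := MonoidAlgebra (ULift.{u} ℤ) (Multiplicative M))
    (Y := Y) g
  refine ⟨c, MonoidHom.ext fun m => ?_⟩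
  rw [diagFnZ_apply, hc, hg]
  show MonoidAlgebra.liftNCRingHom _ _ _ _ = _
  rw [MonoidAlgebra.liftNCRingHom_single]
  have : (ULift.ringEquiv : ULift.{u} ℤ ≃+* ℤ) 1 = 1 := rfl
  simp [this]

theorem diagFnZ_comp {Y' : Over (Spec (CommRingCat.of (ULift.{u} ℤ)))} (h : Y' ⟶ Y)
    (c : Y ⟶ Red.diag (ULift.{u} ℤ) M) (m : Multiplicative M) :
    diagFnZ (h ≫ c) m = h.left.appTop (diagFnZ c m) := by
  rw [diagFnZ_apply, diagFnZ_apply, ptL_comp, pb_comp]

end DiagZ

section DiagS

variable {S : Scheme.{u}} {X : Over S} {M : Type} [AddCommGroup M]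

/-- The character values of a point of `D_S(M)`. -/
noncomputable def dsFn (x : X ⟶ Red.DS S M) : Multiplicative M →* Γ(X.left, ⊤) :=
  diagFnZ (bcPt (Limits.IsTerminal.from specULiftZIsTerminal S) (Red.diag (ULift.{u} ℤ) M) x)

theorem dsFn_mul (x y : X ⟶ Red.DS S M) (m : Multiplicative M) :
    dsFn (x * y) m = dsFn x m * dsFn y m := by
  unfold dsFn
  rw [bcPt_mul, diagFnZ_mul]

theorem dsFn_injective : Function.Injective (dsFn (S := S) (X := X) (M := M)) := by
  intro x y h
  exact bcPt_injective _ _ (diagFnZ_injective h)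

theorem dsFn_surjective : Function.Surjective (dsFn (S := S) (X := X) (M := M)) := by
  intro χ
  obtain ⟨c, hc⟩ := diagFnZ_surjective
    (Y := (Over.map (Limits.IsTerminal.from specULiftZIsTerminal S)).obj X) χ
  obtain ⟨x, hx⟩ := bcPt_surjective (Limits.IsTerminal.from specULiftZIsTerminal S)
    (Red.diag (ULift.{u} ℤ) M) c
  exact ⟨x, by unfold dsFn; rw [hx, hc]⟩

theorem dsFn_comp {X' : Over S} (h : X' ⟶ X) (x : X ⟶ Red.DS S M) (m : Multiplicative M) :
    dsFn (h ≫ x) m = h.left.appTop (dsFn x m) := by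
  unfold dsFn
  have : bcPt (Limits.IsTerminal.from specULiftZIsTerminal S) (Red.diag (ULift.{u} ℤ) M) (h ≫ x) =
      (Over.map (Limits.IsTerminal.from specULiftZIsTerminal S)).map h ≫
        bcPt (Limits.IsTerminal.from specULiftZIsTerminal S) (Red.diag (ULift.{u} ℤ) M) x := by
    ext
    simp [bcPt_left]
  rw [this, diagFnZ_comp]
  rfl

end DiagS

end Groth.Agent.H42
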