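import Mathlib.AlgebraicGeometry.Restrict
import Mathlib.AlgebraicGeometry.AffineScheme
import Mathlib.AlgebraicGeometry.Morphisms.SchemeTheoreticallyDominant

set_option autoImplicit false
universe u
open CategoryTheory AlgebraicGeometry

namespace Groth.Agent.H42

variable {X Y : Scheme.{u}} {p : X ⟶ Y}

/-- A morphism which is surjective on points and injective on sections over every open is an
epimorphism of schemes. -/
theorem eq_of_comp_eq_of_surj_inj (hs : Function.Surjective p.base)
    (hi : ∀ U : Y.Opens, Function.Injective (p.app U).hom) {Z : Scheme.{u}} {a b : Y ⟶ Z}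
    (h : p ≫ a = p ≫ b) : a = b := by
  have hpt : ∀ y : Y, a.base y = b.base y := by
    intro y
    obtain ⟨x, rfl⟩ := hs y
    exact congr($(h).base x)
  have hbase : a.base = b.base := by
    apply TopCat.hom_ext
    ext y
    exact hpt y
  refine Scheme.Hom.ext hbase fun U => ?_
  have e1 : b ⁻¹ᵁ U ≤ a ⁻¹ᵁ U := by
    intro y hy
    change a.base y ∈ U
    rw [hpt y]; exact hy
  have key : a.appLE U (b ⁻¹ᵁ U) e1 = b.appLE U (b ⁻¹ᵁ U) le_rfl := by
    apply CommRingCat.hom_ext
    apply RingHom.ext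
    intro s
    apply hi (b ⁻¹ᵁ U)
    have h1 : a.appLE U (b ⁻¹ᵁ U) e1 ≫ p.app (b ⁻¹ᵁ U) =
        b.appLE U (b ⁻¹ᵁ U) le_rfl ≫ p.app (b ⁻¹ᵁ U) := by
      rw [Scheme.Hom.app_eq_appLE, Scheme.Hom.appLE_comp_appLE, Scheme.Hom.appLE_comp_appLE]
      congr 1
    exact congr($(h1).hom s)
  rw [Scheme.Hom.appLE_eq_app] at key
  rw [← key]
  rfl

/-- `Spec` of an injective ring map is scheme-theoretically dominant. -/
theorem isSchemeTheoreticallyDominant_specMap {R S : CommRingCat.{u}} (φ : R ⟶ S)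
    (hφ : Function.Injective φ.hom) : IsSchemeTheoreticallyDominant (Spec.map φ) := by
  constructor
  rw [Scheme.ker_of_isAffine]
  have : RingHom.ker (Spec.map φ).appTop.hom = ⊥ := by
    rw [← RingHom.injective_iff_ker_eq_bot]
    have h := Scheme.ΓSpecIso_inv_naturality φ
    -- φ ≫ (ΓSpecIso S).inv = (ΓSpecIso R).inv ≫ (Spec.map φ).appTop
    have h2 : (Spec.map φ).appTop = (Scheme.ΓSpecIso R).hom ≫ φ ≫ (Scheme.ΓSpecIso S).inv := by
      rw [h, Iso.hom_inv_id_assoc]
    rw [h2]
    simp only [CommRingCat.hom_comp, RingHom.coe_comp]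
    exact ((ConcreteCategory.bijective_of_isIso (Scheme.ΓSpecIso S).inv).1.comp hφ).comp
      (ConcreteCategory.bijective_of_isIso (Scheme.ΓSpecIso R).hom).1
  rw [this]
  exact map_bot (Scheme.IdealSheafData.equivOfIsAffine (X := Spec R)).symm

theorem eq_of_specMap_comp_eq {R S : CommRingCat.{u}} (φ : R ⟶ S)
    (hφ : Function.Injective φ.hom) (hs : Function.Surjective (Spec.map φ).base)
    {Z : Scheme.{u}} {a b : Spec R ⟶ Z} (h : Spec.map φ ≫ a = Spec.map φ ≫ b) : a = b := by
  have := isSchemeTheoreticallyDominant_specMap φ hφ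
  exact eq_of_comp_eq_of_surj_inj hs (fun U => (Spec.map φ).app_injective U) h

end Groth.Agent.H42
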