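import Mathlib
import Groth.Prelude.Def_TwC
import Groth.Agent.H42.EtConstFin

/-!
# Open and closed subschemes of étale-locally constant schemes, II (helper42)

Variants of `EtConstFin.main` without connectedness of the base: for `S` locally Noetherian, `P` an
étale-locally constant `S`-scheme and `Z ⊆ P` open and closed,

* `core`: the set of points of `S` over which `Z` has a finite fibre is open and closed, and `Z` is
  finite over `S` as soon as this set is everything;
* `isClopen_finite_fibre`, `main'`: the two halves of `core`.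
-/

set_option autoImplicit false
set_option linter.unusedSectionVars false
universe u
open CategoryTheory Limits AlgebraicGeometry MorphismProperty

namespace Groth.Agent.H42.EtConstFin2

open Groth.Agent.H42 Groth.Agent.H42.ConstSch Groth.Agent.H42.EtConstFin

set_option backward.isDefEq.respectTransparency.types false in
theorem core {S : Scheme.{u}} [IsLocallyNoetherian S]
    (P : Over S) (hP : TwC.IsTwConst TwC.Topology.etale P)
    {Z : Scheme.{u}} (z : Z ⟶ P.left) [IsOpenImmersion z] [IsClosedImmersion z] :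
    IsClopen {s : S | ((z ≫ P.hom) ⁻¹' {s}).Finite} ∧
    ((∀ s : S, ((z ≫ P.hom) ⁻¹' {s}).Finite) → IsFinite (z ≫ P.hom)) := by
  obtain ⟨h1, h2, h3⟩ := TwConstMain.main P hP
  have : IsSeparated P.hom := h1
  have : Etale P.hom := h2
  have hEt : Etale (z ≫ P.hom) := inferInstance
  have hLQF : LocallyQuasiFinite (z ≫ P.hom) := FpqcTwConst.locallyQuasiFinite_of_etale _
  have hP' : ∀ s : S, ∃ (S' : Scheme.{u}) (f : S' ⟶ S), Etale f ∧ s ∈ Set.range f.base ∧
      ∃ I : Type u, Nonempty (Red.bc f P ≅ TwC.const S' I) := hP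
  -- local charts
  have hchart : ∀ s : S, ∃ (S' : Scheme.{u}) (f : S' ⟶ S) (U : S'.Opens) (u : S'), Etale f ∧
      f u = s ∧ u ∈ U ∧ _root_.IsPreconnected (U : Set S') ∧
      (∀ u₀ u₁, u₀ ∈ U → u₁ ∈ U → (pullback.snd (z ≫ P.hom) f ⁻¹' {u₀}).Finite →
        (pullback.snd (z ≫ P.hom) f ⁻¹' {u₁}).Finite) ∧
      (∀ u₀ ∈ U, (pullback.snd (z ≫ P.hom) f ⁻¹' {u₀}).Finite →
        QuasiCompact (pullback.snd (pullback.snd (z ≫ P.hom) f) U.ι)) := by
    intro s
    obtain ⟨S', f, hf, ⟨u, hu⟩, I, ⟨e⟩⟩ := hP' s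
    have : IsLocallyNoetherian S' := LocallyOfFiniteType.isLocallyNoetherian f
    have : LocallyConnectedSpace S' := by
      apply Groth.Agent.H12.locallyConnectedSpace_of_locallyNoetherian
      intro x
      obtain ⟨W, hW, hxW, -⟩ := exists_isAffineOpen_mem_and_subset (x := x) (U := ⊤) trivial
      have := IsLocallyNoetherian.component_noetherian ⟨W, hW⟩
      exact ⟨W, W.2.mem_nhds hxW, noetherianSpace_of_isAffineOpen W hW⟩
    obtain ⟨U, hUo, huU, hUc⟩ := (LocallyConnectedSpace.open_connected_basis u).ex_mem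
    obtain ⟨c, hc1, hc2, hc3⟩ := chart_data P z f I e
    refine ⟨S', f, ⟨U, hUo⟩, u, hf, hu, huU, hUc.isPreconnected, ?_, ?_⟩
    · intro u₀ u₁ h₀ h₁ hfin
      exact chart_finite c _ hc3 hUc.isPreconnected h₀ h₁ hfin
    · intro u₀ h₀ hfin
      exact chart_qc c _ hc3 hUc.isPreconnected h₀ hfin
  choose S' f U u hf hu huU hUc hfinU hqcU using hchart
  -- the set of points with finite fibre is open and closed
  let F : Set S := {s | ((z ≫ P.hom) ⁻¹' {s}).Finite}
  have hloc : ∀ s : S, ∃ V : Set S, IsOpen V ∧ s ∈ V ∧ ∀ t₀ ∈ V, ∀ t₁ ∈ V, t₀ ∈ F → t₁ ∈ F := by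
    intro s
    have := hf s
    refine ⟨f s '' (U s : Set (S' s)), (f s).isOpenMap _ (U s).isOpen, ⟨u s, huU s, hu s⟩, ?_⟩
    rintro _ ⟨u₀, h₀, rfl⟩ _ ⟨u₁, h₁, rfl⟩ hfin
    exact finite_fibre_of_bc (z ≫ P.hom) (f s) u₁
      (hfinU s u₀ u₁ h₀ h₁ (finite_fibre_bc (z ≫ P.hom) (f s) u₀ hfin))
  have hFclopen : IsClopen F := by
    constructor
    · rw [← isOpen_compl_iff, isOpen_iff_forall_mem_open]
      intro s hs
      obtain ⟨V, hVo, hsV, hV⟩ := hloc s
      exact ⟨V, fun t ht htF => hs (hV t ht s hsV htF), hVo, hsV⟩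
    · rw [isOpen_iff_forall_mem_open]
      intro s hs
      obtain ⟨V, hVo, hsV, hV⟩ := hloc s
      exact ⟨V, fun t ht => hV s hsV t ht hs, hVo, hsV⟩
  refine ⟨hFclopen, fun hall => ?_⟩
  have hqc : QuasiCompact (z ≫ P.hom) := by
    have := Groth.Agent.H1.quasiCompact_descendsAlong_fpqc.{u}
    refine of_locally_etale @QuasiCompact (z ≫ P.hom) (fun s => ?_)
    have := hf s
    refine ⟨U s, (U s).ι ≫ f s, inferInstance, ⟨⟨u s, huU s⟩, hu s⟩, ?_⟩
    rw [← FpqcLocal.prop_comp_iff @QuasiCompact]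
    exact hqcU s (u s) (huU s) (finite_fibre_bc (z ≫ P.hom) (f s) (u s) (hall _))
  -- conclusion via Zariski's main theorem
  have hz : ValuativeCriterion.Existence z := by
    have : UniversallyClosed z := inferInstance
    rw [UniversallyClosed.eq_valuativeCriterion] at this
    exact this.1
  have hex : ValuativeCriterion.Existence (z ≫ P.hom) :=
    FpqcTwConst.existence_comp z P.hom hz h3.existence
  have : UniversallyClosed (z ≫ P.hom) := UniversallyClosed.of_valuativeCriterion _ hex
  have : IsProper (z ≫ P.hom) := { }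
  exact IsFinite.of_isProper_of_locallyQuasiFinite _

theorem isClopen_finite_fibre {S : Scheme.{u}} [IsLocallyNoetherian S]
    (P : Over S) (hP : TwC.IsTwConst TwC.Topology.etale P)
    {Z : Scheme.{u}} (z : Z ⟶ P.left) [IsOpenImmersion z] [IsClosedImmersion z] :
    IsClopen {s : S | ((z ≫ P.hom) ⁻¹' {s}).Finite} :=
  (core P hP z).1

theorem main' {S : Scheme.{u}} [IsLocallyNoetherian S]
    (P : Over S) (hP : TwC.IsTwConst TwC.Topology.etale P)
    {Z : Scheme.{u}} (z : Z ⟶ P.left) [IsOpenImmersion z] [IsClosedImmersion z]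
    (hall : ∀ s : S, ((z ≫ P.hom) ⁻¹' {s}).Finite) : IsFinite (z ≫ P.hom) :=
  (core P hP z).2 hall

/-- An open and closed subscheme `Z` of an étale-locally constant scheme over a locally Noetherian
base is finite over the base as soon as its underlying space is preconnected and one nonempty fibre
is finite. -/
theorem main_of_preconnected {S : Scheme.{u}} [IsLocallyNoetherian S]
    (P : Over S) (hP : TwC.IsTwConst TwC.Topology.etale P)
    {Z : Scheme.{u}} (z : Z ⟶ P.left) [IsOpenImmersion z] [IsClosedImmersion z]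
    [PreconnectedSpace Z] (z₀ : Z) (h₀ : ((z ≫ P.hom) ⁻¹' {(z ≫ P.hom) z₀}).Finite) :
    IsFinite (z ≫ P.hom) := by
  refine main' P hP z (fun s => ?_)
  by_cases hs : s ∈ Set.range (z ≫ P.hom)
  · have hpre : _root_.IsPreconnected (Set.range (z ≫ P.hom)) :=
      isPreconnected_range (z ≫ P.hom).continuous
    have hsub := hpre.subset_isClopen (isClopen_finite_fibre P hP z)
      ⟨(z ≫ P.hom) z₀, ⟨z₀, rfl⟩, h₀⟩
    exact hsub hs
  · have : (z ≫ P.hom) ⁻¹' {s} = ∅ := by
      ext y
      simp only [Set.mem_preimage, Set.mem_singleton_iff, Set.mem_empty_iff_false, iff_false]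
      rintro rfl
      exact hs ⟨y, rfl⟩
    rw [this]
    exact Set.finite_empty

end Groth.Agent.H42.EtConstFin2
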