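import Mathlib
import Groth.Agent.H11.ArtinLiftEtale

/-!
# Étale schemes over a field: separatedness and the valuative criterion (helper42)

For `f : G ⟶ Spec k` étale (not necessarily quasi-compact) over a field `k`:

* `isClosed_of_field`: the underlying space of `G` is discrete (every subset is closed);
* `isSeparated_of_etale_field`: `f` is separated;
* `existence_of_etale_field`: `f` satisfies the existence part of the valuative criterion
  (residue fields of `G` are algebraic over `k`, and valuation rings are integrally closed).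
-/

set_option autoImplicit false
universe u
open CategoryTheory Limits AlgebraicGeometry IsLocalRing

namespace Groth.Agent.H42.EtFieldVal

theorem isClosed_of_field (k : Type u) [Field k] {G : Scheme.{u}}
    (f : G ⟶ Spec (CommRingCat.of k)) [LocallyQuasiFinite f] (s : Set G) : IsClosed s := by
  let pt : Spec (CommRingCat.of k) := closedPoint k
  have hd := Scheme.Hom.isDiscrete_preimage_singleton f pt
  have huniv : f ⁻¹' {pt} = Set.univ := by
    ext x
    simp only [Set.mem_preimage, Set.mem_singleton_iff, Set.mem_univ, iff_true]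
    exact Subsingleton.elim (α := PrimeSpectrum k) _ _
  rw [huniv] at hd
  obtain ⟨U, hU, hUs⟩ := (isDiscrete_iff_forall_mem_exists_isClosed.mp hd) s (Set.subset_univ _)
  rw [Set.inter_univ] at hUs
  exact hUs ▸ hU

theorem isSeparated_of_etale_field (k : Type u) [Field k] {G : Scheme.{u}}
    (f : G ⟶ Spec (CommRingCat.of k)) [Etale f] : IsSeparated f := by
  have hlqf : LocallyQuasiFinite (pullback.fst f f ≫ f) := by
    have : Etale (pullback.fst f f ≫ f) := inferInstance
    refine ⟨fun {U} hU {V} hV e => ?_⟩
    have h : ((pullback.fst f f ≫ f).appLE U V e).hom.Etale :=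
      Etale.etale_appLE (f := pullback.fst f f ≫ f) hU hV e
    algebraize [((pullback.fst f f ≫ f).appLE U V e).hom]
    show Algebra.QuasiFinite _ _
    infer_instance
  have : IsOpenImmersion (pullback.diagonal f) := inferInstance
  refine ⟨IsClosedImmersion.of_isPreimmersion _ ?_⟩
  exact isClosed_of_field k (pullback.fst f f ≫ f) _

set_option backward.isDefEq.respectTransparency.types false in
theorem existence_of_etale_field (k : Type u) [Field k] {G : Scheme.{u}}
    (f : G ⟶ Spec (CommRingCat.of k)) [Etale f] : ValuativeCriterion.Existence f := by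
  intro Sq
  let g : G := Sq.i₁ (closedPoint Sq.K)
  let φ : G.residueField g ⟶ CommRingCat.of Sq.K :=
    G.descResidueField (Scheme.stalkClosedPointTo Sq.i₁)
  have hφ : Spec.map φ ≫ G.fromSpecResidueField g = Sq.i₁ :=
    Scheme.descResidueField_stalkClosedPointTo_fromSpecResidueField Sq.K G Sq.i₁
  let ψ : CommRingCat.of k ⟶ CommRingCat.of Sq.R := Spec.preimage Sq.i₂
  have hψ : Spec.map ψ = Sq.i₂ := Spec.map_preimage _
  -- the structure map `k → κ(g)`
  obtain ⟨a, ha, haint⟩ : ∃ a : CommRingCat.of k ⟶ G.residueField g,
      Spec.map a = G.fromSpecResidueField g ≫ f ∧ a.hom.IsIntegral := by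
    let y : Spec (CommRingCat.of k) := f g
    refine ⟨CommRingCat.ofHom (algebraMap k y.asIdeal.ResidueField) ≫
      (Scheme.Spec.residueFieldIso (CommRingCat.of k) y).inv ≫ f.residueFieldMap g, ?_, ?_⟩
    · rw [← Scheme.Hom.SpecMap_residueFieldMap_fromSpecResidueField,
        ← Scheme.Spec.map_residueFieldIso_inv_eq_fromSpecResidueField, ← Spec.map_comp,
        ← Spec.map_comp, Category.assoc]
    · have hprime : y.asIdeal.IsPrime := y.isPrime
      have hmax : y.asIdeal.IsMaximal := inferInstance
      have h1 : (algebraMap k y.asIdeal.ResidueField).IsIntegral :=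
        RingHom.isIntegral_of_surjective _ (Ideal.algebraMap_residueField_surjective _)
      have h2 : (Scheme.Spec.residueFieldIso (CommRingCat.of k) y).inv.hom.IsIntegral :=
        RingHom.isIntegral_of_surjective _
          (ConcreteCategory.bijective_of_isIso
            (Scheme.Spec.residueFieldIso (CommRingCat.of k) y).inv).2
      have h3 : (f.residueFieldMap g).hom.IsIntegral :=
        (Groth.Agent.H11.ArtinLiftEtale.finite_residueFieldMap f g).to_isIntegral
      exact (h1.trans _ _ h2).trans _ _ h3
  -- compatibility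
  have hcomm : a ≫ φ = ψ ≫ CommRingCat.ofHom (algebraMap Sq.R Sq.K) := by
    apply Spec.map_injective
    rw [Spec.map_comp, Spec.map_comp, ha, hψ, ← Category.assoc, hφ]
    exact Sq.commSq.w
  -- `φ` lands in `R`
  have hmem : ∀ x : G.residueField g, φ.hom x ∈ (algebraMap Sq.R Sq.K).range := by
    intro x
    let _ := a.hom.toAlgebra
    have hx : IsIntegral k x := haint x
    have hcomp : (algebraMap Sq.R Sq.K).comp ψ.hom = φ.hom.comp (algebraMap k (G.residueField g)) := by
      have := congrArg CommRingCat.Hom.hom hcomm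
      exact this.symm
    have hint : IsIntegral Sq.R (φ.hom x) := IsIntegral.map_of_comp_eq ψ.hom φ.hom hcomp hx
    exact IsIntegrallyClosed.isIntegral_iff.mp hint
  have hinj : Function.Injective (algebraMap Sq.R Sq.K) := IsFractionRing.injective Sq.R Sq.K
  let e : Sq.R ≃+* (algebraMap Sq.R Sq.K).range :=
    RingEquiv.ofBijective (algebraMap Sq.R Sq.K).rangeRestrict
      ⟨fun x y hxy => hinj (congrArg Subtype.val hxy),
        (algebraMap Sq.R Sq.K).rangeRestrict_surjective⟩
  let φ' : G.residueField g →+* Sq.R :=
    e.symm.toRingHom.comp (φ.hom.codRestrict (algebraMap Sq.R Sq.K).range hmem)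
  have hφ' : ∀ x, algebraMap Sq.R Sq.K (φ' x) = φ.hom x := by
    intro x
    have h1 : e (φ' x) = φ.hom.codRestrict (algebraMap Sq.R Sq.K).range hmem x :=
      e.apply_symm_apply _
    exact congrArg Subtype.val h1
  have hφ'c : CommRingCat.ofHom φ' ≫ CommRingCat.ofHom (algebraMap Sq.R Sq.K) = φ := by
    ext x
    exact hφ' x
  have haφ' : a ≫ CommRingCat.ofHom φ' = ψ := by
    ext x
    apply hinj
    have h1 : algebraMap Sq.R Sq.K (φ' (a.hom x)) = φ.hom (a.hom x) := hφ' _
    have h2 : φ.hom (a.hom x) = algebraMap Sq.R Sq.K (ψ.hom x) :=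
      congrArg (fun m : CommRingCat.of k ⟶ CommRingCat.of Sq.K => m.hom x) hcomm
    exact h1.trans h2
  refine ⟨⟨⟨Spec.map (CommRingCat.ofHom φ') ≫ G.fromSpecResidueField g, ?_, ?_⟩⟩⟩
  · rw [← Category.assoc, ← Spec.map_comp, hφ'c, hφ]
  · rw [Category.assoc, ← ha]
    exact ((Spec.map_comp _ _).symm.trans (congrArg Spec.map haφ')).trans hψ

end Groth.Agent.H42.EtFieldVal
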