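import Mathlib
import Groth.Agent.H42.EtFieldVal
import Groth.Agent.H42.FpqcTwConst
import Groth.Agent.H40.FiniteTorsSection

/-!
# Torsors under étale group schemes over a field (helper42)

`torsor_props`: for an étale group scheme `G` over a field `k`, a `k`-scheme `s : S ⟶ Spec k` and an
fppf torsor `E` under `G_S`, the structure morphism `E ⟶ S` is separated, étale and satisfies the
existence part of the valuative criterion.
-/

set_option autoImplicit false
universe u
open CategoryTheory Limits AlgebraicGeometry MorphismProperty

namespace Groth.Agent.H42.EtTorsor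

set_option backward.isDefEq.respectTransparency.types false in
theorem torsor_props (k : Type u) [Field k]
    (G : Over (Spec (CommRingCat.of k))) [GrpObj G] [Etale G.hom]
    (S : Scheme.{u}) (s : S ⟶ Spec (CommRingCat.of k))
    (E : NonAbH1.TorsorSch (Red.bc s G) Scheme.fppfPrecoverage) :
    IsSeparated E.X.hom ∧ Etale E.X.hom ∧ ValuativeCriterion.Existence E.X.hom := by
  have hT : NonAbH1.IsTorsorFor Scheme.fpqcPrecoverage E.act :=
    ⟨E.isTorsor.1, Groth.Agent.H40.IsLocallyTrivialFor.mono
      Scheme.fppfPrecoverage_le_fpqcPrecoverage E.isTorsor.2⟩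
  have hhom : (Red.bc s G).hom = pullback.snd G.hom s := rfl
  have h1 : IsSeparated E.X.hom := by
    refine Groth.Agent.H40.prop_hom_of_isTorsorFor_fpqc @IsSeparated
      Groth.Agent.H1.isSeparated_descendsAlong_fpqc.{u} E.act hT ?_
    rw [hhom]
    exact MorphismProperty.pullback_snd _ _ (EtFieldVal.isSeparated_of_etale_field k G.hom)
  have h2 : Etale E.X.hom := by
    refine Groth.Agent.H40.prop_hom_of_isTorsorFor_fpqc @Etale inferInstance E.act hT ?_
    rw [hhom]
    infer_instance
  have h3 : (topologically @SpecializingMap).universally E.X.hom := by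
    have hd : DescendsAlong (topologically @SpecializingMap).universally
        (@Surjective ⊓ @Flat ⊓ @QuasiCompact : MorphismProperty Scheme.{u}) :=
      DescendsAlong.of_le (Q := (@Surjective ⊓ @Flat : MorphismProperty Scheme.{u})) inf_le_left
    refine Groth.Agent.H40.prop_hom_of_isTorsorFor_fpqc
      (topologically @SpecializingMap).universally hd E.act hT ?_
    rw [hhom]
    refine MorphismProperty.pullback_snd _ _ ?_
    rw [← ValuativeCriterion.Existence.eq]
    exact EtFieldVal.existence_of_etale_field k G.hom
  refine ⟨h1, h2, ?_⟩
  rw [ValuativeCriterion.Existence.eq]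
  exact h3

end Groth.Agent.H42.EtTorsor
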