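import Mathlib.RingTheory.AdicCompletion.Basic
import Mathlib.RingTheory.Noetherian.Basic
import Mathlib.RingTheory.Ideal.Operations
import Mathlib.RingTheory.Finiteness.Basic
import Mathlib.Tactic

set_option autoImplicit false

namespace Groth.Agent.H42

open Submodule

variable {S : Type*} [CommRing S] (J : Ideal S) {M : Type*} [AddCommGroup M] [Module S M]

/-- Successive approximation: over a `J`-adically precomplete ring, in a separated filtration
with `G (k+1) = J • G k ⊔ G (k+2)`, lifts of generators of `G 0 / G 1` generate `G 0`. -/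
theorem filt_le_of_le_sup [IsPrecomplete J S] (G : ℕ → Submodule S M)
    (hJG : ∀ k, J • G k ≤ G (k + 1)) (hrec : ∀ k, G (k + 1) = J • G k ⊔ G (k + 2))
    (hsep : ⨅ k, G k = ⊥) {r : ℕ} (x : Fin r → M) (hx : ∀ i, x i ∈ G 0)
    (hgen : G 0 ≤ span S (Set.range x) ⊔ G 1) :
    G 0 ≤ span S (Set.range x) := by
  classical
  set N := span S (Set.range x) with hN
  have hNG : N ≤ G 0 := span_le.2 (by rintro _ ⟨i, rfl⟩; exact hx i)
  -- A1
  have A1 : ∀ k, G k ≤ J ^ k • N ⊔ G (k + 1) := by
    intro k
    induction k with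
    | zero => simpa using hgen
    | succ k ih =>
      rw [hrec k]
      apply sup_le
      · calc J • G k ≤ J • (J ^ k • N ⊔ G (k + 1)) := Submodule.smul_mono le_rfl ih
          _ = J ^ (k + 1) • N ⊔ J • G (k + 1) := by
              rw [Submodule.smul_sup, ← Submodule.mul_smul, ← pow_succ']
          _ ≤ J ^ (k + 1) • N ⊔ G (k + 1 + 1) := sup_le_sup_left (hJG (k + 1)) _
      · exact le_sup_right
  have hpow : ∀ k, J ^ k • G 0 ≤ G k := by
    intro k
    induction k with
    | zero => simp
    | succ k ih =>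
      rw [pow_succ', Submodule.mul_smul]
      exact (Submodule.smul_mono le_rfl ih).trans (hJG k)
  have step : ∀ k (m : M), m ∈ G k → ∃ (c : Fin r → S) (m' : M),
      (∀ i, c i ∈ J ^ k) ∧ m' ∈ G (k + 1) ∧ m = ∑ i, c i • x i + m' := by
    intro k m hm
    obtain ⟨n, hn, m', hm', rfl⟩ := Submodule.mem_sup.1 (A1 k hm)
    obtain ⟨a, ha, rfl⟩ := (Submodule.mem_ideal_smul_span_iff_exists_sum _ x n).1 hn
    refine ⟨a, m', ha, hm', ?_⟩
    rw [a.sum_fintype (fun i c => c • x i) fun _ => zero_smul _ _]
  choose cF mF hcF hmF heq using step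
  intro m hm
  let seq : (k : ℕ) → {m : M // m ∈ G k} := fun k =>
    Nat.rec (motive := fun k => {m : M // m ∈ G k}) ⟨m, hm⟩
      (fun k s => ⟨mF k s.1 s.2, hmF k s.1 s.2⟩) k
  have hseq0 : (seq 0).1 = m := rfl
  have hseqS : ∀ k, (seq (k + 1)).1 = mF k (seq k).1 (seq k).2 := fun k => rfl
  let c : ℕ → Fin r → S := fun k => cF k (seq k).1 (seq k).2
  have hc : ∀ k i, c k i ∈ J ^ k := fun k i => hcF k _ _ i
  have hstep : ∀ k, (seq k).1 = ∑ i, c k i • x i + (seq (k + 1)).1 := fun k => by
    rw [hseqS]; exact heq k _ _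
  let sK : ℕ → Fin r → S := fun K i => ∑ k ∈ Finset.range K, c k i
  have hmK : ∀ K, m = ∑ i, sK K i • x i + (seq K).1 := by
    intro K
    induction K with
    | zero => simp [sK, hseq0]
    | succ K ih =>
      have : ∀ i, sK (K + 1) i = sK K i + c K i := fun i => Finset.sum_range_succ _ _
      simp only [this, add_smul, Finset.sum_add_distrib]
      rw [add_assoc, ← hstep K]
      exact ih
  have hcauchy : ∀ i, ∀ {a b : ℕ}, a ≤ b →
      sK a i ≡ sK b i [SMOD (J ^ a • ⊤ : Submodule S S)] := by
    intro i a b hab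
    rw [SModEq.sub_mem]
    have : sK a i - sK b i = - ∑ k ∈ Finset.Ico a b, c k i := by
      simp only [sK]
      rw [Finset.sum_Ico_eq_sub _ hab]; ring
    rw [this]
    apply Submodule.neg_mem
    apply Submodule.sum_mem
    intro k hk
    have hak : a ≤ k := (Finset.mem_Ico.1 hk).1
    have : c k i ∈ J ^ a := Ideal.pow_le_pow_right hak (hc k i)
    simpa using this
  have hL : ∀ i, ∃ L : S, ∀ n, sK n i ≡ L [SMOD (J ^ n • ⊤ : Submodule S S)] := fun i =>
    IsPrecomplete.prec (I := J) inferInstance (hcauchy i)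
  choose L hLs using hL
  have hmem : ∀ K, m - ∑ i, L i • x i ∈ G K := by
    intro K
    have e : m - ∑ i, L i • x i = (seq K).1 + ∑ i, (sK K i - L i) • x i := by
      conv_lhs => rw [hmK K]
      simp only [sub_smul, Finset.sum_sub_distrib]
      abel
    rw [e]
    apply Submodule.add_mem _ (seq K).2
    apply Submodule.sum_mem
    intro i _
    apply hpow K
    apply Submodule.smul_mem_smul _ (hx i)
    have := (hLs i K)
    rw [SModEq.sub_mem] at this
    simpa using this
  have hzero : m - ∑ i, L i • x i = 0 := by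
    have : m - ∑ i, L i • x i ∈ ⨅ k, G k := (Submodule.mem_iInf _).2 hmem
    rw [hsep] at this
    simpa using this
  rw [sub_eq_zero] at hzero
  rw [hzero]
  exact Submodule.sum_mem _ fun i _ => Submodule.smul_mem _ _ (subset_span ⟨i, rfl⟩)

end Groth.Agent.H42
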