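import Mathlib
import Groth.Agent.H90.GrpTranslate

/-!
# A finite group scheme over a field: `G_red × G⁰ → G` is an isomorphism
as soon as `G_red` is a (reduced) closed subgroup scheme surjecting onto `G`.
-/

set_option autoImplicit false
set_option linter.unusedSectionVars false
set_option linter.style.haveILetI false
universe u

open CategoryTheory AlgebraicGeometry Limits MonoidalCategory CartesianMonoidalCategory MonObj

namespace Groth.Agent.H42.FinGrpSplit

variable {k : Type u} [Field k]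
  {G Gr G₀ : Over (Spec (CommRingCat.of k))} [GrpObj G] [GrpObj Gr] [GrpObj G₀]
  (r : Gr ⟶ G) [IsMonHom r] [IsClosedImmersion r.left] [IsReduced Gr.left]
  (i₀ : G₀ ⟶ G) [IsMonHom i₀] [IsOpenImmersion i₀.left] [Subsingleton ↥G₀.left]

/-- the unit point of `Gr ×_G G₀` -/
noncomputable def eP : Spec (CommRingCat.of k) ⟶ pullback r.left i₀.left :=
  pullback.lift η[Gr].left η[G₀].left (by
    rw [← Over.comp_left, ← Over.comp_left, IsMonHom.one_hom, IsMonHom.one_hom])

include r i₀ in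
theorem isIso_eP [IsSeparated Gr.hom] : IsIso (eP r i₀) := by
  haveI : IsReduced (pullback r.left i₀.left) :=
    isReduced_of_isOpenImmersion (pullback.fst r.left i₀.left)
  haveI : Subsingleton ↥(pullback r.left i₀.left) :=
    (pullback.snd r.left i₀.left).isEmbedding.injective.subsingleton
  have hsec : eP r i₀ ≫ (pullback.fst r.left i₀.left ≫ Gr.hom) = 𝟙 _ := by
    rw [eP, pullback.lift_fst_assoc]
    exact Over.w η[Gr]
  haveI : IsClosedImmersion (eP r i₀ ≫ (pullback.fst r.left i₀.left ≫ Gr.hom)) := by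
    rw [hsec]; infer_instance
  haveI : IsClosedImmersion (eP r i₀) :=
    IsClosedImmersion.of_comp (eP r i₀) (pullback.fst r.left i₀.left ≫ Gr.hom)
  haveI : Surjective (eP r i₀) := ⟨fun x => ⟨IsLocalRing.closedPoint k, Subsingleton.elim _ _⟩⟩
  exact isIso_of_isClosedImmersion_of_surjective (eP r i₀)

include r i₀ in
/-- a point in `Gr ∩ G₀` is trivial -/
theorem eq_one_of_comp_eq [IsSeparated Gr.hom] {T : Over (Spec (CommRingCat.of k))}
    (c₁ : T ⟶ Gr) (c₂ : T ⟶ G₀) (h : c₁ ≫ r = c₂ ≫ i₀) : c₁ = 1 ∧ c₂ = 1 := by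
  haveI := isIso_eP r i₀
  let ℓ : T.left ⟶ pullback r.left i₀.left :=
    pullback.lift c₁.left c₂.left (by rw [← Over.comp_left, ← Over.comp_left, h])
  have hsec : eP r i₀ ≫ (pullback.fst r.left i₀.left ≫ Gr.hom) = 𝟙 _ := by
    rw [eP, pullback.lift_fst_assoc]
    exact Over.w η[Gr]
  have hℓ : ℓ = T.hom ≫ eP r i₀ := by
    have h1 : ℓ ≫ (pullback.fst r.left i₀.left ≫ Gr.hom) = T.hom := by
      rw [pullback.lift_fst_assoc]
      exact Over.w c₁
    have h2 : (pullback.fst r.left i₀.left ≫ Gr.hom) = inv (eP r i₀) := by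
      rw [← cancel_epi (eP r i₀), hsec, IsIso.hom_inv_id]
    rw [← h1, h2, Category.assoc, IsIso.inv_hom_id, Category.comp_id]
  constructor
  · apply Over.OverMorphism.ext
    have : c₁.left = ℓ ≫ pullback.fst r.left i₀.left := (pullback.lift_fst _ _ _).symm
    rw [this, hℓ, Category.assoc, eP, pullback.lift_fst]
    rfl
  · apply Over.OverMorphism.ext
    have : c₂.left = ℓ ≫ pullback.snd r.left i₀.left := (pullback.lift_snd _ _ _).symm
    rw [this, hℓ, Category.assoc, eP, pullback.lift_snd]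
    rfl

end Groth.Agent.H42.FinGrpSplit

namespace Groth.Agent.H42.FinGrpSplit

open Groth.Agent.H90

variable {k : Type u} [Field k]
  {G Gr G₀ : Over (Spec (CommRingCat.of k))} [GrpObj G] [GrpObj Gr] [GrpObj G₀]
  (r : Gr ⟶ G) [IsMonHom r] [IsClosedImmersion r.left] [IsReduced Gr.left]
  (i₀ : G₀ ⟶ G) [IsMonHom i₀] [IsOpenImmersion i₀.left] [Subsingleton ↥G₀.left]

include r i₀ in
theorem mono_mul [IsSeparated Gr.hom] : Mono ((r ⊗ₘ i₀) ≫ μ[G]) := by
  constructor
  intro T a b hab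
  have hexp : ∀ c : T ⟶ Gr ⊗ G₀,
      c ≫ (r ⊗ₘ i₀) ≫ μ[G] = (c ≫ fst _ _ ≫ r) * (c ≫ snd _ _ ≫ i₀) := by
    intro c
    rw [Hom.mul_def, ← Category.assoc]
    congr 1
    apply CartesianMonoidalCategory.hom_ext
    · rw [Category.assoc, tensorHom_fst, lift_fst]
    · rw [Category.assoc, tensorHom_snd, lift_snd]
  rw [hexp, hexp] at hab
  have h1 : ((b ≫ fst _ _)⁻¹ * (a ≫ fst _ _)) ≫ r =
      ((b ≫ snd _ _) * (a ≫ snd _ _)⁻¹) ≫ i₀ := by
    rw [MonObj.mul_comp, MonObj.mul_comp, GrpObj.inv_comp, GrpObj.inv_comp]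
    simp only [Category.assoc]
    rw [inv_mul_eq_iff_eq_mul, ← _root_.mul_assoc, eq_mul_inv_iff_mul_eq]
    exact hab
  obtain ⟨h2, h3⟩ := eq_one_of_comp_eq r i₀ _ _ h1
  have e1 : a ≫ fst _ _ = b ≫ fst _ _ := by
    rw [inv_mul_eq_one] at h2
    exact h2.symm
  have e2 : a ≫ snd _ _ = b ≫ snd _ _ := by
    rw [mul_inv_eq_one] at h3
    exact h3.symm
  exact CartesianMonoidalCategory.hom_ext _ _ e1 e2

include r i₀ in
theorem isIso_mul [IsSeparated Gr.hom] [Surjective r.left] [LocallyOfFiniteType Gr.hom]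
    [LocallyOfFiniteType G.hom] : IsIso ((r ⊗ₘ i₀) ≫ μ[G]) := by
  haveI := mono_mul r i₀
  haveI hmono : Mono ((r ⊗ₘ i₀) ≫ μ[G]).left := inferInstance
  have hfac : (r ⊗ₘ i₀) ≫ μ[G] = (Gr ◁ i₀) ≫ shearHom r ≫ snd Gr G := tensorHom_comp_mul r i₀
  have h1 : IsOpenImmersion (Gr ◁ i₀).left := by
    rw [Over.whiskerLeft_left]
    infer_instance
  have h2 : IsIso (shearHom r).left :=
    inferInstanceAs (IsIso ((Over.forget _).map (shearHom r)))
  have h3 : Flat (snd Gr G).left := by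
    rw [Over.snd_left]
    infer_instance
  haveI hflat : Flat ((r ⊗ₘ i₀) ≫ μ[G]).left := by
    rw [hfac, Over.comp_left, Over.comp_left]
    infer_instance
  haveI : LocallyOfFiniteType G₀.hom := by
    rw [← Over.w i₀]
    infer_instance
  haveI : LocallyOfFiniteType ((r ⊗ₘ i₀) ≫ μ[G]).left := by
    have : LocallyOfFiniteType (((r ⊗ₘ i₀) ≫ μ[G]).left ≫ G.hom) := by
      rw [Over.w, Over.tensorObj_hom]
      infer_instance
    exact locallyOfFiniteType_of_comp _ G.hom
  haveI : IsLocallyNoetherian G.left := LocallyOfFiniteType.isLocallyNoetherian G.hom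
  haveI : LocallyOfFinitePresentation ((r ⊗ₘ i₀) ≫ μ[G]).left := inferInstance
  haveI hopen : IsOpenImmersion ((r ⊗ₘ i₀) ≫ μ[G]).left := IsOpenImmersion.of_flat_of_mono _
  have hr : lift (𝟙 Gr) (toUnit Gr ≫ η[G₀]) ≫ (r ⊗ₘ i₀) ≫ μ[G] = r := by
    rw [← Category.assoc, lift_map, Category.id_comp, Category.assoc, IsMonHom.one_hom,
      ← Hom.mul_def, ← Hom.one_def, _root_.mul_one]
  haveI : Surjective ((lift (𝟙 Gr) (toUnit Gr ≫ η[G₀])).left ≫ ((r ⊗ₘ i₀) ≫ μ[G]).left) := by
    rw [← Over.comp_left, hr]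
    infer_instance
  haveI hsurj : Surjective ((r ⊗ₘ i₀) ≫ μ[G]).left :=
    Surjective.of_comp (lift (𝟙 Gr) (toUnit Gr ≫ η[G₀])).left _
  haveI : IsIso ((r ⊗ₘ i₀) ≫ μ[G]).left := by
    apply isIso_of_isOpenImmersion_of_opensRange_eq_top
    rw [← top_le_iff]
    intro x _
    exact hsurj.surj x
  haveI : IsIso ((Over.forget (Spec (CommRingCat.of k))).map ((r ⊗ₘ i₀) ≫ μ[G])) := this
  exact isIso_of_reflects_iso _ (Over.forget _)

end Groth.Agent.H42.FinGrpSplit

namespace Groth.Agent.H42.FinGrpSplit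

/-- A scheme finite over a field has the discrete topology. -/
theorem discreteTopology_of_isFinite {k : Type u} [Field k] {X : Scheme.{u}}
    (f : X ⟶ Spec (CommRingCat.of k)) [IsFinite f] : DiscreteTopology X := by
  haveI : IsAffine X := isAffine_of_isAffineHom f
  have hfin : f.appTop.hom.Finite := f.finite_appTop
  haveI : IsArtinianRing Γ(Spec (CommRingCat.of k), ⊤) :=
    (Scheme.ΓSpecIso (CommRingCat.of k)).commRingCatIsoToRingEquiv.symm.surjective.isArtinianRing
  haveI : IsArtinianRing Γ(X, ⊤) := by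
    algebraize [f.appTop.hom]
    haveI : Module.Finite Γ(Spec (CommRingCat.of k), ⊤) Γ(X, ⊤) := hfin
    exact IsArtinianRing.of_finite Γ(Spec (CommRingCat.of k), ⊤) Γ(X, ⊤)
  haveI : DiscreteTopology (Spec Γ(X, ⊤)) := inferInstanceAs (DiscreteTopology (PrimeSpectrum _))
  exact X.isoSpec.hom.homeomorph.symm.discreteTopology

/-- **Splitting of a finite group scheme**: `G_red × G⁰ ≅ G`. -/
theorem isIso_mul_of_isFinite {k : Type u} [Field k]
    (G Gr G₀ : Over (Spec (CommRingCat.of k))) [GrpObj G] [GrpObj Gr] [GrpObj G₀] [IsFinite G.hom]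
    (r : Gr ⟶ G) [IsMonHom r] [IsClosedImmersion r.left] [IsReduced Gr.left] [Surjective r.left]
    (i₀ : G₀ ⟶ G) [IsMonHom i₀] [IsOpenImmersion i₀.left] [ConnectedSpace ↥G₀.left] :
    IsIso ((r ⊗ₘ i₀) ≫ μ[G]) := by
  haveI : DiscreteTopology ↥G.left := discreteTopology_of_isFinite G.hom
  haveI : DiscreteTopology ↥G₀.left := i₀.left.isOpenEmbedding.isEmbedding.discreteTopology
  haveI : Subsingleton ↥G₀.left := by
    have hpre : _root_.IsPreconnected (Set.univ : Set ↥G₀.left) :=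
      PreconnectedSpace.isPreconnected_univ
    have := hpre.subsingleton
    exact ⟨fun a b => this (Set.mem_univ a) (Set.mem_univ b)⟩
  haveI : IsFinite Gr.hom := by
    rw [← Over.w r]
    infer_instance
  exact isIso_mul r i₀

end Groth.Agent.H42.FinGrpSplit
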