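import Mathlib.RingTheory.Polynomial.Basic
import Mathlib.Algebra.Polynomial.Degree.Lemmas
import Mathlib.Algebra.Polynomial.AlgebraMap

/-!
# Natural group laws on the affine line (pure algebra)

A polynomial `M ∈ k[T][X]` defines on every `k`-algebra `D` a binary operation
`(d, d') ↦ M(d, d')`.  If these operations are group laws with unit `e`, then
`M = X + T - e`.
-/

set_option autoImplicit false
universe u

open Polynomial

namespace Groth.Agent.H42.LineLaw

variable {k : Type u} [CommRing k]

/-- The binary operation on a `k`-algebra `D` defined by `M ∈ k[T][X]`. -/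
noncomputable def opOf (M : k[X][X]) {D : Type u} [CommRing D] [Algebra k D] (d d' : D) : D :=
  Polynomial.eval₂ (Polynomial.eval₂RingHom (algebraMap k D) d) d' M

theorem opOf_map (M : k[X][X]) {D D' : Type u} [CommRing D] [Algebra k D] [CommRing D']
    [Algebra k D'] (ψ : D →+* D') (hψ : ψ.comp (algebraMap k D) = algebraMap k D') (d d' : D) :
    ψ (opOf M d d') = opOf M (ψ d) (ψ d') := by
  unfold opOf
  rw [Polynomial.hom_eval₂]
  congr 1
  apply Polynomial.ringHom_ext
  · intro a
    simp only [RingHom.comp_apply, coe_eval₂RingHom, eval₂_C]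
    exact RingHom.congr_fun hψ a
  · simp

theorem opOf_C_X (M : k[X][X]) : opOf M (C (X : k[X])) (X : k[X][X]) = M := by
  unfold opOf
  have : Polynomial.eval₂RingHom (algebraMap k k[X][X]) (C (X : k[X])) = (C : k[X] →+* k[X][X]) := by
    apply Polynomial.ringHom_ext
    · intro a
      simp [Polynomial.algebraMap_apply]
    · simp
  rw [this, Polynomial.eval₂_C_X]

theorem opOf_C_left (M : k[X][X]) (I : k[X]) (P : k[X][X]) :
    opOf M (C I) P = (opOf M (C I) (X : k[X][X])).comp P := by
  unfold opOf
  have h := Polynomial.hom_eval₂ M (Polynomial.eval₂RingHom (algebraMap k k[X][X]) (C I))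
    (Polynomial.compRingHom P) (X : k[X][X])
  simp only [coe_compRingHom_apply, X_comp] at h
  rw [h]
  congr 1
  apply Polynomial.ringHom_ext
  · intro a
    simp [Polynomial.algebraMap_apply]
  · simp

theorem opOf_X_left (M : k[X][X]) (c : k[X]) :
    opOf M (X : k[X]) c = M.eval c := by
  unfold opOf
  have : Polynomial.eval₂RingHom (algebraMap k k[X]) (X : k[X]) = RingHom.id k[X] := by
    apply Polynomial.ringHom_ext
    · intro a
      simp
    · simp
  rw [this]
  rfl


theorem law_eq {k : Type u} [Field k] (M : k[X][X]) (e : k)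
    (hassoc : ∀ (D : Type u) [CommRing D] [Algebra k D] (x y z : D),
      opOf M (opOf M x y) z = opOf M x (opOf M y z))
    (hr : ∀ (D : Type u) [CommRing D] [Algebra k D] (x : D), opOf M x (algebraMap k D e) = x)
    (hl : ∀ (D : Type u) [CommRing D] [Algebra k D] (x : D), opOf M (algebraMap k D e) x = x)
    (hinv : ∀ (D : Type u) [CommRing D] [Algebra k D] (x : D),
      ∃ y : D, opOf M y x = algebraMap k D e) :
    M = X + C X - C (C e) := by
  obtain ⟨I, hI⟩ := hinv k[X] X
  -- associativity for `C I, C T, X`
  have h1 := hassoc k[X][X] (C I) (C (X : k[X])) X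
  have h2 : opOf M (C I) (C (X : k[X])) = algebraMap k k[X][X] e := by
    have := opOf_map M (C : k[X] →+* k[X][X]) (by ext a; simp [Polynomial.algebraMap_apply]) I X
    rw [← this, hI]
    simp [Polynomial.algebraMap_apply]
  rw [h2, hl, opOf_C_X, opOf_C_left] at h1
  set Q := opOf M (C I) (X : k[X][X]) with hQ
  -- degrees
  have hdeg : Q.natDegree * M.natDegree = 1 := by
    rw [← Polynomial.natDegree_comp, ← h1, natDegree_X]
  have hM1 : M.natDegree = 1 := Nat.eq_one_of_mul_eq_one_left hdeg
  have hQ1 : Q.natDegree = 1 := Nat.eq_one_of_mul_eq_one_right hdeg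
  have hlc : Q.leadingCoeff * M.leadingCoeff = 1 := by
    have := Polynomial.leadingCoeff_comp (p := Q) (q := M) (by rw [hM1]; exact one_ne_zero)
    rw [← h1, hQ1, pow_one, leadingCoeff_X] at this
    exact this.symm
  have hunit : IsUnit M.leadingCoeff :=
    ⟨⟨M.leadingCoeff, Q.leadingCoeff, by rw [mul_comm]; exact hlc, hlc⟩, rfl⟩
  obtain ⟨a₀, ha₀, ha⟩ := Polynomial.isUnit_iff.mp hunit
  have hMform : M = C (C a₀) * X + C (M.coeff 0) := by
    have := Polynomial.eq_X_add_C_of_natDegree_le_one (p := M) hM1.le
    rw [ha]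
    have hc : M.coeff 1 = M.leadingCoeff := by rw [leadingCoeff, hM1]
    rw [← hc]
    exact this
  set b := M.coeff 0 with hb
  -- right unit
  have h3 := hr k[X] X
  rw [opOf_X_left, hMform] at h3
  simp only [eval_add, eval_mul, eval_C, eval_X, Polynomial.algebraMap_apply,
    Algebra.algebraMap_self, RingHom.id_apply] at h3
  have hbval : b = X - C (a₀ * e) := by
    rw [← h3, C_mul]
    ring
  -- left unit
  have h4 := hl k[X] X
  unfold opOf at h4
  rw [hMform, hbval] at h4
  simp only [eval₂_add, eval₂_mul, eval₂_C, eval₂_X, coe_eval₂RingHom, eval₂_sub,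
    Polynomial.algebraMap_apply, Algebra.algebraMap_self, RingHom.id_apply] at h4
  have h5 := congrArg (fun p => Polynomial.coeff p 1) h4
  simp only [coeff_add, coeff_C_mul, coeff_X_one, coeff_sub, coeff_C_succ, mul_one, sub_zero,
    add_zero] at h5
  rw [hMform, hbval, h5]
  simp only [map_one, one_mul, C_sub]
  ring

end Groth.Agent.H42.LineLaw
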