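import Groth.Agent.H42.GaGm3
import Groth.Agent.H42.LineLawAlg

/-!
# Group laws on the affine line over a field are determined by the unit

Abstractly: `G` a `k`-scheme whose functor of points is `Y ↦ Γ(Y, 𝒪_Y)` (via `Coord`).
Any group law on `G` is `(a, b) ↦ a + b - e`.
-/

set_option autoImplicit false
universe u

open CategoryTheory MonoidalCategory CartesianMonoidalCategory MonObj GrpObj AlgebraicGeometry
open Polynomial

namespace Groth.Agent.H42.LineLaw

variable {k : Type u} [CommRing k]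

/-- A natural identification of the points of `G` with global functions. -/
structure Coord (G : Over (Spec (CommRingCat.of k))) where
  fn : ∀ {Y : Over (Spec (CommRingCat.of k))}, (Y ⟶ G) → Γ(Y.left, ⊤)
  comp : ∀ {Y Y' : Over (Spec (CommRingCat.of k))} (h : Y' ⟶ Y) (x : Y ⟶ G),
    fn (h ≫ x) = h.left.appTop (fn x)
  inj : ∀ {Y : Over (Spec (CommRingCat.of k))}, Function.Injective (fn (Y := Y))
  surj : ∀ {Y : Over (Spec (CommRingCat.of k))}, Function.Surjective (fn (Y := Y))

/-- The test object `Spec D` for a `k`-algebra `D`. -/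
noncomputable abbrev YC (D : Type u) [CommRing D] [Algebra k D] : Over (Spec (CommRingCat.of k)) :=
  Over.mk (Spec.map (CommRingCat.ofHom (algebraMap k D)))

theorem pb_id {A : Type u} [CommRing A] (a : A) :
    pb (𝟙 (Spec (CommRingCat.of A))) a = (Scheme.ΓSpecIso (CommRingCat.of A)).inv a := by
  rw [pb_apply]
  simp

theorem pb_specMap {A B : Type u} [CommRing A] [CommRing B] (φ : B →+* A) (b : B) :
    pb (Spec.map (CommRingCat.ofHom φ)) b = (Scheme.ΓSpecIso (CommRingCat.of A)).inv (φ b) := by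
  have := pb_comp_specMap (𝟙 (Spec (CommRingCat.of A))) φ b
  rw [Category.id_comp] at this
  rw [this, pb_id]

variable {G : Over (Spec (CommRingCat.of k))} (c : Coord G)

section Points

variable (D : Type u) [CommRing D] [Algebra k D]

/-- The value in `D` of a `D`-point. -/
noncomputable def val (x : YC (k := k) D ⟶ G) : D :=
  (Scheme.ΓSpecIso (CommRingCat.of D)).hom (c.fn x)

/-- The `D`-point with a given value. -/
noncomputable def pt (d : D) : YC (k := k) D ⟶ G :=
  (c.surj (Y := YC (k := k) D) ((Scheme.ΓSpecIso (CommRingCat.of D)).inv d)).choose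

theorem fn_pt (d : D) : c.fn (pt c D d) = (Scheme.ΓSpecIso (CommRingCat.of D)).inv d :=
  (c.surj (Y := YC (k := k) D) ((Scheme.ΓSpecIso (CommRingCat.of D)).inv d)).choose_spec

theorem val_pt (d : D) : val c D (pt c D d) = d := by
  rw [val, fn_pt]
  exact Iso.inv_hom_id_apply (C := CommRingCat) _ _

theorem fn_eq_val (x : YC (k := k) D ⟶ G) :
    c.fn x = (Scheme.ΓSpecIso (CommRingCat.of D)).inv (val c D x) := by
  rw [val]
  exact (Iso.hom_inv_id_apply (C := CommRingCat) _ _).symm

theorem pt_val (x : YC (k := k) D ⟶ G) : pt c D (val c D x) = x := by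
  apply c.inj
  rw [fn_pt, ← fn_eq_val]

end Points


section Law

variable [GrpObj G]

/-- The universal polynomial of the group law. -/
noncomputable def univ : k[X][X] :=
  val c k[X][X] (pt c k[X][X] (C (X : k[X])) * pt c k[X][X] (X : k[X][X]))

/-- The unit, as an element of `k`. -/
noncomputable def unitElt : k :=
  (Scheme.ΓSpecIso (CommRingCat.of k)).hom
    (show Γ(Spec (CommRingCat.of k), ⊤) from c.fn (η[G]))

theorem fn_one {Y : Over (Spec (CommRingCat.of k))} :
    c.fn (1 : Y ⟶ G) = pb Y.hom (unitElt c) := by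
  rw [Hom.one_def, c.comp, pb_apply, unitElt]
  erw [Iso.hom_inv_id_apply (C := CommRingCat)]
  rfl

theorem fn_mul {Y : Over (Spec (CommRingCat.of k))} (a b : Y ⟶ G) :
    c.fn (a * b) = Polynomial.eval₂ (Polynomial.eval₂RingHom (pb Y.hom) (c.fn a)) (c.fn b)
      (univ c) := by
  set ρ : k[X] →+* Γ(Y.left, ⊤) := Polynomial.eval₂RingHom (pb Y.hom) (c.fn a) with hρ
  set ψ : k[X][X] →+* Γ(Y.left, ⊤) := Polynomial.eval₂RingHom ρ (c.fn b) with hψ
  obtain ⟨g, hg⟩ := pb_surjective (A := k[X][X]) (Y := Y.left) ψ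
  have hw : g ≫ Spec.map (CommRingCat.ofHom (algebraMap k k[X][X])) = Y.hom := by
    apply pb_injective
    ext t
    rw [pb_comp_specMap, hg]
    simp [hψ, hρ, Polynomial.algebraMap_apply]
  let h : Y ⟶ YC (k := k) k[X][X] := Over.homMk g hw
  have hfn : ∀ t : k[X][X], c.fn (h ≫ pt c k[X][X] t) = ψ t := by
    intro t
    rw [c.comp, fn_pt, ← hg]
    rfl
  have ha : h ≫ pt c k[X][X] (C (X : k[X])) = a := by
    apply c.inj
    rw [hfn]
    simp [hψ, hρ]
  have hb : h ≫ pt c k[X][X] (X : k[X][X]) = b := by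
    apply c.inj
    rw [hfn]
    simp [hψ]
  have hab : a * b = h ≫ (pt c k[X][X] (C (X : k[X])) * pt c k[X][X] (X : k[X][X])) := by
    rw [MonObj.comp_mul, ha, hb]
  rw [hab, c.comp, fn_eq_val, ← univ]
  show pb g (univ c) = _
  rw [hg]
  rfl


section Alg

variable (D : Type u) [CommRing D] [Algebra k D]

theorem val_one : val c D (1 : YC (k := k) D ⟶ G) = algebraMap k D (unitElt c) := by
  rw [val, fn_one]
  show (Scheme.ΓSpecIso (CommRingCat.of D)).hom
    (pb (Spec.map (CommRingCat.ofHom (algebraMap k D))) (unitElt c)) = _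
  rw [pb_specMap]
  exact Iso.inv_hom_id_apply (C := CommRingCat) _ _

theorem val_mul (x y : YC (k := k) D ⟶ G) :
    val c D (x * y) = opOf (univ c) (val c D x) (val c D y) := by
  rw [val, fn_mul, opOf]
  erw [Polynomial.hom_eval₂]
  congr 1
  apply Polynomial.ringHom_ext
  · intro a
    simp only [RingHom.comp_apply, coe_eval₂RingHom, eval₂_C]
    show (Scheme.ΓSpecIso (CommRingCat.of D)).hom
      (pb (Spec.map (CommRingCat.ofHom (algebraMap k D))) a) = _
    rw [pb_specMap]
    exact Iso.inv_hom_id_apply (C := CommRingCat) _ _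
  · simp only [RingHom.comp_apply, coe_eval₂RingHom, eval₂_X]
    rfl

theorem opOf_eq (x y : D) : opOf (univ c) x y = val c D (pt c D x * pt c D y) := by
  rw [val_mul, val_pt, val_pt]

end Alg

theorem univ_eq {k : Type u} [Field k] {G : Over (Spec (CommRingCat.of k))} (c : Coord G)
    [GrpObj G] : univ c = X + C X - C (C (unitElt c)) := by
  apply law_eq
  · intro D _ _ x y z
    rw [opOf_eq c D x y, opOf_eq c D y z, opOf_eq, opOf_eq, pt_val, pt_val, _root_.mul_assoc]
  · intro D _ _ x
    rw [← val_one, opOf_eq, pt_val, _root_.mul_one, val_pt]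
  · intro D _ _ x
    rw [← val_one, opOf_eq, pt_val, _root_.one_mul, val_pt]
  · intro D _ _ x
    refine ⟨val c D (pt c D x)⁻¹, ?_⟩
    rw [opOf_eq, pt_val, inv_mul_cancel, val_one]

theorem fn_mul_eq {k : Type u} [Field k] {G : Over (Spec (CommRingCat.of k))} (c : Coord G)
    [GrpObj G] {Y : Over (Spec (CommRingCat.of k))} (a b : Y ⟶ G) :
    c.fn (a * b) = c.fn a + c.fn b - c.fn (1 : Y ⟶ G) := by
  rw [fn_mul, univ_eq, fn_one]
  simp only [eval₂_add, eval₂_sub, eval₂_X, eval₂_C, coe_eval₂RingHom]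
  ring

theorem fn_mul_formula {k : Type u} [Field k] {G : Over (Spec (CommRingCat.of k))} (c : Coord G)
    [GrpObj G] : c.fn (μ[G]) = c.fn (fst G G) + c.fn (snd G G) - c.fn (toUnit (G ⊗ G) ≫ η[G]) := by
  have h := fn_mul_eq c (fst G G) (snd G G)
  rw [Hom.mul_def, lift_fst_snd, Category.id_comp, Hom.one_def] at h
  exact h

theorem mul_eq_of_one_eq {k : Type u} [Field k] {G : Over (Spec (CommRingCat.of k))} (c : Coord G)
    (h₁ h₂ : GrpObj G) (e : h₁.one = h₂.one) : h₁.mul = h₂.mul := by
  apply c.inj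
  rw [@fn_mul_formula k _ G c h₁, @fn_mul_formula k _ G c h₂, e]

end Law

end Groth.Agent.H42.LineLaw
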