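import Groth.Agent.H42.FinSubAlg
import Groth.Agent.H42.WittIsog
import Groth.Agent.H42.GaGm4
import Groth.Agent.H42.LineLaw
import Groth.Prelude.Def_Red2
import Mathlib.AlgebraicGeometry.Morphisms.Finite
import Mathlib.AlgebraicGeometry.Morphisms.Flat

/-!
# Finite subgroup schemes of `𝔾_a` and `𝔾_m` over a field are kernels of flat surjective
endomorphisms
-/

set_option autoImplicit false
set_option linter.unusedSectionVars false
universe u

open CategoryTheory CategoryTheory.Limits MonoidalCategory CartesianMonoidalCategory MonObj GrpObj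
  AlgebraicGeometry

namespace Groth.Agent.H42.FinSub

open Groth.Agent.H42.WittOre Groth.Agent.H42.WittIsog

section Generic

variable {S : Scheme.{u}}

/-- A morphism which is surjective on points with values in algebraically closed fields is
surjective. -/
theorem surjective_of_points {X Y : Over S} (φ : X ⟶ Y)
    (h : ∀ (T : Over S), HasRoots Γ(T.left, ⊤) → ∀ y : T ⟶ Y, ∃ x : T ⟶ X, x ≫ φ = y) :
    Surjective φ.left := by
  refine ⟨fun s => ?_⟩
  let L := AlgebraicClosure (Y.left.residueField s)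
  let jj : Spec (CommRingCat.of L) ⟶ Y.left :=
    Spec.map (CommRingCat.ofHom (algebraMap (Y.left.residueField s) L)) ≫
      Y.left.fromSpecResidueField s
  let T : Over S := Over.mk (jj ≫ Y.hom)
  let y : T ⟶ Y := Over.homMk jj rfl
  have hT : HasRoots Γ(T.left, ⊤) :=
    (hasRoots_of_isAlgClosed L).of_ringEquiv
      (Scheme.ΓSpecIso (CommRingCat.of L)).commRingCatIsoToRingEquiv
  obtain ⟨x, hx⟩ := h T hT y
  obtain ⟨pt⟩ : Nonempty ↥(Spec (CommRingCat.of L)) := inferInstance
  refine ⟨x.left pt, ?_⟩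
  have h1 : x.left ≫ φ.left = jj := congrArg (fun z => z.left) hx
  have hj : ∀ q : ↥(Spec (CommRingCat.of L)), jj q = s := by
    intro q
    change (Spec.map (CommRingCat.ofHom (algebraMap (Y.left.residueField s) L)) ≫
      Y.left.fromSpecResidueField s) q = s
    rw [Scheme.Hom.comp_apply]
    exact Scheme.fromSpecResidueField_apply _ _
  rw [← Scheme.Hom.comp_apply, h1]
  exact hj pt

/-- A monomorphism from a finite `S`-scheme to a separated `S`-scheme is a closed immersion. -/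
theorem isClosedImmersion_of_finite_mono {H G : Over S} (i : H ⟶ G) [Mono i] [IsFinite H.hom]
    [IsSeparated G.hom] : IsClosedImmersion i.left := by
  have h1 : IsFinite (i.left ≫ G.hom) := by
    rw [Over.w i]
    infer_instance
  have h2 : IsFinite i.left := IsFinite.of_comp i.left G.hom
  have h3 : Mono i.left := inferInstance
  exact (IsClosedImmersion.iff_isFinite_and_mono i.left).mpr ⟨h2, h3⟩

/-- Lifting a point through a closed immersion into an affine scheme: it suffices to compare the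
kernels on global functions. -/
theorem exists_lift_of_ker_le {H G T : Over S} (i : H ⟶ G) [IsClosedImmersion i.left]
    [IsAffine G.left] (y : T ⟶ G)
    (h : RingHom.ker (i.left.appTop).hom ≤ RingHom.ker (y.left.appTop).hom) :
    ∃ z : T ⟶ H, z ≫ i = y := by
  have hk : i.left.ker ≤ y.left.ker := by
    rw [Scheme.ker_of_isAffine, Scheme.ker_of_isAffine]
    exact (map_le_map_iff (Scheme.IdealSheafData.equivOfIsAffine (X := G.left)).symm).mpr h
  have hfac := IsClosedImmersion.lift_fac i.left y.left hk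
  refine ⟨Over.homMk (IsClosedImmersion.lift i.left y.left hk) ?_, ?_⟩
  · rw [← Over.w i, ← Category.assoc, hfac, Over.w y]
  · ext
    exact hfac

/-- Kernel criterion on points. -/
theorem isKernel_of_points {H G Q : Over S} [GrpObj Q] (i : H ⟶ G) [Mono i] (φ : G ⟶ Q)
    (h1 : i ≫ φ = 1)
    (h2 : ∀ (T : Over S) (y : T ⟶ G), y ≫ φ = 1 → ∃ z : T ⟶ H, z ≫ i = y) :
    AlgGrp.IsKernel i φ := by
  refine ⟨⟨?_⟩, ⟨PullbackCone.IsLimit.mk _ (fun s => ?_) (fun s => ?_) (fun s => ?_)
    (fun s y hy _ => ?_)⟩⟩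
  · rw [h1, Hom.one_def]
  · have hx : s.fst ≫ φ = 1 := by
      rw [s.condition, Hom.one_def]
      congr 1
      exact toUnit_unique _ _
    exact (h2 _ s.fst hx).choose
  · have hx : s.fst ≫ φ = 1 := by
      rw [s.condition, Hom.one_def]
      congr 1
      exact toUnit_unique _ _
    exact (h2 _ s.fst hx).choose_spec
  · exact toUnit_unique _ _
  · have hx : s.fst ≫ φ = 1 := by
      rw [s.condition, Hom.one_def]
      congr 1
      exact toUnit_unique _ _
    rw [← cancel_mono i, hy]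
    exact (h2 _ s.fst hx).choose_spec.symm

end Generic

section Coord

open Groth.Agent.H42.LineLaw

variable {K : Type u} [CommRing K] {G : Over (Spec (CommRingCat.of K))}
  {R₀ : Type u} [CommRing R₀] [Algebra K R₀]

/-- A ring map `α : R₀ → Γ(G)` is bijective as soon as the induced `G → Spec R₀` has a
retraction `y₀` which is a section on functions. -/
theorem bijective_of_retract (α : R₀ →+* Γ(G.left, ⊤)) (hα : α.comp (algebraMap K R₀) = sT G)
    (y₀ : YC (k := K) R₀ ⟶ G)
    (hret : ∀ c : G ⟶ YC (k := K) R₀, (∀ r, pb c.left r = α r) → c ≫ y₀ = 𝟙 G)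
    (hsect : ∀ r, (Scheme.ΓSpecIso (CommRingCat.of R₀)).hom (y₀.left.appTop (α r)) = r) :
    Function.Bijective α := by
  constructor
  · intro r r' h
    rw [← hsect r, ← hsect r', h]
  · intro g
    obtain ⟨c₀, hc₀⟩ := pb_surjective (A := R₀) (Y := G.left) α
    have hw : c₀ ≫ Spec.map (CommRingCat.ofHom (algebraMap K R₀)) = G.hom := by
      apply pb_injective
      ext a
      rw [pb_comp_specMap, hc₀]
      exact congrArg (fun f => f a) hα
    let c : G ⟶ YC (k := K) R₀ := Over.homMk c₀ hw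
    have h1 := hret c (fun r => congrArg (fun f => f r) hc₀)
    refine ⟨(Scheme.ΓSpecIso (CommRingCat.of R₀)).hom (y₀.left.appTop g), ?_⟩
    have h2 : (c ≫ y₀).left.appTop g = g := by
      rw [h1]
      simp
    rw [Over.comp_left, Scheme.Hom.comp_appTop, CommRingCat.comp_apply] at h2
    rw [← hc₀, pb_apply]
    erw [Iso.hom_inv_id_apply (C := CommRingCat)]
    exact h2

end Coord

section GaCoord

open Groth.Agent.H42.LineLaw Polynomial

variable (K : Type u) [CommRing K]

/-- The coordinate function of `𝔾_a`. -/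
noncomputable def gaX : Γ((Red.Ga (Spec (CommRingCat.of K))).left, ⊤) :=
  Red.gaFn (𝟙 (Red.Ga (Spec (CommRingCat.of K))))

/-- Polynomials as functions on `𝔾_a`. -/
noncomputable def gaα : K[X] →+* Γ((Red.Ga (Spec (CommRingCat.of K))).left, ⊤) :=
  Polynomial.eval₂RingHom (sT (Red.Ga (Spec (CommRingCat.of K)))) (gaX K)

variable {K}

/-- Pulling back a polynomial function along a point evaluates the polynomial. -/
theorem ga_eval {T : Over (Spec (CommRingCat.of K))} (y : T ⟶ Red.Ga (Spec (CommRingCat.of K)))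
    (Q : K[X]) : y.left.appTop (gaα K Q) = Polynomial.eval₂ (sT T) (Red.gaFn y) Q := by
  have h := Polynomial.hom_eval₂ Q (sT (Red.Ga (Spec (CommRingCat.of K)))) (y.left.appTop).hom
    (gaX K)
  rw [sT_comp y] at h
  have h2 : (y.left.appTop).hom (gaX K) = Red.gaFn y := by
    rw [gaX, ← Category.comp_id y, gaFn_comp, Category.comp_id]
  rw [h2] at h
  exact h

theorem gaα_bijective : Function.Bijective (gaα K) := by
  obtain ⟨y₀, hy₀⟩ := gaFn_surjective (S := Spec (CommRingCat.of K)) (X := YC (k := K) K[X])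
    ((Scheme.ΓSpecIso (CommRingCat.of K[X])).inv X)
  apply bijective_of_retract (gaα K) ?_ y₀ ?_ ?_
  · ext a
    simp [gaα]
  · intro c hc
    apply gaFn_ext
    rw [gaFn_comp, hy₀, ← pb_apply, hc, gaα, Polynomial.coe_eval₂RingHom, Polynomial.eval₂_X]
    rfl
  · intro r
    rw [ga_eval, hy₀, sT_Spec, ← Polynomial.hom_eval₂]
    erw [Iso.inv_hom_id_apply (C := CommRingCat)]
    rw [← Polynomial.aeval_def, Polynomial.aeval_X_left_apply]

end GaCoord

section MinPoly

open Polynomial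

/-- The minimal polynomial of an element of a non-zero finite algebra over a field, without
algebra instances. -/
theorem exists_minimal_poly {K B : Type*} [Field K] [CommRing B] [Nontrivial B] (s : K →+* B)
    (hs : s.Finite) (b : B) :
    ∃ P : K[X], P.Monic ∧ 1 ≤ P.natDegree ∧ Polynomial.eval₂ s b P = 0 ∧
      ∀ Q : K[X], Polynomial.eval₂ s b Q = 0 → P ∣ Q := by
  set ev : K[X] →+* B := Polynomial.eval₂RingHom s b with hev
  obtain ⟨P₀, hP₀m, hP₀⟩ := hs.to_isIntegral b
  have hI : (RingHom.ker ev).IsPrincipal := IsPrincipalIdealRing.principal _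
  set g := Submodule.IsPrincipal.generator (RingHom.ker ev) with hg
  have hspan : RingHom.ker ev = Ideal.span {g} := (Ideal.span_singleton_generator _).symm
  have hg0 : g ≠ 0 := by
    intro h0
    have : P₀ ∈ RingHom.ker ev := hP₀
    rw [hspan, h0, Ideal.mem_span_singleton, zero_dvd_iff] at this
    exact hP₀m.ne_zero this
  have hgmem : g ∈ RingHom.ker ev := Submodule.IsPrincipal.generator_mem _
  have hlc : g.leadingCoeff ≠ 0 := Polynomial.leadingCoeff_ne_zero.mpr hg0
  set P : K[X] := g * C g.leadingCoeff⁻¹ with hP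
  have hPm : P.Monic := Polynomial.monic_mul_leadingCoeff_inv hg0
  have hgP : g ∣ P := dvd_mul_right _ _
  have hPg : P ∣ g := by
    refine ⟨C g.leadingCoeff, ?_⟩
    rw [hP, _root_.mul_assoc, ← C_mul, inv_mul_cancel₀ hlc, C_1, _root_.mul_one]
  refine ⟨P, hPm, ?_, ?_, ?_⟩
  · by_contra hlt
    have hd0 : P.natDegree = 0 := by omega
    have h1 : P = 1 := by
      have hm : P.coeff 0 = 1 := by
        have := hPm.coeff_natDegree
        rwa [hd0] at this
      rw [Polynomial.eq_C_of_natDegree_eq_zero hd0, hm, map_one]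
    have h2 : (1 : K[X]) ∈ RingHom.ker ev := by
      rw [hspan, Ideal.mem_span_singleton, ← h1]
      exact hgP
    rw [RingHom.mem_ker, map_one] at h2
    exact one_ne_zero h2
  · have h2 : P ∈ RingHom.ker ev := by
      rw [hspan, Ideal.mem_span_singleton]
      exact hgP
    exact h2
  · intro Q hQ
    have h2 : Q ∈ RingHom.ker ev := hQ
    rw [hspan, Ideal.mem_span_singleton] at h2
    exact hPg.trans h2

end MinPoly

section HFacts

variable {K : Type u} [Field K]

set_option backward.isDefEq.respectTransparency.types false in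
theorem sT_finite (H : Over (Spec (CommRingCat.of K))) [IsFinite H.hom] : (sT H).Finite := by
  have h := (HasAffineProperty.iff_of_isAffine (P := @IsFinite)).mp (inferInstance : IsFinite H.hom)
  have h1 : (sT H) = (H.hom.appTop).hom.comp ((Scheme.ΓSpecIso (CommRingCat.of K)).inv).hom := rfl
  rw [h1]
  refine RingHom.Finite.comp h.2 (RingHom.Finite.of_surjective _ ?_)
  exact (ConcreteCategory.bijective_of_isIso (Scheme.ΓSpecIso (CommRingCat.of K)).inv).2

theorem isAffine_of_finite (H : Over (Spec (CommRingCat.of K))) [IsFinite H.hom] :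
    IsAffine H.left :=
  isAffine_of_isAffineHom H.hom

theorem nontrivial_Γ (H : Over (Spec (CommRingCat.of K))) [GrpObj H] :
    Nontrivial Γ(H.left, ⊤) := by
  by_contra hn
  rw [not_nontrivial_iff_subsingleton] at hn
  have h1 : (1 : Γ(H.left, ⊤)) = 0 := Subsingleton.elim _ _
  have h2 := congrArg ((η[H]).left.appTop).hom h1
  rw [map_one, map_zero] at h2
  have h3 := congrArg ((Scheme.ΓSpecIso (CommRingCat.of K)).hom).hom h2
  rw [map_one, map_zero] at h3
  exact one_ne_zero h3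

end HFacts

section GaMain

open Polynomial Groth.Agent.H42.LineLaw Groth.Agent.H42.FinSubAlg

variable {K : Type u} [Field K]

instance isAffine_Ga : IsAffine (Red.Ga (Spec (CommRingCat.of K))).left := by
  have : IsAffine Red.GaZ.{u}.left := by
    show IsAffine (Spec _)
    infer_instance
  show IsAffine (pullback Red.GaZ.hom _)
  infer_instance

instance isAffine_Gm : IsAffine (Red.Gm (Spec (CommRingCat.of K))).left := by
  have : IsAffine (Red.diag (ULift.{u} ℤ) ℤ).left := by
    show IsAffine (Spec _)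
    infer_instance
  show IsAffine (pullback (Red.diag (ULift.{u} ℤ) ℤ).hom _)
  infer_instance

variable {H : Over (Spec (CommRingCat.of K))} (i : H ⟶ Red.Ga (Spec (CommRingCat.of K)))

/-- A point of `𝔾_a` lies in the finite subscheme `H` iff its coordinate is a root of the minimal
polynomial of `H`. -/
theorem ga_mem_iff [Mono i] [IsFinite H.hom] (P : K[X])
    (hP0 : Polynomial.eval₂ (sT H) (Red.gaFn i) P = 0)
    (hPdvd : ∀ Q : K[X], Polynomial.eval₂ (sT H) (Red.gaFn i) Q = 0 → P ∣ Q)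
    {T : Over (Spec (CommRingCat.of K))} (y : T ⟶ Red.Ga (Spec (CommRingCat.of K))) :
    (∃ z : T ⟶ H, z ≫ i = y) ↔ Polynomial.eval₂ (sT T) (Red.gaFn y) P = 0 := by
  constructor
  · rintro ⟨z, rfl⟩
    rw [gaFn_comp]
    have := Polynomial.hom_eval₂ P (sT H) (z.left.appTop).hom (Red.gaFn i)
    rw [sT_comp z] at this
    rw [← this, hP0, map_zero]
  · intro hy
    have : IsClosedImmersion i.left := isClosedImmersion_of_finite_mono i
    apply exists_lift_of_ker_le i y
    intro g hg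
    obtain ⟨Q, rfl⟩ := (gaα_bijective (K := K)).2 g
    rw [RingHom.mem_ker] at hg ⊢
    have e1 := ga_eval i Q
    have e2 := ga_eval y Q
    have hg' : Polynomial.eval₂ (sT H) (Red.gaFn i) Q = 0 := e1.symm.trans hg
    obtain ⟨Q', rfl⟩ := hPdvd Q hg'
    refine e2.trans ?_
    rw [Polynomial.eval₂_mul, hy, zero_mul]

omit [Field K] in
theorem eval₂_sT_YC {K : Type u} [CommRing K] (D : Type u) [CommRing D] [Algebra K D] (d : D)
    (Q : K[X]) :
    Polynomial.eval₂ (sT (YC (k := K) D)) ((Scheme.ΓSpecIso (CommRingCat.of D)).inv d) Q =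
      (Scheme.ΓSpecIso (CommRingCat.of D)).inv (Polynomial.eval₂ (algebraMap K D) d Q) := by
  rw [sT_Spec]
  exact (Polynomial.hom_eval₂ Q (algebraMap K D) ((Scheme.ΓSpecIso (CommRingCat.of D)).inv).hom
    d).symm

theorem ΓSpecIso_inv_injective (D : Type u) [CommRing D] :
    Function.Injective ((Scheme.ΓSpecIso (CommRingCat.of D)).inv).hom :=
  (ConcreteCategory.bijective_of_isIso (Scheme.ΓSpecIso (CommRingCat.of D)).inv).1

/-- The minimal polynomial of a finite subgroup scheme of `𝔾_a` is additive. -/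
theorem ga_additive [GrpObj H] [IsMonHom i] [Mono i] [IsFinite H.hom] (P : K[X]) (hPm : P.Monic)
    (hd : 1 ≤ P.natDegree) (hP0 : Polynomial.eval₂ (sT H) (Red.gaFn i) P = 0)
    (hPdvd : ∀ Q : K[X], Polynomial.eval₂ (sT H) (Red.gaFn i) Q = 0 → P ∣ Q)
    {A : Type*} [CommRing A] (s : K →+* A) (a b : A) :
    Polynomial.eval₂ s (a + b) P = Polynomial.eval₂ s a P + Polynomial.eval₂ s b P := by
  obtain ⟨y₁, hy₁⟩ := gaFn_surjective (S := Spec (CommRingCat.of K)) (X := YC (k := K) (CC P))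
    ((Scheme.ΓSpecIso (CommRingCat.of (CC P))).inv (r₁ P))
  obtain ⟨y₂, hy₂⟩ := gaFn_surjective (S := Spec (CommRingCat.of K)) (X := YC (k := K) (CC P))
    ((Scheme.ΓSpecIso (CommRingCat.of (CC P))).inv (r₂ P))
  obtain ⟨z₁, hz₁⟩ := (ga_mem_iff i P hP0 hPdvd y₁).mpr (by
    rw [hy₁, eval₂_sT_YC, eval₂_r₁, map_zero])
  obtain ⟨z₂, hz₂⟩ := (ga_mem_iff i P hP0 hPdvd y₂).mpr (by
    rw [hy₂, eval₂_sT_YC, eval₂_r₂, map_zero])
  have h12 : (z₁ * z₂) ≫ i = y₁ * y₂ := by
    have e : (z₁ * z₂) ≫ i = (z₁ ≫ i) * (z₂ ≫ i) := MonObj.mul_comp _ _ _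
    rw [e, hz₁, hz₂]
  have h3 := (ga_mem_iff i P hP0 hPdvd (y₁ * y₂)).mp ⟨z₁ * z₂, h12⟩
  rw [gaFn_mul, hy₁, hy₂, ← map_add, eval₂_sT_YC] at h3
  have h4 : Polynomial.eval₂ (algebraMap K (CC P)) (r₁ P + r₂ P) P = 0 :=
    ΓSpecIso_inv_injective _ (h3.trans (map_zero _).symm)
  obtain ⟨h0, hj⟩ := hasseDeriv_eq hPm hd (translate_eq hPm hd h4)
  exact eval₂_add_of_hasseDeriv h0 hj s a b

/-- Flatness of an endomorphism of an affine scheme, read off on a presentation of the functions. -/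
theorem flat_of_conj {S : Scheme.{u}} {G : Over S} [IsAffine G.left] (φ : G ⟶ G) {R₀ : Type u}
    [CommRing R₀] (α : R₀ →+* Γ(G.left, ⊤)) (hα : Function.Bijective α) (c : R₀ →+* R₀)
    (hc : c.Flat) (h : (φ.left.appTop).hom.comp α = α.comp c) : Flat φ.left := by
  rw [HasRingHomProperty.iff_of_isAffine (P := @Flat)]
  have h1 : (α.comp c).Flat := RingHom.Flat.comp hc (RingHom.Flat.of_bijective hα)
  rw [← h] at h1
  exact (RingHom.Flat.comp_iff_of_bijective_right hα).mp h1

/-- A finite subgroup scheme of `𝔾_a` over a field is the kernel of a flat surjective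
endomorphism. -/
theorem ga_main [GrpObj H] [IsMonHom i] [Mono i] [IsFinite H.hom] :
    ∃ φ : Red.Ga (Spec (CommRingCat.of K)) ⟶ Red.Ga (Spec (CommRingCat.of K)),
      IsMonHom φ ∧ AlgGrp.IsKernel i φ ∧ Flat φ.left ∧ Surjective φ.left := by
  have := nontrivial_Γ H
  obtain ⟨P, hPm, hd, hP0, hPdvd⟩ := exists_minimal_poly (sT H) (sT_finite H) (Red.gaFn i)
  obtain ⟨φ, hφ⟩ := gaFn_surjective (S := Spec (CommRingCat.of K))
    (X := Red.Ga (Spec (CommRingCat.of K))) (gaα K P)
  have hφy : ∀ {T : Over (Spec (CommRingCat.of K))} (y : T ⟶ Red.Ga (Spec (CommRingCat.of K))),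
      Red.gaFn (y ≫ φ) = Polynomial.eval₂ (sT T) (Red.gaFn y) P := by
    intro T y
    rw [gaFn_comp, hφ, ga_eval]
  have hzero : ∀ {T : Over (Spec (CommRingCat.of K))}, Polynomial.eval₂ (sT T) 0 P = 0 := by
    intro T
    have := ga_additive i P hPm hd hP0 hPdvd (sT T) 0 0
    rw [add_zero] at this
    exact left_eq_add.mp this
  refine ⟨φ, ?_, ?_, ?_, ?_⟩
  · apply WittGrp.isMonHom_of_comp_mul
    · apply gaFn_ext
      rw [hφy, gaFn_one, hzero]
    · intro T a b
      apply gaFn_ext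
      rw [hφy, gaFn_mul, gaFn_mul, hφy, hφy, ga_additive i P hPm hd hP0 hPdvd]
  · apply isKernel_of_points i φ
    · apply gaFn_ext
      rw [hφy, gaFn_one, hP0]
    · intro T y hy
      apply (ga_mem_iff i P hP0 hPdvd y).mpr
      rw [← hφy, hy, gaFn_one]
  · apply flat_of_conj φ (gaα K) gaα_bijective _ (flat_aeval P hd)
    refine RingHom.ext fun Q => ?_
    rw [RingHom.comp_apply, RingHom.comp_apply]
    refine (ga_eval φ Q).trans ?_
    rw [hφ]
    show _ = gaα K (Q.comp P)
    rw [gaα, Polynomial.coe_eval₂RingHom, Polynomial.eval₂_comp]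
  · apply surjective_of_points
    intro T hT y
    obtain ⟨t, ht⟩ := exists_eval₂_eq hT (sT T) P hd (Red.gaFn y)
    obtain ⟨x, hx⟩ := gaFn_surjective t
    exact ⟨x, gaFn_ext (by rw [hφy, hx, ht])⟩

end GaMain

section GmCoord

open Groth.Agent.H42.LineLaw Groth.Agent.H42.FinSubAlg LaurentPolynomial

variable (K : Type u) [CommRing K]

/-- The coordinate function of `𝔾_m`, as a unit. -/
noncomputable def gmU : (Γ((Red.Gm (Spec (CommRingCat.of K))).left, ⊤))ˣ :=
  (gmFn_isUnit (𝟙 (Red.Gm (Spec (CommRingCat.of K))))).unit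

/-- Laurent polynomials as functions on `𝔾_m`. -/
noncomputable def gmα : K[T;T⁻¹] →+* Γ((Red.Gm (Spec (CommRingCat.of K))).left, ⊤) :=
  LaurentPolynomial.eval₂ (sT (Red.Gm (Spec (CommRingCat.of K)))) (gmU K)

variable {K}

/-- Pulling back a Laurent polynomial function along a point evaluates it. -/
theorem gm_eval {T : Over (Spec (CommRingCat.of K))} (y : T ⟶ Red.Gm (Spec (CommRingCat.of K)))
    (r : K[T;T⁻¹]) :
    y.left.appTop (gmα K r) = LaurentPolynomial.eval₂ (sT T) (gmFn_isUnit y).unit r := by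
  have h : (y.left.appTop).hom.comp (gmα K) =
      LaurentPolynomial.eval₂ (sT T) (gmFn_isUnit y).unit := by
    apply laurent_ringHom_ext
    · intro a
      rw [RingHom.comp_apply, gmα, LaurentPolynomial.eval₂_C, LaurentPolynomial.eval₂_C,
        ← sT_comp y]
      rfl
    · rw [RingHom.comp_apply, gmα, LaurentPolynomial.eval₂_T, LaurentPolynomial.eval₂_T, zpow_one,
        zpow_one, gmU, IsUnit.unit_spec, IsUnit.unit_spec]
      conv_rhs => rw [← Category.comp_id y, gmFn_comp]
  exact congrArg (fun f => f r) h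

theorem gmα_bijective : Function.Bijective (gmα K) := by
  obtain ⟨y₀, hy₀⟩ := gmFn_surjective (S := Spec (CommRingCat.of K)) (X := YC (k := K) K[T;T⁻¹])
    ((Scheme.ΓSpecIso (CommRingCat.of K[T;T⁻¹])).inv (T 1))
    ((LaurentPolynomial.isUnit_T 1).map _)
  apply bijective_of_retract (gmα K) ?_ y₀ ?_ ?_
  · ext a
    rw [RingHom.comp_apply, ← LaurentPolynomial.C_eq_algebraMap, gmα, LaurentPolynomial.eval₂_C]
  · intro c hc
    apply gmFn_ext
    rw [gmFn_comp, hy₀, ← pb_apply, hc, gmα, LaurentPolynomial.eval₂_T, zpow_one, gmU,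
      IsUnit.unit_spec]
  · intro r
    have h : ((Scheme.ΓSpecIso (CommRingCat.of K[T;T⁻¹])).hom.hom.comp
        ((y₀.left.appTop).hom.comp (gmα K))) = RingHom.id _ := by
      apply laurent_ringHom_ext
      · intro a
        rw [RingHom.comp_apply, RingHom.comp_apply, RingHom.id_apply]
        erw [gm_eval y₀ (C a)]
        rw [LaurentPolynomial.eval₂_C, sT_Spec, RingHom.comp_apply]
        erw [Iso.inv_hom_id_apply (C := CommRingCat)]
        rw [LaurentPolynomial.C_eq_algebraMap]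
      · rw [RingHom.comp_apply, RingHom.comp_apply, RingHom.id_apply]
        erw [gm_eval y₀ (T 1)]
        rw [LaurentPolynomial.eval₂_T, zpow_one, IsUnit.unit_spec, hy₀]
        erw [Iso.inv_hom_id_apply (C := CommRingCat)]
    exact congrArg (fun f => f r) h

end GmCoord

section GmMain

open Polynomial Groth.Agent.H42.LineLaw Groth.Agent.H42.FinSubAlg

variable {K : Type u} [Field K]

/-- A root of a polynomial with non-zero constant term is a unit. -/
theorem isUnit_of_eval₂_eq_zero {A : Type*} [CommRing A] (s : K →+* A) (P : K[X])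
    (h0 : P.coeff 0 ≠ 0) (t : A) (ht : Polynomial.eval₂ s t P = 0) : IsUnit t := by
  have h1 := Polynomial.divX_mul_X_add P
  have h2 := congrArg (Polynomial.eval₂ s t) h1
  rw [Polynomial.eval₂_add, Polynomial.eval₂_mul, Polynomial.eval₂_X, Polynomial.eval₂_C, ht] at h2
  have hu : IsUnit (s (P.coeff 0)) := (Ne.isUnit h0).map s
  have h3 : t * (-(Polynomial.eval₂ s t P.divX)) = s (P.coeff 0) := by
    linear_combination (-1 : A) * h2
  exact isUnit_of_mul_isUnit_left (h3 ▸ hu)

variable {H : Over (Spec (CommRingCat.of K))} (i : H ⟶ Red.Gm (Spec (CommRingCat.of K)))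

/-- A point of `𝔾_m` lies in the finite subscheme `H` iff its coordinate is a root of the minimal
polynomial of `H`. -/
theorem gm_mem_iff [Mono i] [IsFinite H.hom] (P : K[X])
    (hP0 : Polynomial.eval₂ (sT H) (Red.gmFn i) P = 0)
    (hPdvd : ∀ Q : K[X], Polynomial.eval₂ (sT H) (Red.gmFn i) Q = 0 → P ∣ Q)
    {T : Over (Spec (CommRingCat.of K))} (y : T ⟶ Red.Gm (Spec (CommRingCat.of K))) :
    (∃ z : T ⟶ H, z ≫ i = y) ↔ Polynomial.eval₂ (sT T) (Red.gmFn y) P = 0 := by
  constructor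
  · rintro ⟨z, rfl⟩
    rw [gmFn_comp]
    have := Polynomial.hom_eval₂ P (sT H) (z.left.appTop).hom (Red.gmFn i)
    rw [sT_comp z] at this
    rw [← this, hP0, map_zero]
  · intro hy
    have : IsClosedImmersion i.left := isClosedImmersion_of_finite_mono i
    apply exists_lift_of_ker_le i y
    intro g hg
    obtain ⟨r, rfl⟩ := (gmα_bijective (K := K)).2 g
    rw [RingHom.mem_ker] at hg ⊢
    have e1 := gm_eval i r
    have e2 := gm_eval y r
    have hg' : LaurentPolynomial.eval₂ (sT H) (gmFn_isUnit i).unit r = 0 := e1.symm.trans hg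
    obtain ⟨n, Q, hQ⟩ := LaurentPolynomial.exists_T_pow r
    have h1 : Polynomial.eval₂ (sT H) (Red.gmFn i) Q = 0 := by
      have := congrArg (LaurentPolynomial.eval₂ (sT H) (gmFn_isUnit i).unit) hQ
      rw [LaurentPolynomial.eval₂_toLaurent, map_mul, hg', zero_mul, IsUnit.unit_spec] at this
      exact this
    obtain ⟨Q', rfl⟩ := hPdvd Q h1
    have h2 := congrArg (LaurentPolynomial.eval₂ (sT T) (gmFn_isUnit y).unit) hQ
    rw [LaurentPolynomial.eval₂_toLaurent, IsUnit.unit_spec, Polynomial.eval₂_mul, hy, zero_mul,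
      map_mul, LaurentPolynomial.eval₂_T] at h2
    refine e2.trans ?_
    exact ((((gmFn_isUnit y).unit ^ (n : ℤ)).isUnit).mul_left_eq_zero.mp h2.symm)

/-- The minimal polynomial of a unit has non-zero constant term. -/
theorem coeff_zero_ne_zero_of_isUnit {A : Type*} [CommRing A] (s : K →+* A) (P : K[X])
    (hPm : P.Monic) (t : A) (ht : IsUnit t) (hP0 : Polynomial.eval₂ s t P = 0)
    (hPdvd : ∀ Q : K[X], Polynomial.eval₂ s t Q = 0 → P ∣ Q) : P.coeff 0 ≠ 0 := by
  intro h0
  obtain ⟨P', hP'⟩ := Polynomial.X_dvd_iff.mpr h0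
  have h1 : Polynomial.eval₂ s t P' = 0 := by
    have := hP0
    rw [hP', Polynomial.eval₂_mul, Polynomial.eval₂_X] at this
    exact ht.mul_right_eq_zero.mp this
  obtain ⟨R, hR⟩ := hPdvd P' h1
  have h2 : P * (1 - X * R) = 0 := by
    rw [mul_sub, _root_.mul_one, sub_eq_zero]
    conv_lhs => rw [hP', hR]
    ring
  have h3 : (1 : K[X]) - X * R = 0 := (mul_eq_zero.mp h2).resolve_left hPm.ne_zero
  have h4 : IsUnit (X : K[X]) := IsUnit.of_mul_eq_one R (sub_eq_zero.mp h3).symm
  exact Polynomial.not_isUnit_X h4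

/-- The minimal polynomial of a finite subgroup scheme of `𝔾_m` is `X^d - 1`. -/
theorem gm_minpoly_eq [GrpObj H] [IsMonHom i] [Mono i] [IsFinite H.hom] (P : K[X]) (hPm : P.Monic)
    (hd : 1 ≤ P.natDegree) (hP0 : Polynomial.eval₂ (sT H) (Red.gmFn i) P = 0)
    (hPdvd : ∀ Q : K[X], Polynomial.eval₂ (sT H) (Red.gmFn i) Q = 0 → P ∣ Q) :
    P = X ^ P.natDegree - 1 := by
  have hc0 : P.coeff 0 ≠ 0 :=
    coeff_zero_ne_zero_of_isUnit (sT H) P hPm (Red.gmFn i) (gmFn_isUnit i) hP0 hPdvd
  have hu₁ : IsUnit (r₁ P) := isUnit_of_eval₂_eq_zero (algebraMap K (CC P)) P hc0 _ eval₂_r₁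
  have hu₂ : IsUnit (r₂ P) := isUnit_of_eval₂_eq_zero (algebraMap K (CC P)) P hc0 _ eval₂_r₂
  obtain ⟨y₁, hy₁⟩ := gmFn_surjective (S := Spec (CommRingCat.of K)) (X := YC (k := K) (CC P))
    ((Scheme.ΓSpecIso (CommRingCat.of (CC P))).inv (r₁ P)) (hu₁.map _)
  obtain ⟨y₂, hy₂⟩ := gmFn_surjective (S := Spec (CommRingCat.of K)) (X := YC (k := K) (CC P))
    ((Scheme.ΓSpecIso (CommRingCat.of (CC P))).inv (r₂ P)) (hu₂.map _)
  obtain ⟨z₁, hz₁⟩ := (gm_mem_iff i P hP0 hPdvd y₁).mpr (by
    rw [hy₁, eval₂_sT_YC, eval₂_r₁, map_zero])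
  obtain ⟨z₂, hz₂⟩ := (gm_mem_iff i P hP0 hPdvd y₂).mpr (by
    rw [hy₂, eval₂_sT_YC, eval₂_r₂, map_zero])
  have h12 : (z₁ * z₂) ≫ i = y₁ * y₂ := by
    have e : (z₁ * z₂) ≫ i = (z₁ ≫ i) * (z₂ ≫ i) := MonObj.mul_comp _ _ _
    rw [e, hz₁, hz₂]
  have h3 := (gm_mem_iff i P hP0 hPdvd (y₁ * y₂)).mp ⟨z₁ * z₂, h12⟩
  rw [gmFn_mul, hy₁, hy₂, ← map_mul, eval₂_sT_YC] at h3
  have h4 : Polynomial.eval₂ (algebraMap K (CC P)) (r₁ P * r₂ P) P = 0 :=
    ΓSpecIso_inv_injective _ (h3.trans (map_zero _).symm)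
  exact eq_X_pow_sub_one hPm hd hc0 h4

/-- A finite subgroup scheme of `𝔾_m` over a field is the kernel of a flat surjective
endomorphism. -/
theorem gm_main [GrpObj H] [IsMonHom i] [Mono i] [IsFinite H.hom] :
    ∃ φ : Red.Gm (Spec (CommRingCat.of K)) ⟶ Red.Gm (Spec (CommRingCat.of K)),
      IsMonHom φ ∧ AlgGrp.IsKernel i φ ∧ Flat φ.left ∧ Surjective φ.left := by
  have := nontrivial_Γ H
  obtain ⟨P, hPm, hd, hP0, hPdvd⟩ := exists_minimal_poly (sT H) (sT_finite H) (Red.gmFn i)
  have hPeq := gm_minpoly_eq i P hPm hd hP0 hPdvd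
  set d := P.natDegree with hdd
  have hroot : ∀ {A : Type u} [CommRing A] (s : K →+* A) (t : A),
      Polynomial.eval₂ s t P = 0 ↔ t ^ d = 1 := by
    intro A _ s t
    rw [hPeq, Polynomial.eval₂_sub, Polynomial.eval₂_pow, Polynomial.eval₂_X, Polynomial.eval₂_one,
      sub_eq_zero]
  obtain ⟨φ, hφ⟩ := gmFn_surjective (S := Spec (CommRingCat.of K))
    (X := Red.Gm (Spec (CommRingCat.of K)))
    (Red.gmFn (𝟙 (Red.Gm (Spec (CommRingCat.of K)))) ^ d) ((gmFn_isUnit _).pow d)
  have hφy : ∀ {T : Over (Spec (CommRingCat.of K))} (y : T ⟶ Red.Gm (Spec (CommRingCat.of K))),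
      Red.gmFn (y ≫ φ) = Red.gmFn y ^ d := by
    intro T y
    rw [gmFn_comp, hφ, map_pow, ← gmFn_comp, Category.comp_id]
  refine ⟨φ, ?_, ?_, ?_, ?_⟩
  · apply WittGrp.isMonHom_of_comp_mul
    · apply gmFn_ext
      rw [hφy, gmFn_one, one_pow]
    · intro T a b
      apply gmFn_ext
      rw [hφy, gmFn_mul, gmFn_mul, hφy, hφy, mul_pow]
  · apply isKernel_of_points i φ
    · apply gmFn_ext
      rw [hφy, gmFn_one]
      exact (hroot _ _).mp hP0
    · intro T y hy
      apply (gm_mem_iff i P hP0 hPdvd y).mpr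
      rw [hroot, ← hφy, hy, gmFn_one]
  · apply flat_of_conj φ (gmα K) gmα_bijective _ (flat_powHom d hd)
    apply laurent_ringHom_ext
    · intro a
      rw [RingHom.comp_apply, RingHom.comp_apply, powHom_C, gmα, LaurentPolynomial.eval₂_C]
      exact congrArg (fun f => f a) (sT_comp φ)
    · rw [RingHom.comp_apply, RingHom.comp_apply, powHom_T]
      erw [gm_eval φ (LaurentPolynomial.T 1)]
      rw [LaurentPolynomial.eval₂_T, zpow_one, IsUnit.unit_spec, hφ, gmα, LaurentPolynomial.eval₂_T,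
        zpow_natCast, Units.val_pow_eq_pow_val, gmU, IsUnit.unit_spec]
  · apply surjective_of_points
    intro T hT y
    obtain ⟨t, ht⟩ := exists_eval₂_eq hT (sT T) (X ^ d : K[X])
      (by rw [Polynomial.natDegree_X_pow]; exact hd) (Red.gmFn y)
    rw [Polynomial.eval₂_pow, Polynomial.eval₂_X] at ht
    have htu : IsUnit t := by
      have h1 : IsUnit (t ^ d) := ht ▸ gmFn_isUnit y
      exact (isUnit_pow_iff (by omega)).mp h1
    obtain ⟨x, hx⟩ := gmFn_surjective t htu
    exact ⟨x, gmFn_ext (by rw [hφy, hx, ht])⟩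

end GmMain

section Final

variable {S : Scheme.{u}}

/-- Transport of the conclusion along an isomorphism of group schemes. -/
theorem transport {G G₀ H : Over S} [GrpObj G] [GrpObj G₀] (a : G ⟶ G₀) (b : G₀ ⟶ G)
    [IsMonHom a] [IsMonHom b] (hab : a ≫ b = 𝟙 G) (hba : b ≫ a = 𝟙 G₀) (i : H ⟶ G)
    (φ₀ : G₀ ⟶ G₀) [IsMonHom φ₀] (hk : AlgGrp.IsKernel (i ≫ a) φ₀) (hf : Flat φ₀.left)
    (hs : Surjective φ₀.left) :
    ∃ φ : G ⟶ G, IsMonHom φ ∧ AlgGrp.IsKernel i φ ∧ Flat φ.left ∧ Surjective φ.left := by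
  let e : G₀ ≅ G := ⟨b, a, hba, hab⟩
  have hia : IsIso a.left := ⟨b.left, by rw [← Over.comp_left, hab]; rfl,
    by rw [← Over.comp_left, hba]; rfl⟩
  have hib : IsIso b.left := ⟨a.left, by rw [← Over.comp_left, hba]; rfl,
    by rw [← Over.comp_left, hab]; rfl⟩
  refine ⟨a ≫ φ₀ ≫ b, inferInstance, ?_, ?_, ?_⟩
  · refine IsPullback.of_iso hk (Iso.refl H) e (Iso.refl _) e ?_ ?_ ?_ ?_
    · show (i ≫ a) ≫ b = 𝟙 H ≫ i
      rw [Category.assoc, hab, Category.comp_id, Category.id_comp]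
    · show toUnit H ≫ 𝟙 _ = 𝟙 H ≫ toUnit H
      rw [Category.comp_id, Category.id_comp]
    · show φ₀ ≫ b = b ≫ a ≫ φ₀ ≫ b
      rw [← Category.assoc b, hba, Category.id_comp]
    · show η[G₀] ≫ b = 𝟙 _ ≫ η[G]
      rw [Category.id_comp, IsMonHom.one_hom]
  · rw [Over.comp_left, Over.comp_left]
    infer_instance
  · rw [Over.comp_left, Over.comp_left]
    infer_instance

/-- Finite subgroup schemes of `𝔾_a` and `𝔾_m` over a field are kernels of flat surjective
endomorphisms. -/
theorem main (K : Type u) [Field K] (G H : Over (Spec (CommRingCat.of K))) [GrpObj G] [GrpObj H]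
    (hG : Nonempty (Grp.mk G ≅ Grp.mk (Red.Ga (Spec (CommRingCat.of K)))) ∨
      Nonempty (Grp.mk G ≅ Grp.mk (Red.Gm (Spec (CommRingCat.of K)))))
    (i : H ⟶ G) [IsMonHom i] [Mono i] [IsFinite H.hom] :
    ∃ φ : G ⟶ G, IsMonHom φ ∧ AlgGrp.IsKernel i φ ∧ Flat φ.left ∧ Surjective φ.left := by
  rcases hG with ⟨⟨e⟩⟩ | ⟨⟨e⟩⟩
  · have h1 : e.hom.hom.hom ≫ e.inv.hom.hom = 𝟙 G := by
      show (e.hom ≫ e.inv).hom.hom = _
      rw [e.hom_inv_id]
      rfl
    have h2 : e.inv.hom.hom ≫ e.hom.hom.hom = 𝟙 _ := by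
      show (e.inv ≫ e.hom).hom.hom = _
      rw [e.inv_hom_id]
      rfl
    have : Mono e.hom.hom.hom := ⟨fun f g h => by
      have := congrArg (fun z => z ≫ e.inv.hom.hom) h
      simpa only [Category.assoc, h1, Category.comp_id] using this⟩
    obtain ⟨φ₀, hφ₀, hk, hf, hs⟩ := ga_main (i ≫ e.hom.hom.hom)
    exact transport e.hom.hom.hom e.inv.hom.hom h1 h2 i φ₀ hk hf hs
  · have h1 : e.hom.hom.hom ≫ e.inv.hom.hom = 𝟙 G := by
      show (e.hom ≫ e.inv).hom.hom = _
      rw [e.hom_inv_id]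
      rfl
    have h2 : e.inv.hom.hom ≫ e.hom.hom.hom = 𝟙 _ := by
      show (e.inv ≫ e.hom).hom.hom = _
      rw [e.inv_hom_id]
      rfl
    have : Mono e.hom.hom.hom := ⟨fun f g h => by
      have := congrArg (fun z => z ≫ e.inv.hom.hom) h
      simpa only [Category.assoc, h1, Category.comp_id] using this⟩
    obtain ⟨φ₀, hφ₀, hk, hf, hs⟩ := gm_main (i ≫ e.hom.hom.hom)
    exact transport e.hom.hom.hom e.inv.hom.hom h1 h2 i φ₀ hk hf hs

end Final

end Groth.Agent.H42.FinSub
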