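import Mathlib

/-!
# Algebra for finite subgroup schemes of `𝔾_a` and `𝔾_m`

`P` a monic polynomial over a field `K`, `B₁ = K[X]/(P)`, `C = B₁[X]/(P)`.  If the sum of the two
roots in `C` is a root of `P` then `P` is additive; if the product is a root and `P(0) ≠ 0` then
`P = X^d - 1`.
-/

set_option autoImplicit false

open Polynomial

namespace Groth.Agent.H42.FinSubAlg

variable {K : Type*} [Field K]

/-- An injective ring map out of a Dedekind domain into a domain is flat. -/
theorem flat_of_injective {R B : Type*} [CommRing R] [IsDedekindDomain R] [CommRing B]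
    [IsDomain B] (f : R →+* B) (hf : Function.Injective f) : f.Flat := by
  let _ := f.toAlgebra
  have : Module.IsTorsionFree R B := by
    refine ⟨fun r hr m₁ m₂ h => ?_⟩
    have hr0 : r ≠ 0 := hr.ne_zero
    have hfr : f r ≠ 0 := fun h0 => hr0 (hf (h0.trans (map_zero f).symm))
    have h' : f r * m₁ = f r * m₂ := h
    exact mul_left_cancel₀ hfr h'
  show Module.Flat R B
  infer_instance

section Setup

variable (P : K[X])

/-- The first root ring. -/
abbrev B₁ : Type _ := AdjoinRoot P

/-- `P` over the first root ring. -/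
noncomputable abbrev P₁ : (B₁ P)[X] := P.map (algebraMap K (B₁ P))

/-- The ring with two roots. -/
abbrev CC : Type _ := AdjoinRoot (P₁ P)

/-- The first root, in `CC`. -/
noncomputable abbrev r₁ : CC P := algebraMap (B₁ P) (CC P) (AdjoinRoot.root P)

/-- The second root. -/
noncomputable abbrev r₂ : CC P := AdjoinRoot.root (P₁ P)

variable {P}

theorem eval₂_r₁ : Polynomial.eval₂ (algebraMap K (CC P)) (r₁ P) P = 0 := by
  have h : Polynomial.eval₂ (algebraMap K (B₁ P)) (AdjoinRoot.root P) P = 0 := by
    have := AdjoinRoot.eval₂_root P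
    exact this
  have h2 := congrArg (algebraMap (B₁ P) (CC P)) h
  rw [Polynomial.hom_eval₂, map_zero] at h2
  rw [← h2]
  congr 1

theorem eval₂_r₂ : Polynomial.eval₂ (algebraMap K (CC P)) (r₂ P) P = 0 := by
  have := AdjoinRoot.eval₂_root (P₁ P)
  rw [Polynomial.eval₂_map] at this
  rw [← this]
  congr 1

end Setup

section Additive

variable {P : K[X]} (hP : P.Monic) (hd : 1 ≤ P.natDegree)

include hd in
theorem nontrivial_B₁ : Nontrivial (B₁ P) := by
  apply AdjoinRoot.nontrivial
  intro h
  have := Polynomial.natDegree_eq_zero_iff_degree_le_zero.mpr h.le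
  omega

include hP hd in
/-- A polynomial over `B₁` of degree `< d` vanishing at the second root is zero. -/
theorem eq_zero_of_mk_eq_zero (Q : (B₁ P)[X]) (hQ : Q.degree < (P₁ P).degree)
    (h : AdjoinRoot.mk (P₁ P) Q = 0) : Q = 0 := by
  have : Nontrivial (B₁ P) := nontrivial_B₁ hd
  by_contra hQ0
  exact (hP.map _).not_dvd_of_degree_lt hQ0 hQ (AdjoinRoot.mk_eq_zero.mp h)

include hP in
/-- A polynomial over `K` of degree `< d` vanishing at the first root is zero. -/
theorem eq_zero_of_mk_eq_zero' (Q : K[X]) (hQ : Q.degree < P.degree)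
    (h : AdjoinRoot.mk P Q = 0) : Q = 0 := by
  by_contra hQ0
  exact hP.not_dvd_of_degree_lt hQ0 hQ (AdjoinRoot.mk_eq_zero.mp h)

include hP hd in
/-- Translation invariance: if the sum of the two roots is a root, `P(X + r) = P(X)` over `B₁`. -/
theorem translate_eq (h : Polynomial.eval₂ (algebraMap K (CC P)) (r₁ P + r₂ P) P = 0) :
    taylor (AdjoinRoot.root P) (P₁ P) = P₁ P := by
  have : Nontrivial (B₁ P) := nontrivial_B₁ hd
  have hm : (P₁ P).Monic := hP.map _
  have hdeg : (taylor (AdjoinRoot.root P) (P₁ P)).degree = (P₁ P).degree := degree_taylor _ _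
  rw [← sub_eq_zero]
  apply eq_zero_of_mk_eq_zero hP hd
  · exact degree_sub_lt_right hdeg hm.ne_zero (leadingCoeff_taylor _ _)
  · rw [map_sub, AdjoinRoot.mk_self, sub_zero, ← AdjoinRoot.aeval_eq, taylor_apply, aeval_comp,
      aeval_def, Polynomial.eval₂_map]
    simp only [map_add, aeval_X, aeval_C]
    rw [add_comm, ← h]
    congr 1

theorem hasseDeriv_map' {R S : Type*} [CommRing R] [CommRing S] (g : R →+* S) (k : ℕ) (f : R[X]) :
    hasseDeriv k (f.map g) = (hasseDeriv k f).map g := by
  ext n
  rw [hasseDeriv_coeff, coeff_map, coeff_map, hasseDeriv_coeff, map_mul, map_natCast]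

include hP hd in
/-- Consequence of translation invariance on the Hasse derivatives. -/
theorem hasseDeriv_eq (h : taylor (AdjoinRoot.root P) (P₁ P) = P₁ P) :
    P.coeff 0 = 0 ∧ ∀ j, 1 ≤ j → hasseDeriv j P = C (P.coeff j) := by
  have key : ∀ j, AdjoinRoot.mk P (hasseDeriv j P - C (P.coeff j)) = 0 := by
    intro j
    have h1 := congrArg (fun q => q.coeff j) h
    beta_reduce at h1
    rw [taylor_coeff, hasseDeriv_map', coeff_map, eval_map, ← aeval_def,
      AdjoinRoot.aeval_eq] at h1
    rw [map_sub, h1, AdjoinRoot.mk_C]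
    exact sub_self _
  have hdP : P.degree = P.natDegree := degree_eq_natDegree hP.ne_zero
  constructor
  · have h0 := key 0
    rw [hasseDeriv_zero', map_sub, AdjoinRoot.mk_self, zero_sub, neg_eq_zero] at h0
    have := eq_zero_of_mk_eq_zero' hP (C (P.coeff 0)) ?_ h0
    · exact C_eq_zero.mp this
    · rw [hdP]
      exact lt_of_le_of_lt degree_C_le (by exact_mod_cast hd)
  · intro j hj
    rw [← sub_eq_zero]
    apply eq_zero_of_mk_eq_zero' hP _ ?_ (key j)
    rw [hdP]
    refine lt_of_le_of_lt (degree_sub_le _ _) (max_lt ?_ ?_)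
    · refine lt_of_le_of_lt degree_le_natDegree ?_
      have := natDegree_hasseDeriv_le P j
      exact_mod_cast (by omega : (hasseDeriv j P).natDegree < P.natDegree)
    · exact lt_of_le_of_lt degree_C_le (by exact_mod_cast hd)

/-- Additivity of `P` from the Hasse derivative identities. -/
theorem eval₂_add_of_hasseDeriv (h0 : P.coeff 0 = 0)
    (h : ∀ j, 1 ≤ j → hasseDeriv j P = C (P.coeff j)) {A : Type*} [CommRing A] (s : K →+* A)
    (a b : A) : eval₂ s (a + b) P = eval₂ s a P + eval₂ s b P := by
  have ht : taylor b (P.map s) = P.map s + C ((P.map s).eval b) := by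
    ext j
    rw [taylor_coeff, hasseDeriv_map', coeff_add, coeff_map, coeff_C]
    rcases Nat.eq_zero_or_pos j with hj | hj
    · subst hj
      rw [hasseDeriv_zero', if_pos rfl, h0, map_zero, zero_add]
    · rw [h j hj, if_neg (by omega), add_zero, map_C, eval_C]
  rw [← eval_map, ← taylor_eval, ht, eval_add, eval_C, eval_map, eval_map]

end Additive

section Mult

variable {P : K[X]} (hP : P.Monic) (hd : 1 ≤ P.natDegree) (h0 : P.coeff 0 ≠ 0)

include hP hd h0 in
/-- If the product of the two roots is a root and `P(0) ≠ 0`, then `P = X^d - 1`. -/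
theorem eq_X_pow_sub_one (h : Polynomial.eval₂ (algebraMap K (CC P)) (r₁ P * r₂ P) P = 0) :
    P = X ^ P.natDegree - 1 := by
  have : Nontrivial (B₁ P) := nontrivial_B₁ hd
  have hm : (P₁ P).Monic := hP.map _
  have hnd : (P₁ P).natDegree = P.natDegree := hP.natDegree_map _
  set Q : (B₁ P)[X] := (P₁ P).comp (C (AdjoinRoot.root P) * X) -
    C (AdjoinRoot.root P ^ P.natDegree) * P₁ P with hQ
  have hQ0 : Q = 0 := by
    apply eq_zero_of_mk_eq_zero hP hd
    · rw [degree_eq_natDegree hm.ne_zero, hnd, degree_lt_iff_coeff_zero]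
      intro m hm'
      rw [hQ, coeff_sub, comp_C_mul_X_coeff, coeff_C_mul]
      rcases eq_or_lt_of_le hm' with rfl | hlt
      · rw [← hnd, hm.coeff_natDegree, one_mul, mul_one, sub_self]
      · rw [coeff_eq_zero_of_natDegree_lt (by rw [hnd]; exact hlt), zero_mul, mul_zero, sub_self]
    · rw [hQ, map_sub, map_mul, AdjoinRoot.mk_self, mul_zero, sub_zero, ← AdjoinRoot.aeval_eq,
        aeval_comp, aeval_def, Polynomial.eval₂_map]
      simp only [map_mul, aeval_X, aeval_C]
      rw [← h]
      congr 1
  have hc0 := congrArg (fun q => q.coeff 0) hQ0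
  simp only [hQ, coeff_sub, comp_C_mul_X_coeff, coeff_C_mul, pow_zero, mul_one, coeff_zero,
    coeff_map] at hc0
  have hu : IsUnit (algebraMap K (B₁ P) (P.coeff 0)) := (Ne.isUnit h0).map _
  have hx : AdjoinRoot.root P ^ P.natDegree = 1 := by
    have h2 : (1 - AdjoinRoot.root P ^ P.natDegree) * algebraMap K (B₁ P) (P.coeff 0) = 0 := by
      rw [sub_mul, one_mul]
      exact hc0
    have h3 := hu.mul_left_eq_zero.mp h2
    exact (sub_eq_zero.mp h3).symm
  have hdvd : P ∣ X ^ P.natDegree - 1 := by
    rw [← AdjoinRoot.mk_eq_zero, map_sub, map_pow, AdjoinRoot.mk_X, map_one, hx, sub_self]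
  have hmon : (X ^ P.natDegree - 1 : K[X]).Monic := by
    have := monic_X_pow_sub_C (1 : K) (n := P.natDegree) (by omega)
    rwa [map_one] at this
  have hdeg : (X ^ P.natDegree - 1 : K[X]).natDegree ≤ P.natDegree := by
    have := natDegree_X_pow_sub_C (R := K) (n := P.natDegree) (r := 1)
    rw [map_one] at this
    exact this.le
  exact (eq_of_monic_of_dvd_of_natDegree_le hP hmon hdvd hdeg).symm

end Mult

section Flat

open LaurentPolynomial in
/-- Ring homomorphisms out of the Laurent polynomial ring are determined by constants and `T`. -/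
theorem laurent_ringHom_ext {R S : Type*} [CommRing R] [CommRing S] (f g : R[T;T⁻¹] →+* S)
    (hC : ∀ a, f (LaurentPolynomial.C a) = g (LaurentPolynomial.C a))
    (hT : f (LaurentPolynomial.T 1) = g (LaurentPolynomial.T 1)) : f = g := by
  apply IsLocalization.ringHom_ext (Submonoid.powers (X : R[X]))
  apply Polynomial.ringHom_ext
  · intro a
    simp only [RingHom.comp_apply, LaurentPolynomial.algebraMap_eq_toLaurent,
      Polynomial.toLaurent_C, hC]
  · simp only [RingHom.comp_apply, LaurentPolynomial.algebraMap_eq_toLaurent,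
      Polynomial.toLaurent_X, hT]

/-- Substituting a non-constant polynomial is a flat endomorphism of `K[X]`. -/
theorem flat_aeval (P : K[X]) (hd : 1 ≤ P.natDegree) :
    ((aeval P : K[X] →ₐ[K] K[X]) : K[X] →+* K[X]).Flat := by
  apply flat_of_injective
  intro Q₁ Q₂ h
  rw [← sub_eq_zero]
  have h' : (Q₁ - Q₂).comp P = 0 := by
    rw [sub_comp, comp_eq_aeval, comp_eq_aeval]
    exact sub_eq_zero.mpr h
  rcases comp_eq_zero_iff.mp h' with h1 | ⟨-, h2⟩
  · exact h1
  · rw [h2, natDegree_C] at hd
    omega

instance : IsDedekindDomain (LaurentPolynomial K) := by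
  have : IsDomain (LaurentPolynomial K) :=
    IsLocalization.isDomain_of_le_nonZeroDivisors (R := K[X]) (M := Submonoid.powers (X : K[X]))
      (LaurentPolynomial K) (powers_le_nonZeroDivisors_of_noZeroDivisors X_ne_zero)
  exact IsLocalization.isDedekindDomain K[X]
    (powers_le_nonZeroDivisors_of_noZeroDivisors (X_ne_zero (R := K))) (LaurentPolynomial K)

/-- The `d`-th power endomorphism of the Laurent polynomial ring. -/
noncomputable def powHom (d : ℕ) : LaurentPolynomial K →+* LaurentPolynomial K :=
  LaurentPolynomial.eval₂ LaurentPolynomial.C ((LaurentPolynomial.isUnit_T 1).unit ^ d)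

theorem powHom_T (d : ℕ) : powHom (K := K) d (LaurentPolynomial.T 1) = LaurentPolynomial.T d := by
  rw [powHom, LaurentPolynomial.eval₂_T, zpow_one, Units.val_pow_eq_pow_val, IsUnit.unit_spec,
    LaurentPolynomial.T_pow, mul_one]

theorem powHom_C (d : ℕ) (a : K) :
    powHom (K := K) d (LaurentPolynomial.C a) = LaurentPolynomial.C a := by
  rw [powHom, LaurentPolynomial.eval₂_C]

theorem powHom_injective (d : ℕ) (hd : 1 ≤ d) : Function.Injective (powHom (K := K) d) := by
  have h : powHom (K := K) d =
      AddMonoidAlgebra.mapDomainRingHom K (zmultiplesHom ℤ (d : ℤ)) := by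
    apply laurent_ringHom_ext
    · intro a
      rw [powHom_C]
      show _ = AddMonoidAlgebra.mapDomain _ (AddMonoidAlgebra.single 0 a)
      rw [AddMonoidAlgebra.mapDomain_single, map_zero]
      rfl
    · rw [powHom_T]
      show _ = AddMonoidAlgebra.mapDomain _ (AddMonoidAlgebra.single 1 1)
      rw [AddMonoidAlgebra.mapDomain_single]
      congr 1
      simp
  rw [h]
  apply AddMonoidAlgebra.mapDomain_injective
  intro a b hab
  simp only [zmultiplesHom_apply, smul_eq_mul] at hab
  have hd' : (d : ℤ) ≠ 0 := by exact_mod_cast (by omega : d ≠ 0)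
  exact mul_right_cancel₀ hd' hab

theorem flat_powHom (d : ℕ) (hd : 1 ≤ d) : (powHom (K := K) d).Flat :=
  flat_of_injective _ (powHom_injective d hd)

end Flat

end Groth.Agent.H42.FinSubAlg
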