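import Mathlib

/-!
# Points of a fibre product over a point with purely inseparable residue field extension (helper42)

* `universallyInjective_SpecMap`: `Spec L ⟶ Spec K` is universally injective for a purely
  inseparable extension of fields `L / K`.
* `eq_of_fst_eq_of_snd_eq`: two points of `X ×_S Y` with the same projections `x`, `y` are equal as
  soon as `κ(y)` is purely inseparable over `κ(s)`.
-/

set_option autoImplicit false
universe u
open CategoryTheory Limits AlgebraicGeometry

namespace Groth.Agent.H42.PurInsepPt

theorem ringHom_isPurelyInseparable_of_surjective {F E : Type*} [Field F] [Field E] (f : F →+* E)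
    (hf : Function.Surjective f) : f.IsPurelyInseparable := by
  algebraize [f]
  show IsPurelyInseparable F E
  rw [isPurelyInseparable_iff]
  intro x
  obtain ⟨y, rfl⟩ := hf x
  exact ⟨isIntegral_algebraMap, fun _ => ⟨y, rfl⟩⟩

theorem universallyInjective_SpecMap {K L : Type u} [Field K] [Field L] (φ : K →+* L)
    (hφ : φ.IsPurelyInseparable) : UniversallyInjective (Spec.map (CommRingCat.ofHom φ)) := by
  have htfae := (tfae_universallyInjective (Spec.map (CommRingCat.ofHom φ))).out 0 1
  rw [htfae]
  intro F _ g₁ g₂ h
  dsimp only at h
  rw [← Spec.map_preimage g₁, ← Spec.map_preimage g₂, ← Spec.map_comp, ← Spec.map_comp] at h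
  have h' := Spec.map_injective h
  rw [← Spec.map_preimage g₁, ← Spec.map_preimage g₂]
  congr 1
  algebraize [φ]
  have hpi : IsPurelyInseparable K L := hφ
  have hinj := IsPurelyInseparable.injective_comp_algebraMap K L F
  apply CommRingCat.hom_ext
  apply hinj
  exact congrArg CommRingCat.Hom.hom h'

open Scheme.Pullback in
theorem subsingleton_Spec_tensor {X Y S : Scheme.{u}} {f : X ⟶ S} {g : Y ⟶ S}
    (T : Triplet f g) (hpi : (g.residueFieldMap T.y).hom.IsPurelyInseparable) :
    Subsingleton ↥(Spec T.tensor) := by
  have hpb := T.isPullback_SpecMap_tensor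
  have h0 : ((g.residueFieldMap T.y).hom.comp (S.residueFieldCongr T.hy).inv.hom).IsPurelyInseparable := by
    refine RingHom.IsPurelyInseparable.comp ?_ hpi
    apply ringHom_isPurelyInseparable_of_surjective
    intro x
    refine ⟨(S.residueFieldCongr T.hy).hom.hom x, ?_⟩
    rw [← RingHom.comp_apply, ← CommRingCat.hom_comp, Iso.hom_inv_id]
    rfl
  have h1 : UniversallyInjective
      (Spec.map ((S.residueFieldCongr T.hy).inv ≫ g.residueFieldMap T.y)) :=
    universallyInjective_SpecMap _ h0
  have h2 : UniversallyInjective (Spec.map T.tensorInl) :=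
    MorphismProperty.of_isPullback hpb.flip h1
  have h3 : Subsingleton ↥(Spec (X.residueField T.x)) :=
    inferInstanceAs (Subsingleton (PrimeSpectrum (X.residueField T.x)))
  constructor
  intro a b
  apply (Spec.map T.tensorInl).injective
  exact Subsingleton.elim _ _

open Scheme.Pullback in
/-- Two points of `X ×_S Y` with the same projections `x` and `y` are equal if `κ(y)` is purely
inseparable over the residue field of the image point of `S`. -/
theorem eq_of_fst_eq_of_snd_eq {X Y S : Scheme.{u}} (f : X ⟶ S) (g : Y ⟶ S)
    (z z' : ↥(pullback f g)) (h1 : pullback.fst f g z = pullback.fst f g z')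
    (h2 : pullback.snd f g z = pullback.snd f g z')
    (hpi : (g.residueFieldMap (pullback.snd f g z')).hom.IsPurelyInseparable) : z = z' := by
  apply carrierEquiv.injective
  rw [carrierEquiv_eq_iff]
  have hT : Triplet.ofPoint z = Triplet.ofPoint z' := Triplet.ext h1 h2
  refine ⟨hT, ?_⟩
  have hs : Subsingleton ↥(Spec (carrierEquiv z').fst.tensor) :=
    subsingleton_Spec_tensor (Triplet.ofPoint z') hpi
  exact Subsingleton.elim _ _

end Groth.Agent.H42.PurInsepPt
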