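import Mathlib
import Groth.Prelude.Def_TwC
import Groth.Agent.H42.ConstSch
import Groth.Agent.H42.PurInsepPt

/-!
# Descending a trivialisation along a connected finite flat cover (helper42)

`core`: let `g : W ⟶ T` be finite, flat, locally of finite presentation and surjective, with `W`
connected, and `w` a point of `W` which is alone in its fibre and whose residue field is purely
inseparable over that of `g w`. If the `T`-scheme `X` becomes constant over `W`, it is constant.
-/

set_option autoImplicit false
set_option linter.unusedSectionVars false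
universe u
open CategoryTheory Limits AlgebraicGeometry MorphismProperty

namespace Groth.Agent.H42.FppfEtCore

open Groth.Agent.H42 Groth.Agent.H42.ConstSch

section Core

variable {T W : Scheme.{u}} (g : W ⟶ T) (X : Over T) (I : Type u)
  (e : Red.bc g X ≅ TwC.const W I)

/-- the `i`-th sheet of `X ×_T W` -/
noncomputable def sheet (i : I) : W ⟶ pullback X.hom g :=
  Sigma.ι (fun _ : I => W) i ≫ e.inv.left

theorem sheet_snd (i : I) : sheet g X I e i ≫ pullback.snd X.hom g = 𝟙 W := by
  have h := Over.w e.inv
  have h' : e.inv.left ≫ pullback.snd X.hom g = cst W I := h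
  rw [sheet, Category.assoc, h', Sigma.ι_desc]

theorem sheet_snd_apply (i : I) (y : W) : pullback.snd X.hom g (sheet g X I e i y) = y := by
  rw [← Scheme.Hom.comp_apply, sheet_snd]
  rfl

instance (i : I) : IsOpenImmersion (sheet g X I e i) := by
  have : IsIso e.inv.left := inferInstanceAs (IsIso ((CategoryTheory.Over.forget _).mapIso e).inv)
  unfold sheet
  infer_instance

theorem exists_mem_range_sheet (z : ↥(pullback X.hom g)) :
    ∃ i, z ∈ Set.range (sheet g X I e i) := by
  obtain ⟨i, y, hy⟩ := exists_mem_range W I (e.hom.left z)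
  refine ⟨i, y, ?_⟩
  rw [sheet, Scheme.Hom.comp_apply, hy, ← Scheme.Hom.comp_apply]
  have : e.hom.left ≫ e.inv.left = 𝟙 _ := by
    rw [← Over.comp_left, e.hom_inv_id]
    rfl
  rw [this]
  rfl

theorem sheet_index_eq {i j : I} {y y' : W} (h : sheet g X I e i y = sheet g X I e j y') :
    i = j := by
  have h1 := congrArg (e.hom.left) h
  have hid : e.inv.left ≫ e.hom.left = 𝟙 _ := by
    rw [← Over.comp_left, e.inv_hom_id]
    rfl
  simp only [sheet, Scheme.Hom.comp_apply] at h1
  rw [← Scheme.Hom.comp_apply e.inv.left, ← Scheme.Hom.comp_apply e.inv.left, hid] at h1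
  have h2 : Sigma.ι (fun _ : I => W) i y = Sigma.ι (fun _ : I => W) j y' := h1
  exact congrArg Sigma.fst ((sigmaι_eq_iff (fun _ : I => W) i j y y').mp h2)

theorem isClosed_range_sheet (i : I) : IsClosed (Set.range (sheet g X I e i)) := by
  have hcompl : (Set.range (sheet g X I e i))ᶜ =
      ⋃ j : {j : I // j ≠ i}, Set.range (sheet g X I e j.1) := by
    ext z
    simp only [Set.mem_compl_iff, Set.mem_iUnion]
    constructor
    · intro hz
      obtain ⟨j, hj⟩ := exists_mem_range_sheet g X I e z
      refine ⟨⟨j, ?_⟩, hj⟩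
      rintro rfl
      exact hz hj
    · rintro ⟨⟨j, hj⟩, ⟨y, rfl⟩⟩ ⟨y', hy'⟩
      exact hj (sheet_index_eq g X I e hy'.symm)
  rw [← isOpen_compl_iff, hcompl]
  exact isOpen_iUnion fun j => (sheet g X I e j.1).isOpenEmbedding.isOpen_range

variable [IsFinite g] [Flat g] [LocallyOfFinitePresentation g] [Surjective g]

/-- the image in `X` of the `i`-th sheet -/
def comp (i : I) : Set X.left := pullback.fst X.hom g '' Set.range (sheet g X I e i)

theorem isOpen_comp (i : I) : IsOpen (comp g X I e i) :=
  (pullback.fst X.hom g).isOpenMap _ (sheet g X I e i).isOpenEmbedding.isOpen_range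

theorem isClosed_comp (i : I) : IsClosed (comp g X I e i) :=
  (pullback.fst X.hom g).isClosedMap _ (isClosed_range_sheet g X I e i)

theorem iUnion_comp : ⋃ i, comp g X I e i = Set.univ := by
  rw [Set.eq_univ_iff_forall]
  intro x
  obtain ⟨z, rfl⟩ := (pullback.fst X.hom g).surjective x
  obtain ⟨i, hi⟩ := exists_mem_range_sheet g X I e z
  exact Set.mem_iUnion.mpr ⟨i, z, hi, rfl⟩

variable [PreconnectedSpace W] (w : W) (hw : ∀ w', g w' = g w → w' = w)
  (hpi : (g.residueFieldMap w).hom.IsPurelyInseparable)

include hw hpi in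
theorem preimage_comp (i : I) :
    pullback.fst X.hom g ⁻¹' comp g X I e i = Set.range (sheet g X I e i) := by
  apply Set.Subset.antisymm
  · intro z hz
    obtain ⟨j, hj⟩ := exists_mem_range_sheet g X I e z
    suffices hji : j = i by rwa [← hji]
    -- the whole `j`-th sheet lies in the preimage
    have hclopen : IsClopen (pullback.fst X.hom g ⁻¹' comp g X I e i) :=
      ⟨(isClosed_comp g X I e i).preimage (pullback.fst X.hom g).continuous,
        (isOpen_comp g X I e i).preimage (pullback.fst X.hom g).continuous⟩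
    have hpre : _root_.IsPreconnected (Set.range (sheet g X I e j)) :=
      isPreconnected_range (sheet g X I e j).continuous
    have hsub := hpre.subset_isClopen hclopen ⟨z, hj, hz⟩
    obtain ⟨z', ⟨w', rfl⟩, hz'⟩ := hsub ⟨w, rfl⟩
    -- `w' = w`
    have hcond : ∀ z : ↥(pullback X.hom g),
        X.hom (pullback.fst X.hom g z) = g (pullback.snd X.hom g z) := by
      intro z
      rw [← Scheme.Hom.comp_apply, ← Scheme.Hom.comp_apply, pullback.condition]
    have h1 : g w' = g w := by
      rw [← sheet_snd_apply g X I e i w', ← hcond, hz', hcond, sheet_snd_apply]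
    have hw' := hw w' h1
    subst hw'
    have hpi' : ∀ y : W, y = w' → (g.residueFieldMap y).hom.IsPurelyInseparable := by
      rintro _ rfl
      exact hpi
    have heq := PurInsepPt.eq_of_fst_eq_of_snd_eq X.hom g (sheet g X I e i w') (sheet g X I e j w')
      hz' (by rw [sheet_snd_apply, sheet_snd_apply]) (hpi' _ (sheet_snd_apply g X I e j w'))
    exact (sheet_index_eq g X I e heq).symm
  · rintro _ ⟨y, rfl⟩
    exact ⟨_, ⟨y, rfl⟩, rfl⟩

include hw hpi in
theorem comp_disjoint {i j : I} (x : X.left) (hi : x ∈ comp g X I e i) (hj : x ∈ comp g X I e j) :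
    i = j := by
  obtain ⟨z, ⟨y, rfl⟩, rfl⟩ := hi
  have hz : sheet g X I e i y ∈ pullback.fst X.hom g ⁻¹' comp g X I e j := hj
  rw [preimage_comp g X I e w hw hpi j] at hz
  obtain ⟨y', hy'⟩ := hz
  exact (sheet_index_eq g X I e hy').symm

/-- the open subscheme of `X` which is the image of the `i`-th sheet -/
def compOpens (i : I) : X.left.Opens := ⟨comp g X I e i, isOpen_comp g X I e i⟩

include hw hpi in
theorem isIso_compOpens (i : I) : IsIso ((compOpens g X I e i).ι ≫ X.hom) := by
  let U := compOpens g X I e i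
  have hqc : QuasiCompact g := inferInstance
  suffices h : (isomorphisms Scheme.{u}) (U.ι ≫ X.hom) from h
  refine MorphismProperty.of_pullback_snd_of_descendsAlong (P := isomorphisms Scheme.{u})
    (Q := @Surjective ⊓ @Flat ⊓ @QuasiCompact) (f := U.ι ≫ X.hom) (g := g)
    ⟨⟨inferInstance, inferInstance⟩, hqc⟩ ?_
  show IsIso (pullback.snd (U.ι ≫ X.hom) g)
  rw [← pullbackRightPullbackFstIso_inv_snd_snd X.hom g U.ι]
  -- the open immersion `j` has the same range as the `i`-th sheet
  let j := pullback.snd U.ι (pullback.fst X.hom g)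
  have hrange : Set.range j = Set.range (sheet g X I e i) := by
    rw [Scheme.Pullback.range_snd, Scheme.Opens.range_ι]
    exact preimage_comp g X I e w hw hpi i
  let φ := IsOpenImmersion.isoOfRangeEq j (sheet g X I e i) hrange
  have hφ : φ.hom ≫ sheet g X I e i = j := IsOpenImmersion.isoOfRangeEq_hom_fac _ _ _
  have hj : j ≫ pullback.snd X.hom g = φ.hom := by
    rw [← hφ, Category.assoc, sheet_snd, Category.comp_id]
  show IsIso ((pullbackRightPullbackFstIso X.hom g U.ι).inv ≫ j ≫ pullback.snd X.hom g)
  rw [hj]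
  infer_instance

open scoped Function in
include e hw hpi in
/-- **Core lemma.** -/
theorem core : Nonempty (X ≅ TwC.const T I) := by
  have hiso : ∀ i, IsIso ((compOpens g X I e i).ι ≫ X.hom) := isIso_compOpens g X I e w hw hpi
  let σ : ∀ _ : I, T ⟶ X.left := fun i => inv ((compOpens g X I e i).ι ≫ X.hom) ≫
    (compOpens g X I e i).ι
  have hσ : ∀ i, σ i ≫ X.hom = 𝟙 T := by
    intro i
    show (inv ((compOpens g X I e i).ι ≫ X.hom) ≫ (compOpens g X I e i).ι) ≫ X.hom = 𝟙 T
    rw [Category.assoc, IsIso.inv_hom_id]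
  have hσo : ∀ i, IsOpenImmersion (σ i) := fun i => by
    show IsOpenImmersion (inv ((compOpens g X I e i).ι ≫ X.hom) ≫ (compOpens g X I e i).ι)
    infer_instance
  have hrange : ∀ i, Set.range (σ i) = comp g X I e i := by
    intro i
    show Set.range (inv ((compOpens g X I e i).ι ≫ X.hom) ≫ (compOpens g X I e i).ι) = _
    rw [Scheme.Hom.comp_base, TopCat.coe_comp,
      (inv ((compOpens g X I e i).ι ≫ X.hom)).surjective.range_comp, Scheme.Opens.range_ι]
    rfl
  have hcov : ⨆ i, (σ i).opensRange = ⊤ := by
    rw [eq_top_iff]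
    intro x _
    have hx : x ∈ ⋃ i, comp g X I e i := by rw [iUnion_comp]; trivial
    obtain ⟨i, hi⟩ := Set.mem_iUnion.mp hx
    refine TopologicalSpace.Opens.mem_iSup.mpr ⟨i, ?_⟩
    show x ∈ Set.range (σ i)
    rw [hrange]
    exact hi
  have hdisj : Pairwise (Disjoint on (fun i => (σ i).opensRange)) := by
    intro i j hij
    rw [Function.onFun_apply, disjoint_iff, eq_bot_iff]
    rintro x ⟨hxi, hxj⟩
    have hxi' : x ∈ Set.range (σ i) := hxi
    have hxj' : x ∈ Set.range (σ j) := hxj
    rw [hrange] at hxi' hxj'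
    exact hij (comp_disjoint g X I e w hw hpi x hxi' hxj')
  have h := nonempty_isColimit_cofanMk_of σ hcov hdisj
  rw [Cofan.nonempty_isColimit_iff_isIso_sigmaDesc] at h
  have hdesc : Limits.Sigma.desc σ ≫ X.hom = cst T I := by
    refine Sigma.hom_ext _ _ (fun i => ?_)
    rw [Sigma.ι_desc_assoc, hσ, Sigma.ι_desc]
  exact ⟨(CategoryTheory.Over.isoMk (f := TwC.const T I) (g := X)
    (@asIso _ _ _ _ (Limits.Sigma.desc σ) h) hdesc).symm⟩

end Core

end Groth.Agent.H42.FppfEtCore
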