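import Mathlib

/-!
# Shrinking the base to make a finite cover connected (helper42)

* `exists_open_connected_preimage`: for a continuous closed map `g : W → T` from a Noetherian space
  and a point `w` which is alone in its fibre, there is an open neighbourhood `U` of `g w`
  (contained in the range of `g` if that is open) such that `g ⁻¹' U` is connected.
-/

set_option autoImplicit false
universe u
open Topology TopologicalSpace Set

namespace Groth.Agent.H42.ShrinkConn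

theorem isPreirreducible_inter_open {W : Type*} [TopologicalSpace W] {Z V : Set W}
    (hZ : IsPreirreducible Z) (hV : IsOpen V) : IsPreirreducible (Z ∩ V) := by
  intro u v hu hv ⟨a, ⟨haZ, haV⟩, hau⟩ ⟨b, ⟨hbZ, hbV⟩, hbv⟩
  obtain ⟨c, hcZ, ⟨hcu, hcV⟩, hcv, -⟩ := hZ (u ∩ V) (v ∩ V) (hu.inter hV) (hv.inter hV)
    ⟨a, haZ, hau, haV⟩ ⟨b, hbZ, hbv, hbV⟩
  exact ⟨c, ⟨hcZ, hcV⟩, hcu, hcv⟩

theorem exists_open_connected_preimage {W T : Type*} [TopologicalSpace W] [TopologicalSpace T]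
    [NoetherianSpace W] (g : W → T) (hc : Continuous g) (hg : IsClosedMap g)
    (hr : IsOpen (Set.range g)) (w : W) (hw : ∀ w', g w' = g w → w' = w) :
    ∃ U : Set T, IsOpen U ∧ g w ∈ U ∧ U ⊆ Set.range g ∧ IsConnected (g ⁻¹' U) := by
  have hfin : (irreducibleComponents W).Finite := NoetherianSpace.finite_irreducibleComponents
  let B : Set W := ⋃₀ {Z ∈ irreducibleComponents W | w ∉ Z}
  have hBc : IsClosed B := by
    show IsClosed (⋃₀ {Z ∈ irreducibleComponents W | w ∉ Z})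
    rw [Set.sUnion_eq_biUnion]
    apply (hfin.subset (fun Z hZ => hZ.1)).isClosed_biUnion
    intro Z hZ
    exact isClosed_of_mem_irreducibleComponents Z hZ.1
  have hwB : w ∉ B := by
    rintro ⟨Z, ⟨-, hZ⟩, hwZ⟩
    exact hZ hwZ
  have hgB : IsClosed (g '' B) := hg B hBc
  have htB : g w ∉ g '' B := by
    rintro ⟨b, hb, hbw⟩
    rw [hw b hbw] at hb
    exact hwB hb
  refine ⟨(g '' B)ᶜ ∩ Set.range g, hgB.isOpen_compl.inter hr, ⟨htB, w, rfl⟩,
    Set.inter_subset_right, ?_⟩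
  have hpre : g ⁻¹' ((g '' B)ᶜ ∩ Set.range g) = g ⁻¹' (g '' B)ᶜ := by
    ext x
    simp only [Set.mem_preimage, Set.mem_inter_iff, Set.mem_range, exists_apply_eq_apply,
      and_true]
  rw [hpre]
  set V : Set W := g ⁻¹' (g '' B)ᶜ with hV
  have hVo : IsOpen V := hgB.isOpen_compl.preimage hc
  have hwV : w ∈ V := htB
  have hVB : ∀ v ∈ V, v ∉ B := fun v hv hvB => hv ⟨v, hvB, rfl⟩
  refine ⟨⟨w, hwV⟩, ?_⟩
  have hVeq : V = ⋃₀ {s | ∃ Z ∈ irreducibleComponents W, w ∈ Z ∧ s = Z ∩ V} := by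
    ext v
    constructor
    · intro hv
      have hZ := irreducibleComponent_mem_irreducibleComponents v
      have hwZ : w ∈ irreducibleComponent v := by
        by_contra hwZ
        exact hVB v hv ⟨irreducibleComponent v, ⟨hZ, hwZ⟩, mem_irreducibleComponent⟩
      exact ⟨irreducibleComponent v ∩ V, ⟨irreducibleComponent v, hZ, hwZ, rfl⟩,
        mem_irreducibleComponent, hv⟩
    · rintro ⟨s, ⟨Z, -, -, rfl⟩, -, hv⟩
      exact hv
  rw [hVeq]
  apply isPreconnected_sUnion w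
  · rintro s ⟨Z, -, hwZ, rfl⟩
    exact ⟨hwZ, hwV⟩
  · rintro s ⟨Z, hZ, -, rfl⟩
    exact (isPreirreducible_inter_open hZ.1.isPreirreducible hVo).isPreconnected

open AlgebraicGeometry CategoryTheory

/-- Scheme version: for a finite universally open morphism `g : W ⟶ T` to a locally Noetherian
scheme and a point `w` alone in its fibre, there is an open neighbourhood `U` of `g w` contained in
the image of `g` with connected preimage. -/
theorem exists_opens_connected_preimage {W T : Scheme.{u}} (g : W ⟶ T) [IsFinite g]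
    [UniversallyOpen g] [IsLocallyNoetherian T] (w : W) (hw : ∀ w', g w' = g w → w' = w) :
    ∃ U : T.Opens, g w ∈ U ∧ (U : Set T) ⊆ Set.range g ∧ _root_.IsConnected (g ⁻¹' (U : Set T)) := by
  obtain ⟨_, ⟨(T₀ : T.Opens), hT₀, rfl⟩, hwT₀, -⟩ :=
    T.isBasis_affineOpens.exists_subset_of_mem_open (Set.mem_univ (g w)) isOpen_univ
  have hLN : IsLocallyNoetherian W := LocallyOfFiniteType.isLocallyNoetherian g
  have hcpt : CompactSpace ↥((g ⁻¹ᵁ T₀ : W.Opens) : Scheme.{u}) :=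
    isCompact_iff_compactSpace.mp (QuasiCompact.isCompact_preimage (f := g) _ T₀.isOpen hT₀.isCompact)
  have hN : AlgebraicGeometry.IsNoetherian ((g ⁻¹ᵁ T₀ : W.Opens) : Scheme.{u}) :=
    AlgebraicGeometry.IsNoetherian.mk
  have hNS : NoetherianSpace ↥((g ⁻¹ᵁ T₀ : W.Opens) : Scheme.{u}) := inferInstance
  let g₀ : ((g ⁻¹ᵁ T₀ : W.Opens) : Scheme.{u}) ⟶ (T₀ : Scheme.{u}) := g ∣_ T₀
  have hg₀c : IsClosedMap g₀ := g₀.isClosedMap
  have hUO : UniversallyOpen g₀ := IsZariskiLocalAtTarget.restrict (P := @UniversallyOpen) ‹_› T₀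
  have hg₀o : IsOpen (Set.range g₀) := g₀.isOpenMap.isOpen_range
  let w₀ : ↥((g ⁻¹ᵁ T₀ : W.Opens) : Scheme.{u}) := ⟨w, hwT₀⟩
  have hcoe : ∀ x : ↥((g ⁻¹ᵁ T₀ : W.Opens) : Scheme.{u}), (g₀ x).1 = g x.1 :=
    fun x => morphismRestrict_base_coe g T₀ x
  have hw₀ : ∀ w' : ↥((g ⁻¹ᵁ T₀ : W.Opens) : Scheme.{u}), g₀ w' = g₀ w₀ → w' = w₀ := by
    intro w' h
    have h1 : (g₀ w').1 = (g₀ w₀).1 := congrArg Subtype.val h
    rw [hcoe, hcoe] at h1
    exact Subtype.ext (hw w'.1 h1)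
  obtain ⟨U₀, hU₀o, hwU₀, hU₀r, hU₀c⟩ :=
    exists_open_connected_preimage g₀ g₀.continuous hg₀c hg₀o w₀ hw₀
  refine ⟨T₀.ι ''ᵁ ⟨U₀, hU₀o⟩, ?_, ?_, ?_⟩
  · exact ⟨g₀ w₀, hwU₀, hcoe w₀⟩
  · rintro _ ⟨t₀, ht₀, rfl⟩
    obtain ⟨x, rfl⟩ := hU₀r ht₀
    exact ⟨x.1, (hcoe x).symm⟩
  · have heq : g ⁻¹' ((T₀.ι ''ᵁ ⟨U₀, hU₀o⟩ : T.Opens) : Set T) =
        Subtype.val '' (g₀ ⁻¹' U₀) := by
      ext x
      constructor
      · rintro ⟨t₀, ht₀, hx⟩
        have hx' : t₀.1 = g x := hx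
        have hxW : x ∈ g ⁻¹ᵁ T₀ := by
          show g x ∈ T₀
          rw [← hx']
          exact t₀.2
        let x₀ : ↥((g ⁻¹ᵁ T₀ : W.Opens) : Scheme.{u}) := ⟨x, hxW⟩
        refine ⟨x₀, ?_, rfl⟩
        show g₀ x₀ ∈ U₀
        have : g₀ x₀ = t₀ := by
          apply Subtype.ext
          rw [hcoe x₀]
          exact hx'.symm
        rw [this]
        exact ht₀
      · rintro ⟨x₀, hx₀, rfl⟩
        exact ⟨g₀ x₀, hx₀, hcoe x₀⟩
    rw [heq]
    exact hU₀c.image _ continuous_subtype_val.continuousOn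

end Groth.Agent.H42.ShrinkConn
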