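import Mathlib
import Groth.Prelude.Def_TwC
import Groth.Agent.H20.RadicialFibre
import Groth.Agent.H42.ConstBC
import Groth.Agent.H42.ShrinkConn
import Groth.Agent.H42.FppfEtCore
import Groth.Agent.H47.QF.SchemeQF
import Groth.Agent.S9778

/-!
# fppf-locally constant schemes over a locally Noetherian base are étale-locally constant (helper42)
-/

set_option autoImplicit false
universe u
open CategoryTheory Limits AlgebraicGeometry MorphismProperty

namespace Groth.Agent.H42.FppfEtMain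

open Groth.Agent.H42 Groth.Agent.H20.RadicialFibre

/-- pure inseparability of a residue field extension is insensitive to open immersions -/
theorem pi_transfer {X Y X' Y' : Scheme.{u}} (f : X ⟶ Y) (f' : X' ⟶ Y') (a : X' ⟶ X) (b : Y' ⟶ Y)
    [IsOpenImmersion a] [IsOpenImmersion b] (hcomm : a ≫ f = f' ≫ b) (x' : X')
    (h : (f.residueFieldMap (a x')).hom.IsPurelyInseparable) :
    (f'.residueFieldMap x').hom.IsPurelyInseparable := by
  have e1 : (a ≫ f).residueFieldMap x' = f.residueFieldMap (a x') ≫ a.residueFieldMap x' :=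
    Scheme.residueFieldMap_comp a f x'
  have e2 : (f' ≫ b).residueFieldMap x' = b.residueFieldMap (f' x') ≫ f'.residueFieldMap x' :=
    Scheme.residueFieldMap_comp f' b x'
  have e3 := Scheme.Hom.residueFieldMap_congr hcomm x'
  rw [e1, e2] at e3
  have hbij1 : Function.Bijective (a.residueFieldMap x').hom := bijective_residueFieldMap a x'
  have hbij2 : Function.Bijective (b.residueFieldMap (f' x')).hom :=
    bijective_residueFieldMap b (f' x')
  set γ := (Y.residueFieldCongr (show (a ≫ f) x' = (f' ≫ b) x' by rw [hcomm])).hom with hγ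
  have hbij3 : Function.Bijective γ.hom :=
    ConcreteCategory.bijective_of_isIso γ
  refine (pi_iff_of_comm_sq (f.residueFieldMap (a x')).hom (a.residueFieldMap x').hom
    ((b.residueFieldMap (f' x')).hom.comp γ.hom) (f'.residueFieldMap x').hom ?_ hbij1
    (hbij2.comp hbij3)).mp h
  have := congrArg CommRingCat.Hom.hom e3
  rw [CommRingCat.hom_comp] at this
  exact this.trans rfl

set_option backward.isDefEq.respectTransparency.types false in
/-- **fppf-locally constant implies étale-locally constant** over a locally Noetherian base. -/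
theorem main {S : Scheme.{u}} [IsLocallyNoetherian S] (X : Over S)
    (hX : TwC.IsTwConst TwC.Topology.fppf X) : TwC.IsTwConst TwC.Topology.etale X := by
  have hX' : ∀ s : S, ∃ (S' : Scheme.{u}) (f : S' ⟶ S), Flat f ∧ LocallyOfFinitePresentation f ∧
      s ∈ Set.range f.base ∧ ∃ I : Type u, Nonempty (Red.bc f X ≅ TwC.const S' I) := hX
  show ∀ s : S, ∃ (S' : Scheme.{u}) (f : S' ⟶ S), Etale f ∧ s ∈ Set.range f.base ∧
      ∃ I : Type u, Nonempty (Red.bc f X ≅ TwC.const S' I)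
  intro s
  obtain ⟨S', f', hf'1, hf'2, ⟨s', hs'⟩, I, ⟨e⟩⟩ := hX' s
  -- quasi-finite flat refinement
  obtain ⟨Y, f, r, hr, hfl, hfp, hqf, ⟨y, hy⟩⟩ := Groth.Agent.H47.QF.exists_local_piece f' s'
  obtain ⟨_, ⟨(Y₀ : Y.Opens), hY₀, rfl⟩, hyY₀, -⟩ :=
    Y.isBasis_affineOpens.exists_subset_of_mem_open (Set.mem_univ y) isOpen_univ
  have hY₀aff : IsAffine (Y₀ : Scheme.{u}) := hY₀
  let f₀ : (Y₀ : Scheme.{u}) ⟶ S := Y₀.ι ≫ f
  let y₀ : ↥(Y₀ : Scheme.{u}) := ⟨y, hyY₀⟩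
  have hf₀y : f₀ y₀ = s := by
    show f (Y₀.ι y₀) = s
    rw [← hs', ← hy]
    rfl
  have hsep : IsSeparated f₀ := by
    have : IsSeparated (f₀ ≫ terminal.from S) := by
      rw [terminal.comp_from]; infer_instance
    exact IsSeparated.of_comp f₀ (terminal.from S)
  have hf₀fl : Flat f₀ := inferInstance
  have hf₀fp : LocallyOfFinitePresentation f₀ := inferInstance
  have hf₀qf : LocallyQuasiFinite f₀ := inferInstance
  obtain ⟨U, gU, u, hgU, hu, J, hJ, V, v, hclopen, -, hV, hcov⟩ :=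
    Groth.Agent.S9778.result f₀ s (fun _ : Unit => y₀) (fun _ _ _ => Subsingleton.elim _ _)
      (fun _ => hf₀y) (fun _ => f₀.quasiFiniteAt _)
  obtain ⟨z₀, hz1, hz2⟩ := Scheme.Pullback.exists_preimage_pullback y₀ u (hf₀y.trans hu.symm)
  obtain ⟨j, hz₀j⟩ := hcov z₀ () hz2 hz1
  obtain ⟨hvmem, hVfin, hvu, hvuniq, hvpi, hvfst⟩ := hV () j
  -- the finite flat piece `W ⟶ U`
  let gW : ((V () j : (pullback f₀ gU).Opens) : Scheme.{u}) ⟶ U := (V () j).ι ≫ pullback.snd f₀ gU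
  have hgWfin : IsFinite gW := hVfin
  have hgWfl : Flat gW := inferInstance
  have hgWfp : LocallyOfFinitePresentation gW := inferInstance
  let w : ↥((V () j : (pullback f₀ gU).Opens) : Scheme.{u}) := ⟨v () j, hvmem⟩
  have hgWw : gW w = u := hvu
  have hw : ∀ w', gW w' = gW w → w' = w := by
    intro w' h
    rw [hgWw] at h
    exact Subtype.ext (hvuniq w'.1 w'.2 h)
  have hpiW : (gW.residueFieldMap w).hom.IsPurelyInseparable :=
    pi_transfer (pullback.snd f₀ gU) gW (V () j).ι (𝟙 U) (Category.comp_id _).symm w hvpi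
  have hULN : IsLocallyNoetherian U := LocallyOfFiniteType.isLocallyNoetherian gU
  obtain ⟨U₁, hwU₁, hU₁r, hU₁c⟩ := ShrinkConn.exists_opens_connected_preimage gW w hw
  -- restrict to `U₁`
  let g₁ : ((gW ⁻¹ᵁ U₁ : Scheme.Opens _) : Scheme.{u}) ⟶ (U₁ : Scheme.{u}) := gW ∣_ U₁
  have hg₁fin : IsFinite g₁ := IsZariskiLocalAtTarget.restrict (P := @IsFinite) hgWfin U₁
  have hg₁fl : Flat g₁ := IsZariskiLocalAtTarget.restrict (P := @Flat) hgWfl U₁
  have hg₁fp : LocallyOfFinitePresentation g₁ :=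
    IsZariskiLocalAtTarget.restrict (P := @LocallyOfFinitePresentation) hgWfp U₁
  have hcoe : ∀ x : ↥((gW ⁻¹ᵁ U₁ : Scheme.Opens _) : Scheme.{u}), (g₁ x).1 = gW x.1 :=
    fun x => morphismRestrict_base_coe gW U₁ x
  have hg₁surj : Surjective g₁ := by
    refine ⟨fun t => ?_⟩
    obtain ⟨x, hx⟩ := hU₁r t.2
    have hxm : x ∈ gW ⁻¹ᵁ U₁ := by
      show gW x ∈ U₁
      rw [hx]
      exact t.2
    let x₁ : ↥((gW ⁻¹ᵁ U₁ : Scheme.Opens _) : Scheme.{u}) := ⟨x, hxm⟩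
    refine ⟨x₁, Subtype.ext ?_⟩
    rw [hcoe x₁]
    exact hx
  have hconn : PreconnectedSpace ↥((gW ⁻¹ᵁ U₁ : Scheme.Opens _) : Scheme.{u}) :=
    Subtype.preconnectedSpace hU₁c.isPreconnected
  let w₁ : ↥((gW ⁻¹ᵁ U₁ : Scheme.Opens _) : Scheme.{u}) := ⟨w, hwU₁⟩
  have hw₁ : ∀ w', g₁ w' = g₁ w₁ → w' = w₁ := by
    intro w' h
    have h1 : (g₁ w').1 = (g₁ w₁).1 := congrArg Subtype.val h
    rw [hcoe, hcoe] at h1
    exact Subtype.ext (hw w'.1 h1)
  have hpi₁ : (g₁.residueFieldMap w₁).hom.IsPurelyInseparable :=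
    pi_transfer gW g₁ (gW ⁻¹ᵁ U₁).ι U₁.ι (morphismRestrict_ι gW U₁).symm w₁ hpiW
  -- the étale neighbourhood
  let f'' : (U₁ : Scheme.{u}) ⟶ S := U₁.ι ≫ gU
  have hf''et : Etale f'' := inferInstance
  have hsf'' : s ∈ Set.range f''.base := by
    refine ⟨⟨gW w, hwU₁⟩, ?_⟩
    show gU (gW w) = s
    rw [hgWw, hu]
  -- the trivialisation over the cover
  let r₁ : ((gW ⁻¹ᵁ U₁ : Scheme.Opens _) : Scheme.{u}) ⟶ S' :=
    (gW ⁻¹ᵁ U₁).ι ≫ (V () j).ι ≫ pullback.fst f₀ gU ≫ Y₀.ι ≫ r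
  have hr₁ : r₁ ≫ f' = g₁ ≫ f'' := by
    show ((gW ⁻¹ᵁ U₁).ι ≫ (V () j).ι ≫ pullback.fst f₀ gU ≫ Y₀.ι ≫ r) ≫ f' =
      (gW ∣_ U₁) ≫ U₁.ι ≫ gU
    rw [← Category.assoc (gW ∣_ U₁), morphismRestrict_ι]
    simp only [Category.assoc, hr]
    show (gW ⁻¹ᵁ U₁).ι ≫ (V () j).ι ≫ pullback.fst f₀ gU ≫ f₀ = _
    rw [pullback.condition]
    rfl
  obtain ⟨e₁⟩ := ConstBC.nonempty_transport r₁ I X f' (g₁ ≫ f'') hr₁ e
  let e₂ : Red.bc g₁ (Red.bc f'' X) ≅ TwC.const _ I :=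
    ((CategoryTheory.Over.pullbackComp g₁ f'').app X).symm ≪≫ e₁
  exact ⟨U₁, f'', hf''et, hsf'', I,
    FppfEtCore.core g₁ (Red.bc f'' X) I e₂ w₁ hw₁ hpi₁⟩

end Groth.Agent.H42.FppfEtMain
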