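import Mathlib.FieldTheory.RatFunc.AsPolynomial
import Mathlib.RingTheory.MvPolynomial.Basic
import Mathlib.RingTheory.Localization.FractionRing
import Mathlib.Algebra.MvPolynomial.CommRing
import Mathlib.RingTheory.Polynomial.Basic
import Mathlib.Tactic

set_option autoImplicit false

namespace Groth.Agent.H42

open Polynomial

section Homog

variable {k R : Type*} [CommRing k] [CommRing R]

/-- The `N`-homogenisation of `P` evaluated at `(a, b)`. -/
noncomputable def homog (f : k →+* R) (P : k[X]) (N : ℕ) (a b : R) : R :=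
  ∑ i ∈ Finset.range (N + 1), f (P.coeff i) * a ^ i * b ^ (N - i)

theorem homog_eq (f : k →+* R) (P : k[X]) (N : ℕ) (hN : P.natDegree ≤ N) (a b binv : R)
    (hb : b * binv = 1) : homog f P N a b = b ^ N * P.eval₂ f (a * binv) := by
  rw [homog, eval₂_eq_sum_range' f (Nat.lt_succ_of_le hN), Finset.mul_sum]
  apply Finset.sum_congr rfl
  intro i hi
  have hiN : i ≤ N := Nat.lt_succ_iff.1 (Finset.mem_range.1 hi)
  have : b ^ N = b ^ i * b ^ (N - i) := by rw [← pow_add, Nat.add_sub_cancel' hiN]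
  rw [this, mul_pow]
  have h1 : b ^ i * binv ^ i = 1 := by rw [← mul_pow, hb, one_pow]
  linear_combination (f (P.coeff i) * a ^ i * b ^ (N - i)) * h1.symm

theorem map_homog {R' : Type*} [CommRing R'] (g : R →+* R') (f : k →+* R) (P : k[X]) (N : ℕ)
    (a b : R) : g (homog f P N a b) = homog (g.comp f) P N (g a) (g b) := by
  simp [homog, map_sum]

end Homog

section Core

variable {k K : Type*} [Field k] [Field K] (alg : k →+* K)

/-- Core one-variable step: from the cross-multiplied functional equation in `K[y]` deduce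
`P(x) = P(0) F^m`. -/
theorem core_step (P Q : k[X]) (hcop : IsCoprime P Q) (hP : P ≠ 0) (x Fv : K) (hF : Fv ≠ 0)
    (Px Qx : K) (hQx : Qx ≠ 0) (hPx : Px = P.eval₂ alg x)
    (h : ((P.map alg).comp (C Fv * X + C x)) * (C Qx * Q.map alg) =
      (C Px * P.map alg) * ((Q.map alg).comp (C Fv * X + C x))) :
    Px = alg (P.eval 0) * Fv ^ P.natDegree := by
  set ℓ : K[X] := C Fv * X + C x with hℓ
  have hℓdeg : ℓ.natDegree = 1 := natDegree_linear hF
  have hℓlead : ℓ.leadingCoeff = Fv := leadingCoeff_linear hF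
  set Py := P.map alg with hPy
  set Qy := Q.map alg with hQy
  have hPy0 : Py ≠ 0 := (Polynomial.map_ne_zero_iff alg.injective).2 hP
  have hcop' : IsCoprime Py Qy := hcop.map (Polynomial.mapRingHom alg)
  have hdvd : Py ∣ Py.comp ℓ := by
    have h1 : IsCoprime Py (C Qx * Qy) :=
      (isCoprime_mul_unit_left_right (isUnit_C.2 (isUnit_iff_ne_zero.2 hQx)) Py Qy).2 hcop'
    apply h1.dvd_of_dvd_mul_right
    rw [h, mul_assoc]
    exact Dvd.dvd.mul_left (dvd_mul_right _ _) _
  obtain ⟨g, hg⟩ := hdvd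
  have hlead : (Py.comp ℓ).leadingCoeff = Py.leadingCoeff * Fv ^ Py.natDegree := by
    rw [leadingCoeff_comp (by rw [hℓdeg]; exact one_ne_zero), hℓlead]
  have hcomp0 : Py.comp ℓ ≠ 0 := by
    intro h0
    rw [h0, leadingCoeff_zero] at hlead
    exact (mul_ne_zero (leadingCoeff_ne_zero.2 hPy0) (pow_ne_zero _ hF)) hlead.symm
  have hg0 : g ≠ 0 := by
    rintro rfl
    rw [mul_zero] at hg
    exact hcomp0 hg
  have hgdeg : g.natDegree = 0 := by
    have h1 : (Py.comp ℓ).natDegree = Py.natDegree := by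
      rw [natDegree_comp, hℓdeg, mul_one]
    rw [hg, natDegree_mul hPy0 hg0] at h1
    omega
  obtain ⟨c, rfl⟩ : ∃ c, g = C c := ⟨g.coeff 0, eq_C_of_natDegree_eq_zero hgdeg⟩
  have hc : c = Fv ^ Py.natDegree := by
    rw [hg, leadingCoeff_mul, leadingCoeff_C] at hlead
    exact mul_left_cancel₀ (leadingCoeff_ne_zero.2 hPy0) hlead
  have hev : (Py.comp ℓ).eval 0 = Px := by
    rw [eval_comp, hPx, hℓ]
    simp [hPy, eval_map]
  rw [hg, eval_mul, eval_C, hc] at hev
  rw [← hev, hPy, eval_map, natDegree_map]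
  congr 1
  rw [← Polynomial.eval₂_hom]
  simp
  
end Core

section Conclude

variable {k : Type*} [Field k]

theorem conclude (F : RatFunc k) (h0 : F.denom.eval 0 ≠ 0) (h1 : F.num.eval 0 = F.denom.eval 0)
    (hP : algebraMap k[X] (RatFunc k) F.num = RatFunc.C (F.num.eval 0) * F ^ F.num.natDegree)
    (hQ : algebraMap k[X] (RatFunc k) F.denom =
      RatFunc.C (F.denom.eval 0) * F ^ F.denom.natDegree) :
    ∃ a : k, F = 1 + RatFunc.C a * RatFunc.X := by
  set P := F.num with hPdef
  set Q := F.denom with hQdef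
  set q := Q.eval 0 with hq
  set m := P.natDegree with hm
  set n := Q.natDegree with hn
  have hcop : IsCoprime P Q := RatFunc.isCoprime_num_denom F
  have hQmonic : Q.Monic := RatFunc.monic_denom F
  have hQ0 : Q ≠ 0 := RatFunc.denom_ne_zero F
  have hP0 : P ≠ 0 := by
    intro h; rw [h, eval_zero] at h1; exact h0 h1.symm
  have hinj := RatFunc.algebraMap_injective k
  have haQ : algebraMap k[X] (RatFunc k) Q ≠ 0 := by
    rw [Ne, map_eq_zero_iff _ hinj]; exact hQ0
  have haP : algebraMap k[X] (RatFunc k) P ≠ 0 := by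
    rw [Ne, map_eq_zero_iff _ hinj]; exact hP0
  have hFdiv : algebraMap k[X] (RatFunc k) P / algebraMap k[X] (RatFunc k) Q = F :=
    RatFunc.num_div_denom F
  have hFQ : F * algebraMap k[X] (RatFunc k) Q = algebraMap k[X] (RatFunc k) P := by
    rw [← hFdiv, div_mul_cancel₀ _ haQ]
  have hF0 : F ≠ 0 := by
    intro h; rw [h, zero_mul] at hFQ; exact haP hFQ.symm
  have hCq : (RatFunc.C q : RatFunc k) ≠ 0 := by
    rw [Ne, map_eq_zero]; exact h0
  rw [h1] at hP
  have hpow : F ^ (n + 1) = F ^ m := by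
    have : F * (RatFunc.C q * F ^ n) = RatFunc.C q * F ^ m := by rw [← hQ, ← hP, hFQ]
    apply mul_left_cancel₀ hCq
    rw [← this, pow_succ]; ring
  -- the root of unity case
  have caseB : ∀ d : ℕ, d ≠ 0 → F ^ d = 1 → ∃ a : k, F = 1 + RatFunc.C a * RatFunc.X := by
    intro d hd hFd
    have hPQd : P ^ d = Q ^ d := by
      apply hinj
      rw [map_pow, map_pow]
      rw [← hFdiv, div_pow, div_eq_one_iff_eq (pow_ne_zero _ haQ)] at hFd
      exact hFd
    have hPu : IsUnit P := (hcop.pow_right (n := d)).isUnit_of_dvd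
      (hPQd ▸ dvd_pow_self P hd)
    have hQu : IsUnit Q := (hcop.symm.pow_right (n := d)).isUnit_of_dvd
      (hPQd ▸ dvd_pow_self Q hd)
    have hQ1 : Q = 1 := (Polynomial.Monic.isUnit_iff hQmonic).1 hQu
    obtain ⟨r, _, hr⟩ := Polynomial.isUnit_iff.1 hPu
    have hq1 : q = 1 := by rw [hq, hQ1]; exact eval_one
    have hr1 : r = 1 := by
      have : P.eval 0 = r := by rw [← hr, eval_C]
      rw [← this, h1, hq1]
    refine ⟨0, ?_⟩
    rw [← hFdiv, hQ1, ← hr, hr1]
    simp
  rcases lt_trichotomy m (n + 1) with hlt | heq | hgt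
  · apply caseB (n + 1 - m) (by omega)
    have : F ^ (n + 1) = F ^ m * F ^ (n + 1 - m) := by rw [← pow_add]; congr 1; omega
    rw [hpow] at this
    exact (mul_left_cancel₀ (pow_ne_zero m hF0) (by rw [mul_one]; exact this)).symm
  · -- m = n + 1
    have hPQm : P * Q ^ m = P * (C q * P ^ (m - 1)) := by
      apply hinj
      have e : P * (C q * P ^ (m - 1)) = C q * P ^ m := by
        have : P ^ m = P * P ^ (m - 1) := by rw [← pow_succ']; congr 1; omega
        rw [this]; ring
      rw [e, map_mul, map_mul, map_pow, map_pow, RatFunc.algebraMap_C]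
      calc algebraMap k[X] (RatFunc k) P * algebraMap k[X] (RatFunc k) Q ^ m
          = RatFunc.C q * (F * algebraMap k[X] (RatFunc k) Q) ^ m := by
            rw [mul_pow]; nth_rewrite 1 [hP]; ring
        _ = RatFunc.C q * algebraMap k[X] (RatFunc k) P ^ m := by rw [hFQ]
    have hQm : Q ^ m = C q * P ^ (m - 1) := mul_left_cancel₀ hP0 hPQm
    have hm1 : m = 1 := by
      by_contra hne
      have hm2 : 2 ≤ m := by omega
      have hdvd : P ∣ Q ^ m := by
        rw [hQm]
        exact Dvd.dvd.mul_left (dvd_pow_self P (by omega)) _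
      have hPu : IsUnit P := (hcop.pow_right (n := m)).isUnit_of_dvd hdvd
      have : P.natDegree = 0 := natDegree_eq_zero_of_isUnit hPu
      omega
    have hn0 : n = 0 := by omega
    have hQ1 : Q = 1 := (Polynomial.Monic.natDegree_eq_zero hQmonic).1 hn0
    have hq1 : q = 1 := by rw [hq, hQ1]; exact eval_one
    have hPform : P = C (P.coeff 1) * X + C (P.coeff 0) :=
      eq_X_add_C_of_natDegree_le_one (by omega)
    have hc0 : P.coeff 0 = 1 := by
      rw [coeff_zero_eq_eval_zero, h1, hq1]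
    obtain ⟨c1, hc1⟩ : ∃ c1 : k, P = C c1 * X + C 1 := ⟨P.coeff 1, by rw [← hc0]; exact hPform⟩
    refine ⟨c1, ?_⟩
    have e1 : algebraMap k[X] (RatFunc k) P = RatFunc.C c1 * RatFunc.X + 1 := by
      rw [hc1, map_add, map_mul, RatFunc.algebraMap_C, RatFunc.algebraMap_X,
        RatFunc.algebraMap_C, map_one]
    have e2 : algebraMap k[X] (RatFunc k) Q = 1 := by rw [hQ1, map_one]
    rw [← hFdiv, e1, e2, div_one, add_comm]
  · apply caseB (m - (n + 1)) (by omega)
    have : F ^ m = F ^ (n + 1) * F ^ (m - (n + 1)) := by rw [← pow_add]; congr 1; omega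
    rw [← hpow] at this
    exact (mul_left_cancel₀ (pow_ne_zero (n + 1) hF0) (by rw [mul_one]; exact this)).symm

end Conclude

section Main

variable {k : Type} [Field k]

/-- `P(X i)` as a two-variable polynomial. -/
noncomputable def pAt (P : k[X]) (i : Fin 2) : MvPolynomial (Fin 2) k :=
  P.eval₂ MvPolynomial.C (MvPolynomial.X i)

theorem eval_zero_pAt (P : k[X]) (i : Fin 2) :
    MvPolynomial.eval (0 : Fin 2 → k) (pAt P i) = P.eval 0 := by
  rw [pAt, Polynomial.hom_eval₂]
  simp only [MvPolynomial.eval_X, Pi.zero_apply]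
  have : (MvPolynomial.eval (0 : Fin 2 → k)).comp MvPolynomial.C = RingHom.id k := by
    ext a; simp
  rw [this]; rfl

theorem pAt_ne_zero (P : k[X]) (hP : P.eval 0 ≠ 0) (i : Fin 2) : pAt P i ≠ 0 := by
  intro h
  apply hP
  rw [← eval_zero_pAt P i, h, map_zero]

theorem algebraMap_pAt (P : k[X]) (i : Fin 2) :
    algebraMap (MvPolynomial (Fin 2) k) (FractionRing (MvPolynomial (Fin 2) k)) (pAt P i) =
      P.eval₂ (algebraMap k (FractionRing (MvPolynomial (Fin 2) k)))
        (algebraMap (MvPolynomial (Fin 2) k) (FractionRing (MvPolynomial (Fin 2) k))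
          (MvPolynomial.X i)) := by
  rw [pAt, Polynomial.hom_eval₂]
  congr 1

/-- Clearing denominators in the functional equation gives a polynomial identity. -/
theorem poly_identity (F : RatFunc k) (h0 : F.denom.eval 0 ≠ 0) (h1 : F.num.eval 0 = F.denom.eval 0)
    (N : ℕ) (hNP : F.num.natDegree ≤ N) (hNQ : F.denom.natDegree ≤ N)
    (hFE : RatFunc.eval (algebraMap k (FractionRing (MvPolynomial (Fin 2) k)))
        (algebraMap (MvPolynomial (Fin 2) k) (FractionRing (MvPolynomial (Fin 2) k)) (MvPolynomial.X 0) +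
          algebraMap (MvPolynomial (Fin 2) k) (FractionRing (MvPolynomial (Fin 2) k)) (MvPolynomial.X 1) *
            RatFunc.eval (algebraMap k (FractionRing (MvPolynomial (Fin 2) k)))
              (algebraMap (MvPolynomial (Fin 2) k) (FractionRing (MvPolynomial (Fin 2) k)) (MvPolynomial.X 0)) F) F =
      RatFunc.eval (algebraMap k (FractionRing (MvPolynomial (Fin 2) k)))
          (algebraMap (MvPolynomial (Fin 2) k) (FractionRing (MvPolynomial (Fin 2) k)) (MvPolynomial.X 0)) F *
        RatFunc.eval (algebraMap k (FractionRing (MvPolynomial (Fin 2) k)))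
          (algebraMap (MvPolynomial (Fin 2) k) (FractionRing (MvPolynomial (Fin 2) k)) (MvPolynomial.X 1)) F) :
    homog MvPolynomial.C F.num N
        (MvPolynomial.X 0 * pAt F.denom 0 + MvPolynomial.X 1 * pAt F.num 0) (pAt F.denom 0) *
      (pAt F.denom 0 * pAt F.denom 1) =
    (pAt F.num 0 * pAt F.num 1) *
      homog MvPolynomial.C F.denom N
        (MvPolynomial.X 0 * pAt F.denom 0 + MvPolynomial.X 1 * pAt F.num 0) (pAt F.denom 0) := by
  set P := F.num
  set Q := F.denom
  have hP0 : P.eval 0 ≠ 0 := by rw [h1]; exact h0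
  set φ := algebraMap (MvPolynomial (Fin 2) k) (FractionRing (MvPolynomial (Fin 2) k)) with hφ
  set ι := algebraMap k (FractionRing (MvPolynomial (Fin 2) k)) with hι
  have hιφ : φ.comp MvPolynomial.C = ι := by
    rw [hι, IsScalarTower.algebraMap_eq k (MvPolynomial (Fin 2) k)
      (FractionRing (MvPolynomial (Fin 2) k)), MvPolynomial.algebraMap_eq]
  have hinj : Function.Injective φ := IsFractionRing.injective _ _
  have hne : ∀ (R : k[X]), R.eval 0 ≠ 0 → ∀ i, φ (pAt R i) ≠ 0 := fun R hR i => by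
    rw [Ne, map_eq_zero_iff _ hinj]; exact pAt_ne_zero R hR i
  have hP0' := hne P hP0 0
  have hP1' := hne P hP0 1
  have hQ0' := hne Q h0 0
  have hQ1' := hne Q h0 1
  simp only [RatFunc.eval] at hFE
  rw [← algebraMap_pAt, ← algebraMap_pAt, ← algebraMap_pAt, ← algebraMap_pAt] at hFE
  apply hinj
  rw [map_mul, map_mul, map_mul, map_mul, map_homog, map_homog, hιφ, map_add, map_mul, map_mul]
  rw [homog_eq ι P N hNP _ _ (φ (pAt Q 0))⁻¹ (mul_inv_cancel₀ hQ0'),
    homog_eq ι Q N hNQ _ _ (φ (pAt Q 0))⁻¹ (mul_inv_cancel₀ hQ0')]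
  have ha : (φ (MvPolynomial.X 0) * φ (pAt Q 0) + φ (MvPolynomial.X 1) * φ (pAt P 0)) *
      (φ (pAt Q 0))⁻¹ = φ (MvPolynomial.X 0) + φ (MvPolynomial.X 1) *
        (φ (pAt P 0) / φ (pAt Q 0)) := by
    field_simp
  rw [ha]
  set a := φ (MvPolynomial.X 0) + φ (MvPolynomial.X 1) * (φ (pAt P 0) / φ (pAt Q 0)) with hadef
  have hFE' : Polynomial.eval₂ ι a P / Polynomial.eval₂ ι a Q =
      φ (pAt P 0) / φ (pAt Q 0) * (φ (pAt P 1) / φ (pAt Q 1)) := hFE
  clear hFE
  by_cases hEQ : Polynomial.eval₂ ι a Q = 0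
  · exfalso
    rw [hEQ, div_zero] at hFE'
    have : φ (pAt P 0) / φ (pAt Q 0) * (φ (pAt P 1) / φ (pAt Q 1)) ≠ 0 :=
      mul_ne_zero (div_ne_zero hP0' hQ0') (div_ne_zero hP1' hQ1')
    exact this hFE'.symm
  · rw [div_eq_iff hEQ] at hFE'
    rw [hFE']
    field_simp

/-- The specialisation `k[X₀, X₁] → k(x)[y]`. -/
noncomputable def Φ : MvPolynomial (Fin 2) k →+* (RatFunc k)[X] :=
  MvPolynomial.eval₂Hom (Polynomial.C.comp (algebraMap k (RatFunc k)))
    ![Polynomial.C RatFunc.X, Polynomial.X]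

theorem Φ_comp_C : (Φ (k := k)).comp MvPolynomial.C = Polynomial.C.comp (algebraMap k (RatFunc k)) := by
  ext a; simp [Φ]

theorem Φ_X0 : Φ (k := k) (MvPolynomial.X 0) = Polynomial.C RatFunc.X := by simp [Φ]

theorem Φ_X1 : Φ (k := k) (MvPolynomial.X 1) = Polynomial.X := by simp [Φ]

theorem Φ_pAt0 (P : k[X]) : Φ (pAt P 0) = Polynomial.C (algebraMap k[X] (RatFunc k) P) := by
  rw [pAt, Polynomial.hom_eval₂, Φ_comp_C, Φ_X0, ← RatFunc.aeval_X_left_eq_algebraMap,
    Polynomial.aeval_def, Polynomial.hom_eval₂]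

theorem Φ_pAt1 (P : k[X]) : Φ (pAt P 1) = P.map (algebraMap k (RatFunc k)) := by
  rw [pAt, Polynomial.hom_eval₂, Φ_comp_C, Φ_X1]
  rfl

theorem funEq_main (F : RatFunc k) (h0 : F.denom.eval 0 ≠ 0) (h1 : F.num.eval 0 = F.denom.eval 0)
    (hFE : RatFunc.eval (algebraMap k (FractionRing (MvPolynomial (Fin 2) k)))
        (algebraMap (MvPolynomial (Fin 2) k) (FractionRing (MvPolynomial (Fin 2) k)) (MvPolynomial.X 0) +
          algebraMap (MvPolynomial (Fin 2) k) (FractionRing (MvPolynomial (Fin 2) k)) (MvPolynomial.X 1) *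
            RatFunc.eval (algebraMap k (FractionRing (MvPolynomial (Fin 2) k)))
              (algebraMap (MvPolynomial (Fin 2) k) (FractionRing (MvPolynomial (Fin 2) k)) (MvPolynomial.X 0)) F) F =
      RatFunc.eval (algebraMap k (FractionRing (MvPolynomial (Fin 2) k)))
          (algebraMap (MvPolynomial (Fin 2) k) (FractionRing (MvPolynomial (Fin 2) k)) (MvPolynomial.X 0)) F *
        RatFunc.eval (algebraMap k (FractionRing (MvPolynomial (Fin 2) k)))
          (algebraMap (MvPolynomial (Fin 2) k) (FractionRing (MvPolynomial (Fin 2) k)) (MvPolynomial.X 1)) F) :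
    ∃ a : k, F = 1 + RatFunc.C a * RatFunc.X := by
  set P := F.num with hPdef
  set Q := F.denom with hQdef
  set N := max P.natDegree Q.natDegree with hN
  have pid := poly_identity F h0 h1 N (le_max_left _ _) (le_max_right _ _) hFE
  have hP0 : P.eval 0 ≠ 0 := by rw [h1]; exact h0
  have hPne : P ≠ 0 := by intro h; rw [h, eval_zero] at hP0; exact hP0 rfl
  have hQne : Q ≠ 0 := RatFunc.denom_ne_zero F
  set alg := algebraMap k (RatFunc k) with halg
  set Px := algebraMap k[X] (RatFunc k) P with hPx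
  set Qx := algebraMap k[X] (RatFunc k) Q with hQx
  have hinj := RatFunc.algebraMap_injective k
  have hQx0 : Qx ≠ 0 := by rw [hQx, Ne, map_eq_zero_iff _ hinj]; exact hQne
  have hPx0 : Px ≠ 0 := by rw [hPx, Ne, map_eq_zero_iff _ hinj]; exact hPne
  have hFdiv : Px / Qx = F := RatFunc.num_div_denom F
  have hF0 : F ≠ 0 := by rw [← hFdiv]; exact div_ne_zero hPx0 hQx0
  have pid' := congrArg Φ pid
  rw [map_mul, map_mul, map_mul, map_mul, map_homog, map_homog, Φ_comp_C, map_add, map_mul,
    map_mul, Φ_X0, Φ_X1, Φ_pAt0, Φ_pAt0, Φ_pAt1, Φ_pAt1] at pid'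
  have hb : Polynomial.C Qx * Polynomial.C Qx⁻¹ = 1 := by
    rw [← Polynomial.C_mul, mul_inv_cancel₀ hQx0, Polynomial.C_1]
  rw [homog_eq _ P N (le_max_left _ _) _ _ (Polynomial.C Qx⁻¹) hb,
    homog_eq _ Q N (le_max_right _ _) _ _ (Polynomial.C Qx⁻¹) hb] at pid'
  have hℓ : (Polynomial.C RatFunc.X * Polynomial.C Qx + Polynomial.X * Polynomial.C Px) *
      Polynomial.C Qx⁻¹ = Polynomial.C F * Polynomial.X + Polynomial.C RatFunc.X := by
    rw [← hFdiv, div_eq_mul_inv, Polynomial.C_mul]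
    linear_combination (Polynomial.C (RatFunc.X : RatFunc k)) * hb
  rw [hℓ] at pid'
  have hcompP : Polynomial.eval₂ (Polynomial.C.comp alg)
      (Polynomial.C F * Polynomial.X + Polynomial.C RatFunc.X) P =
      (P.map alg).comp (Polynomial.C F * Polynomial.X + Polynomial.C RatFunc.X) := by
    rw [Polynomial.comp, Polynomial.eval₂_map]
  have hcompQ : Polynomial.eval₂ (Polynomial.C.comp alg)
      (Polynomial.C F * Polynomial.X + Polynomial.C RatFunc.X) Q =
      (Q.map alg).comp (Polynomial.C F * Polynomial.X + Polynomial.C RatFunc.X) := by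
    rw [Polynomial.comp, Polynomial.eval₂_map]
  rw [hcompP, hcompQ] at pid'
  have hCN : (Polynomial.C Qx) ^ N ≠ 0 := pow_ne_zero _ (by
    rw [Ne, Polynomial.C_eq_zero]; exact hQx0)
  have key : ((P.map alg).comp (Polynomial.C F * Polynomial.X + Polynomial.C RatFunc.X)) *
      (Polynomial.C Qx * Q.map alg) = (Polynomial.C Px * P.map alg) *
      ((Q.map alg).comp (Polynomial.C F * Polynomial.X + Polynomial.C RatFunc.X)) := by
    apply mul_left_cancel₀ hCN
    linear_combination pid'
  have hcop : IsCoprime P Q := RatFunc.isCoprime_num_denom F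
  have hevP : Px = P.eval₂ alg RatFunc.X := by
    rw [hPx, ← RatFunc.aeval_X_left_eq_algebraMap, Polynomial.aeval_def]
  have hevQ : Qx = Q.eval₂ alg RatFunc.X := by
    rw [hQx, ← RatFunc.aeval_X_left_eq_algebraMap, Polynomial.aeval_def]
  have r1 := core_step alg P Q hcop hPne RatFunc.X F hF0 Px Qx hQx0 hevP key
  have r2 := core_step alg Q P hcop.symm hQne RatFunc.X F hF0 Qx Px hPx0 hevQ (by
    linear_combination -key)
  exact conclude F h0 h1 (by rw [← hPx, r1, halg, RatFunc.algebraMap_eq_C])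
    (by rw [← hQx, r2, halg, RatFunc.algebraMap_eq_C])

end Main

end Groth.Agent.H42
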