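import Mathlib
import Groth.Agent.H42.GUStruct
import Groth.Agent.H42.GUTwConst
import Groth.Agent.H42.PurInsepPt
import Groth.Agent.H7.PropA
import Groth.Agent.H20.RadicialFibre

/-!
# Sections of étale separated schemes over a geometrically unibranch base (helper42)

`exists_section`: let `S` be irreducible with generic point `η` and geometrically unibranch local
rings, and `h : Y ⟶ S` étale, separated and satisfying the existence part of the valuative criterion
(no quasi-compactness).  Then every `κ(η)`-point of the generic fibre of `h` extends to a section of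
`h`.  (The closure of the image point is open and closed, maps homeomorphically onto `S`, hence is
finite étale of rank one over `S`.)
-/

set_option autoImplicit false
universe u
open CategoryTheory Limits AlgebraicGeometry TopologicalSpace

namespace Groth.Agent.H42.GUSection

theorem exists_section {S Y : Scheme.{u}} [IrreducibleSpace S]
    (hS : ∀ s : S, CAlg2.IsGeomUnibranch (S.presheaf.stalk s))
    (h : Y ⟶ S) [Etale h] [IsSeparated h] (hex : ValuativeCriterion.Existence h)
    (τ : Spec (S.residueField (genericPoint S)) ⟶ Y)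
    (hτ : τ ≫ h = S.fromSpecResidueField (genericPoint S)) :
    ∃ σ : S ⟶ Y, σ ≫ h = 𝟙 S ∧ S.fromSpecResidueField (genericPoint S) ≫ σ = τ := by
  have hLQF : LocallyQuasiFinite h := FpqcTwConst.locallyQuasiFinite_of_etale _
  let pt : Spec (S.residueField (genericPoint S)) := default
  let l : Y := τ pt
  have hl : h l = genericPoint S := by
    change h (τ pt) = _
    rw [← Scheme.Hom.comp_apply, hτ, Scheme.fromSpecResidueField_apply]
  let U : Y.Opens := ⟨closure ({l} : Set Y), GUStruct.isOpen_closure_generic h hS hl⟩
  have hU : (U : Set Y) = closure ({l} : Set Y) := rfl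
  have hcl : IsClosedImmersion U.ι :=
    IsClosedImmersion.of_isPreimmersion _ (by rw [Scheme.Opens.range_ι]; exact isClosed_closure)
  let p : (U : Scheme.{u}) ⟶ S := U.ι ≫ h
  have hrange : Set.range τ ⊆ Set.range U.ι := by
    rintro _ ⟨q, rfl⟩
    rw [Scheme.Opens.range_ι, hU, Subsingleton.elim q pt]
    exact subset_closure rfl
  let τ' : Spec (S.residueField (genericPoint S)) ⟶ (U : Scheme.{u}) :=
    IsOpenImmersion.lift U.ι τ hrange
  have hτ' : τ' ≫ U.ι = τ := IsOpenImmersion.lift_fac _ _ _
  have hτp : τ' ≫ p = S.fromSpecResidueField (genericPoint S) := by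
    rw [← hτ, ← hτ', Category.assoc]
  let t₀ : ↥((U : Y.Opens) : Scheme.{u}) := τ' pt
  have ht₀ : U.ι t₀ = l := by
    change U.ι (τ' pt) = τ pt
    rw [← Scheme.Hom.comp_apply, hτ']
  have hpt₀ : p t₀ = genericPoint S := by
    change h (U.ι t₀) = _
    rw [ht₀, hl]
  have huniq : ∀ t : ↥((U : Y.Opens) : Scheme.{u}), p t = p t₀ → t = t₀ := by
    intro t ht
    apply U.ι.isOpenEmbedding.injective
    rw [ht₀]
    have htU : U.ι t ∈ closure ({l} : Set Y) := by rw [← hU]; exact t.2
    exact GUTwConst.fibre_closure_generic h hl (ht.trans hpt₀) htU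
  have hpi : (p.residueFieldMap t₀).hom.IsPurelyInseparable := by
    have hsos : SurjectiveOnStalks (τ' ≫ p) := by rw [hτp]; infer_instance
    have hbij := Groth.Agent.H20.RadicialFibre.bijective_residueFieldMap (τ' ≫ p) pt
    rw [Scheme.residueFieldMap_comp] at hbij
    have hpi : ((τ'.residueFieldMap pt).hom.comp
        (p.residueFieldMap (τ' pt)).hom).IsPurelyInseparable :=
      Groth.Agent.H20.RadicialFibre.pi_of_bijective _ hbij
    exact Groth.Agent.H20.RadicialFibre.pi_of_comp_bot hpi
  have hsep : Groth.Agent.H7.sepDeg p t₀ = 1 :=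
    Groth.Agent.H7.sepDeg_eq_one_of_isPurelyInseparable _ _ hpi
  -- `U` is irreducible with generic point `t₀`
  have hirr : IrreducibleSpace ↥((U : Y.Opens) : Scheme.{u}) :=
    Subtype.irreducibleSpace (isIrreducible_singleton (x := l)).closure
  have hgen : ∀ u : ↥((U : Y.Opens) : Scheme.{u}), t₀ ⤳ u := by
    intro u
    have h1 : U.ι t₀ ⤳ U.ι u := by
      rw [ht₀, specializes_iff_mem_closure]
      exact u.2
    exact (U.ι.isEmbedding.isInducing.specializes_iff).mp h1
  have hgen' : genericPoint ↥((U : Y.Opens) : Scheme.{u}) = t₀ :=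
    ((genericPoint_specializes t₀).antisymm (hgen _)).eq
  -- `p` is injective
  have hdiagc : IsClosed (Set.range (pullback.diagonal p)) :=
    (pullback.diagonal p).isClosedEmbedding.isClosed_range
  have hinj : Function.Injective p := by
    intro u₁ u₂ h12
    obtain ⟨z, hz1, hz2⟩ := Scheme.Pullback.exists_preimage_pullback (f := p) (g := p) u₁ u₂ h12
    obtain ⟨z', hz'1, hz'2⟩ := GUStruct.exists_generic (pullback.fst p p) z
    rw [hgen'] at hz'1
    have hsnd : pullback.snd p p z' = t₀ := by
      apply huniq
      rw [← Scheme.Hom.comp_apply, ← pullback.condition, Scheme.Hom.comp_apply, hz'1]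
    have hd1 : pullback.fst p p (pullback.diagonal p t₀) = t₀ := by
      rw [← Scheme.Hom.comp_apply, pullback.diagonal_fst]; rfl
    have hd2 : pullback.snd p p (pullback.diagonal p t₀) = t₀ := by
      rw [← Scheme.Hom.comp_apply, pullback.diagonal_snd]; rfl
    have hdiag : z' = pullback.diagonal p t₀ := by
      refine PurInsepPt.eq_of_fst_eq_of_snd_eq p p z' _ (hz'1.trans hd1.symm)
        (hsnd.trans hd2.symm) ?_
      rw [hd2]; exact hpi
    have hzr : z ∈ Set.range (pullback.diagonal p) := by
      refine closure_minimal ?_ hdiagc hz'2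
      rw [Set.singleton_subset_iff, hdiag]
      exact ⟨t₀, rfl⟩
    obtain ⟨u, rfl⟩ := hzr
    rw [← hz1, ← hz2, ← Scheme.Hom.comp_apply, ← Scheme.Hom.comp_apply, pullback.diagonal_fst,
      pullback.diagonal_snd]
  -- `p` is surjective
  have hz : ValuativeCriterion.Existence U.ι := by
    have : UniversallyClosed U.ι := inferInstance
    rw [UniversallyClosed.eq_valuativeCriterion] at this
    exact this.1
  have hexp : ValuativeCriterion.Existence p := FpqcTwConst.existence_comp U.ι h hz hex
  have hspec : SpecializingMap p := ValuativeCriterion.Existence.specializingMap p hexp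
  have hsurj : Function.Surjective p := by
    intro s
    have hs : p t₀ ⤳ s := by rw [hpt₀]; exact genericPoint_specializes s
    obtain ⟨a, -, ha⟩ := hspec hs
    exact ⟨a, ha⟩
  -- hence a homeomorphism, and quasi-compact
  have hqc : QuasiCompact p := by
    let e : ↥((U : Y.Opens) : Scheme.{u}) ≃ₜ S :=
      (Equiv.ofBijective p ⟨hinj, hsurj⟩).toHomeomorphOfContinuousOpen p.continuous p.isOpenMap
    refine ⟨fun K _ hKc => ?_⟩
    have : p ⁻¹' K = e.symm '' K := by
      ext u
      constructor
      · intro hu
        exact ⟨p u, hu, e.symm_apply_apply u⟩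
      · rintro ⟨k, hk, rfl⟩
        change e (e.symm k) ∈ K
        rwa [e.apply_symm_apply]
    rw [this]
    exact hKc.image e.symm.continuous
  have : UniversallyClosed p := UniversallyClosed.of_valuativeCriterion _ hexp
  have : IsProper p := { }
  have hfin : IsFinite p := IsFinite.of_isProper_of_locallyQuasiFinite _
  have hrank := Groth.Agent.H7.finrank_eq_one_of_unique_of_sepDeg p t₀ huniq hsep
  have hlc : IsLocallyConstant p.finrank := Scheme.Hom.isLocallyConstant_finrank p
  have hiso : IsIso p := by
    rw [Scheme.Hom.isIso_iff_finrank_eq p]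
    ext z
    rw [hlc.apply_eq_of_preconnectedSpace z (p t₀), hrank]
    rfl
  refine ⟨inv p ≫ U.ι, ?_, ?_⟩
  · rw [Category.assoc]
    exact IsIso.inv_hom_id p
  · rw [← hτp, Category.assoc, IsIso.hom_inv_id_assoc, hτ']

end Groth.Agent.H42.GUSection
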