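import Groth.Agent.H42.GaGm

set_option autoImplicit false
universe u

open CategoryTheory MonoidalCategory CartesianMonoidalCategory MonObj GrpObj AlgebraicGeometry
open CategoryTheory.Limits
open scoped TensorProduct

namespace Groth.Agent.H42

section PbEquiv

variable {A : Type u} [CommRing A] {Y : Scheme.{u}}

theorem pb_injective : Function.Injective (pb (A := A) (Y := Y)) := by
  intro f g h
  apply ext_to_Spec
  apply CommRingCat.hom_ext
  exact h

theorem pb_toSpecΓ (b : Γ(Y, ⊤)) : pb (A := Γ(Y, ⊤)) Y.toSpecΓ b = b := by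
  rw [pb_apply, Scheme.toSpecΓ_appTop]
  exact Iso.inv_hom_id_apply (C := CommRingCat) _ _

theorem pb_surjective : Function.Surjective (pb (A := A) (Y := Y)) := by
  intro φ
  refine ⟨Y.toSpecΓ ≫ Spec.map (CommRingCat.ofHom φ), ?_⟩
  ext a
  rw [pb_comp_specMap]
  exact pb_toSpecΓ _

end PbEquiv

section OverZ

variable {A : Type u} [CommRing A] [Bialgebra (ULift.{u} ℤ) A]
  {Y : Over (Spec (CommRingCat.of (ULift.{u} ℤ)))}

theorem ptL_surjective :
    Function.Surjective (ptL (R := ULift.{u} ℤ) (A := A) (Y := Y)) := by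
  intro g
  exact ⟨Over.homMk g (specULiftZIsTerminal.hom_ext _ _), rfl⟩

theorem ringHom_ext_uliftInt {T : Type u} [Ring T] (φ ψ : ULift.{u} ℤ →+* T) : φ = ψ := by
  have h : φ.comp (ULift.ringEquiv.symm : ℤ ≃+* ULift.{u} ℤ).toRingHom =
      ψ.comp (ULift.ringEquiv.symm : ℤ ≃+* ULift.{u} ℤ).toRingHom := RingHom.ext_int _ _
  ext x
  exact RingHom.congr_fun h x.down

end OverZ

section Ga

abbrev RZ : Type u := ULift.{u} ℤ
abbrev AGa : Type u := SymmetricAlgebra (ULift.{u} ℤ) (ULift.{u} ℤ)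

/-- The coordinate of `𝔾_a`. -/
noncomputable def gaX : AGa.{u} := SymmetricAlgebra.ι (ULift.{u} ℤ) (ULift.{u} ℤ) (ULift.up 1)

theorem ringHom_ext_AGa {T : Type u} [CommRing T] (φ ψ : AGa.{u} →+* T)
    (h : φ gaX = ψ gaX) : φ = ψ := by
  have h0 : φ.comp (algebraMap RZ.{u} AGa.{u}) = ψ.comp (algebraMap RZ.{u} AGa.{u}) :=
    ringHom_ext_uliftInt _ _
  ext a
  refine SymmetricAlgebra.induction RZ.{u} RZ.{u} (motive := fun a => φ a = ψ a) ?_ ?_ ?_ ?_ a
  · intro r
    exact congrArg (fun t => t r) h0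
  · intro x
    have : SymmetricAlgebra.ι RZ.{u} RZ.{u} x = algebraMap RZ.{u} AGa.{u} x * gaX := by
      rw [gaX, ← Algebra.smul_def, ← map_smul]
      congr 1
      ext
      simp
    rw [this, map_mul, map_mul, h]
    congr 1
    exact congrArg (fun t => t x) h0
  · intro a b ha hb
    rw [map_mul, map_mul, ha, hb]
  · intro a b ha hb
    rw [map_add, map_add, ha, hb]

theorem exists_ringHom_AGa {T : Type u} [CommRing T] (t : T) :
    ∃ φ : AGa.{u} →+* T, φ gaX = t := by
  let _ : Algebra RZ.{u} T :=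
    ((Int.castRingHom T).comp (ULift.ringEquiv : ULift.{u} ℤ ≃+* ℤ).toRingHom).toAlgebra
  refine ⟨(SymmetricAlgebra.lift
    (@LinearMap.toSpanSingleton RZ.{u} T _ _ Algebra.toModule t)).toRingHom, ?_⟩
  show SymmetricAlgebra.lift (@LinearMap.toSpanSingleton RZ.{u} T _ _ Algebra.toModule t)
    (SymmetricAlgebra.ι _ _ _) = t
  rw [SymmetricAlgebra.lift_ι_apply]
  show algebraMap RZ.{u} T (ULift.up 1) * t = t
  rw [RingHom.algebraMap_toAlgebra]
  have : (ULift.ringEquiv : ULift.{u} ℤ ≃+* ℤ) (ULift.up 1) = 1 := rfl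
  simp [this]

end Ga

end Groth.Agent.H42
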