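import Groth.Agent.H42.GaGm4
import Groth.Agent.H42.LineLaw
import Mathlib.RingTheory.Polynomial.Nilpotent
import Mathlib.AlgebraicGeometry.Properties

/-!
# Homomorphisms `𝔾_a → 𝔾_m` over a reduced base are trivial
-/

set_option autoImplicit false
universe u

open CategoryTheory MonoidalCategory CartesianMonoidalCategory MonObj GrpObj AlgebraicGeometry
open CategoryTheory.Limits Polynomial

namespace Groth.Agent.H42.GaGmRed

open Groth.Agent.H42.LineLaw (pb_specMap pb_id)

variable {S : Scheme.{u}} {R : Type u} [CommRing R] (j : Spec (CommRingCat.of R) ⟶ S)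

/-- The affine line over `Spec R`, as an `S`-scheme. -/
noncomputable abbrev TT : Over S :=
  Over.mk (Spec.map (CommRingCat.ofHom (C : R →+* R[X])) ≫ j)

/-- The universal point of `𝔾_a` over the affine line over `Spec R`. -/
noncomputable def xT : TT j ⟶ Red.Ga S :=
  (gaFn_surjective (S := S) (X := TT j)
    ((Scheme.ΓSpecIso (CommRingCat.of R[X])).inv (X : R[X]))).choose

theorem gaFn_xT : Red.gaFn (xT j) = (Scheme.ΓSpecIso (CommRingCat.of R[X])).inv (X : R[X]) :=
  (gaFn_surjective (S := S) (X := TT j)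
    ((Scheme.ΓSpecIso (CommRingCat.of R[X])).inv (X : R[X]))).choose_spec

/-- Every point of `𝔾_a` with values in a scheme over `Spec R` factors through the universal one. -/
theorem exists_factor {Y : Over S} (y : Y ⟶ Red.Ga S) (q : Y.left ⟶ Spec (CommRingCat.of R))
    (hq : q ≫ j = Y.hom) : ∃ h : Y ⟶ TT j, h ≫ xT j = y := by
  set ψ : R[X] →+* Γ(Y.left, ⊤) := Polynomial.eval₂RingHom (pb q) (Red.gaFn y) with hψ
  obtain ⟨g, hg⟩ := pb_surjective (A := R[X]) (Y := Y.left) ψ
  have hgq : g ≫ Spec.map (CommRingCat.ofHom (C : R →+* R[X])) = q := by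
    apply pb_injective
    ext r
    rw [pb_comp_specMap, hg]
    simp [hψ]
  have hw : g ≫ (TT j).hom = Y.hom := by
    show g ≫ Spec.map (CommRingCat.ofHom (C : R →+* R[X])) ≫ j = Y.hom
    rw [← Category.assoc, hgq, hq]
  refine ⟨Over.homMk g hw, ?_⟩
  apply gaFn_injective
  rw [gaFn_comp, gaFn_xT]
  show pb g (X : R[X]) = _
  rw [hg]
  simp [hψ]


/-- The zero section of the affine line over `Spec R`. -/
noncomputable def zeroSec : Over.mk j ⟶ TT j :=
  Over.homMk (Spec.map (CommRingCat.ofHom (Polynomial.evalRingHom (0 : R)))) (by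
    show Spec.map (CommRingCat.ofHom (Polynomial.evalRingHom (0 : R))) ≫
      Spec.map (CommRingCat.ofHom (C : R →+* R[X])) ≫ j = j
    rw [← Category.assoc, ← Spec.map_comp, ← CommRingCat.ofHom_comp]
    have : (Polynomial.evalRingHom (0 : R)).comp (C : R →+* R[X]) = RingHom.id R := by
      ext r; simp
    rw [this]
    simp)

theorem zeroSec_xT : zeroSec j ≫ xT j = 1 := by
  apply gaFn_injective
  rw [gaFn_comp, gaFn_xT, gaFn_one]
  show (Spec.map (CommRingCat.ofHom (Polynomial.evalRingHom (0 : R)))).appTop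
    ((Scheme.ΓSpecIso (CommRingCat.of R[X])).inv (X : R[X])) = 0
  rw [← pb_apply, pb_specMap]
  simp

theorem unit_poly_eq_C [IsReduced R] (P : R[X]) (hP : IsUnit P) : P = C (P.coeff 0) := by
  have h := (Polynomial.isUnit_iff_coeff_isUnit_isNilpotent.mp hP).2
  ext n
  rcases Nat.eq_zero_or_pos n with rfl | hn
  · simp
  · rw [coeff_C, if_neg hn.ne']
    exact (h n hn.ne').eq_zero

theorem xT_comp_eq_one [IsReduced R] (φ : Red.Ga S ⟶ Red.Gm S) [IsMonHom φ] :
    xT j ≫ φ = 1 := by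
  apply gmFn_injective
  rw [gmFn_one]
  set w := Red.gmFn (xT j ≫ φ) with hw
  have hwu : IsUnit w := gmFn_isUnit _
  set P : R[X] := (Scheme.ΓSpecIso (CommRingCat.of R[X])).hom w with hP
  have hPu : IsUnit P := hwu.map (Scheme.ΓSpecIso (CommRingCat.of R[X])).hom.hom
  have hwP : w = (Scheme.ΓSpecIso (CommRingCat.of R[X])).inv P := by
    rw [hP]
    exact (Iso.hom_inv_id_apply (C := CommRingCat) _ _).symm
  -- evaluate at the zero section
  have h1 : Red.gmFn (zeroSec j ≫ xT j ≫ φ) = 1 := by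
    have h0 : (1 : Over.mk j ⟶ Red.Ga S) ≫ φ = 1 := MonObj.one_comp φ
    rw [← Category.assoc, zeroSec_xT, h0, gmFn_one]
  rw [gmFn_comp, ← hw, hwP] at h1
  have h2 : (Scheme.ΓSpecIso (CommRingCat.of R)).inv (P.eval 0) = 1 := by
    rw [← h1]
    show _ = (Spec.map (CommRingCat.ofHom (Polynomial.evalRingHom (0 : R)))).appTop
      ((Scheme.ΓSpecIso (CommRingCat.of R[X])).inv P)
    rw [← pb_apply, pb_specMap]
    rfl
  have h3 : P.eval 0 = 1 := by
    have := congrArg (Scheme.ΓSpecIso (CommRingCat.of R)).hom h2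
    rw [Iso.inv_hom_id_apply (C := CommRingCat), map_one] at this
    exact this
  have h4 : P = 1 := by
    rw [← Polynomial.coeff_zero_eq_eval_zero] at h3
    rw [unit_poly_eq_C P hPu, h3, map_one]
  rw [hwP, h4, map_one]


theorem hom_eq_one (S : Scheme.{u}) [IsReduced S] (φ : Red.Ga S ⟶ Red.Gm S) [IsMonHom φ] :
    φ = 1 := by
  apply gmFn_injective
  rw [gmFn_one]
  let 𝒜 := S.affineOpenCover
  let 𝒰 : (Red.Ga S).left.OpenCover := 𝒜.openCover.pullback₁ (Red.Ga S).hom
  apply Scheme.OpenCover.ext_elem _ _ 𝒰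
  intro i
  let Yi : Over S := Over.mk (𝒰.f i ≫ (Red.Ga S).hom)
  let xi : Yi ⟶ Red.Ga S := Over.homMk (𝒰.f i)
  have h1 : (𝒰.f i).app ⊤ (Red.gmFn φ) = Red.gmFn (xi ≫ φ) := (gmFn_comp xi φ).symm
  rw [h1, map_one]
  -- the ring
  let j : Spec (CommRingCat.of (𝒜.X i)) ⟶ S := 𝒜.f i
  have hred : _root_.IsReduced (𝒜.X i) := by
    rw [← affine_isReduced_iff]
    have : IsOpenImmersion (𝒜.f i) := 𝒜.map_prop i
    exact isReduced_of_isOpenImmersion (𝒜.f i)
  let q : Yi.left ⟶ Spec (CommRingCat.of (𝒜.X i)) := 𝒜.openCover.pullbackHom (Red.Ga S).hom i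
  have hq : q ≫ j = Yi.hom := 𝒜.openCover.pullbackHom_map (Red.Ga S).hom i
  obtain ⟨h, hh⟩ := exists_factor j xi q hq
  rw [← hh, Category.assoc, xT_comp_eq_one j φ, MonObj.comp_one, gmFn_one]
  rfl

end Groth.Agent.H42.GaGmRed
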