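import Groth.Agent.H42.FinSub
import Groth.Agent.H47.SmoothReduced
import Mathlib.AlgebraicGeometry.EffectiveEpi
import Mathlib.CategoryTheory.Monoidal.Cartesian.GrpLimits

/-!
# Quotients of `𝔾_a` by finite subgroup schemes

Kernels of homomorphisms of group schemes (via limits in `Grp (Over S)`), descent of homomorphisms
along faithfully flat homomorphisms of affine group schemes (`exists_desc`, `isMonHom_of_comp`,
`mono_of_isKernel_comp`), and: a smooth affine group receiving a finite surjective homomorphism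
from `𝔾_a` over a field is isomorphic to `𝔾_a` (`ga_quot`).
-/

set_option autoImplicit false
set_option linter.unusedSectionVars false
universe u
open CategoryTheory MonoidalCategory CartesianMonoidalCategory MonObj GrpObj AlgebraicGeometry
open CategoryTheory.Limits

namespace Groth.Agent.H42.GaQuot

variable {S : Scheme.{u}}



theorem exists_kernel {G H : Over S} [GrpObj G] [GrpObj H] (f : G ⟶ H) [IsMonHom f] :
    ∃ (N : Over S) (_ : GrpObj N) (i : N ⟶ G), IsMonHom i ∧ AlgGrp.IsKernel i f := by
  let F : Grp.mk G ⟶ Grp.mk H := Grp.ofHom f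
  let E : Grp.trivial (Over S) ⟶ Grp.mk H := default
  have hp := IsPullback.of_hasPullback F E
  have hq := hp.map (Grp.forget (Over S))
  refine ⟨(pullback F E).X, (pullback F E).grp, (pullback.fst F E).hom.hom, inferInstance, ?_⟩
  have e1 : (Grp.forget (Over S)).map (pullback.snd F E) = toUnit _ := toUnit_unique _ _
  have e2 : (Grp.forget (Over S)).map E = η[H] := rfl
  rw [e1, e2] at hq
  exact hq




section Ker

variable {N G Q : Over S} [GrpObj Q] {i : N ⟶ G} {q : G ⟶ Q}

theorem comp_eq_one (h : AlgGrp.IsKernel i q) : i ≫ q = 1 := by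
  rw [h.w, Hom.one_def]

theorem exists_lift (h : AlgGrp.IsKernel i q) {T : Over S} (y : T ⟶ G) (hy : y ≫ q = 1) :
    ∃ z : T ⟶ N, z ≫ i = y := by
  rw [Hom.one_def] at hy
  exact ⟨h.lift y (toUnit T) hy, h.lift_fst _ _ _⟩

theorem mono_of_isKernel (h : AlgGrp.IsKernel i q) : Mono i :=
  ⟨fun _ _ hab => h.hom_ext hab (toUnit_unique _ _)⟩

theorem isFinite_of_isKernel (h : AlgGrp.IsKernel i q) [IsFinite q.left] : IsFinite N.hom := by
  have h1 := h.map (Over.forget S)
  have h2 : IsFinite (toUnit N).left :=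
    MorphismProperty.of_isPullback (P := @IsFinite) h1 (show IsFinite q.left from inferInstance)
  have h3 : (toUnit N).left = N.hom := by
    have := Over.w (toUnit N)
    rw [← this]
    exact (Category.comp_id _).symm
  rwa [h3] at h2

end Ker






section Cover

variable {G G' : Over S} (φ : G ⟶ G') [Flat φ.left] [Surjective φ.left]

/-- Points of the target of a flat surjective morphism lift after passing to a cover. -/
theorem exists_cover_lift {T : Over S} (a : T ⟶ G') :
    ∃ (T' : Over S) (p : T' ⟶ T) (a' : T' ⟶ G), Epi p ∧ p ≫ a = a' ≫ φ := by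
  refine ⟨Over.mk (pullback.fst a.left φ.left ≫ T.hom), Over.homMk (pullback.fst a.left φ.left) rfl,
    Over.homMk (pullback.snd a.left φ.left) ?_, ?_, ?_⟩
  · show pullback.snd a.left φ.left ≫ G.hom = pullback.fst a.left φ.left ≫ T.hom
    rw [← Over.w φ, ← Over.w a, ← Category.assoc, ← pullback.condition, Category.assoc]
  · have : Epi (pullback.fst a.left φ.left) := Flat.epi_of_flat_of_surjective _
    exact (Over.forget S).epi_of_epi_map this
  · ext
    exact pullback.condition

end Cover

section Desc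

variable {G G' H N : Over S} [GrpObj G] [GrpObj G'] [GrpObj H]
  (φ : G ⟶ G') [IsMonHom φ] [Flat φ.left] [Surjective φ.left]

/-- A homomorphism killing the kernel of a faithfully flat homomorphism of affine group schemes
factors through it. -/
theorem exists_desc [IsAffine G.left] [IsAffine G'.left] (i : N ⟶ G) (hk : AlgGrp.IsKernel i φ)
    (f : G ⟶ H) [IsMonHom f] (hf : i ≫ f = 1) : ∃ g : G' ⟶ H, φ ≫ g = f := by
  let T : Over S := Over.mk (pullback.fst φ.left φ.left ≫ G.hom)
  let x : T ⟶ G := Over.homMk (pullback.fst φ.left φ.left) rfl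
  let y : T ⟶ G := Over.homMk (pullback.snd φ.left φ.left) (by
    show pullback.snd φ.left φ.left ≫ G.hom = pullback.fst φ.left φ.left ≫ G.hom
    rw [← Over.w φ, ← Category.assoc, ← pullback.condition, Category.assoc])
  have hxy : x ≫ φ = y ≫ φ := by
    ext
    exact pullback.condition
  have h1 : (x / y) ≫ φ = 1 := by
    rw [GrpObj.div_comp, hxy, div_self']
  obtain ⟨z, hz⟩ := exists_lift hk (x / y) h1
  have h2 : (x / y) ≫ f = 1 := by
    rw [← hz, Category.assoc, hf, MonObj.comp_one]
  rw [GrpObj.div_comp, div_eq_one] at h2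
  have h3 : pullback.fst φ.left φ.left ≫ f.left = pullback.snd φ.left φ.left ≫ f.left :=
    congrArg (fun m => m.left) h2
  have hreg := AlgebraicGeometry.isRegularEpi_of_flat_of_surjective_of_isAffine φ.left
  obtain ⟨u, hu⟩ := IsRegularEpi.exists_of_isKernelPair φ.left
    (IsPullback.of_hasPullback φ.left φ.left) f.left h3
  have hepi : Epi φ.left := Flat.epi_of_flat_of_surjective _
  refine ⟨Over.homMk u ?_, ?_⟩
  · rw [← cancel_epi φ.left, ← Category.assoc, hu, Over.w f, Over.w φ]
  · ext
    exact hu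

/-- If `φ ≫ g` is a homomorphism and `φ` is a faithfully flat homomorphism, `g` is a
homomorphism. -/
theorem isMonHom_of_comp (g : G' ⟶ H) [IsMonHom (φ ≫ g)] : IsMonHom g := by
  apply WittGrp.isMonHom_of_comp_mul
  · have h := MonObj.one_comp (X := 𝟙_ (Over S)) (φ ≫ g)
    rw [← Category.assoc, MonObj.one_comp] at h
    exact h
  · intro T a b
    obtain ⟨T₁, p₁, a₁, hp₁, ha₁⟩ := exists_cover_lift φ a
    obtain ⟨T₂, p₂, b₂, hp₂, hb₂⟩ := exists_cover_lift φ (p₁ ≫ b)
    have hp : Epi (p₂ ≫ p₁) := epi_comp _ _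
    rw [← cancel_epi (p₂ ≫ p₁)]
    have ea : (p₂ ≫ p₁) ≫ a = (p₂ ≫ a₁) ≫ φ := by
      rw [Category.assoc, ha₁, Category.assoc]
    have eb : (p₂ ≫ p₁) ≫ b = b₂ ≫ φ := by
      rw [Category.assoc, hb₂]
    have e1 := MonObj.mul_comp (p₂ ≫ a₁) b₂ φ
    have e2 := MonObj.mul_comp (p₂ ≫ a₁) b₂ (φ ≫ g)
    rw [← Category.assoc, MonObj.comp_mul, ea, eb, ← e1, Category.assoc, e2, MonObj.comp_mul,
      ← Category.assoc (p₂ ≫ p₁) a g, ← Category.assoc (p₂ ≫ p₁) b g, ea, eb]
    simp only [Category.assoc]

/-- If `φ` and `φ ≫ g` have the same kernel and `φ` is faithfully flat, `g` is a monomorphism. -/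
theorem mono_of_isKernel_comp (g : G' ⟶ H) [IsMonHom g] (i : N ⟶ G)
    (hk : AlgGrp.IsKernel i φ) (hk' : AlgGrp.IsKernel i (φ ≫ g)) : Mono g := by
  refine ⟨fun {T} a b hab => ?_⟩
  have h1 : (a / b) ≫ g = 1 := by
    rw [GrpObj.div_comp, hab, div_self']
  obtain ⟨T', p, z', hp, hz'⟩ := exists_cover_lift φ (a / b)
  have h2 : z' ≫ (φ ≫ g) = 1 := by
    rw [← Category.assoc, ← hz', Category.assoc, h1, MonObj.comp_one]
  obtain ⟨n, hn⟩ := exists_lift hk' z' h2
  have h3 : p ≫ (a / b) = p ≫ 1 := by
    rw [hz', ← hn, Category.assoc, comp_eq_one hk, MonObj.comp_one, MonObj.comp_one]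
  have h4 := (cancel_epi p).mp h3
  exact div_eq_one.mp h4

end Desc



instance finiteType_symm : Algebra.FiniteType (ULift.{u} ℤ) (SymmetricAlgebra (ULift.{u} ℤ) (ULift.{u} ℤ)) :=
  Algebra.FiniteType.equiv inferInstance
    (SymmetricAlgebra.equivMvPolynomial (Module.Basis.singleton Unit (ULift.{u} ℤ))).symm

instance locallyOfFiniteType_GaZ : LocallyOfFiniteType Red.GaZ.{u}.hom := by
  show LocallyOfFiniteType (Spec.map _)
  rw [HasRingHomProperty.Spec_iff (P := @LocallyOfFiniteType)]
  exact (RingHom.finiteType_algebraMap (A := ULift.{u} ℤ)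
    (B := SymmetricAlgebra (ULift.{u} ℤ) (ULift.{u} ℤ))).mpr inferInstance

instance locallyOfFiniteType_Ga (S : Scheme.{u}) : LocallyOfFiniteType (Red.Ga S).hom := by
  show LocallyOfFiniteType (pullback.snd Red.GaZ.hom _)
  infer_instance

theorem isReduced_of_smooth_field (k : Type u) [Field k] (H : Over (Spec (CommRingCat.of k)))
    [IsAffine H.left] [Smooth H.hom] : IsReduced H.left := by
  have h1 := H.hom.smooth_appLE (isAffineOpen_top (Spec (CommRingCat.of k))) (isAffineOpen_top H.left) le_top
  let _ := (H.hom.appLE ⊤ ⊤ le_top).hom.toAlgebra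
  have h2 : Algebra.Smooth Γ(Spec (CommRingCat.of k), ⊤) Γ(H.left, ⊤) := h1
  have h3 : _root_.IsReduced Γ(Spec (CommRingCat.of k), ⊤) :=
    isReduced_of_injective (S := k) (Scheme.ΓSpecIso (CommRingCat.of k)).hom.hom
      (ConcreteCategory.bijective_of_isIso (Scheme.ΓSpecIso (CommRingCat.of k)).hom).1
  have h4 : _root_.IsReduced Γ(H.left, ⊤) :=
    Groth.Agent.H47.isReduced_of_smooth Γ(Spec (CommRingCat.of k), ⊤) Γ(H.left, ⊤)
  exact isReduced_of_isAffine_isReduced _


section Final

variable (k : Type u) [Field k]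

/-- A smooth affine `k`-group receiving a finite surjective homomorphism from `𝔾_a` is isomorphic
to `𝔾_a`. -/
theorem ga_quot (H : Over (Spec (CommRingCat.of k))) [GrpObj H] [IsAffine H.left] [Smooth H.hom]
    (f : Red.Ga (Spec (CommRingCat.of k)) ⟶ H) [IsMonHom f] [IsFinite f.left]
    [Surjective f.left] :
    Nonempty (Grp.mk H ≅ Grp.mk (Red.Ga (Spec (CommRingCat.of k)))) := by
  obtain ⟨N, hN, i, hi, hk⟩ := exists_kernel f
  have hmono : Mono i := mono_of_isKernel hk
  have hfin : IsFinite N.hom := isFinite_of_isKernel hk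
  obtain ⟨φ, hφ, hkφ, hflat, hsurj⟩ := Groth.Agent.H42.FinSub.ga_main i
  obtain ⟨g, hg⟩ := exists_desc φ i hkφ f (comp_eq_one hk)
  have hφg : IsMonHom (φ ≫ g) := hg ▸ inferInstance
  have hgm : IsMonHom g := isMonHom_of_comp φ g
  have hgmono : Mono g := mono_of_isKernel_comp φ g i hkφ (hg ▸ hk)
  have hcomp : φ.left ≫ g.left = f.left := by rw [← Over.comp_left, hg]
  have huc : UniversallyClosed g.left := by
    have : UniversallyClosed (φ.left ≫ g.left) := by rw [hcomp]; infer_instance
    exact UniversallyClosed.of_comp_surjective φ.left g.left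
  have hint : IsIntegralHom g.left :=
    IsIntegralHom.iff_universallyClosed_and_isAffineHom.mpr ⟨huc, inferInstance⟩
  have hlft : LocallyOfFiniteType g.left := by
    have : LocallyOfFiniteType (g.left ≫ H.hom) := by rw [Over.w g]; infer_instance
    exact locallyOfFiniteType_of_comp g.left H.hom
  have hgfin : IsFinite g.left :=
    (IsFinite.iff_isIntegralHom_and_locallyOfFiniteType _).mpr ⟨hint, hlft⟩
  have hgl : Mono g.left := inferInstance
  have hci : IsClosedImmersion g.left :=
    (IsClosedImmersion.iff_isFinite_and_mono _).mpr ⟨hgfin, hgl⟩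
  have hgs : Surjective g.left := by
    have : Surjective (φ.left ≫ g.left) := by rw [hcomp]; infer_instance
    exact Surjective.of_comp φ.left g.left
  have hred : IsReduced H.left := isReduced_of_smooth_field k H
  have hiso : IsIso g.left := isIso_of_isClosedImmersion_of_surjective g.left
  have hiso' : IsIso g := by
    have : IsIso ((Over.forget (Spec (CommRingCat.of k))).map g) := hiso
    exact isIso_of_reflects_iso g (Over.forget (Spec (CommRingCat.of k)))
  exact ⟨(Grp.mkIso' (asIso g)).symm⟩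

end Final

end Groth.Agent.H42.GaQuot
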