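import Mathlib

/-!
# Morphisms agreeing on a scheme-theoretically dominant source (helper42)

* `ext_of_schDominant`: two morphisms `f g : X ⟶ Y` over a separated `Y ⟶ Z` that agree after
  composing with a scheme-theoretically dominant `ι : W ⟶ X` are equal (no reducedness needed).
* `ker_eq_bot_of_injective`: a quasi-compact morphism to an affine scheme whose map on global
  sections is injective is scheme-theoretically dominant.
-/

set_option autoImplicit false
universe u
open CategoryTheory Limits AlgebraicGeometry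

namespace Groth.Agent.H42.SchDomExt

variable {W X Y Z : Scheme.{u}}

theorem ext_of_schDominant {f g : X ⟶ Y} (s : Y ⟶ Z) [IsSeparated s] (h : f ≫ s = g ≫ s)
    (ι : W ⟶ X) [IsSchemeTheoreticallyDominant ι] (hU : ι ≫ f = ι ≫ g) : f = g := by
  let X' : Over Z := Over.mk (f ≫ s)
  let Y' : Over Z := Over.mk s
  let U' : Over Z := Over.mk (ι ≫ f ≫ s)
  let f' : X' ⟶ Y' := Over.homMk f
  let g' : X' ⟶ Y' := Over.homMk g h.symm
  let ι' : U' ⟶ X' := Over.homMk ι
  have : IsSeparated Y'.hom := ‹_›
  have hc : ι' ≫ f' = ι' ≫ g' := by ext1; exact hU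
  have hfac : (equalizer.lift ι' hc).left ≫ (equalizer.ι f' g').left = ι := by
    rw [← Over.comp_left, equalizer.lift_ι]; rfl
  have hker : (equalizer.ι f' g').left.ker = ⊥ := by
    have h1 := Scheme.Hom.le_ker_comp (equalizer.lift ι' hc).left (equalizer.ι f' g').left
    rw [hfac, ι.ker_eq_bot] at h1
    exact le_bot_iff.mp h1
  have := IsClosedImmersion.isIso_iff_ker_eq_bot.mpr hker
  rw [← cancel_epi (equalizer.ι f' g').left]
  exact congr($(equalizer.condition f' g').left)

theorem schDominant_of_injective (f : X ⟶ Y) [IsAffine Y] [QuasiCompact f]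
    (hf : Function.Injective f.appTop) : IsSchemeTheoreticallyDominant f :=
  ⟨Scheme.IdealSheafData.ext_of_isAffine (by
    rw [f.ker_apply ⟨⊤, isAffineOpen_top Y⟩]
    simp only [Scheme.IdealSheafData.ideal_bot, Pi.bot_apply]
    exact (RingHom.injective_iff_ker_eq_bot _).mp hf)⟩

theorem schDominant_SpecMap {R S : CommRingCat.{u}} (φ : R ⟶ S) (hφ : Function.Injective φ) :
    IsSchemeTheoreticallyDominant (Spec.map φ) := by
  apply schDominant_of_injective
  have h1 := Scheme.ΓSpecIso_naturality φ
  have h2 : (Spec.map φ).appTop = (Scheme.ΓSpecIso R).hom ≫ φ ≫ (Scheme.ΓSpecIso S).inv := by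
    rw [← Category.assoc, ← h1, Category.assoc, Iso.hom_inv_id, Category.comp_id]
  rw [h2]
  simp only [CommRingCat.hom_comp, RingHom.coe_comp]
  exact ((ConcreteCategory.bijective_of_isIso (Scheme.ΓSpecIso S).inv).injective.comp hφ).comp
    (ConcreteCategory.bijective_of_isIso (Scheme.ΓSpecIso R).hom).injective

end Groth.Agent.H42.SchDomExt
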