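import Mathlib
import Groth.Prelude.Def_Red
import Groth.Agent.H42.SchDomExt

/-!
# Commutativity of a flat separated group scheme from its generic fibre (helper42)

`isCommMonObj_of_bc`: let `e0 : S' ⟶ S` be quasi-compact and scheme-theoretically dominant, `G` a flat
separated `S`-group scheme. If the base change `G_{S'}` is commutative then `G` is commutative.
-/

set_option autoImplicit false
universe u
open CategoryTheory MonoidalCategory CartesianMonoidalCategory MonObj GrpObj AlgebraicGeometry
  CategoryTheory.Limits

namespace Groth.Agent.H42.GenFibreComm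

variable {S S' : Scheme.{u}}

theorem map_comm_of_bc (e0 : S' ⟶ S) (G : Over S) [GrpObj G]
    [IsCommMonObj (Red.bc e0 G)] :
    (Over.pullback e0).map ((β_ G G).hom ≫ μ[G]) = (Over.pullback e0).map μ[G] := by
  have h1 : (β_ ((Over.pullback e0).obj G) ((Over.pullback e0).obj G)).hom ≫
      μ[(Over.pullback e0).obj G] = μ[(Over.pullback e0).obj G] :=
    IsCommMonObj.mul_comm ((Over.pullback e0).obj G)
  rw [Functor.obj.μ_def] at h1
  rw [Functor.map_comp, Functor.map_braiding, Category.assoc, Category.assoc, h1,
    Functor.Monoidal.δ_μ_assoc]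

theorem isCommMonObj_of_bc (e0 : S' ⟶ S) [QuasiCompact e0] [IsSchemeTheoreticallyDominant e0]
    (G : Over S) [GrpObj G] [Flat G.hom] [IsSeparated G.hom]
    [IsCommMonObj (Red.bc e0 G)] : IsCommMonObj G := by
  refine ⟨?_⟩
  have hfl : Flat (G ⊗ G).hom := by
    rw [Over.tensorObj_hom]
    infer_instance
  have hmap := map_comm_of_bc e0 G
  apply Over.OverMorphism.ext
  refine SchDomExt.ext_of_schDominant G.hom ?_ (pullback.fst (G ⊗ G).hom e0) ?_
  · rw [Over.w, Over.w]
  · have h1 := congrArg (fun t => t.left ≫ pullback.fst G.hom e0) hmap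
    simp only [Over.pullback_map_left, pullback.lift_fst] at h1
    exact h1

end Groth.Agent.H42.GenFibreComm
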