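import Mathlib
import Groth.Agent.H42.GaGm

/-!
# A finite free cover of any `S`-scheme carrying a unit `t` with `t - 1` a unit
(adjoin a root of `T² - T - 1`).
-/

set_option autoImplicit false
set_option linter.unusedSectionVars false
set_option linter.style.haveILetI false
universe u

open CategoryTheory AlgebraicGeometry Limits Polynomial

namespace Groth.Agent.H42.Golden

noncomputable section

/-- the polynomial `T² - T - 1` -/
def gpoly : (ULift.{u} ℤ)[X] := X ^ 2 - X - 1

theorem gpoly_monic : (gpoly.{u}).Monic := by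
  unfold gpoly
  monicity!

theorem gpoly_natDegree : (gpoly.{u}).natDegree = 2 := by
  unfold gpoly
  compute_degree!

/-- the ring `ℤ[t]/(t² - t - 1)` -/
abbrev GB : Type u := AdjoinRoot gpoly.{u}

/-- the distinguished root -/
def tB : GB.{u} := AdjoinRoot.root gpoly

theorem tB_mul : tB.{u} * (tB - 1) = 1 := by
  have key : ∀ p : (ULift.{u} ℤ)[X], p = X ^ 2 - X - 1 → ∀ r : GB.{u},
      eval₂ (AdjoinRoot.of gpoly.{u}) r p = r ^ 2 - r - 1 := by
    rintro p rfl r
    simp only [eval₂_sub, eval₂_X_pow, eval₂_X, eval₂_one]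
  have h := AdjoinRoot.eval₂_root gpoly.{u}
  rw [key gpoly rfl] at h
  change AdjoinRoot.root gpoly * (AdjoinRoot.root gpoly - 1) = 1
  linear_combination h

instance : Module.Free (ULift.{u} ℤ) GB.{u} :=
  Module.Free.of_basis (AdjoinRoot.powerBasis' gpoly_monic).basis

instance : Nontrivial GB.{u} := by
  let b := (AdjoinRoot.powerBasis' gpoly_monic.{u}).basis
  have hd : (AdjoinRoot.powerBasis' gpoly_monic.{u}).dim = 2 := by
    rw [AdjoinRoot.powerBasis'_dim, gpoly_natDegree]
  exact ⟨⟨b ⟨0, by rw [hd]; norm_num⟩, 0, b.ne_zero _⟩⟩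

/-- `Spec ℤ[t]/(t²-t-1) ⟶ Spec ℤ` -/
def gmap : Spec (CommRingCat.of GB.{u}) ⟶ Spec (CommRingCat.of (ULift.{u} ℤ)) :=
  Spec.map (CommRingCat.ofHom (algebraMap (ULift.{u} ℤ) GB.{u}))

instance : Flat gmap.{u} := by
  unfold gmap
  rw [HasRingHomProperty.Spec_iff (P := @Flat)]
  rw [CommRingCat.hom_ofHom, RingHom.flat_algebraMap_iff]
  change Module.Flat (ULift.{u} ℤ) GB.{u}
  infer_instance

instance : Surjective gmap.{u} := by
  constructor
  have h : Module.FaithfullyFlat (ULift.{u} ℤ) GB.{u} := inferInstance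
  exact @PrimeSpectrum.comap_surjective_of_faithfullyFlat (ULift.{u} ℤ) GB.{u} _ _ _ h

variable {S : Scheme.{u}} (X : Over S)

/-- the cover -/
def cover : Over S :=
  Over.mk (pullback.fst (specULiftZIsTerminal.from X.left) gmap.{u} ≫ X.hom)

/-- the covering map -/
def π : cover X ⟶ X := Over.homMk (pullback.fst (specULiftZIsTerminal.from X.left) gmap.{u}) rfl

instance : Flat (π X).left :=
  inferInstanceAs (Flat (pullback.fst (specULiftZIsTerminal.from X.left) gmap.{u}))

instance : Surjective (π X).left :=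
  inferInstanceAs (Surjective (pullback.fst (specULiftZIsTerminal.from X.left) gmap.{u}))

instance : Epi (π X) := by
  haveI : Epi (π X).left := Flat.epi_of_flat_of_surjective _
  exact Over.epi_of_epi_left _

/-- the unit `t` on the cover -/
def t : Γ((cover X).left, ⊤) :=
  pb (pullback.snd (specULiftZIsTerminal.from X.left) gmap.{u}) tB

theorem t_mul : t X * (t X - 1) = 1 := by
  have h := congrArg (pb (pullback.snd (specULiftZIsTerminal.from X.left) gmap.{u})) tB_mul.{u}
  rw [map_mul, map_sub, map_one] at h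
  exact h

/-- `t` as a unit -/
def tU : Γ((cover X).left, ⊤)ˣ :=
  ⟨t X, t X - 1, t_mul X, by rw [mul_comm]; exact t_mul X⟩

/-- `1 - t` as a unit -/
def sU : Γ((cover X).left, ⊤)ˣ :=
  ⟨1 - t X, - t X, by linear_combination t_mul X, by linear_combination t_mul X⟩

theorem tU_val : ((tU X : Γ((cover X).left, ⊤)ˣ) : Γ((cover X).left, ⊤)) = t X := rfl

theorem sU_val : ((sU X : Γ((cover X).left, ⊤)ˣ) : Γ((cover X).left, ⊤)) = 1 - t X := rfl

end

end Groth.Agent.H42.Golden

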