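import Mathlib
import Groth.Prelude.Def_AlgGrp
import Groth.Agent.H42.FixedPtEtale

/-!
# Homogeneous spaces under groups with irreducible geometric fibres are separated (helper42)

SGA3 VI_B 5: `G` universally open over `S`, `G ×_S Spec K` irreducible for all field points, acting on
`X` with `G ×_S X ⟶ X ×_S X` surjective.  Then `X` is separated over `S`.
-/

set_option autoImplicit false
universe u
open CategoryTheory Limits MonoidalCategory CartesianMonoidalCategory MonObj GrpObj AlgebraicGeometry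

namespace Groth.Agent.H42.SepTransitive

open Groth.Agent.H42.FixedPtEtale

/-- range of `R ◁ f` on underlying schemes. -/
theorem range_whiskerLeft_left {S : Scheme.{u}} (R : Over S) {A B : Over S} (f : A ⟶ B) :
    Set.range (R ◁ f).left = (snd R B).left ⁻¹' Set.range f.left := by
  rw [Over.whiskerLeft_left, Scheme.Pullback.range_map]
  simp [Over.snd_left]

/-- A point of the closure of the diagonal both of whose projections lie in an open `U`
separated over the base lies on the diagonal. -/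
theorem mem_range_diagonal_of_mem_closure {X S : Scheme.{u}} (f : X ⟶ S) (U : X.Opens)
    [IsSeparated (U.ι ≫ f)] (y : ↥(pullback f f))
    (hy : y ∈ closure (Set.range (pullback.diagonal f)))
    (h1 : pullback.fst f f y ∈ U) (h2 : pullback.snd f f y ∈ U) :
    y ∈ Set.range (pullback.diagonal f) := by
  obtain ⟨j, hj1, hj2⟩ : ∃ j : pullback (U.ι ≫ f) (U.ι ≫ f) ⟶ pullback f f,
      j ≫ pullback.fst f f = pullback.fst _ _ ≫ U.ι ∧
      j ≫ pullback.snd f f = pullback.snd _ _ ≫ U.ι ∧ IsOpenImmersion j ∧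
      Set.range j = pullback.fst f f ⁻¹' Set.range U.ι ∩ pullback.snd f f ⁻¹' Set.range U.ι := by
    refine ⟨pullback.map (U.ι ≫ f) (U.ι ≫ f) f f U.ι U.ι (𝟙 S) (by simp) (by simp),
      pullback.lift_fst _ _ _, pullback.lift_snd _ _ _,
      inferInstance, Scheme.Pullback.range_map _ _ _ _ _ _ _ _ _⟩
  obtain ⟨hj3, hj4⟩ := hj2
  obtain ⟨hjo, hjr⟩ := hj4
  have hdiag : pullback.diagonal (U.ι ≫ f) ≫ j = U.ι ≫ pullback.diagonal f := by
    apply pullback.hom_ext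
    · simp [hj1]
    · simp [hj3]
  have hyj : y ∈ Set.range j := by
    rw [hjr]
    refine ⟨?_, ?_⟩
    · show pullback.fst f f y ∈ Set.range U.ι
      rw [Scheme.Opens.range_ι]; exact h1
    · show pullback.snd f f y ∈ Set.range U.ι
      rw [Scheme.Opens.range_ι]; exact h2
  obtain ⟨v, rfl⟩ := hyj
  have hpre : j ⁻¹' Set.range (pullback.diagonal f) = Set.range (pullback.diagonal (U.ι ≫ f)) := by
    ext v'
    constructor
    · rintro ⟨x, hx⟩
      have hx1 : x = U.ι (pullback.fst (U.ι ≫ f) (U.ι ≫ f) v') := by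
        have := congrArg (pullback.fst f f) hx
        rw [← Scheme.Hom.comp_apply, ← Scheme.Hom.comp_apply, pullback.diagonal_fst, hj1] at this
        simpa using this
      refine ⟨pullback.fst (U.ι ≫ f) (U.ι ≫ f) v', ?_⟩
      apply j.isOpenEmbedding.injective
      rw [← Scheme.Hom.comp_apply, hdiag, Scheme.Hom.comp_apply, ← hx1, hx]
    · rintro ⟨u, rfl⟩
      refine ⟨U.ι u, ?_⟩
      rw [← Scheme.Hom.comp_apply, ← Scheme.Hom.comp_apply, hdiag]
  have hv : v ∈ j ⁻¹' closure (Set.range (pullback.diagonal f)) := hy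
  rw [j.isOpenEmbedding.isOpenMap.preimage_closure_eq_closure_preimage j.continuous, hpre,
    (pullback.diagonal (U.ι ≫ f)).isClosedEmbedding.isClosed_range.closure_eq] at hv
  obtain ⟨u, rfl⟩ := hv
  exact ⟨U.ι u, by rw [← Scheme.Hom.comp_apply, ← Scheme.Hom.comp_apply, hdiag]⟩

section main

variable {S : Scheme.{u}} {G X : Over S} [GrpObj G]

/-- `g⁻¹ · (g · x) = x`. -/
theorem act_inv_act (a : AlgGrp.Action G X) {T : Over S} (g : T ⟶ G) (x : T ⟶ X) :
    lift g⁻¹ (lift g x ≫ a.act) ≫ a.act = x := by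
  rw [← act_mul, inv_mul_cancel, Hom.one_def]
  exact act_one a x

/-- **SGA3 VI_B 5**: a homogeneous space under a universally open group with irreducible
geometric fibres is separated. -/
theorem isSeparated_of_transitive [UniversallyOpen G.hom]
    (hirr : ∀ (T : Over S), (∃ (K : Type u) (_ : Field K), T.left = Spec (CommRingCat.of K)) →
      IrreducibleSpace ↥(G ⊗ T).left)
    (a : AlgGrp.Action G X) (hΦ : Surjective (lift a.act (snd G X)).left) :
    IsSeparated X.hom := by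
  refine ⟨IsClosedImmersion.of_isPreimmersion _ (isClosed_of_closure_subset fun z hz => ?_)⟩
  -- notation
  obtain ⟨Δ, hΔ⟩ : ∃ Δ : X ⟶ X ⊗ X, Δ = lift (𝟙 X) (𝟙 X) := ⟨_, rfl⟩
  have hΔl : Δ.left = pullback.diagonal X.hom := by rw [hΔ]; rfl
  have hΔ1 : Δ ≫ fst X X = 𝟙 X := by rw [hΔ, lift_fst]
  have hΔ2 : Δ ≫ snd X X = 𝟙 X := by rw [hΔ, lift_snd]
  obtain ⟨Ψ, hΨ1, hΨ2⟩ : ∃ Ψ : G ⊗ (X ⊗ X) ⟶ X ⊗ X,
      Ψ ≫ fst X X = lift (fst G (X ⊗ X)) (snd G (X ⊗ X) ≫ fst X X) ≫ a.act ∧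
      Ψ ≫ snd X X = lift (fst G (X ⊗ X)) (snd G (X ⊗ X) ≫ snd X X) ≫ a.act :=
    ⟨lift _ _, lift_fst _ _, lift_snd _ _⟩
  obtain ⟨Ψ', hΨ'1, hΨ'2⟩ : ∃ Ψ' : G ⊗ (X ⊗ X) ⟶ X ⊗ X,
      Ψ' ≫ fst X X = lift (fst G (X ⊗ X))⁻¹ (snd G (X ⊗ X) ≫ fst X X) ≫ a.act ∧
      Ψ' ≫ snd X X = lift (fst G (X ⊗ X))⁻¹ (snd G (X ⊗ X) ≫ snd X X) ≫ a.act :=
    ⟨lift _ _, lift_fst _ _, lift_snd _ _⟩
  obtain ⟨Θ, hΘ1, hΘ2⟩ : ∃ Θ : G ⊗ (X ⊗ X) ⟶ G ⊗ (X ⊗ X),
      Θ ≫ fst G (X ⊗ X) = fst G (X ⊗ X) ∧ Θ ≫ snd G (X ⊗ X) = Ψ :=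
    ⟨lift _ _, lift_fst _ _, lift_snd _ _⟩
  obtain ⟨Θ', hΘ'1, hΘ'2⟩ : ∃ Θ' : G ⊗ (X ⊗ X) ⟶ G ⊗ (X ⊗ X),
      Θ' ≫ fst G (X ⊗ X) = fst G (X ⊗ X) ∧ Θ' ≫ snd G (X ⊗ X) = Ψ' :=
    ⟨lift _ _, lift_fst _ _, lift_snd _ _⟩
  obtain ⟨θ', hθ'1, hθ'2⟩ : ∃ θ' : G ⊗ X ⟶ G ⊗ X,
      θ' ≫ fst G X = fst G X ∧ θ' ≫ snd G X = lift (fst G X)⁻¹ (snd G X) ≫ a.act :=
    ⟨lift _ _, lift_fst _ _, lift_snd _ _⟩
  have hΘΘ' : Θ ≫ Θ' = 𝟙 _ := by
    apply CartesianMonoidalCategory.hom_ext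
    · rw [Category.assoc, hΘ'1, hΘ1, Category.id_comp]
    · rw [Category.assoc, hΘ'2, Category.id_comp]
      apply CartesianMonoidalCategory.hom_ext
      · rw [Category.assoc, hΨ'1, comp_lift_assoc, GrpObj.comp_inv, hΘ1, ← Category.assoc Θ,
          hΘ2, hΨ1]
        exact act_inv_act a _ _
      · rw [Category.assoc, hΨ'2, comp_lift_assoc, GrpObj.comp_inv, hΘ1, ← Category.assoc Θ,
          hΘ2, hΨ2]
        exact act_inv_act a _ _
  have h1 : (G ◁ Δ) ≫ Ψ = a.act ≫ Δ := by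
    apply CartesianMonoidalCategory.hom_ext
    · rw [Category.assoc, hΨ1, comp_lift_assoc, whiskerLeft_fst, whiskerLeft_snd_assoc,
        Category.assoc, hΔ1]
      simp only [Category.comp_id, lift_fst_snd, Category.id_comp]
    · rw [Category.assoc, hΨ2, comp_lift_assoc, whiskerLeft_fst, whiskerLeft_snd_assoc,
        Category.assoc, hΔ2]
      simp only [Category.comp_id, lift_fst_snd, Category.id_comp]
  have h2 : (G ◁ Δ) ≫ Θ' = θ' ≫ (G ◁ Δ) := by
    apply CartesianMonoidalCategory.hom_ext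
    · rw [Category.assoc, hΘ'1, Category.assoc, whiskerLeft_fst, hθ'1]
    · rw [Category.assoc, hΘ'2, Category.assoc, whiskerLeft_snd, ← Category.assoc θ', hθ'2]
      apply CartesianMonoidalCategory.hom_ext
      · rw [Category.assoc, hΨ'1, comp_lift_assoc, GrpObj.comp_inv, whiskerLeft_fst,
          whiskerLeft_snd_assoc, Category.assoc, Category.assoc, hΔ1]
        simp only [Category.comp_id]
      · rw [Category.assoc, hΨ'2, comp_lift_assoc, GrpObj.comp_inv, whiskerLeft_fst,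
          whiskerLeft_snd_assoc, Category.assoc, Category.assoc, hΔ2]
        simp only [Category.comp_id]
  have hR : Set.range (G ◁ Δ).left = (snd G (X ⊗ X)).left ⁻¹' Set.range Δ.left :=
    range_whiskerLeft_left G Δ
  have hR1 : ∀ p ∈ Set.range (G ◁ Δ).left, Ψ.left p ∈ Set.range Δ.left := by
    rintro _ ⟨q, rfl⟩
    refine ⟨a.act.left q, ?_⟩
    rw [← Scheme.Hom.comp_apply, ← Scheme.Hom.comp_apply, ← Over.comp_left, ← Over.comp_left, h1]
  have hR2 : ∀ p, Ψ.left p ∈ Set.range Δ.left → p ∈ Set.range (G ◁ Δ).left := by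
    intro p hp
    have hΘp : Θ.left p ∈ Set.range (G ◁ Δ).left := by
      rw [hR]
      show (snd G (X ⊗ X)).left (Θ.left p) ∈ Set.range Δ.left
      rw [← Scheme.Hom.comp_apply, ← Over.comp_left, hΘ2]
      exact hp
    obtain ⟨q, hq⟩ := hΘp
    refine ⟨θ'.left q, ?_⟩
    rw [← Scheme.Hom.comp_apply, ← Over.comp_left, ← h2, Over.comp_left, Scheme.Hom.comp_apply, hq,
      ← Scheme.Hom.comp_apply, ← Over.comp_left, hΘΘ']
    rfl
  -- the field point
  obtain ⟨zK, hzK⟩ : ∃ zK : Spec ((X ⊗ X).left.residueField z) ⟶ (X ⊗ X).left,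
      zK = (X ⊗ X).left.fromSpecResidueField z := ⟨_, rfl⟩
  have hzKr : ∀ t, zK t = z := by
    intro t
    have : zK t ∈ Set.range zK := ⟨t, rfl⟩
    rw [hzK, Scheme.range_fromSpecResidueField] at this
    rw [hzK]
    exact this
  let TK : Over S := Over.mk (zK ≫ (X ⊗ X).hom)
  let zo : TK ⟶ X ⊗ X := Over.homMk zK rfl
  have : IrreducibleSpace ↥(G ⊗ TK).left :=
    hirr TK ⟨(X ⊗ X).left.residueField z, inferInstance, rfl⟩
  obtain ⟨pt⟩ : Nonempty ↥TK.left :=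
    (inferInstance : Nonempty ↥(Spec ((X ⊗ X).left.residueField z)))
  obtain ⟨U, hU, hξU⟩ : ∃ U : X.left.Opens, IsAffineOpen U ∧ (fst X X).left z ∈ U := by
    obtain ⟨_, ⟨U, hU, rfl⟩, hxU, -⟩ := X.left.isBasis_affineOpens.exists_subset_of_mem_open
      (Set.mem_univ ((fst X X).left z)) isOpen_univ
    exact ⟨U, hU, hxU⟩
  have : IsSeparated (U.ι ≫ X.hom) := by
    have : IsAffine U := hU
    have : IsSeparated ((U.ι ≫ X.hom) ≫ terminal.from S) := by
      rw [terminal.comp_from]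
      infer_instance
    exact IsSeparated.of_comp (U.ι ≫ X.hom) (terminal.from S)
  obtain ⟨o₁, ho₁⟩ : ∃ o₁ : G ⊗ TK ⟶ X, o₁ = (G ◁ (zo ≫ fst X X)) ≫ a.act := ⟨_, rfl⟩
  obtain ⟨o₂, ho₂⟩ : ∃ o₂ : G ⊗ TK ⟶ X, o₂ = (G ◁ (zo ≫ snd X X)) ≫ a.act := ⟨_, rfl⟩
  have hzoΨ1 : (G ◁ zo) ≫ Ψ ≫ fst X X = o₁ := by
    rw [hΨ1, ho₁, comp_lift_assoc, whiskerLeft_fst, whiskerLeft_snd_assoc]
    congr 1
  have hzoΨ2 : (G ◁ zo) ≫ Ψ ≫ snd X X = o₂ := by
    rw [hΨ2, ho₂, comp_lift_assoc, whiskerLeft_fst, whiskerLeft_snd_assoc]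
    congr 1
  have hV1 : ∃ g : ↥(G ⊗ TK).left, o₁.left g ∈ U := by
    refine ⟨(lift (toUnit TK ≫ η[G]) (𝟙 TK)).left pt, ?_⟩
    have h : lift (toUnit TK ≫ η[G]) (𝟙 TK) ≫ o₁ = zo ≫ fst X X := by
      rw [ho₁, lift_whiskerLeft_assoc, Category.id_comp]
      exact act_one a _
    rw [← Scheme.Hom.comp_apply, ← Over.comp_left, h, Over.comp_left, Scheme.Hom.comp_apply]
    show (fst X X).left (zK pt) ∈ U
    rw [hzKr]
    exact hξU
  have hV2 : ∃ g : ↥(G ⊗ TK).left, o₂.left g ∈ U := by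
    obtain ⟨w, hw⟩ := hΦ.surj z
    have hw1 : a.act.left w = (fst X X).left z := by
      rw [← hw, ← Scheme.Hom.comp_apply, ← Over.comp_left, lift_fst]
    have hw2 : (snd G X).left w = (snd X X).left z := by
      rw [← hw, ← Scheme.Hom.comp_apply, ← Over.comp_left, lift_snd]
    have hwr : w ∈ Set.range (G ◁ (zo ≫ snd X X)).left := by
      rw [range_whiskerLeft_left]
      refine ⟨pt, ?_⟩
      show (zo ≫ snd X X).left pt = (snd G X).left w
      rw [hw2, Over.comp_left, Scheme.Hom.comp_apply]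
      show (snd X X).left (zK pt) = _
      rw [hzKr]
    obtain ⟨g, hg⟩ := hwr
    refine ⟨g, ?_⟩
    rw [ho₂, Over.comp_left, Scheme.Hom.comp_apply, hg, hw1]
    exact hξU
  obtain ⟨g, hg1, hg2⟩ : (((o₁.left ⁻¹ᵁ U : (G ⊗ TK).left.Opens) : Set ↥(G ⊗ TK).left) ∩
      ((o₂.left ⁻¹ᵁ U : (G ⊗ TK).left.Opens) : Set ↥(G ⊗ TK).left)).Nonempty :=
    nonempty_preirreducible_inter (o₁.left ⁻¹ᵁ U).2 (o₂.left ⁻¹ᵁ U).2 hV1 hV2
  obtain ⟨p, hp⟩ : ∃ p : ↥(G ⊗ (X ⊗ X)).left, p = (G ◁ zo).left g := ⟨_, rfl⟩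
  have hp_snd : (snd G (X ⊗ X)).left p = z := by
    rw [hp, ← Scheme.Hom.comp_apply, ← Over.comp_left, whiskerLeft_snd, Over.comp_left,
      Scheme.Hom.comp_apply]
    exact hzKr _
  have hpΨ1 : (fst X X).left (Ψ.left p) ∈ U := by
    have h : (fst X X).left (Ψ.left p) = o₁.left g := by
      rw [← hzoΨ1, hp]
      rfl
    rw [h]
    exact hg1
  have hpΨ2 : (snd X X).left (Ψ.left p) ∈ U := by
    have h : (snd X X).left (Ψ.left p) = o₂.left g := by
      rw [← hzoΨ2, hp]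
      rfl
    rw [h]
    exact hg2
  have hpcl : Ψ.left p ∈ closure (Set.range Δ.left) := by
    have hop : IsOpenMap (snd G (X ⊗ X)).left := by
      show IsOpenMap (pullback.snd G.hom (X ⊗ X).hom)
      exact (pullback.snd G.hom (X ⊗ X).hom).isOpenMap
    have h3 : p ∈ closure (Set.range (G ◁ Δ).left) := by
      rw [hR]
      apply hop.preimage_closure_subset_closure_preimage
      show (snd G (X ⊗ X)).left p ∈ closure _
      rw [hp_snd, hΔl]
      exact hz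
    have h4 := image_closure_subset_closure_image Ψ.left.continuous ⟨p, h3, rfl⟩
    refine closure_mono ?_ h4
    rintro _ ⟨q, hq, rfl⟩
    exact hR1 q hq
  have hΨpD : Ψ.left p ∈ Set.range Δ.left := by
    rw [hΔl] at hpcl ⊢
    exact mem_range_diagonal_of_mem_closure X.hom U _ hpcl hpΨ1 hpΨ2
  have h5 := hR2 p hΨpD
  rw [hR] at h5
  have h6 : (snd G (X ⊗ X)).left p ∈ Set.range Δ.left := h5
  rw [hp_snd, hΔl] at h6
  exact h6

end main

section apply

variable {S : Scheme.{u}} (G : Over S) [GrpObj G]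

theorem irreducibleSpace_tensor_of_field (hconn : ∀ s : S, ConnectedSpace (G.hom.fiber s))
    (T : Over S) (hT : ∃ (K : Type u) (_ : Field K), T.left = Spec (CommRingCat.of K)) :
    IrreducibleSpace ↥(G ⊗ T).left := by
  obtain ⟨K, _, hT⟩ := hT
  obtain ⟨Tl, Tr, Th⟩ := T
  change Tl = _ at hT
  subst hT
  exact irreducibleSpace_tensor_field G hconn K Th

omit [GrpObj G] in
theorem connectedSpace_fiber_of_isConnected (hconn : ∀ s : S, _root_.IsConnected (G.hom.base ⁻¹' {s}))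
    (s : S) : ConnectedSpace (G.hom.fiber s) := by
  have h1 : ConnectedSpace ↥(G.hom ⁻¹' {s}) := isConnected_iff_connectedSpace.mp (hconn s)
  exact (G.hom.fiberHomeo s).connectedSpace_iff.mpr h1

/-- S4100 -/
theorem isSeparated_of_transitive_of_connected {X : Over S} [UniversallyOpen G.hom]
    (hconn : ∀ s : S, _root_.IsConnected (G.hom.base ⁻¹' {s}))
    (a : AlgGrp.Action G X) (hΦ : Surjective (lift a.act (snd G X)).left) : IsSeparated X.hom :=
  isSeparated_of_transitive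
    (irreducibleSpace_tensor_of_field G (connectedSpace_fiber_of_isConnected G hconn)) a hΦ

end apply

end Groth.Agent.H42.SepTransitive
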