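import Mathlib
import Groth.Prelude.Def_AlgGrp
import Groth.Prelude.Def_NonAbH2
import Groth.Agent.H42.SepTransitive

/-!
# Group schemes with connected fibres are quasi-compact and (if universally open) separated (helper42)

SGA3 VI_B 5: if `G ×_S Spec K` is irreducible for every field point of `S` (e.g. the fibres of `G`
are connected), then `G ⟶ S` is quasi-compact: for a quasi-compact open `U` containing the unit
section over an affine open `V`, multiplication `U ×_V U ⟶ G|_V` is surjective.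
-/

set_option autoImplicit false
universe u
open CategoryTheory Limits MonoidalCategory CartesianMonoidalCategory MonObj GrpObj AlgebraicGeometry

namespace Groth.Agent.H42.GrpQC

open Groth.Agent.H42.FixedPtEtale Groth.Agent.H42.SepTransitive

variable {S : Scheme.{u}} (G : Over S) [GrpObj G]

theorem quasiCompact_of_irreducible
    (hirr : ∀ (T : Over S), (∃ (K : Type u) (_ : Field K), T.left = Spec (CommRingCat.of K)) →
      IrreducibleSpace ↥(G ⊗ T).left) : QuasiCompact G.hom := by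
  rw [quasiCompact_iff_forall_isAffineOpen]
  intro V hV
  obtain ⟨e, he⟩ : ∃ e : S ⟶ G.left, e = η[G].left := ⟨_, rfl⟩
  have heG : e ≫ G.hom = 𝟙 S := by
    rw [he]
    exact Over.w η[G]
  have heV : ∀ s ∈ V, G.hom (e s) ∈ V := by
    intro s hs
    rw [← Scheme.Hom.comp_apply, heG]
    exact hs
  obtain ⟨U, hUc, heU, hUV⟩ := Groth.Agent.H38.GrpConnIrr.exists_isCompact_opens_between
    (e '' (V : Set S)) ((G.hom ⁻¹ᵁ V : G.left.Opens) : Set ↥G.left)
    (hV.isCompact.image e.continuous) (G.hom ⁻¹ᵁ V).2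
    (by rintro _ ⟨s, hs, rfl⟩; exact heV s hs)
  -- `U ⟶ V`
  have hUVr : Set.range (U.ι ≫ G.hom) ⊆ Set.range V.ι := by
    rintro _ ⟨x, rfl⟩
    rw [Scheme.Opens.range_ι]
    exact hUV x.2
  obtain ⟨uV, huV⟩ : ∃ uV : U.toScheme ⟶ V.toScheme, uV ≫ V.ι = U.ι ≫ G.hom :=
    ⟨IsOpenImmersion.lift V.ι (U.ι ≫ G.hom) hUVr, IsOpenImmersion.lift_fac _ _ _⟩
  have : CompactSpace ↥U.toScheme := isCompact_iff_compactSpace.mp hUc
  have : IsAffine V.toScheme := hV
  have : QuasiCompact uV := inferInstance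
  have : CompactSpace ↥(pullback uV uV) := inferInstance
  have hcond : (pullback.fst uV uV ≫ U.ι) ≫ G.hom = (pullback.snd uV uV ≫ U.ι) ≫ G.hom := by
    rw [Category.assoc, Category.assoc, ← huV, ← Category.assoc, ← Category.assoc, pullback.condition]
  obtain ⟨m, hm⟩ : ∃ m : pullback uV uV ⟶ G.left, m = (pullback.lift (pullback.fst uV uV ≫ U.ι)
      (pullback.snd uV uV ≫ U.ι) hcond : pullback uV uV ⟶ (G ⊗ G).left) ≫ μ[G].left := ⟨_, rfl⟩
  have hrange : ((G.hom ⁻¹ᵁ V : G.left.Opens) : Set ↥G.left) = Set.range m := by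
    apply Set.Subset.antisymm
    · intro p hp
      -- field point at `p`
      obtain ⟨pK, hpK⟩ : ∃ pK : Spec (G.left.residueField p) ⟶ G.left,
          pK = G.left.fromSpecResidueField p := ⟨_, rfl⟩
      have hpKr : ∀ t, pK t = p := by
        intro t
        have : pK t ∈ Set.range pK := ⟨t, rfl⟩
        rw [hpK, Scheme.range_fromSpecResidueField] at this
        rw [hpK]
        exact this
      let TK : Over S := Over.mk (pK ≫ G.hom)
      let po : TK ⟶ G := Over.homMk pK rfl
      have : IrreducibleSpace ↥(G ⊗ TK).left :=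
        hirr TK ⟨G.left.residueField p, inferInstance, rfl⟩
      obtain ⟨pt⟩ : Nonempty ↥TK.left :=
        (inferInstance : Nonempty ↥(Spec (G.left.residueField p)))
      have hpt : TK.hom pt ∈ V := by
        show (pK ≫ G.hom) pt ∈ V
        rw [Scheme.Hom.comp_apply, hpKr]
        exact hp
      obtain ⟨a₂, ha₂⟩ : ∃ a₂ : G ⊗ TK ⟶ G, a₂ = (fst G TK)⁻¹ * (snd G TK ≫ po) := ⟨_, rfl⟩
      have hV1 : ∃ h : ↥(G ⊗ TK).left, (fst G TK).left h ∈ U := by
        refine ⟨(lift (toUnit TK ≫ η[G]) (𝟙 TK)).left pt, ?_⟩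
        rw [← Scheme.Hom.comp_apply, ← Over.comp_left, lift_fst, Over.comp_left,
          Scheme.Hom.comp_apply]
        exact heU ⟨TK.hom pt, hpt, by rw [he]; rfl⟩
      have hV2 : ∃ h : ↥(G ⊗ TK).left, a₂.left h ∈ U := by
        refine ⟨(lift po (𝟙 TK)).left pt, ?_⟩
        have h1 : lift po (𝟙 TK) ≫ a₂ = toUnit TK ≫ η[G] := by
          rw [ha₂, MonObj.comp_mul, GrpObj.comp_inv, lift_fst, lift_snd_assoc, Category.id_comp,
            inv_mul_cancel, Hom.one_def]
        rw [← Scheme.Hom.comp_apply, ← Over.comp_left, h1, Over.comp_left, Scheme.Hom.comp_apply]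
        exact heU ⟨TK.hom pt, hpt, by rw [he]; rfl⟩
      obtain ⟨h, hh1, hh2⟩ : ((((fst G TK).left ⁻¹ᵁ U : (G ⊗ TK).left.Opens) :
          Set ↥(G ⊗ TK).left) ∩ ((a₂.left ⁻¹ᵁ U : (G ⊗ TK).left.Opens) :
          Set ↥(G ⊗ TK).left)).Nonempty :=
        nonempty_preirreducible_inter ((fst G TK).left ⁻¹ᵁ U).2 (a₂.left ⁻¹ᵁ U).2 hV1 hV2
      obtain ⟨hL, hhL⟩ : ∃ hL : Spec ((G ⊗ TK).left.residueField h) ⟶ (G ⊗ TK).left,
          hL = (G ⊗ TK).left.fromSpecResidueField h := ⟨_, rfl⟩
      have hhLr : ∀ t, hL t = h := by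
        intro t
        have : hL t ∈ Set.range hL := ⟨t, rfl⟩
        rw [hhL, Scheme.range_fromSpecResidueField] at this
        rw [hhL]
        exact this
      let TL : Over S := Over.mk (hL ≫ (G ⊗ TK).hom)
      let ho : TL ⟶ G ⊗ TK := Over.homMk hL rfl
      obtain ⟨ptL⟩ : Nonempty ↥TL.left :=
        (inferInstance : Nonempty ↥(Spec ((G ⊗ TK).left.residueField h)))
      obtain ⟨b₁, hb₁⟩ : ∃ b₁ : TL ⟶ G, b₁ = ho ≫ fst G TK := ⟨_, rfl⟩
      obtain ⟨b₂, hb₂⟩ : ∃ b₂ : TL ⟶ G, b₂ = ho ≫ a₂ := ⟨_, rfl⟩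
      have hmul : b₁ * b₂ = ho ≫ snd G TK ≫ po := by
        rw [hb₁, hb₂, ← MonObj.comp_mul, ha₂, mul_inv_cancel_left]
      have hb₁r : Set.range b₁.left ⊆ Set.range U.ι := by
        rintro _ ⟨t, rfl⟩
        rw [Scheme.Opens.range_ι, hb₁, Over.comp_left, Scheme.Hom.comp_apply]
        show (fst G TK).left (hL t) ∈ U
        rw [hhLr]
        exact hh1
      have hb₂r : Set.range b₂.left ⊆ Set.range U.ι := by
        rintro _ ⟨t, rfl⟩
        rw [Scheme.Opens.range_ι, hb₂, Over.comp_left, Scheme.Hom.comp_apply]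
        show a₂.left (hL t) ∈ U
        rw [hhLr]
        exact hh2
      obtain ⟨b₁', hb₁'⟩ : ∃ b₁' : TL.left ⟶ U.toScheme, b₁' ≫ U.ι = b₁.left :=
        ⟨IsOpenImmersion.lift U.ι b₁.left hb₁r, IsOpenImmersion.lift_fac _ _ _⟩
      obtain ⟨b₂', hb₂'⟩ : ∃ b₂' : TL.left ⟶ U.toScheme, b₂' ≫ U.ι = b₂.left :=
        ⟨IsOpenImmersion.lift U.ι b₂.left hb₂r, IsOpenImmersion.lift_fac _ _ _⟩
      have hcond' : b₁' ≫ uV = b₂' ≫ uV := by
        rw [← cancel_mono V.ι, Category.assoc, Category.assoc, huV, ← Category.assoc,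
          ← Category.assoc, hb₁', hb₂', Over.w b₁, Over.w b₂]
      refine ⟨(pullback.lift b₁' b₂' hcond') ptL, ?_⟩
      have h2 : pullback.lift b₁' b₂' hcond' ≫ m = (b₁ * b₂).left := by
        rw [hm, ← Category.assoc, Hom.mul_def, Over.comp_left]
        congr 1
        apply pullback.hom_ext
        · rw [Category.assoc, pullback.lift_fst, pullback.lift_fst_assoc, hb₁']
          have h3 : (lift b₁ b₂ ≫ fst G G).left = b₁.left := by rw [lift_fst]
          exact h3.symm
        · rw [Category.assoc, pullback.lift_snd, pullback.lift_snd_assoc, hb₂']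
          have h3 : (lift b₁ b₂ ≫ snd G G).left = b₂.left := by rw [lift_snd]
          exact h3.symm
      rw [← Scheme.Hom.comp_apply, h2, hmul, Over.comp_left, Over.comp_left,
        Scheme.Hom.comp_apply, Scheme.Hom.comp_apply]
      exact hpKr _
    · rintro _ ⟨q, rfl⟩
      show G.hom (m q) ∈ V
      have h1 : m ≫ G.hom = (pullback.fst uV uV ≫ uV) ≫ V.ι := by
        rw [hm, Category.assoc, Over.w μ[G], Over.tensorObj_hom, pullback.lift_fst_assoc,
          Category.assoc, Category.assoc, huV]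
      rw [← Scheme.Hom.comp_apply, h1, Scheme.Hom.comp_apply]
      exact ((pullback.fst uV uV ≫ uV) q).2
  rw [hrange]
  exact isCompact_range m.continuous

/-- S5324: connected fibres ⇒ quasi-compact. -/
theorem quasiCompact_of_connected
    (hconn : ∀ s : S, _root_.IsConnected (G.hom.base ⁻¹' {s})) : QuasiCompact G.hom :=
  quasiCompact_of_irreducible G
    (irreducibleSpace_tensor_of_field G (connectedSpace_fiber_of_isConnected G hconn))

/-- S3025: universally open with connected fibres ⇒ separated and quasi-compact. -/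
theorem isSeparated_and_quasiCompact [UniversallyOpen G.hom]
    (hconn : ∀ s : S, _root_.IsConnected (G.hom.base ⁻¹' {s})) :
    IsSeparated G.hom ∧ QuasiCompact G.hom := by
  refine ⟨?_, quasiCompact_of_connected G hconn⟩
  refine isSeparated_of_transitive_of_connected G hconn (NonAbH1.trivialAction G) ?_
  have h : IsIso (lift (NonAbH1.trivialAction G).act (snd G G)) :=
    NonAbH1.isPseudoTorsorSch_trivialAction G
  have : IsIso (lift (NonAbH1.trivialAction G).act (snd G G)).left :=
    Functor.map_isIso (Over.forget S) (lift (NonAbH1.trivialAction G).act (snd G G))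
  infer_instance

end Groth.Agent.H42.GrpQC
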