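import Mathlib
import Groth.Prelude.Def_TwC
import Groth.Agent.H42.TwConstMain
import Groth.Agent.H42.GUTwConst
import Groth.Agent.H6.IsolatedSplit
import Groth.Agent.H7.PropA
import Groth.Agent.H20.RadicialFibre

/-!
# Étale separated schemes over a henselian local ring (helper42)

Let `R` be a henselian local ring, `S = Spec R` with closed point `s`, and `f : X ⟶ S` étale and
separated.

* `stalk_piece`: for `x` in the closed fibre, `Spec 𝒪_{X,x} ⟶ X` is an open and closed immersion and
  `Spec 𝒪_{X,x}` is finite étale surjective over `S`;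
* `existsUnique_closed_specialization`: if moreover `f` satisfies the existence part of the valuative
  criterion, every point of `X` lies in exactly one of these pieces;
* `section_ext'`: sections of a separated unramified morphism agreeing on a "clopen-dense" subobject
  are equal;
* `exists_section`: every `κ(s)`-point of the closed fibre extends to a section.
-/

set_option autoImplicit false
universe u
open CategoryTheory Limits AlgebraicGeometry TopologicalSpace IsLocalRing

namespace Groth.Agent.H42.HensTwConst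

theorem isOpen_singleton_fibre {X S : Scheme.{u}} (f : X ⟶ S) [LocallyQuasiFinite f] (s : S)
    (x : X) : IsOpen ((Subtype.val : (f ⁻¹' {s}) → X) ⁻¹' {x}) := by
  have hd := (Scheme.Hom.isDiscrete_preimage_singleton f s).to_subtype
  exact isOpen_discrete _

theorem eq_of_specializes_of_fibre {X S : Scheme.{u}} (f : X ⟶ S) [LocallyQuasiFinite f]
    {a b : X} (h : a ⤳ b) (hab : f a = f b) : a = b := by
  have hd := (Scheme.Hom.isDiscrete_preimage_singleton f (f b)).to_subtype
  have hs2 : (⟨a, hab⟩ : f ⁻¹' {f b}) ⤳ ⟨b, rfl⟩ := (subtype_specializes_iff _ _).mpr h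
  exact congrArg Subtype.val hs2.eq

theorem stalk_piece (R : Type u) [CommRing R] [HenselianLocalRing R] {X : Scheme.{u}}
    (f : X ⟶ Spec (CommRingCat.of R)) [Etale f] [IsSeparated f] (x : X)
    (hx : f x = closedPoint R) :
    IsOpenImmersion (X.fromSpecStalk x) ∧ IsClosedImmersion (X.fromSpecStalk x) ∧
      IsFinite (X.fromSpecStalk x ≫ f) ∧ Etale (X.fromSpecStalk x ≫ f) ∧
      Surjective (X.fromSpecStalk x ≫ f) := by
  have hLQF : LocallyQuasiFinite f := FpqcTwConst.locallyQuasiFinite_of_etale f
  obtain ⟨hfin, hopen, hclosed⟩ := Groth.Agent.H6.IsolatedSplit.isolated_point_splits R X f x hx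
    (isOpen_singleton_fibre f _ x)
  have hfin' : IsFinite (X.fromSpecStalk x ≫ f) := by
    have : Spec.map ((Scheme.ΓSpecIso (CommRingCat.of R)).inv ≫ f.appTop ≫
        X.presheaf.germ ⊤ x trivial) = X.fromSpecStalk x ≫ f := by
      rw [Spec.map_comp, Spec.map_comp, ← Scheme.fromSpecStalk_toSpecΓ, Category.assoc,
        Category.assoc, ← Scheme.toSpecΓ_naturality_assoc, toSpecΓ_SpecMap_ΓSpecIso_inv,
        Category.comp_id]
    rw [← this, IsFinite.SpecMap_iff]
    exact hfin
  have het : Etale (X.fromSpecStalk x ≫ f) := inferInstance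
  refine ⟨hopen, hclosed, hfin', het, ⟨fun t => ?_⟩⟩
  have hop : IsOpen (Set.range (X.fromSpecStalk x ≫ f)) :=
    (X.fromSpecStalk x ≫ f).isOpenMap.isOpen_range
  have hs : closedPoint R ∈ Set.range (X.fromSpecStalk x ≫ f) := by
    let c : ↥(Spec (X.presheaf.stalk x)) := closedPoint (X.presheaf.stalk x)
    refine ⟨c, ?_⟩
    rw [Scheme.Hom.comp_apply]
    have hc : X.fromSpecStalk x c = x := Scheme.fromSpecStalk_closedPoint
    rw [hc, hx]
  exact (specializes_closedPoint (R := R) t).mem_open hop hs

theorem existsUnique_closed_specialization (R : Type u) [CommRing R] [HenselianLocalRing R]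
    {X : Scheme.{u}} (f : X ⟶ Spec (CommRingCat.of R)) [Etale f] [IsSeparated f]
    (hex : ValuativeCriterion.Existence f) (y : X) :
    ∃! x : X, f x = closedPoint R ∧ y ∈ Set.range (X.fromSpecStalk x) := by
  have hLQF : LocallyQuasiFinite f := FpqcTwConst.locallyQuasiFinite_of_etale f
  obtain ⟨x, hyx, hx⟩ := ValuativeCriterion.Existence.specializingMap f hex
    (specializes_closedPoint (R := R) (f y))
  refine ⟨x, ⟨hx, ?_⟩, ?_⟩
  · rw [Scheme.range_fromSpecStalk]; exact hyx
  · rintro x' ⟨hx', hyx'⟩
    rw [Scheme.range_fromSpecStalk] at hyx'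
    obtain ⟨-, hclosed, -⟩ := stalk_piece R f x hx
    have hcl : IsClosed (Set.range (X.fromSpecStalk x)) :=
      (X.fromSpecStalk x).isClosedEmbedding.isClosed_range
    have hy : y ∈ Set.range (X.fromSpecStalk x) := by
      rw [Scheme.range_fromSpecStalk]; exact hyx
    have hx'r : x' ∈ Set.range (X.fromSpecStalk x) := hyx'.mem_closed hcl hy
    rw [Scheme.range_fromSpecStalk] at hx'r
    exact eq_of_specializes_of_fibre f hx'r (hx'.trans hx.symm)

/-- Two sections of a separated morphism with open diagonal which agree on `ι : T ⟶ S` are equal,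
provided the only open and closed subset of `S` containing the image of `ι` is everything. -/
theorem section_ext' {S Y T : Scheme.{u}} (h : Y ⟶ S)
    [IsSeparated h] [IsOpenImmersion (pullback.diagonal h)]
    (σ₁ σ₂ : S ⟶ Y) (h₁ : σ₁ ≫ h = 𝟙 S) (h₂ : σ₂ ≫ h = 𝟙 S) (ι : T ⟶ S)
    (hι : ι ≫ σ₁ = ι ≫ σ₂)
    (hT : ∀ U : Set S, IsClopen U → Set.range ι ⊆ U → U = Set.univ) : σ₁ = σ₂ := by
  let X' : Over S := Over.mk (𝟙 S)
  let Y' : Over S := Over.mk h
  let U' : Over S := Over.mk ι
  let f' : X' ⟶ Y' := Over.homMk σ₁ h₁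
  let g' : X' ⟶ Y' := Over.homMk σ₂ h₂
  let ι' : U' ⟶ X' := Over.homMk ι (by simp [X', U'])
  have : IsSeparated Y'.hom := ‹_›
  have : IsOpenImmersion (pullback.diagonal Y'.hom) := ‹_›
  have hopen : IsOpenImmersion (equalizer.ι f' g').left :=
    GUTwConst.isOpenImmersion_equalizer_ι_left f' g'
  have hclosed : IsClosedImmersion (equalizer.ι f' g').left := inferInstance
  have hlift : (equalizer.lift ι' (by ext1; exact hι) : U' ⟶ equalizer f' g').left ≫
      (equalizer.ι f' g').left = ι := by
    rw [← Over.comp_left, equalizer.lift_ι]; rfl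
  have hsub : Set.range ι ⊆ Set.range (equalizer.ι f' g').left := by
    rintro _ ⟨t, rfl⟩
    refine ⟨(equalizer.lift ι' (by ext1; exact hι) : U' ⟶ equalizer f' g').left t, ?_⟩
    rw [← Scheme.Hom.comp_apply, hlift]
  have hclopen : IsClopen (Set.range (equalizer.ι f' g').left) :=
    ⟨(Scheme.Hom.isClosedEmbedding _).isClosed_range,
      (Scheme.Hom.isOpenEmbedding _).isOpen_range⟩
  have huniv := hT _ hclopen hsub
  have : IsIso (equalizer.ι f' g').left := by
    have : Epi (equalizer.ι f' g').left.base := by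
      rw [TopCat.epi_iff_surjective]
      exact Set.range_eq_univ.mp huniv
    exact IsOpenImmersion.isIso _
  rw [← cancel_epi (equalizer.ι f' g').left]
  exact congr($(equalizer.condition f' g').left)

theorem eq_univ_of_isOpen_of_closedPoint_mem (R : Type u) [CommRing R] [IsLocalRing R]
    (U : Set (Spec (CommRingCat.of R))) (hU : IsOpen U) (hs : closedPoint R ∈ U) :
    U = Set.univ :=
  Set.eq_univ_of_forall fun t => (specializes_closedPoint (R := R) t).mem_open hU hs

theorem range_SpecMap_residue (R : Type u) [CommRing R] [IsLocalRing R]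
    (t : Spec (CommRingCat.of (ResidueField R))) :
    Spec.map (CommRingCat.ofHom (residue R)) t = closedPoint R := by
  have h1 : t = closedPoint (ResidueField R) := Subsingleton.elim _ _
  rw [h1]
  exact (IsLocalRing.PrimeSpectrum.comap_residue R (closedPoint (ResidueField R)))

theorem exists_section (R : Type u) [CommRing R] [HenselianLocalRing R] {X : Scheme.{u}}
    (f : X ⟶ Spec (CommRingCat.of R)) [Etale f] [IsSeparated f]
    (τ : Spec (CommRingCat.of (ResidueField R)) ⟶ X)
    (hτ : τ ≫ f = Spec.map (CommRingCat.ofHom (residue R))) :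
    ∃ σ : Spec (CommRingCat.of R) ⟶ X, σ ≫ f = 𝟙 _ ∧
      Spec.map (CommRingCat.ofHom (residue R)) ≫ σ = τ := by
  have hLQF : LocallyQuasiFinite f := FpqcTwConst.locallyQuasiFinite_of_etale f
  let pt : Spec (CommRingCat.of (ResidueField R)) := closedPoint (ResidueField R)
  let x : X := τ pt
  have hx : f x = closedPoint R := by
    change f (τ pt) = _
    rw [← Scheme.Hom.comp_apply, hτ]
    exact range_SpecMap_residue R pt
  obtain ⟨hopen, hclosed, hfin, het, hsurj⟩ := stalk_piece R f x hx
  let p : Spec (X.presheaf.stalk x) ⟶ Spec (CommRingCat.of R) := X.fromSpecStalk x ≫ f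
  have hrange : Set.range τ ⊆ Set.range (X.fromSpecStalk x) := by
    rintro _ ⟨q, rfl⟩
    rw [Scheme.range_fromSpecStalk, Subsingleton.elim q pt]
    exact specializes_rfl
  let τ' : Spec (CommRingCat.of (ResidueField R)) ⟶ Spec (X.presheaf.stalk x) :=
    IsOpenImmersion.lift (X.fromSpecStalk x) τ hrange
  have hτ' : τ' ≫ X.fromSpecStalk x = τ := IsOpenImmersion.lift_fac _ _ _
  have hτp : τ' ≫ p = Spec.map (CommRingCat.ofHom (residue R)) := by
    rw [← hτ, ← hτ', Category.assoc]
  let t₀ : Spec (X.presheaf.stalk x) := τ' pt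
  have ht₀ : X.fromSpecStalk x t₀ = x := by
    change X.fromSpecStalk x (τ' pt) = τ pt
    rw [← Scheme.Hom.comp_apply, hτ']
  have hpt₀ : p t₀ = closedPoint R := by
    change f (X.fromSpecStalk x t₀) = _
    rw [ht₀, hx]
  have huniq : ∀ t : Spec (X.presheaf.stalk x), p t = p t₀ → t = t₀ := by
    intro t ht
    apply (X.fromSpecStalk x).isOpenEmbedding.injective
    rw [ht₀]
    have h1 : X.fromSpecStalk x t ⤳ x := by
      have : X.fromSpecStalk x t ∈ Set.range (X.fromSpecStalk x) := ⟨t, rfl⟩
      rwa [Scheme.range_fromSpecStalk] at this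
    exact eq_of_specializes_of_fibre f h1 ((ht.trans hpt₀).trans hx.symm)
  have hsep : Groth.Agent.H7.sepDeg p t₀ = 1 := by
    apply Groth.Agent.H7.sepDeg_eq_one_of_isPurelyInseparable
    have hci : IsClosedImmersion (Spec.map (CommRingCat.ofHom (residue R))) :=
      IsClosedImmersion.spec_of_surjective _ residue_surjective
    have hsos : SurjectiveOnStalks (τ' ≫ p) := by rw [hτp]; infer_instance
    have hbij := Groth.Agent.H20.RadicialFibre.bijective_residueFieldMap (τ' ≫ p) pt
    rw [Scheme.residueFieldMap_comp] at hbij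
    have hpi : ((τ'.residueFieldMap pt).hom.comp
        (p.residueFieldMap (τ' pt)).hom).IsPurelyInseparable :=
      Groth.Agent.H20.RadicialFibre.pi_of_bijective _ hbij
    exact Groth.Agent.H20.RadicialFibre.pi_of_comp_bot hpi
  have hrank := Groth.Agent.H7.finrank_eq_one_of_unique_of_sepDeg p t₀ huniq hsep
  have hlc : IsLocallyConstant p.finrank := Scheme.Hom.isLocallyConstant_finrank p
  have hiso : IsIso p := by
    rw [Scheme.Hom.isIso_iff_finrank_eq p]
    ext z
    have hz : z ∈ p.finrank ⁻¹' {p.finrank (p t₀)} := by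
      refine (specializes_closedPoint (R := R) z).mem_open (hlc.isOpen_fiber _) ?_
      rw [← hpt₀]; rfl
    rw [hz, hrank]
    rfl
  refine ⟨inv p ≫ X.fromSpecStalk x, ?_, ?_⟩
  · rw [Category.assoc]
    exact IsIso.inv_hom_id p
  · rw [← hτp, Category.assoc, IsIso.hom_inv_id_assoc, hτ']

end Groth.Agent.H42.HensTwConst
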