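import Groth.Agent.H42.InfTorsAlg
import Groth.Agent.H40.FiniteTorsSection
import Groth.Prelude.Def_NonAbH2

/-!
# Torsors under finite connected group schemes over a field become trivial over `K^{1/p^n}`
-/

set_option autoImplicit false
set_option linter.unusedSectionVars false
set_option linter.style.haveILetI false
universe u

open CategoryTheory AlgebraicGeometry MonoidalCategory CartesianMonoidalCategory MonObj GrpObj

namespace Groth.Agent.H42.InfTors

variable {K : Type u} [Field K]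

/-- the structure ring map `K → Γ(Y)` of a `K`-scheme. -/
noncomputable def phi (Y : Over (Spec (CommRingCat.of K))) : CommRingCat.of K ⟶ Γ(Y.left, ⊤) :=
  (Scheme.ΓSpecIso (.of K)).inv ≫ Y.hom.appTop

theorem hom_eq (Y : Over (Spec (CommRingCat.of K))) [IsAffine Y.left] :
    Y.hom = Y.left.isoSpec.hom ≫ Spec.map (phi Y) := by
  rw [phi, Spec.map_comp, ← Category.assoc, Scheme.isoSpec_hom_naturality, Category.assoc,
    Scheme.isoSpec_Spec_hom, ← Spec.map_comp, Iso.inv_hom_id, Spec.map_id, Category.comp_id]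

/-- a point of an affine `K`-scheme from a ring map. -/
noncomputable def mkPt (Y : Over (Spec (CommRingCat.of K))) [IsAffine Y.left] {R : CommRingCat.{u}}
    (ρ : CommRingCat.of K ⟶ R) (f : Γ(Y.left, ⊤) ⟶ R) (hf : phi Y ≫ f = ρ) :
    Over.mk (Spec.map ρ) ⟶ Y :=
  Over.homMk (Spec.map f ≫ Y.left.isoSpec.inv) (by
    change (Spec.map f ≫ Y.left.isoSpec.inv) ≫ Y.hom = Spec.map ρ
    rw [hom_eq Y, Category.assoc, Iso.inv_hom_id_assoc, ← Spec.map_comp, hf])

theorem mkPt_left (Y : Over (Spec (CommRingCat.of K))) [IsAffine Y.left] {R : CommRingCat.{u}}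
    (ρ : CommRingCat.of K ⟶ R) (f : Γ(Y.left, ⊤) ⟶ R) (hf : phi Y ≫ f = ρ) :
    (mkPt Y ρ f hf).left = Spec.map f ≫ Y.left.isoSpec.inv := rfl

theorem mkPt_injective (Y : Over (Spec (CommRingCat.of K))) [IsAffine Y.left] {R : CommRingCat.{u}}
    (ρ : CommRingCat.of K ⟶ R) (f f' : Γ(Y.left, ⊤) ⟶ R) (hf : phi Y ≫ f = ρ)
    (hf' : phi Y ≫ f' = ρ) (h : mkPt Y ρ f hf = mkPt Y ρ f' hf') : f = f' := by
  have h1 := congrArg (fun m => m.left) h
  simp only [mkPt_left] at h1
  exact Spec.map_injective ((cancel_mono _).mp h1)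

theorem exists_of_pt (Y : Over (Spec (CommRingCat.of K))) [IsAffine Y.left] {R : CommRingCat.{u}}
    (ρ : CommRingCat.of K ⟶ R) (g : Over.mk (Spec.map ρ) ⟶ Y) :
    ∃ (f : Γ(Y.left, ⊤) ⟶ R) (hf : phi Y ≫ f = ρ), g = mkPt Y ρ f hf := by
  have hg : g.left ≫ Y.hom = Spec.map ρ := Over.w g
  refine ⟨Spec.preimage (g.left ≫ Y.left.isoSpec.hom), ?_, ?_⟩
  · apply Spec.map_injective
    rw [Spec.map_comp, Spec.map_preimage, Category.assoc, ← hom_eq Y, hg]
  · apply Over.OverMorphism.ext
    rw [mkPt_left, Spec.map_preimage, Category.assoc, Iso.hom_inv_id, Category.comp_id]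


theorem finite_phi (Y : Over (Spec (CommRingCat.of K))) [IsFinite Y.hom] :
    (phi Y).hom.Finite := by
  have h1 : Y.hom.appTop.hom.Finite := Y.hom.finite_appTop
  have h2 : (Scheme.ΓSpecIso (CommRingCat.of K)).inv.hom.Finite :=
    RingHom.Finite.of_surjective _
      (ConcreteCategory.bijective_of_isIso (Scheme.ΓSpecIso (CommRingCat.of K)).inv).surjective
  exact h1.comp h2

/-- the augmentation of the coordinate ring of a `K`-group scheme. -/
noncomputable def eps (G : Over (Spec (CommRingCat.of K))) [GrpObj G] :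
    Γ(G.left, ⊤) ⟶ CommRingCat.of K :=
  (η[G]).left.appTop ≫ (Scheme.ΓSpecIso (.of K)).hom

theorem phi_eps (G : Over (Spec (CommRingCat.of K))) [GrpObj G] : phi G ≫ eps G = 𝟙 _ := by
  have h : (η[G]).left ≫ G.hom = 𝟙 _ := Over.w η[G]
  rw [phi, eps, Category.assoc, ← Category.assoc G.hom.appTop, ← Scheme.Hom.comp_appTop, h,
    Scheme.Hom.id_appTop]
  erw [Category.id_comp]
  exact Iso.inv_hom_id _

theorem subsingleton_pts (G : Over (Spec (CommRingCat.of K))) [GrpObj G] [IsFinite G.hom]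
    [ConnectedSpace ↥G.left] (Ω : Type u) [Field Ω] [Algebra K Ω] :
    Subsingleton (Over.mk (Spec.map (CommRingCat.ofHom (algebraMap K Ω))) ⟶ G) := by
  haveI : IsAffine G.left := isAffine_of_isAffineHom G.hom
  letI alg : Algebra K Γ(G.left, ⊤) := (phi G).hom.toAlgebra
  haveI : Module.Finite K Γ(G.left, ⊤) := finite_phi G
  haveI : ConnectedSpace (PrimeSpectrum Γ(G.left, ⊤)) := by
    have hs : Function.Surjective (Scheme.homeoOfIso G.left.isoSpec) :=
      (Scheme.homeoOfIso G.left.isoSpec).surjective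
    exact hs.connectedSpace (Scheme.homeoOfIso G.left.isoSpec).continuous
  let ε : Γ(G.left, ⊤) →ₐ[K] K :=
    { (eps G).hom with
      commutes' := fun c => congrArg (fun m => m.hom c) (phi_eps G) }
  refine ⟨fun g g' => ?_⟩
  obtain ⟨f, hf, rfl⟩ := exists_of_pt G _ g
  obtain ⟨f', hf', rfl⟩ := exists_of_pt G _ g'
  let F : Γ(G.left, ⊤) →ₐ[K] Ω :=
    { f.hom with commutes' := fun c => congrArg (fun m => m.hom c) hf }
  let F' : Γ(G.left, ⊤) →ₐ[K] Ω :=
    { f'.hom with commutes' := fun c => congrArg (fun m => m.hom c) hf' }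
  have hFF' : F = F' := by
    rw [algHom_eq_of_connected K _ ε Ω F, algHom_eq_of_connected K _ ε Ω F']
  have : f = f' := by
    ext x
    exact DFunLike.congr_fun hFF' x
  subst this
  rfl


theorem exists_transporter {S : Scheme.{u}} {G X : Over S} [GrpObj G] (a : AlgGrp.Action G X)
    (h : IsIso (lift a.act (snd G X))) {T : Over S} (x₁ x₂ : T ⟶ X) :
    ∃ g : T ⟶ G, lift g x₂ ≫ a.act = x₁ := by
  haveI := h
  let w : T ⟶ G ⊗ X := lift x₁ x₂ ≫ inv (lift a.act (snd G X))
  have hw : w ≫ lift a.act (snd G X) = lift x₁ x₂ := by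
    simp only [w, Category.assoc, IsIso.inv_hom_id, Category.comp_id]
  have hsnd : w ≫ snd G X = x₂ := by
    have := congrArg (fun m => m ≫ snd X X) hw
    simpa only [Category.assoc, lift_snd] using this
  have hfst : w ≫ a.act = x₁ := by
    have := congrArg (fun m => m ≫ fst X X) hw
    simpa only [Category.assoc, lift_fst] using this
  refine ⟨w ≫ fst G X, ?_⟩
  have hwl : w = lift (w ≫ fst G X) x₂ := by
    apply CartesianMonoidalCategory.hom_ext
    · rw [lift_fst]
    · rw [lift_snd, hsnd]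
  rw [← hwl, hfst]

theorem one_act_pt {S : Scheme.{u}} {G X : Over S} [GrpObj G] (a : AlgGrp.Action G X)
    {T : Over S} (x : T ⟶ X) : lift (1 : T ⟶ G) x ≫ a.act = x := by
  have e : lift (1 : T ⟶ G) x = lift (toUnit T) x ≫ (η[G] ▷ X) := by
    apply CartesianMonoidalCategory.hom_ext
    · simp [Hom.one_def]
    · simp
  rw [e, Category.assoc, a.one_act]
  simp

theorem subsingleton_pts_torsor (G X : Over (Spec (CommRingCat.of K))) [GrpObj G] [IsFinite G.hom]
    [ConnectedSpace ↥G.left] (a : AlgGrp.Action G X) (h : IsIso (lift a.act (snd G X)))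
    (Ω : Type u) [Field Ω] [Algebra K Ω] :
    Subsingleton (Over.mk (Spec.map (CommRingCat.ofHom (algebraMap K Ω))) ⟶ X) := by
  refine ⟨fun x₁ x₂ => ?_⟩
  obtain ⟨g, hg⟩ := exists_transporter a h x₁ x₂
  haveI := subsingleton_pts G Ω
  rw [← hg, Subsingleton.elim g 1, one_act_pt]


instance subsingleton_specField : Subsingleton ↥(Spec (CommRingCat.of K)) :=
  inferInstanceAs (Subsingleton (PrimeSpectrum K))

theorem finrank_eq (G X : Over (Spec (CommRingCat.of K))) [GrpObj G] [IsFinite G.hom]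
    [IsFinite X.hom] (a : AlgGrp.Action G X) (h : IsIso (lift a.act (snd G X))) (y : ↥X.left) :
    Scheme.Hom.finrank X.hom (X.hom y) = Scheme.Hom.finrank G.hom (X.hom y) := by
  haveI := h
  haveI : IsIso (lift a.act (snd G X)).left :=
    inferInstanceAs (IsIso ((Over.forget _).map (lift a.act (snd G X))))
  have e : (lift a.act (snd G X)).left ≫ Limits.pullback.snd X.hom X.hom =
      Limits.pullback.snd G.hom X.hom :=
    congrArg (fun m => m.left) (lift_snd a.act (snd G X))
  calc Scheme.Hom.finrank X.hom (X.hom y)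
      = Scheme.Hom.finrank (Limits.pullback.snd X.hom X.hom) y :=
        (Scheme.Hom.finrank_pullback_snd X.hom X.hom y).symm
    _ = Scheme.Hom.finrank ((lift a.act (snd G X)).left ≫ Limits.pullback.snd X.hom X.hom) y := by
        rw [Scheme.Hom.finrank_comp_left_of_isIso]
    _ = Scheme.Hom.finrank (Limits.pullback.snd G.hom X.hom) y := by rw [e]
    _ = Scheme.Hom.finrank G.hom (X.hom y) := Scheme.Hom.finrank_pullback_snd G.hom X.hom y

theorem finrank_affine (X : Over (Spec (CommRingCat.of K))) [IsFinite X.hom]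
    (s : ↥(Spec (CommRingCat.of K))) :
    letI : Algebra K Γ(X.left, ⊤) := (phi X).hom.toAlgebra
    Scheme.Hom.finrank X.hom s = Module.finrank K Γ(X.left, ⊤) := by
  letI alg : Algebra K Γ(X.left, ⊤) := (phi X).hom.toAlgebra
  haveI : IsAffine X.left := isAffine_of_isAffineHom X.hom
  have hfin : (phi X).hom.Finite := finite_phi X
  have hflat : (phi X).hom.Flat := by
    change Module.Flat K Γ(X.left, ⊤)
    infer_instance
  haveI : IsFinite (Spec.map (phi X)) := (IsFinite.SpecMap_iff _).mpr hfin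
  haveI : Flat (Spec.map (phi X)) := Flat.SpecMap_iff.mpr hflat
  have h1 : Scheme.Hom.finrank X.hom = Scheme.Hom.finrank (Spec.map (phi X)) := by
    conv_lhs => rw [hom_eq X]
    exact Scheme.Hom.finrank_comp_left_of_isIso _ _
  rw [h1, Scheme.Hom.finrank_SpecMap_eq_finrank hfin hflat]
  change Module.rankAtStalk (R := K) Γ(X.left, ⊤) s = _
  exact congrFun Module.rankAtStalk_eq_finrank_of_free s

theorem main (K : Type u) [Field K] (p : ℕ) [ExpChar K p] (G : Over (Spec (CommRingCat.of K)))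
    [GrpObj G] [IsFinite G.hom] [ConnectedSpace ↥G.left] :
    ∃ n : ℕ, ∀ (X : Over (Spec (CommRingCat.of K))) (a : AlgGrp.Action G X),
      NonAbH1.IsTorsorFor Scheme.fppfPrecoverage a →
      NonAbH1.HasSectionOver X (Spec.map (CommRingCat.ofHom (iterateFrobenius K p n))) := by
  let s₀ : ↥(Spec (CommRingCat.of K)) := (⊥ : PrimeSpectrum K)
  refine ⟨Scheme.Hom.finrank G.hom s₀, fun X a h => ?_⟩
  haveI : IsFinite X.hom := Groth.Agent.H40.isFinite_of_isTorsorFor_fppf a h
  haveI : IsAffine X.left := isAffine_of_isAffineHom X.hom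
  obtain ⟨R, hR, hsec⟩ := h.2
  obtain ⟨Y, f, hRf, ⟨y, -⟩⟩ := (Presieve.mem_comap_jointlySurjectivePrecoverage_iff _).mp hR.1 s₀
  obtain ⟨s, hs⟩ := hsec f hRf
  let y₀ : ↥X.left := s y
  letI alg : Algebra K Γ(X.left, ⊤) := (phi X).hom.toAlgebra
  haveI : Module.Finite K Γ(X.left, ⊤) := finite_phi X
  haveI : Nontrivial Γ(X.left, ⊤) := by
    apply +allowSynthFailures Scheme.component_nontrivial
    exact ⟨⟨y₀, trivial⟩⟩
  have hd : Module.finrank K Γ(X.left, ⊤) ≤ Scheme.Hom.finrank G.hom s₀ := by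
    rw [← finrank_affine X s₀, Subsingleton.elim s₀ (X.hom y₀), finrank_eq G X a h.1 y₀]
  have H : ∀ (Ω : Type u) [Field Ω] [Algebra K Ω], Subsingleton (Γ(X.left, ⊤) →ₐ[K] Ω) := by
    intro Ω _ _
    refine ⟨fun f₁ f₂ => ?_⟩
    haveI := subsingleton_pts_torsor G X a h.1 Ω
    have hf₁ : phi X ≫ CommRingCat.ofHom f₁.toRingHom = CommRingCat.ofHom (algebraMap K Ω) := by
      ext c
      exact f₁.commutes c
    have hf₂ : phi X ≫ CommRingCat.ofHom f₂.toRingHom = CommRingCat.ofHom (algebraMap K Ω) := by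
      ext c
      exact f₂.commutes c
    have := mkPt_injective X _ _ _ hf₁ hf₂ (Subsingleton.elim _ _)
    ext b
    exact congrArg (fun m => m.hom b) this
  obtain ⟨ψ, hψ⟩ := exists_ringHom_of_subsingleton_algHom K p Γ(X.left, ⊤) _ hd H
  have hψ' : phi X ≫ CommRingCat.ofHom ψ =
      CommRingCat.ofHom (iterateFrobenius K p (Scheme.Hom.finrank G.hom s₀)) := by
    ext c
    exact DFunLike.congr_fun hψ c
  exact ⟨(mkPt X _ (CommRingCat.ofHom ψ) hψ').left, Over.w (mkPt X _ (CommRingCat.ofHom ψ) hψ')⟩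

end Groth.Agent.H42.InfTors
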