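import Mathlib

/-!
# Algebra for torsors under finite connected group schemes over a field

* `exponent_le_of_finrank_le`: a finite purely inseparable extension of degree `≤ d` has exponent
  `≤ d`.
* `exists_ringHom_of_subsingleton_algHom`: a nonzero finite `K`-algebra `B` of dimension `≤ d` with
  at most one `K`-algebra map to every field admits a ring map `ψ : B → K` with
  `ψ (c • 1) = c ^ p ^ d`.
* `algHom_eq_of_connected`: a finite `K`-algebra `A` with connected spectrum and an augmentation
  `ε : A → K` has only the map `ε` to every field extension of `K`.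
-/

set_option autoImplicit false
set_option linter.style.haveILetI false
set_option linter.unusedSectionVars false
universe u

namespace Groth.Agent.H42.InfTors

open IsPurelyInseparable

theorem exponent_le_of_finrank_le (K L : Type*) [Field K] [Field L] [Algebra K L]
    [FiniteDimensional K L] [IsPurelyInseparable K L] (d : ℕ) (hd : Module.finrank K L ≤ d) :
    exponent K L ≤ d := by
  obtain ⟨p, hp⟩ := ExpChar.exists K
  by_contra hlt
  rw [not_le] at hlt
  obtain ⟨a, ha⟩ := exponent_min' (K := K) (L := L) p hlt
  apply ha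
  have h1 : (minpoly K a).natDegree = p ^ elemExponent K a := minpoly_natDegree_eq' K p a
  have h2 : p ^ elemExponent K a ≤ d := by
    rw [← h1]; exact (minpoly.natDegree_le a).trans hd
  have h3 : elemExponent K a ≤ d := by
    rcases hp with _ | ⟨hprime⟩
    · rw [elemExponent_eq_zero_of_charZero]; exact Nat.zero_le _
    · exact (Nat.lt_pow_self hprime.one_lt).le.trans h2
  obtain ⟨c, hc⟩ := elemExponent_def' K p a
  refine ⟨c ^ p ^ (d - elemExponent K a), ?_⟩
  rw [map_pow, hc, ← pow_mul, ← pow_add, Nat.add_sub_cancel' h3]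

theorem exists_ringHom_of_subsingleton_algHom (K : Type u) [Field K] (p : ℕ) [ExpChar K p]
    (B : Type u) [CommRing B] [Algebra K B] [Module.Finite K B] [Nontrivial B] (d : ℕ)
    (hd : Module.finrank K B ≤ d)
    (H : ∀ (Ω : Type u) [Field Ω] [Algebra K Ω], Subsingleton (B →ₐ[K] Ω)) :
    ∃ ψ : B →+* K, ψ.comp (algebraMap K B) = iterateFrobenius K p d := by
  obtain ⟨m, hm⟩ := Ideal.exists_maximal B
  letI : Field (B ⧸ m) := Ideal.Quotient.field m
  have hsurj : Function.Surjective (Ideal.Quotient.mkₐ K m) := Ideal.Quotient.mkₐ_surjective K m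
  haveI : Module.Finite K (B ⧸ m) := Module.Finite.of_surjective (Ideal.Quotient.mkₐ K m).toLinearMap hsurj
  have hd' : Module.finrank K (B ⧸ m) ≤ d :=
    (LinearMap.finrank_le_finrank_of_surjective (f := (Ideal.Quotient.mkₐ K m).toLinearMap) hsurj).trans hd
  haveI : Subsingleton (B ⧸ m →ₐ[K] AlgebraicClosure (B ⧸ m)) := by
    refine ⟨fun f g => ?_⟩
    have := (H (AlgebraicClosure (B ⧸ m))).elim (f.comp (Ideal.Quotient.mkₐ K m))
      (g.comp (Ideal.Quotient.mkₐ K m))
    ext x
    obtain ⟨b, rfl⟩ := hsurj x
    exact DFunLike.congr_fun this b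
  haveI : IsPurelyInseparable K (B ⧸ m) := by
    apply isPurelyInseparable_of_finSepDegree_eq_one
    rw [Field.finSepDegree]
    haveI : Subsingleton (Field.Emb K (B ⧸ m)) := ‹_›
    haveI : Nonempty (Field.Emb K (B ⧸ m)) := inferInstance
    exact Nat.card_unique
  have hexp := exponent_le_of_finrank_le K (B ⧸ m) d hd'
  refine ⟨(IsPurelyInseparable.iterateFrobenius K (B ⧸ m) p hexp).comp
    (Ideal.Quotient.mk m), ?_⟩
  ext c
  simp only [RingHom.comp_apply]
  rw [show (Ideal.Quotient.mk m) (algebraMap K B c) = algebraMap K (B ⧸ m) c from rfl,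
    iterateFrobenius_algebraMap, iterateFrobenius_def]

theorem algHom_eq_of_connected (K : Type u) [Field K] (A : Type u) [CommRing A] [Algebra K A]
    [Module.Finite K A] [ConnectedSpace (PrimeSpectrum A)] (ε : A →ₐ[K] K)
    (Ω : Type u) [Field Ω] [Algebra K Ω] (f : A →ₐ[K] Ω) :
    f = (Algebra.ofId K Ω).comp ε := by
  haveI : IsArtinianRing A := IsArtinianRing.of_finite K A
  haveI : Subsingleton (PrimeSpectrum A) := by
    haveI : DiscreteTopology (PrimeSpectrum A) := inferInstance
    exact PreconnectedSpace.trivial_of_discrete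
  have hker : RingHom.ker ε.toRingHom = RingHom.ker f.toRingHom := by
    have h1 : (RingHom.ker ε.toRingHom).IsPrime := RingHom.ker_isPrime _
    have h2 : (RingHom.ker f.toRingHom).IsPrime := RingHom.ker_isPrime _
    exact congrArg PrimeSpectrum.asIdeal
      (Subsingleton.elim (⟨_, h1⟩ : PrimeSpectrum A) ⟨_, h2⟩)
  ext a
  have ha : a - algebraMap K A (ε a) ∈ RingHom.ker ε.toRingHom := by
    rw [RingHom.mem_ker]
    simp
  rw [hker, RingHom.mem_ker] at ha
  have : f a = f (algebraMap K A (ε a)) := by
    have := ha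
    simpa [sub_eq_zero] using this
  rw [this]
  simp [Algebra.ofId_apply]

end Groth.Agent.H42.InfTors
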