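import Mathlib
import Groth.Prelude.Def_TwC
import Groth.Agent.H42.ConstSch
import Groth.Agent.H42.FpqcTwConst
import Groth.Agent.H42.EtConstFin

/-!
# Isotrivial twisted constant schemes are unions of finite open and closed pieces (helper42)

If `R` becomes constant over the open and closed pieces of one finite étale surjective `S' ⟶ S`,
then every point of `R` lies in the image of a sheet `U' ⟶ R` (`U'` an open and closed piece of
`S'`); this image is open and closed in `R` and finite over `S` (`main`).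
-/

set_option autoImplicit false
universe u
open CategoryTheory Limits AlgebraicGeometry MorphismProperty

namespace Groth.Agent.H42.IsotrivFin

open Groth.Agent.H42 Groth.Agent.H42.ConstSch Groth.Agent.H42.EtConstFin

theorem quasiCompact_of_comp_surjective {X Y Z : Scheme.{u}} (f : X ⟶ Y) (g : Y ⟶ Z)
    [QuasiCompact (f ≫ g)] [Surjective f] : QuasiCompact g := by
  refine ⟨fun K hKo hKc => ?_⟩
  have h := QuasiCompact.isCompact_preimage (f := f ≫ g) K hKo hKc
  have heq : g ⁻¹' K = f '' ((f ≫ g) ⁻¹' K) := by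
    ext y
    constructor
    · intro hy
      obtain ⟨x, rfl⟩ := f.surjective y
      exact ⟨x, hy, rfl⟩
    · rintro ⟨x, hx, rfl⟩
      exact hx
  rw [heq]
  exact h.image f.continuous

theorem isClosedImmersion_inj (S' : Scheme.{u}) (I : Type u) (i : I) :
    IsClosedImmersion (Sigma.ι (fun _ : I => S') i) := by
  refine IsClosedImmersion.of_isPreimmersion _ ?_
  rw [← isOpen_compl_iff, isOpen_iff_forall_mem_open]
  intro y hy
  obtain ⟨j, hj⟩ := exists_mem_range S' I y
  refine ⟨Set.range (Sigma.ι (fun _ : I => S') j), ?_,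
    (Sigma.ι (fun _ : I => S') j).isOpenEmbedding.isOpen_range, hj⟩
  rintro _ ⟨a, rfl⟩ ⟨b, hb⟩
  have hij := inj_index_eq S' I hb
  subst hij
  exact hy hj

theorem twConst_fpqc_of_finiteEtale {S : Scheme.{u}} (R : Over S) [GrpObj R]
    (hR : TwC.IsTwConstGrp TwC.Topology.finiteEtale R) : TwC.IsTwConst TwC.Topology.fpqc R := by
  obtain ⟨S', f, hfin, het, hsurj, hloc⟩ := hR
  refine ⟨S', f, inferInstance, hsurj, ?_, ?_⟩
  · intro V hV
    refine ⟨f ⁻¹ᵁ V, QuasiCompact.isCompact_preimage (f := f) _ V.isOpen hV.isCompact, ?_⟩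
    exact Set.image_preimage_eq _ f.surjective
  · intro s'
    obtain ⟨U, hU, -, M, _, e, -⟩ := hloc s'
    exact ⟨U, hU, M, ⟨e⟩⟩

set_option backward.isDefEq.respectTransparency.types false in
theorem main {S : Scheme.{u}} (R : Over S) [GrpObj R]
    (hR : TwC.IsTwConstGrp TwC.Topology.finiteEtale R) (x : R.left) :
    ∃ U : R.left.Opens, x ∈ U ∧ IsClosed (U : Set R.left) ∧ IsFinite (U.ι ≫ R.hom) := by
  have hfpqc := twConst_fpqc_of_finiteEtale R hR
  obtain ⟨S', f, hfin, het, hsurj, hloc⟩ := hR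
  obtain ⟨s', hs'⟩ := f.surjective (R.hom x)
  obtain ⟨U', hU', hU'c, M, _, e, -⟩ := hloc s'
  have hci : IsClosedImmersion U'.ι :=
    IsClosedImmersion.of_isPreimmersion _ (by rw [Scheme.Opens.range_ι]; exact hU'c)
  have hgfin : IsFinite (U'.ι ≫ f) := inferInstance
  have hget : Etale (U'.ι ≫ f) := inferInstance
  -- a point above `x`
  obtain ⟨x', hx'1, hx'2⟩ := Scheme.Pullback.exists_preimage_pullback (f := R.hom)
    (g := U'.ι ≫ f) x ⟨s', hU'⟩ (by rw [Scheme.Hom.comp_apply]; exact hs'.symm)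
  obtain ⟨m, hm⟩ := exists_eq_inj U' M (e.hom.left x')
  have hiso : IsIso e.inv.left := inferInstanceAs (IsIso ((CategoryTheory.Over.forget _).mapIso e).inv)
  let σ : (U' : Scheme.{u}) ⟶ R.left :=
    Sigma.ι (fun _ : M => (U' : Scheme.{u})) m ≫ e.inv.left ≫ pullback.fst R.hom (U'.ι ≫ f)
  have hw : e.inv.left ≫ pullback.snd R.hom (U'.ι ≫ f) = cst U' M := Over.w e.inv
  have hσg : σ ≫ R.hom = U'.ι ≫ f := by
    simp only [σ, Category.assoc]
    rw [pullback.condition, ← Category.assoc e.inv.left, hw, Sigma.ι_desc_assoc, Category.id_comp]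
  have := isClosedImmersion_inj (U' : Scheme.{u}) M m
  have hσfin : IsFinite σ := inferInstance
  have hσet : Etale σ := inferInstance
  let U : R.left.Opens := ⟨Set.range σ, σ.isOpenMap.isOpen_range⟩
  have hUcl : IsClosed (U : Set R.left) := σ.isClosedMap.isClosed_range
  have hxU : x ∈ U := by
    refine ⟨cst U' M (e.hom.left x'), ?_⟩
    simp only [σ, Scheme.Hom.comp_apply]
    rw [← hm, ← Scheme.Hom.comp_apply e.hom.left e.inv.left, ← Over.comp_left, e.hom_inv_id]
    exact hx'1
  refine ⟨U, hxU, hUcl, ?_⟩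
  have : IsClosedImmersion U.ι :=
    IsClosedImmersion.of_isPreimmersion _ (by rw [Scheme.Opens.range_ι]; exact hUcl)
  have hrange : Set.range σ ⊆ Set.range U.ι := by
    rw [Scheme.Opens.range_ι]
    exact subset_rfl
  let τ : (U' : Scheme.{u}) ⟶ (U : Scheme.{u}) := IsOpenImmersion.lift U.ι σ hrange
  have hτ : τ ≫ U.ι = σ := IsOpenImmersion.lift_fac _ _ _
  have : Surjective τ := by
    refine ⟨fun y => ?_⟩
    obtain ⟨a, ha⟩ := y.2
    refine ⟨a, ?_⟩
    apply U.ι.isOpenEmbedding.injective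
    rw [← Scheme.Hom.comp_apply, hτ]
    exact ha
  have : QuasiCompact (τ ≫ U.ι ≫ R.hom) := by
    rw [← Category.assoc, hτ, hσg]
    infer_instance
  have : QuasiCompact (U.ι ≫ R.hom) := quasiCompact_of_comp_surjective τ _
  exact FpqcTwConst.isFinite_of_closed R hfpqc U.ι

end Groth.Agent.H42.IsotrivFin
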