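import Mathlib

set_option autoImplicit false
universe u

namespace Groth.Agent.H42.Quillen

/-- If `S = N⁻¹R`, `M ≤ N` and every element of `N` divides an element of `M`, then
`S = M⁻¹R`. -/
theorem isLocalization_of_le_of_exists_mul_mem {R S : Type*} [CommRing R] [CommRing S]
    [Algebra R S] (M N : Submonoid R) [IsLocalization N S] (h : M ≤ N)
    (h' : ∀ x : N, ∃ m : R, m * x ∈ M) : IsLocalization M S where
  map_units y := IsLocalization.map_units S (⟨y.1, h y.2⟩ : N)
  surj z := by
    obtain ⟨⟨y, s⟩, e⟩ := IsLocalization.surj N z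
    obtain ⟨m, hm⟩ := h' s
    refine ⟨⟨y * m, ⟨m * s, hm⟩⟩, ?_⟩
    simp only at e ⊢
    rw [map_mul, map_mul, ← e]
    ring
  exists_of_eq {x y} hxy := by
    obtain ⟨c, hc⟩ := (IsLocalization.eq_iff_exists N S).mp hxy
    obtain ⟨m, hm⟩ := h' c
    refine ⟨⟨m * c, hm⟩, ?_⟩
    simp only
    rw [mul_assoc, hc, mul_assoc]

theorem away_of_tower {R A B : Type*} [CommRing R] [CommRing A] [CommRing B] [Algebra R A]
    [Algebra R B] [Algebra A B] [IsScalarTower R A B] (r r' : R) [IsLocalization.Away r A]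
    [IsLocalization.Away (r * r') B] : IsLocalization.Away (algebraMap R A r') B := by
  let N' : Submonoid R := Submonoid.powers r ⊔ Submonoid.powers r'
  have hmem : ∀ x ∈ N', ∃ a b : ℕ, x = r ^ a * r' ^ b := by
    intro x hx
    obtain ⟨y, ⟨a, rfl⟩, z, ⟨b, rfl⟩, rfl⟩ := Submonoid.mem_sup.mp hx
    exact ⟨a, b, rfl⟩
  have hr : r ∈ N' := Submonoid.mem_sup_left (Submonoid.mem_powers r)
  have hr' : r' ∈ N' := Submonoid.mem_sup_right (Submonoid.mem_powers r')
  have h1 : IsLocalization N' B := by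
    refine IsLocalization.isLocalization_of_is_exists_mul_mem (S := B)
      (Submonoid.powers (r * r')) N' ?_ ?_
    · rintro _ ⟨n, rfl⟩
      exact pow_mem (mul_mem hr hr') n
    · rintro ⟨x, hx⟩
      obtain ⟨a, b, rfl⟩ := hmem x hx
      refine ⟨r ^ b * r' ^ a, a + b, ?_⟩
      simp only
      ring
  have h2 : IsLocalization (N'.map (algebraMap R A)) B :=
    IsLocalization.isLocalization_of_submonoid_le A B (Submonoid.powers r) N' le_sup_left
  refine isLocalization_of_le_of_exists_mul_mem (S := B) (Submonoid.powers (algebraMap R A r'))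
    (N'.map (algebraMap R A)) ?_ ?_
  · rintro _ ⟨n, rfl⟩
    exact ⟨r' ^ n, pow_mem hr' n, by simp⟩
  · rintro ⟨_, x, hx, rfl⟩
    obtain ⟨a, b, rfl⟩ := hmem x hx
    refine ⟨IsLocalization.Away.invSelf (S := A) r ^ a, b, ?_⟩
    simp only [map_mul, map_pow]
    rw [← mul_assoc, ← mul_pow, mul_comm (IsLocalization.Away.invSelf r),
      IsLocalization.Away.mul_invSelf, one_pow, one_mul]

end Groth.Agent.H42.Quillen
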