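import Groth.Agent.H42.QuillenCore
import Groth.Agent.H42.QuillenLoc
import Mathlib

set_option autoImplicit false
universe u
open CategoryTheory AlgebraicGeometry Limits Polynomial

namespace Groth.Agent.H42.Quillen

attribute [local instance] Polynomial.algebra

section homs
variable {K : Type u} [CommRing K]

/-- `T ↦ (1 - Y) T : K[T] → K[T][Y]`. -/
noncomputable def sigma : K[X] →+* K[X][X] := eval₂RingHom (C.comp C) ((1 - X) * C X)

@[simp] theorem sigma_C (a : K) : sigma (C a) = C (C a) := by simp [sigma]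
@[simp] theorem sigma_X : sigma (X : K[X]) = (1 - X) * C X := by simp [sigma]

/-- `κ = C ∘ ev₀`. -/
noncomputable def kappa : K[X] →+* K[X] := C.comp (evalRingHom 0)

@[simp] theorem kappa_C (a : K) : kappa (C a) = C a := by simp [kappa]
@[simp] theorem kappa_X : kappa (X : K[X]) = 0 := by simp [kappa]

theorem evalC_comp_C (c : K) :
    (evalRingHom (C c : K[X])).comp (C : K[X] →+* K[X][X]) = RingHom.id _ := by
  refine RingHom.ext fun p => ?_
  simp

theorem evalC_comp_sigma (c : K) :
    (evalRingHom (C c : K[X])).comp sigma = scale (1 - c) := by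
  apply ringHom_ext
  · intro a; simp
  · simp

theorem evalZero_comp_sigma :
    (evalRingHom (0 : K[X])).comp sigma = (evalRingHom (0 : K[X])).comp C := by
  apply ringHom_ext
  · intro a; simp
  · simp

theorem kappa_comp_scale (c : K) : kappa.comp (scale c) = kappa := by
  apply ringHom_ext
  · intro a; simp
  · simp

theorem evalZero_comp_kappa : (evalRingHom (0 : K)).comp kappa = evalRingHom 0 := by
  apply ringHom_ext
  · intro a; simp
  · simp

theorem map_comp_kappa {K' : Type u} [CommRing K'] (m : K →+* K') :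
    (mapRingHom m).comp kappa = kappa.comp (mapRingHom m) := by
  apply ringHom_ext
  · intro a; simp
  · simp

end homs

section compat
variable (R : Type u) [CommRing R] {K K' : Type u} [CommRing K] [CommRing K'] [Algebra R K]
  [Algebra R K']

theorem compat_C : (C : K →+* K[X]).comp (algebraMap R K) = algebraMap R K[X] := rfl

theorem compat_kappa : (kappa : K[X] →+* K[X]).comp (algebraMap R K[X]) = algebraMap R K[X] := by
  ext r
  simp [Polynomial.algebraMap_apply]

theorem compat_scale (c : K) : (scale c).comp (algebraMap R K[X]) = algebraMap R K[X] := by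
  ext r
  simp [Polynomial.algebraMap_apply]

theorem compat_sigma : (sigma : K[X] →+* K[X][X]).comp (algebraMap R K[X]) =
    algebraMap R K[X][X] := by
  ext r
  simp [Polynomial.algebraMap_apply]

theorem compat_evalC (c : K) : (evalRingHom (C c : K[X])).comp (algebraMap R K[X][X]) =
    algebraMap R K[X] := by
  ext r
  simp [Polynomial.algebraMap_apply]

theorem compat_map (m : K →+* K') (hm : m.comp (algebraMap R K) = algebraMap R K') :
    (mapRingHom m).comp (algebraMap R K[X]) = algebraMap R K'[X] := by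
  ext r
  simp only [RingHom.comp_apply, Polynomial.algebraMap_apply, coe_mapRingHom, map_C]
  rw [← hm]; rfl

end compat

section idents
variable {R : Type u} [CommRing R] (r r' : R) {A A' B : Type u} [CommRing A] [CommRing A']
  [CommRing B] [Algebra R A] [Algebra R A'] [Algebra R B] [Algebra A B] [Algebra A' B]
  [IsScalarTower R A B] [IsScalarTower R A' B]

theorem ident1 [IsLocalization.Away (C (algebraMap R A r') : A[X]) B[X]] (y : R) (N₁ : ℕ) :
    (mapRingHom (algebraMap A B)).comp (evalRingHom (C (algebraMap R A y) : A[X])) =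
      (evalRingHom (C (algebraMap R B (y * r' ^ N₁)) : B[X])).comp
        (rho (Ls := B[X]) (C (algebraMap R A r') : A[X]) N₁) := by
  apply ringHom_ext
  · intro p
    simp
  · simp only [RingHom.comp_apply, coe_evalRingHom, eval_X, coe_mapRingHom, map_C, rho_X,
      eval_mul, eval_C]
    have h1 : algebraMap A[X] B[X] (C (algebraMap R A r')) = C (algebraMap R B r') := by
      rw [Polynomial.algebraMap_def, coe_mapRingHom, map_C, ← IsScalarTower.algebraMap_apply]
    have h2 := IsLocalization.Away.mul_invSelf (S := B[X]) (C (algebraMap R A r') : A[X])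
    rw [h1] at h2
    have h3 : (IsLocalization.Away.invSelf (S := B[X]) (C (algebraMap R A r') : A[X])) ^ N₁ *
        C (algebraMap R B r') ^ N₁ = 1 := by
      rw [← mul_pow, mul_comm, h2, one_pow]
    rw [← IsScalarTower.algebraMap_apply, map_mul, map_pow, C_mul, C_pow]
    linear_combination (-(C (algebraMap R B y))) * h3

theorem ident3 [IsLocalization.Away (algebraMap R A' r) B] (x : R) (N₂ : ℕ) :
    (mapRingHom (algebraMap A' B)).comp (scale (algebraMap R A' x)) =
      (scale (algebraMap R B (x * r ^ N₂))).comp (rho (Ls := B) (algebraMap R A' r) N₂) := by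
  apply ringHom_ext
  · intro a
    simp
  · simp only [RingHom.comp_apply, scale_X, coe_mapRingHom, map_C, map_X,
      rho_X, map_mul, scale_C]
    have h2 := IsLocalization.Away.mul_invSelf (S := B) (algebraMap R A' r)
    rw [← IsScalarTower.algebraMap_apply] at h2
    have h3 : (IsLocalization.Away.invSelf (S := B) (algebraMap R A' r)) ^ N₂ *
        algebraMap R B (r ^ N₂) = 1 := by
      rw [map_pow, ← mul_pow, mul_comm, h2, one_pow]
    have h4 : C ((IsLocalization.Away.invSelf (S := B) (algebraMap R A' r)) ^ N₂) *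
        C (algebraMap R B (r ^ N₂)) = (1 : B[X]) := by
      rw [← C_mul, h3, C_1]
    rw [← IsScalarTower.algebraMap_apply]
    linear_combination (-(C (algebraMap R B x) * X)) * h4

end idents

section patch
open MonObj

variable {R : Type u} [CommRing R] (G : Over (Spec (CommRingCat.of R))) [GrpObj G]

theorem sp_eq {C' D' : Type u} [CommRing C'] [CommRing D'] [Algebra R C'] [Algebra R D']
    {φ φ' : C' →+* D'} (h : φ = φ') (hφ : φ.comp (algebraMap R C') = algebraMap R D')
    (hφ' : φ'.comp (algebraMap R C') = algebraMap R D') : sp R φ hφ = sp R φ' hφ' := by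
  subst h; rfl

theorem sp_comp_assoc {C' D' E' : Type u} [CommRing C'] [CommRing D'] [CommRing E'] [Algebra R C']
    [Algebra R D'] [Algebra R E'] (φ : C' →+* D') (hφ : φ.comp (algebraMap R C') = algebraMap R D')
    (ψ : D' →+* E') (hψ : ψ.comp (algebraMap R D') = algebraMap R E') {Z : Over _}
    (w : pt R C' ⟶ Z) :
    sp R ψ hψ ≫ sp R φ hφ ≫ w =
      sp R (ψ.comp φ) (by rw [RingHom.comp_assoc, hφ, hψ]) ≫ w := by
  rw [← Category.assoc, sp_comp]

variable {K B : Type u} [CommRing K] [CommRing B] [Algebra R K] [Algebra R B]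

/-- Normalising a lift so that it is trivial at `T = 0`. -/
theorem normalize (m : K →+* B) (hm : m.comp (algebraMap R K) = algebraMap R B)
    (g₀ : pt R K[X] ⟶ G) (h : pt R B[X] ⟶ G)
    (hgh : sp R (mapRingHom m) (compat_map R m hm) ≫ g₀ = h)
    (hh : sp R (kappa : B[X] →+* B[X]) (compat_kappa R) ≫ h = 1) :
    ∃ g' : pt R K[X] ⟶ G,
      sp R (evalRingHom (0 : K)) (evalZero_comp_algebraMap K) ≫ g' = 1 ∧
      sp R (mapRingHom m) (compat_map R m hm) ≫ g' = h := by
  refine ⟨g₀ * (sp R (kappa : K[X] →+* K[X]) (compat_kappa R) ≫ g₀)⁻¹, ?_, ?_⟩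
  · rw [MonObj.comp_mul, GrpObj.comp_inv, sp_comp_assoc]
    rw [sp_eq evalZero_comp_kappa _ (evalZero_comp_algebraMap K), mul_inv_cancel]
  · rw [MonObj.comp_mul, GrpObj.comp_inv, sp_comp_assoc]
    rw [sp_eq (map_comp_kappa m) _
      (by rw [RingHom.comp_assoc, compat_map R m hm, compat_kappa]),
      ← sp_comp_assoc (mapRingHom m) (compat_map R m hm) kappa (compat_kappa R), hgh, hh,
      inv_one, _root_.mul_one]

theorem sp_id {C' : Type u} [CommRing C'] [Algebra R C'] :
    sp R (RingHom.id C') (RingHom.id_comp _) = 𝟙 (pt R C') := by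
  apply Over.OverMorphism.ext
  show Spec.map (CommRingCat.ofHom (RingHom.id C')) = 𝟙 _
  exact Spec.map_id _

section main
variable [LocallyOfFinitePresentation G.hom] (r r' : R)
  (A A' : Type u) [CommRing A] [CommRing A'] [Algebra R A] [Algebra R A']
  [IsLocalization.Away r A] [IsLocalization.Away r' A'] [IsLocalization.Away (r * r') B]
  [Algebra A B] [Algebra A' B] [IsScalarTower R A B] [IsScalarTower R A' B]

include r r' in
theorem patch (hrr : Ideal.span ({r, r'} : Set R) = ⊤) (g : pt R B[X] ⟶ G)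
    (hg : sp R (evalRingHom (0 : B)) (evalZero_comp_algebraMap B) ≫ g = 1) :
    ∃ (g₁ : pt R A[X] ⟶ G) (g₂ : pt R A'[X] ⟶ G),
      sp R (evalRingHom (0 : A)) (evalZero_comp_algebraMap A) ≫ g₁ = 1 ∧
      sp R (evalRingHom (0 : A')) (evalZero_comp_algebraMap A') ≫ g₂ = 1 ∧
      g = (sp R (mapRingHom (algebraMap A B)) (compat_map R _ algebraMap_comp_algebraMap) ≫ g₁) *
          (sp R (mapRingHom (algebraMap A' B)) (compat_map R _ algebraMap_comp_algebraMap) ≫
            g₂) := by
  have hB1 : IsLocalization.Away (algebraMap R A r') B := away_of_tower r r'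
  have hB2 : IsLocalization.Away (algebraMap R A' r) B := by
    have : IsLocalization.Away (r' * r) B := by rwa [mul_comm]
    exact away_of_tower r' r
  have hBT : IsLocalization.Away (C (algebraMap R A r') : A[X]) B[X] := by
    have := Polynomial.isLocalization (Submonoid.powers (algebraMap R A r')) B
    rwa [Submonoid.map_powers] at this
  -- Step 1: spread out `g(T) g((1-Y)T)⁻¹` over `A[T][Y]`.
  let u₁ : pt R B[X][X] ⟶ G :=
    (sp R (C : B[X] →+* B[X][X]) (compat_C R) ≫ g) * (sp R sigma (compat_sigma R) ≫ g)⁻¹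
  have hu₁ : sp R (evalRingHom (0 : B[X])) (evalZero_comp_algebraMap B[X]) ≫ u₁ =
      sp R (algebraMap A[X] B[X]) algebraMap_comp_algebraMap ≫ (1 : pt R A[X] ⟶ G) := by
    rw [MonObj.comp_one, MonObj.comp_mul, GrpObj.comp_inv, sp_comp_assoc, sp_comp_assoc,
      mul_inv_eq_one]
    exact congrArg (· ≫ g) (sp_eq evalZero_comp_sigma.symm _ _)
  obtain ⟨N₁, v₁, hv₁, -⟩ := core G (C (algebraMap R A r') : A[X]) (1 : pt R A[X] ⟶ G) u₁ hu₁
  -- Step 2: spread out `g` over `A'[T]`.
  have hu₂ : sp R (evalRingHom (0 : B)) (evalZero_comp_algebraMap B) ≫ g =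
      sp R (algebraMap A' B) algebraMap_comp_algebraMap ≫ (1 : pt R A' ⟶ G) := by
    rw [hg, MonObj.comp_one]
  obtain ⟨N₂, v₂, hv₂, -⟩ := core G (algebraMap R A' r) (1 : pt R A' ⟶ G) g hu₂
  -- coprimality
  obtain ⟨x, y, hxy⟩ : ∃ x y : R, x * r ^ N₂ + y * r' ^ N₁ = 1 := by
    have h1 : (1 : R) ∈ Ideal.span ({r, r'} : Set R) := by rw [hrr]; trivial
    obtain ⟨a, b, hab⟩ := Ideal.mem_span_pair.mp h1
    have hcop : IsCoprime r r' := ⟨a, b, hab⟩
    exact hcop.pow (m := N₂) (n := N₁)
  have hcc' : 1 - algebraMap R B (y * r' ^ N₁) = algebraMap R B (x * r ^ N₂) := by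
    rw [← map_one (algebraMap R B), ← map_sub, ← hxy]
    congr 1; ring
  -- `h(T) = g(c' T)`
  obtain ⟨h, hh⟩ : ∃ h : pt R B[X] ⟶ G, h = sp R (scale (algebraMap R B (x * r ^ N₂)))
      (compat_scale R _) ≫ g := ⟨_, rfl⟩
  have hκg : sp R (kappa : B[X] →+* B[X]) (compat_kappa R) ≫ g = 1 := by
    have : sp R (kappa : B[X] →+* B[X]) (compat_kappa R) = sp R (C : B →+* B[X]) (compat_C R) ≫
        sp R (evalRingHom (0 : B)) (evalZero_comp_algebraMap B) := by
      rw [sp_comp]; exact sp_eq rfl _ _
    rw [this, Category.assoc, hg, MonObj.comp_one]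
  have hκh : sp R (kappa : B[X] →+* B[X]) (compat_kappa R) ≫ h = 1 := by
    rw [hh, sp_comp_assoc, sp_eq (kappa_comp_scale _) _ (compat_kappa R), hκg]
  have e1 : sp R (mapRingHom (algebraMap A B)) (compat_map R _ algebraMap_comp_algebraMap) ≫
      (sp R (evalRingHom (C (algebraMap R A y) : A[X])) (compat_evalC R _) ≫ v₁) = g * h⁻¹ := by
    rw [sp_comp_assoc, sp_eq (ident1 r' y N₁) _
      (by rw [RingHom.comp_assoc, rho_comp_algebraMap, compat_evalC]),
      ← sp_comp_assoc (rho _ N₁) (rho_comp_algebraMap _ N₁) (evalRingHom (C _)) (compat_evalC R _),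
      hv₁]
    show sp R (evalRingHom (C _)) _ ≫ ((sp R C _ ≫ g) * (sp R sigma _ ≫ g)⁻¹) = g * h⁻¹
    rw [MonObj.comp_mul, GrpObj.comp_inv, sp_comp_assoc, sp_comp_assoc,
      sp_eq (evalC_comp_C _) _ (RingHom.id_comp _), sp_id, Category.id_comp,
      sp_eq (evalC_comp_sigma _) _ (compat_scale R _), hh]
    congr 3
    exact sp_eq (by rw [hcc']) _ _
  have e2 : sp R (mapRingHom (algebraMap A' B)) (compat_map R _ algebraMap_comp_algebraMap) ≫
      (sp R (scale (algebraMap R A' x)) (compat_scale R _) ≫ v₂) = h := by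
    rw [sp_comp_assoc, sp_eq (ident3 r x N₂) _
      (by rw [RingHom.comp_assoc, rho_comp_algebraMap, compat_scale]),
      ← sp_comp_assoc (rho _ N₂) (rho_comp_algebraMap _ N₂) (scale _) (compat_scale R _), hv₂, hh]
  have hκ1 : sp R (kappa : B[X] →+* B[X]) (compat_kappa R) ≫ (g * h⁻¹) = 1 := by
    rw [MonObj.comp_mul, GrpObj.comp_inv, hκg, hκh, inv_one, _root_.mul_one]
  obtain ⟨g₁, hg₁, hg₁'⟩ := normalize G (algebraMap A B) algebraMap_comp_algebraMap _ _ e1 hκ1
  obtain ⟨g₂, hg₂, hg₂'⟩ := normalize G (algebraMap A' B) algebraMap_comp_algebraMap _ _ e2 hκh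
  refine ⟨g₁, g₂, hg₁, hg₂, ?_⟩
  rw [hg₁', hg₂', inv_mul_cancel_right]

end main

end patch

end Groth.Agent.H42.Quillen
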