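import Groth.Agent.H42.KerCommAlg
import Groth.Agent.H42.QuillenPatch
import Mathlib

set_option autoImplicit false
universe u
open CategoryTheory AlgebraicGeometry Limits

namespace Groth.Agent.H42.KerComm

open Groth.Agent.H42.Quillen

variable {R : Type u} [CommRing R]

section spA
variable {A B E : Type u} [CommRing A] [CommRing B] [CommRing E] [Algebra R A] [Algebra R B]
  [Algebra R E]

/-- The morphism of `Spec R`-schemes induced by an `R`-algebra map. -/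
noncomputable def spA (φ : A →ₐ[R] B) : pt R B ⟶ pt R A :=
  sp R (φ : A →+* B) φ.comp_algebraMap

theorem spA_left (φ : A →ₐ[R] B) : (spA φ).left = Spec.map (CommRingCat.ofHom (φ : A →+* B)) := rfl

theorem spA_comp (φ : A →ₐ[R] B) (ψ : B →ₐ[R] E) : spA ψ ≫ spA φ = spA (ψ.comp φ) := by
  unfold spA
  rw [sp_comp]
  exact sp_eq rfl _ _

theorem spA_comp_assoc (φ : A →ₐ[R] B) (ψ : B →ₐ[R] E) {Z : Over (Spec (CommRingCat.of R))}
    (w : pt R A ⟶ Z) : spA ψ ≫ spA φ ≫ w = spA (ψ.comp φ) ≫ w := by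
  rw [← Category.assoc, spA_comp]

end spA

section overMilnor
variable {P A B C₀ : Type u} [CommRing P] [CommRing A] [CommRing B] [CommRing C₀] [Algebra R P]
  [Algebra R A] [Algebra R B] [Algebra R C₀]
  (πA : P →ₐ[R] A) (πB : P →ₐ[R] B) (f : A →ₐ[R] C₀) (g : B →ₐ[R] C₀)
  (h : MilnorGlue.IsMilnor (πA : P →+* A) (πB : P →+* B) (f : A →+* C₀) (g : B →+* C₀))
  (X : Over (Spec (CommRingCat.of R)))

include h in
theorem over_hom_ext {c₁ c₂ : pt R P ⟶ X} (hA : spA πA ≫ c₁ = spA πA ≫ c₂)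
    (hB : spA πB ≫ c₁ = spA πB ≫ c₂) : c₁ = c₂ := by
  apply Over.OverMorphism.ext
  exact h.hom_ext (congrArg (fun m => m.left) hA) (congrArg (fun m => m.left) hB)

include h in
theorem over_exists (a : pt R A ⟶ X) (b : pt R B ⟶ X) (hab : spA f ≫ a = spA g ≫ b) :
    ∃ c : pt R P ⟶ X, spA πA ≫ c = a ∧ spA πB ≫ c = b := by
  obtain ⟨c₀, hc₀A, hc₀B⟩ := h.exists_desc a.left b.left (congrArg (fun m => m.left) hab)
  have hw : c₀ ≫ X.hom = Spec.map (CommRingCat.ofHom (algebraMap R P)) := by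
    apply h.hom_ext
    · rw [← Category.assoc, hc₀A, Over.w a]
      show _ = (spA πA).left ≫ _
      exact (Over.w (spA πA)).symm
    · rw [← Category.assoc, hc₀B, Over.w b]
      show _ = (spA πB).left ≫ _
      exact (Over.w (spA πB)).symm
  exact ⟨Over.homMk c₀ hw, Over.OverMorphism.ext hc₀A, Over.OverMorphism.ext hc₀B⟩

end overMilnor

section EH
open MonObj

variable {C : Type u} [CommRing C] [Algebra R C] (I : Ideal C)
  (X : Over (Spec (CommRingCat.of R))) [GrpObj X]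

omit [GrpObj X] in
theorem D3_hom_ext {z z' : pt R (D3 R I) ⟶ X} (h1 : spA (p1 R I) ≫ z = spA (p1 R I) ≫ z')
    (h2 : spA (p2 R I) ≫ z = spA (p2 R I) ≫ z') (h3 : spA (p3 R I) ≫ z = spA (p3 R I) ≫ z') :
    z = z' := by
  refine over_hom_ext (p3 R I) (q12 R I) (Ideal.Quotient.mkₐ R I)
    ((Ideal.Quotient.mkₐ R I).comp (pr1 R I)) (isMilnor_D3 R I) X h3 ?_
  refine over_hom_ext (pr1 R I) (pr2 R I) (Ideal.Quotient.mkₐ R I) (Ideal.Quotient.mkₐ R I)
    (isMilnor_D2 R I) X ?_ ?_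
  · rw [spA_comp_assoc, spA_comp_assoc, pr1_comp_q12]; exact h1
  · rw [spA_comp_assoc, spA_comp_assoc, pr2_comp_q12]; exact h2

omit [GrpObj X] in
theorem D3_exists (a b c : pt R C ⟶ X)
    (hab : spA (Ideal.Quotient.mkₐ R I) ≫ a = spA (Ideal.Quotient.mkₐ R I) ≫ b)
    (hac : spA (Ideal.Quotient.mkₐ R I) ≫ a = spA (Ideal.Quotient.mkₐ R I) ≫ c) :
    ∃ z : pt R (D3 R I) ⟶ X, spA (p1 R I) ≫ z = a ∧ spA (p2 R I) ≫ z = b ∧
      spA (p3 R I) ≫ z = c := by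
  obtain ⟨w, hw1, hw2⟩ := over_exists (pr1 R I) (pr2 R I) (Ideal.Quotient.mkₐ R I)
    (Ideal.Quotient.mkₐ R I) (isMilnor_D2 R I) X a b hab
  obtain ⟨z, hz3, hz12⟩ := over_exists (p3 R I) (q12 R I) (Ideal.Quotient.mkₐ R I)
    ((Ideal.Quotient.mkₐ R I).comp (pr1 R I)) (isMilnor_D3 R I) X c w (by
      rw [← spA_comp_assoc, hw1, hac])
  refine ⟨z, ?_, ?_, hz3⟩
  · rw [← pr1_comp_q12, ← spA_comp_assoc, hz12, hw1]
  · rw [← pr2_comp_q12, ← spA_comp_assoc, hz12, hw2]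

/-- **Commutativity of the kernel of reduction modulo a square-zero ideal** (affine case). -/
theorem comm_of_affine (hI : I * I = ⊥) (g g' : pt R C ⟶ X)
    (hg : spA (Ideal.Quotient.mkₐ R I) ≫ g = 1) (hg' : spA (Ideal.Quotient.mkₐ R I) ≫ g' = 1) :
    g * g' = g' * g := by
  have h1 : spA (Ideal.Quotient.mkₐ R I) ≫ (1 : pt R C ⟶ X) = 1 := MonObj.comp_one _
  obtain ⟨z₂, hz₂1, hz₂2, hz₂3⟩ := D3_exists I X 1 g 1 (by rw [h1, hg]) rfl
  obtain ⟨z₃, hz₃1, hz₃2, hz₃3⟩ := D3_exists I X 1 1 g' rfl (by rw [h1, hg'])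
  have hcomm : z₂ * z₃ = z₃ * z₂ := by
    apply D3_hom_ext I X
    · rw [MonObj.comp_mul, MonObj.comp_mul, hz₂1, hz₃1]
    · rw [MonObj.comp_mul, MonObj.comp_mul, hz₂2, hz₃2, _root_.mul_one, _root_.one_mul]
    · rw [MonObj.comp_mul, MonObj.comp_mul, hz₂3, hz₃3, _root_.mul_one, _root_.one_mul]
  have hψ₂ : spA (psi2 R I) ≫ z₂ = z₂ := by
    apply D3_hom_ext I X
    · rw [spA_comp_assoc, p1_comp_psi2]
    · rw [spA_comp_assoc, p2_comp_psi2]
    · rw [spA_comp_assoc, p3_comp_psi2, hz₂1, hz₂3]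
  have hψ₃ : spA (psi3 R I) ≫ z₃ = z₃ := by
    apply D3_hom_ext I X
    · rw [spA_comp_assoc, p1_comp_psi3]
    · rw [spA_comp_assoc, p2_comp_psi3, hz₃1, hz₃2]
    · rw [spA_comp_assoc, p3_comp_psi3]
  have hs₂ : spA (sumHom R I hI) ≫ z₂ = g := by
    rw [← hψ₂, spA_comp_assoc, sumHom_comp_psi2, hz₂2]
  have hs₃ : spA (sumHom R I hI) ≫ z₃ = g' := by
    rw [← hψ₃, spA_comp_assoc, sumHom_comp_psi3, hz₃3]
  have := congrArg (fun z => spA (sumHom R I hI) ≫ z) hcomm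
  simp only [MonObj.comp_mul, hs₂, hs₃] at this
  exact this

end EH

end Groth.Agent.H42.KerComm
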