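import Groth.Agent.H42.MilnorGlue
import Mathlib

set_option autoImplicit false
universe u

namespace Groth.Agent.H42.KerComm

variable (R : Type u) [CommRing R] {C : Type u} [CommRing C] [Algebra R C] (I : Ideal C)

/-- `C ×_{C/I} C`. -/
def D2 : Subalgebra R (C × C) :=
  AlgHom.equalizer ((Ideal.Quotient.mkₐ R I).comp (AlgHom.fst R C C))
    ((Ideal.Quotient.mkₐ R I).comp (AlgHom.snd R C C))

/-- `C ×_{C/I} C ×_{C/I} C`. -/
def D3 : Subalgebra R (C × C × C) :=
  AlgHom.equalizer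
    (((Ideal.Quotient.mkₐ R I).comp (AlgHom.fst R C (C × C))).prod
      ((Ideal.Quotient.mkₐ R I).comp (AlgHom.fst R C (C × C))))
    (((Ideal.Quotient.mkₐ R I).comp ((AlgHom.fst R C C).comp (AlgHom.snd R C (C × C)))).prod
      ((Ideal.Quotient.mkₐ R I).comp ((AlgHom.snd R C C).comp (AlgHom.snd R C (C × C)))))

variable {R I}

theorem mem_D2 {x : C × C} : x ∈ D2 R I ↔ x.1 - x.2 ∈ I := by
  rw [← Ideal.Quotient.eq]; rfl

theorem mem_D3 {x : C × C × C} : x ∈ D3 R I ↔ x.1 - x.2.1 ∈ I ∧ x.1 - x.2.2 ∈ I := by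
  rw [← Ideal.Quotient.eq, ← Ideal.Quotient.eq]
  constructor
  · intro h
    exact ⟨congrArg Prod.fst h, congrArg Prod.snd h⟩
  · intro h
    exact Prod.ext h.1 h.2

variable (R I)

/-- projections -/
def p1 : D3 R I →ₐ[R] C := (AlgHom.fst R C (C × C)).comp (D3 R I).val
def p2 : D3 R I →ₐ[R] C := ((AlgHom.fst R C C).comp (AlgHom.snd R C (C × C))).comp (D3 R I).val
def p3 : D3 R I →ₐ[R] C := ((AlgHom.snd R C C).comp (AlgHom.snd R C (C × C))).comp (D3 R I).val

def pr1 : D2 R I →ₐ[R] C := (AlgHom.fst R C C).comp (D2 R I).val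
def pr2 : D2 R I →ₐ[R] C := (AlgHom.snd R C C).comp (D2 R I).val

/-- `(a,b,c) ↦ (a,b)`. -/
def q12 : D3 R I →ₐ[R] D2 R I :=
  AlgHom.codRestrict ((p1 R I).prod (p2 R I)) (D2 R I) (fun x => by
    rw [mem_D2]
    exact (mem_D3.mp x.2).1)

theorem p1_sub_p2_mem (x : D3 R I) : p1 R I x - p2 R I x ∈ I := (mem_D3.mp x.2).1
theorem p1_sub_p3_mem (x : D3 R I) : p1 R I x - p3 R I x ∈ I := (mem_D3.mp x.2).2

theorem D3_ext {x y : D3 R I} (h1 : p1 R I x = p1 R I y) (h2 : p2 R I x = p2 R I y)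
    (h3 : p3 R I x = p3 R I y) : x = y :=
  Subtype.ext (Prod.ext h1 (Prod.ext h2 h3))

/-- The first Milnor square. -/
theorem isMilnor_D2 : MilnorGlue.IsMilnor (pr1 R I : D2 R I →+* C) (pr2 R I : D2 R I →+* C)
    (Ideal.Quotient.mk I) (Ideal.Quotient.mk I) where
  comm := fun x => by
    rw [Ideal.Quotient.eq]
    exact mem_D2.mp x.2
  exists_lift := fun a b hab => ⟨⟨(a, b), mem_D2.mpr (Ideal.Quotient.eq.mp hab)⟩, rfl, rfl⟩
  inj := fun x h1 h2 => Subtype.ext (Prod.ext h1 h2)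
  surj := Ideal.Quotient.mk_surjective

/-- The second Milnor square. -/
theorem isMilnor_D3 : MilnorGlue.IsMilnor (p3 R I : D3 R I →+* C) (q12 R I : D3 R I →+* D2 R I)
    (Ideal.Quotient.mk I) ((Ideal.Quotient.mk I).comp (pr1 R I : D2 R I →+* C)) where
  comm := fun x => by
    show Ideal.Quotient.mk I (p3 R I x) = Ideal.Quotient.mk I (p1 R I x)
    rw [eq_comm, Ideal.Quotient.eq]
    exact p1_sub_p3_mem R I x
  exists_lift := fun c d hcd => by
    have h1 : d.1.1 - d.1.2 ∈ I := mem_D2.mp d.2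
    have h2 : d.1.1 - c ∈ I := by
      rw [← Ideal.Quotient.eq]; exact hcd.symm
    exact ⟨⟨(d.1.1, d.1.2, c), mem_D3.mpr ⟨h1, h2⟩⟩, rfl, Subtype.ext rfl⟩
  inj := fun x h1 h2 => by
    have h3 : p1 R I x = 0 := congrArg (fun d : D2 R I => d.1.1) h2
    have h4 : p2 R I x = 0 := congrArg (fun d : D2 R I => d.1.2) h2
    have h5 : p3 R I x = 0 := h1
    exact D3_ext R I (by rw [h3, map_zero]) (by rw [h4, map_zero]) (by rw [h5, map_zero])
  surj := Ideal.Quotient.mk_surjective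

/-- `(a,b,c) ↦ b + c - a`, a ring homomorphism since `I² = 0`. -/
def sumHom (hI : I * I = ⊥) : D3 R I →ₐ[R] C where
  toFun x := p2 R I x + p3 R I x - p1 R I x
  map_one' := by simp
  map_zero' := by simp
  map_add' x y := by simp only [map_add]; ring
  map_mul' x y := by
    have e1 : (p1 R I x - p2 R I x) * (p1 R I y - p3 R I y) = 0 := by
      have := Ideal.mul_mem_mul (p1_sub_p2_mem R I x) (p1_sub_p3_mem R I y)
      rw [hI] at this
      exact this
    have e2 : (p1 R I x - p3 R I x) * (p1 R I y - p2 R I y) = 0 := by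
      have := Ideal.mul_mem_mul (p1_sub_p3_mem R I x) (p1_sub_p2_mem R I y)
      rw [hI] at this
      exact this
    simp only [map_mul]
    linear_combination (-1 : C) * e1 - e2
  commutes' r := by simp [AlgHom.commutes]

/-- `(a,b,c) ↦ (a,b,a)`. -/
def psi2 : D3 R I →ₐ[R] D3 R I :=
  AlgHom.codRestrict ((p1 R I).prod ((p2 R I).prod (p1 R I))) (D3 R I) (fun x => by
    rw [mem_D3]
    exact ⟨p1_sub_p2_mem R I x, by simp⟩)

/-- `(a,b,c) ↦ (a,a,c)`. -/
def psi3 : D3 R I →ₐ[R] D3 R I :=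
  AlgHom.codRestrict ((p1 R I).prod ((p1 R I).prod (p3 R I))) (D3 R I) (fun x => by
    rw [mem_D3]
    exact ⟨by simp, p1_sub_p3_mem R I x⟩)

theorem p1_comp_psi2 : (p1 R I).comp (psi2 R I) = p1 R I := rfl
theorem p2_comp_psi2 : (p2 R I).comp (psi2 R I) = p2 R I := rfl
theorem p3_comp_psi2 : (p3 R I).comp (psi2 R I) = p1 R I := rfl
theorem p1_comp_psi3 : (p1 R I).comp (psi3 R I) = p1 R I := rfl
theorem p2_comp_psi3 : (p2 R I).comp (psi3 R I) = p1 R I := rfl
theorem p3_comp_psi3 : (p3 R I).comp (psi3 R I) = p3 R I := rfl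

theorem sumHom_comp_psi2 (hI : I * I = ⊥) : (sumHom R I hI).comp (psi2 R I) = p2 R I := by
  ext x
  show p2 R I x + p1 R I x - p1 R I x = p2 R I x
  ring

theorem sumHom_comp_psi3 (hI : I * I = ⊥) : (sumHom R I hI).comp (psi3 R I) = p3 R I := by
  ext x
  show p1 R I x + p3 R I x - p1 R I x = p3 R I x
  ring

theorem pr1_comp_q12 : (pr1 R I).comp (q12 R I) = p1 R I := rfl
theorem pr2_comp_q12 : (pr2 R I).comp (q12 R I) = p2 R I := rfl

end Groth.Agent.H42.KerComm
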