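import Groth.Agent.H42.SqZeroAlg
import Mathlib.AlgebraicGeometry.Pullbacks
import Mathlib.AlgebraicGeometry.AffineScheme
import Mathlib.AlgebraicGeometry.Restrict
import Mathlib.AlgebraicGeometry.Morphisms.Basic
import Mathlib.CategoryTheory.Comma.Over.Pullback
import Mathlib.RingTheory.Spectrum.Prime.RingHom
import Mathlib.RingTheory.Spectrum.Prime.Topology

set_option autoImplicit false
universe u
open CategoryTheory AlgebraicGeometry CategoryTheory.Limits

namespace Groth.Agent.H42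

variable (R : Type u) [CommRing R] (J : Ideal R)

/-- The closed immersion `Spec R/J ⟶ Spec R`. -/
noncomputable abbrev s0 : Spec (CommRingCat.of (R ⧸ J)) ⟶ Spec (CommRingCat.of R) :=
  Spec.map (CommRingCat.ofHom (Ideal.Quotient.mk J))

variable {R J}

/-- The canonical map `Spec A/JA ⟶ Spec A ×_{Spec R} Spec R/J`. -/
theorem exists_toPullback (A : CommRingCat.{u}) (ρ : CommRingCat.of R ⟶ A) :
    ∃ q : Spec (CommRingCat.of (A ⧸ J.map ρ.hom)) ⟶ pullback (Spec.map ρ) (s0 R J),
      q ≫ pullback.fst _ _ = Spec.map (CommRingCat.ofHom (Ideal.Quotient.mk (J.map ρ.hom))) := by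
  refine ⟨pullback.lift (Spec.map (CommRingCat.ofHom (Ideal.Quotient.mk (J.map ρ.hom))))
    (Spec.map (CommRingCat.ofHom (Ideal.quotientMap (J.map ρ.hom) ρ.hom Ideal.le_comap_map))) ?_,
    pullback.lift_fst _ _ _⟩
  rw [← Spec.map_comp, s0, ← Spec.map_comp]
  congr 1

theorem mem_range_specMap_mk (hJ : J * J = ⊥) (A : CommRingCat.{u}) (ρ : CommRingCat.of R ⟶ A)
    (p : Spec A) :
    p ∈ Set.range (Spec.map (CommRingCat.ofHom (Ideal.Quotient.mk (J.map ρ.hom)))).base := by
  have hII : J.map ρ.hom * J.map ρ.hom = ⊥ := by rw [← Ideal.map_mul, hJ, Ideal.map_bot]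
  have hle : J.map ρ.hom ≤ p.asIdeal := by
    intro i hi
    have : i * i ∈ J.map ρ.hom * J.map ρ.hom := Ideal.mul_mem_mul hi hi
    rw [hII] at this
    have h0 : i * i = 0 := by simpa using this
    have hp := p.isPrime
    have : i * i ∈ p.asIdeal := by rw [h0]; exact p.asIdeal.zero_mem
    rcases hp.mem_or_mem this with h | h <;> exact h
  have hr := _root_.range_comap_of_surjective _ (Ideal.Quotient.mk (J.map ρ.hom))
    Ideal.Quotient.mk_surjective
  rw [Ideal.mk_ker] at hr
  change p ∈ Set.range (PrimeSpectrum.comap (Ideal.Quotient.mk (J.map ρ.hom)))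
  rw [hr]
  exact hle

section Main

variable {X : Over (Spec (CommRingCat.of R))} {u : X ⟶ X}

theorem restrict_pullback_eq_id (h : (Over.pullback (s0 R J)).map u = 𝟙 _)
    {V : Over (Spec (CommRingCat.of R))} (iV : V ⟶ X) [Mono iV] (v : V ⟶ V)
    (hv : v ≫ iV = iV ≫ u) : (Over.pullback (s0 R J)).map v = 𝟙 _ := by
  have : Mono ((Over.pullback (s0 R J)).map iV) := inferInstance
  rw [← cancel_mono ((Over.pullback (s0 R J)).map iV), ← Functor.map_comp, hv, Functor.map_comp, h,
    Category.comp_id, Category.id_comp]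

theorem fst_comp_eq {V : Over (Spec (CommRingCat.of R))} (v : V ⟶ V)
    (hv : (Over.pullback (s0 R J)).map v = 𝟙 _) :
    pullback.fst V.hom (s0 R J) ≫ v.left = pullback.fst V.hom (s0 R J) := by
  have := congrArg (fun m => m.left ≫ pullback.fst V.hom (s0 R J)) hv
  change pullback.lift _ _ _ ≫ pullback.fst _ _ = 𝟙 _ ≫ pullback.fst _ _ at this
  rw [pullback.lift_fst, Category.id_comp] at this
  exact this

/-- The affine case. -/
theorem isIso_left_of_affine (hJ : J * J = ⊥) (A : CommRingCat.{u}) (ρ : CommRingCat.of R ⟶ A)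
    (v : Over.mk (Spec.map ρ) ⟶ Over.mk (Spec.map ρ))
    (hv : (Over.pullback (s0 R J)).map v = 𝟙 _) : IsIso v.left := by
  let t : Spec A ⟶ Spec A := v.left
  obtain ⟨ψ, hψ⟩ : ∃ ψ : A ⟶ A, Spec.map ψ = t := ⟨Spec.preimage t, Spec.map_preimage t⟩
  have hw : t ≫ Spec.map ρ = Spec.map ρ := Over.w v
  have h1 : ρ ≫ ψ = ρ := by
    apply Spec.map_injective
    rw [Spec.map_comp, hψ, hw]
  obtain ⟨q, hq⟩ := exists_toPullback (J := J) A ρ
  have h2 : pullback.fst (Spec.map ρ) (s0 R J) ≫ t = pullback.fst (Spec.map ρ) (s0 R J) :=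
    fst_comp_eq v hv
  have h3 : ψ ≫ CommRingCat.ofHom (Ideal.Quotient.mk (J.map ρ.hom)) =
      CommRingCat.ofHom (Ideal.Quotient.mk (J.map ρ.hom)) := by
    apply Spec.map_injective
    rw [Spec.map_comp, hψ, ← hq, Category.assoc, h2]
  have hbij : Function.Bijective ψ.hom := by
    apply bijective_of_sqZero J hJ ρ.hom ψ.hom
    · exact congrArg CommRingCat.Hom.hom h1
    · intro a
      have := congrArg (fun m => m.hom a) h3
      simp only [CommRingCat.hom_comp, CommRingCat.hom_ofHom, RingHom.comp_apply] at this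
      rw [← Ideal.Quotient.eq]
      exact this
  have : IsIso ψ := (ConcreteCategory.isIso_iff_bijective ψ).2 hbij
  have : IsIso t := by rw [← hψ]; infer_instance
  exact this

/-- `u` fixes every point. -/
theorem base_eq_self (hJ : J * J = ⊥) (h : (Over.pullback (s0 R J)).map u = 𝟙 _) (x : X.left) :
    u.left.base x = x := by
  have hj : pullback.fst X.hom (s0 R J) ≫ u.left = pullback.fst X.hom (s0 R J) := fst_comp_eq u h
  obtain ⟨U, hU, hxU, -⟩ := exists_isAffineOpen_mem_and_subset (x := x) (U := ⊤) trivial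
  let e : (U : Scheme) ≅ Spec Γ(X.left, U) := hU.isoSpec
  let w : (U : Scheme) ⟶ Spec (CommRingCat.of R) := U.ι ≫ X.hom
  obtain ⟨ρ, hρ⟩ : ∃ ρ : CommRingCat.of R ⟶ Γ(X.left, U), Spec.map ρ = e.inv ≫ w :=
    ⟨Spec.preimage (e.inv ≫ w), Spec.map_preimage _⟩
  obtain ⟨q, hq⟩ := exists_toPullback (J := J) Γ(X.left, U) ρ
  let q' : pullback (Spec.map ρ) (s0 R J) ⟶ pullback X.hom (s0 R J) :=
    pullback.lift (pullback.fst _ _ ≫ e.inv ≫ U.ι) (pullback.snd _ _) (by
      rw [Category.assoc, Category.assoc, ← pullback.condition, hρ])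
  have hq' : q' ≫ pullback.fst X.hom (s0 R J) = pullback.fst _ _ ≫ e.inv ≫ U.ι :=
    pullback.lift_fst _ _ _
  let x' : (U : Scheme) := ⟨x, hxU⟩
  obtain ⟨pbar, hpbar⟩ := mem_range_specMap_mk hJ Γ(X.left, U) ρ (e.hom.base x')
  have hx : x = ((q ≫ q') ≫ pullback.fst X.hom (s0 R J)).base pbar := by
    rw [Category.assoc, hq', ← Category.assoc, hq]
    simp only [Scheme.Hom.comp_base, TopCat.hom_comp, ContinuousMap.comp_apply]
    rw [hpbar]
    have : e.inv.base (e.hom.base x') = x' := Scheme.hom_inv_apply e x'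
    rw [this]; rfl
  have hux : u.left.base (((q ≫ q') ≫ pullback.fst X.hom (s0 R J)).base pbar) =
      ((q ≫ q') ≫ pullback.fst X.hom (s0 R J)).base pbar := by
    rw [← Scheme.Hom.comp_apply, Category.assoc, hj]
  rw [hx]; exact hux


theorem isIso_of_pullback_eq_id (hJ : J * J = ⊥) (h : (Over.pullback (s0 R J)).map u = 𝟙 _) :
    IsIso u := by
  have hleft : IsIso u.left := by
    apply IsZariskiLocalAtTarget.of_forall_exists_morphismRestrict
      (P := MorphismProperty.isomorphisms Scheme)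
    intro x
    obtain ⟨U, hU, hxU, -⟩ := exists_isAffineOpen_mem_and_subset (x := x) (U := ⊤) trivial
    refine ⟨U, hxU, ?_⟩
    change IsIso (u.left ∣_ U)
    have hpre : u.left ⁻¹ᵁ U = U := by
      ext y
      change u.left.base y ∈ U ↔ y ∈ U
      rw [base_eq_self hJ h y]
    let e : (U : Scheme) ≅ Spec Γ(X.left, U) := hU.isoSpec
    let i0 : (U : Scheme) ≅ ((u.left ⁻¹ᵁ U : X.left.Opens) : Scheme) := X.left.isoOfEq hpre.symm
    let v₀ : (U : Scheme) ⟶ U := i0.hom ≫ u.left ∣_ U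
    have hv₀ : v₀ ≫ U.ι = U.ι ≫ u.left := by
      simp only [v₀, Category.assoc, morphismRestrict_ι]
      rw [← Category.assoc, Scheme.isoOfEq_hom_ι]
    let t : Spec Γ(X.left, U) ⟶ Spec Γ(X.left, U) := e.inv ≫ v₀ ≫ e.hom
    obtain ⟨ρ, hρ⟩ : ∃ ρ : CommRingCat.of R ⟶ Γ(X.left, U), Spec.map ρ = e.inv ≫ U.ι ≫ X.hom :=
      ⟨Spec.preimage (e.inv ≫ U.ι ≫ X.hom), Spec.map_preimage _⟩
    have huw : u.left ≫ X.hom = X.hom := Over.w u
    let v : Over.mk (Spec.map ρ) ⟶ Over.mk (Spec.map ρ) := Over.homMk t (by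
      change (e.inv ≫ v₀ ≫ e.hom) ≫ Spec.map ρ = Spec.map ρ
      rw [hρ, Category.assoc, Category.assoc, e.hom_inv_id_assoc, ← Category.assoc v₀, hv₀,
        Category.assoc, huw])
    let iV : Over.mk (Spec.map ρ) ⟶ X := Over.homMk (e.inv ≫ U.ι) (by
      change (e.inv ≫ U.ι) ≫ X.hom = Spec.map ρ
      rw [hρ, Category.assoc])
    have : Mono iV.left := by
      change Mono (e.inv ≫ U.ι)
      infer_instance
    have : Mono iV := Over.mono_of_mono_left iV
    have hv : v ≫ iV = iV ≫ u := by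
      ext
      change (e.inv ≫ v₀ ≫ e.hom) ≫ e.inv ≫ U.ι = (e.inv ≫ U.ι) ≫ u.left
      rw [Category.assoc, Category.assoc, e.hom_inv_id_assoc, hv₀, Category.assoc]
    have hvid := restrict_pullback_eq_id h iV v hv
    have ht : IsIso t := isIso_left_of_affine hJ Γ(X.left, U) ρ v hvid
    have hv₀iso : IsIso v₀ := by
      have : v₀ = e.hom ≫ t ≫ e.inv := by
        simp only [t, Category.assoc, e.hom_inv_id, Category.comp_id, e.hom_inv_id_assoc]
      rw [this]; infer_instance
    have : u.left ∣_ U = i0.inv ≫ v₀ := by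
      simp only [v₀, i0.inv_hom_id_assoc]
    rw [this]; infer_instance
  have : IsIso ((Over.forget (Spec (CommRingCat.of R))).map u) := hleft
  exact isIso_of_reflects_iso u (Over.forget _)


end Main

end Groth.Agent.H42
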