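import Groth.Agent.H42.KerComm
import Groth.Agent.H42.SqZeroScheme
import Groth.Prelude.Def_Red
import Mathlib

set_option autoImplicit false
universe u
open CategoryTheory AlgebraicGeometry Limits MonObj

namespace Groth.Agent.H42.KerComm

open Groth.Agent.H42.Quillen Groth.Agent.H42

variable {R : Type u} [CommRing R] {J : Ideal R}

theorem fst_comp_left_eq {V W : Over (Spec (CommRingCat.of R))} (v v' : V ⟶ W)
    (hv : (Over.pullback (s0 R J)).map v = (Over.pullback (s0 R J)).map v') :
    pullback.fst V.hom (s0 R J) ≫ v.left = pullback.fst V.hom (s0 R J) ≫ v'.left := by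
  have := congrArg (fun m => m.left ≫ pullback.fst W.hom (s0 R J)) hv
  change pullback.lift _ _ _ ≫ pullback.fst _ _ = pullback.lift _ _ _ ≫ pullback.fst _ _ at this
  rw [pullback.lift_fst, pullback.lift_fst] at this
  exact this

variable (X : Over (Spec (CommRingCat.of R))) [GrpObj X]

theorem reduce_eq_one (A : Type u) [CommRing A] [Algebra R A] (h : pt R A ⟶ X)
    (hh : (Over.pullback (s0 R J)).map h = 1) :
    spA (Ideal.Quotient.mkₐ R (J.map (algebraMap R A))) ≫ h = 1 := by
  have h1 : (Over.pullback (s0 R J)).map h = (Over.pullback (s0 R J)).map (1 : pt R A ⟶ X) := by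
    rw [hh, Functor.map_one]
  have h2 := fst_comp_left_eq h 1 h1
  obtain ⟨q, hq⟩ := exists_toPullback (J := J) (CommRingCat.of A) (CommRingCat.ofHom (algebraMap R A))
  have h3 : spA (Ideal.Quotient.mkₐ R (J.map (algebraMap R A))) ≫ h =
      spA (Ideal.Quotient.mkₐ R (J.map (algebraMap R A))) ≫ (1 : pt R A ⟶ X) := by
    apply Over.OverMorphism.ext
    show Spec.map (CommRingCat.ofHom (Ideal.Quotient.mk (J.map (algebraMap R A)))) ≫ h.left =
      Spec.map (CommRingCat.ofHom (Ideal.Quotient.mk (J.map (algebraMap R A)))) ≫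
        (1 : pt R A ⟶ X).left
    have hq' : q ≫ pullback.fst (pt R A).hom (s0 R J) =
        Spec.map (CommRingCat.ofHom (Ideal.Quotient.mk (J.map (algebraMap R A)))) := hq
    rw [← hq', Category.assoc, Category.assoc, h2]
  rw [h3, MonObj.comp_one]

theorem restrict_comm (hJ : J * J = ⊥) (Y : Over (Spec (CommRingCat.of R))) (g g' : Y ⟶ X)
    (hg : (Over.pullback (s0 R J)).map g = 1) (hg' : (Over.pullback (s0 R J)).map g' = 1)
    (A : CommRingCat.{u}) (j : Spec A ⟶ Y.left) :
    j ≫ (g * g').left = j ≫ (g' * g).left := by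
  obtain ⟨ρ, hρ⟩ : ∃ ρ : CommRingCat.of R ⟶ A, Spec.map ρ = j ≫ Y.hom :=
    ⟨Spec.preimage (j ≫ Y.hom), Spec.map_preimage _⟩
  let _ : Algebra R A := ρ.hom.toAlgebra
  let jO : pt R A ⟶ Y := Over.homMk j (by
    show j ≫ Y.hom = Spec.map (CommRingCat.ofHom (algebraMap R A))
    exact hρ.symm)
  have hI : (J.map (algebraMap R A)) * (J.map (algebraMap R A)) = ⊥ := by
    rw [← Ideal.map_mul, hJ, Ideal.map_bot]
  have e1 : (Over.pullback (s0 R J)).map (jO ≫ g) = 1 := by
    rw [Functor.map_comp, hg, MonObj.comp_one]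
  have e2 : (Over.pullback (s0 R J)).map (jO ≫ g') = 1 := by
    rw [Functor.map_comp, hg', MonObj.comp_one]
  have key := comm_of_affine (J.map (algebraMap R A)) X hI (jO ≫ g) (jO ≫ g')
    (reduce_eq_one X A _ e1) (reduce_eq_one X A _ e2)
  rw [← MonObj.comp_mul, ← MonObj.comp_mul] at key
  exact congrArg (fun m => m.left) key

/-- **The kernel of reduction modulo a square-zero ideal is commutative.** -/
theorem comm_of_pullback_eq_one (hJ : J * J = ⊥) (Y : Over (Spec (CommRingCat.of R)))
    (g g' : Y ⟶ X) (hg : (Over.pullback (s0 R J)).map g = 1)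
    (hg' : (Over.pullback (s0 R J)).map g' = 1) : g * g' = g' * g := by
  apply Over.OverMorphism.ext
  apply Y.left.affineCover.hom_ext
  intro i
  exact restrict_comm X hJ Y g g' hg hg' _ (Y.left.affineCover.f i)

end Groth.Agent.H42.KerComm
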