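import Groth.Agent.H42.EpiSpec
import Groth.Prelude.Def_LieS

set_option autoImplicit false
universe u
open CategoryTheory MonObj AlgebraicGeometry
open LieS

namespace Groth.Agent.H42

noncomputable def rho (B : Type u) [CommRing B] : D2 B →+* DualNumber B :=
  (algebraMap B (DualNumber B)).comp ((TrivSqZeroExt.fstHom B B B).toRingHom.comp
      (TrivSqZeroExt.fstHom (DualNumber B) (DualNumber B) (DualNumber B)).toRingHom)

noncomputable def theta (B : Type u) [CommRing B] : DualNumber B →+* DualNumber B :=
  (algebraMap B (DualNumber B)).comp (TrivSqZeroExt.fstHom B B B).toRingHom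

theorem rho_comp_mulHom (B : Type u) [CommRing B] : (rho B).comp (mulHom B) = theta B := by
  refine RingHom.ext fun z => ?_
  simp [rho, theta, mulHom, dualHom_apply, TrivSqZeroExt.algebraMap_eq_inl']

theorem mem_prime_iff (B : Type u) [CommRing B] (q : Ideal (DualNumber B)) [q.IsPrime]
    (z : DualNumber B) : algebraMap B (DualNumber B) z.fst ∈ q ↔ z ∈ q := by
  have hnil : (z - algebraMap B (DualNumber B) z.fst) ∈ q := by
    apply Ideal.IsPrime.mem_of_pow_mem inferInstance 2
    have : (z - algebraMap B (DualNumber B) z.fst) ^ 2 = 0 := by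
      rw [pow_two]
      ext <;> simp [TrivSqZeroExt.algebraMap_eq_inl']
    rw [this]; exact q.zero_mem
  constructor
  · intro h
    have := q.add_mem hnil h
    simpa using this
  · intro h
    have := q.sub_mem h hnil
    simpa using this

theorem comap_theta (B : Type u) [CommRing B] (y : PrimeSpectrum (DualNumber B)) :
    PrimeSpectrum.comap (theta B) y = y := by
  apply PrimeSpectrum.ext
  ext z
  have := y.isPrime
  exact mem_prime_iff B y.asIdeal z

theorem surj_comap_mulHom (B : Type u) [CommRing B] :
    Function.Surjective (@PrimeSpectrum.comap (DualNumber B) (D2 B) _ _ (mulHom B)) := by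
  intro y
  refine ⟨PrimeSpectrum.comap (rho B) y, ?_⟩
  rw [← PrimeSpectrum.comap_comp_apply, rho_comp_mulHom, comap_theta]

theorem mulHom_injective (B : Type u) [CommRing B] : Function.Injective (mulHom B) := by
  intro a b h
  have h1 := congrArg (fun w : D2 B => w.fst.fst) h
  have h2 := congrArg (fun w : D2 B => w.snd.snd) h
  simp [mulHom, dualHom_apply, TrivSqZeroExt.algebraMap_eq_inl'] at h1 h2
  ext
  · exact h1
  · exact h2

/-- Morphisms out of the dual numbers are determined by their pull-back along `ε ↦ εε'`. -/
theorem eq_of_mulHom_comp_eq (B : Type u) [CommRing B] {Z : Scheme.{u}}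
    {a b : Spec (CommRingCat.of (DualNumber B)) ⟶ Z}
    (h : Spec.map (@CommRingCat.ofHom (DualNumber B) (D2 B) _ _ (mulHom B)) ≫ a = Spec.map (@CommRingCat.ofHom (DualNumber B) (D2 B) _ _ (mulHom B)) ≫ b) :
    a = b :=
  eq_of_specMap_comp_eq (@CommRingCat.ofHom (DualNumber B) (D2 B) _ _ (mulHom B)) (mulHom_injective B)
    (surj_comap_mulHom B) h

end Groth.Agent.H42
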