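import Groth.Prelude.Def_LieS

set_option autoImplicit false
universe u
open CategoryTheory MonObj AlgebraicGeometry
open LieS

namespace Groth.Agent.H42

section

variable {B C : Type u} [CommRing B] [CommRing C]

theorem dualNumber_decomp (z : DualNumber B) :
    z = algebraMap B (DualNumber B) z.fst + algebraMap B (DualNumber B) z.snd * DualNumber.eps := by
  ext <;> simp [TrivSqZeroExt.algebraMap_eq_inl']

/-- A ring hom out of the dual numbers is `dualHom` of its restriction and the image of `ε`. -/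
theorem eq_dualHom (et : DualNumber B →+* C) :
    et = dualHom (et.comp (algebraMap B (DualNumber B))) (et DualNumber.eps)
      (by rw [← map_mul, DualNumber.eps_mul_eps, map_zero]) := by
  refine RingHom.ext fun z => ?_
  rw [dualHom_apply]
  conv_lhs => rw [dualNumber_decomp z]
  simp only [map_add, map_mul, RingHom.comp_apply]

theorem dualHom_id_comp_bcHom (h₀ : B →+* C) (c : C) (hc : c * c = 0) :
    (dualHom (RingHom.id C) c hc).comp (bcHom h₀) = dualHom h₀ c hc := by
  refine RingHom.ext fun z => ?_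
  simp [bcHom, dualHom_apply, TrivSqZeroExt.algebraMap_eq_inl']

end


section Aff

variable {S : Scheme.{u}} {G K : Over S} [GrpObj G] [GrpObj K] (i : K ⟶ G) [IsMonHom i]
  {B : Type u} [CommRing B] (f : Spec (CommRingCat.of B) ⟶ S) (x : LieS.Lie G B f)

theorem Ad_val {B' : Type u} [CommRing B'] (f' : Spec (CommRingCat.of B') ⟶ S)
    (g : LieS.pt B' f' ⟶ G) (v : LieS.Lie G B' f') :
    (LieS.Ad G B' f' g v).1 = (LieS.proj B' f' ≫ g) * v.1 * (LieS.proj B' f' ≫ g)⁻¹ := rfl

theorem pull_val {B' : Type u} [CommRing B'] (h : B →+* B') :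
    (LieS.pull G f h x).1 = LieS.dptMap f h ≫ x.1 := rfl

theorem affine_case
    (hR : ∀ (B' : Type u) [CommRing B'] (h : B →+* B')
      (k : LieS.pt B' (Spec.map (CommRingCat.ofHom h) ≫ f) ⟶ K),
      LieS.Ad G B' (Spec.map (CommRingCat.ofHom h) ≫ f) (k ≫ i) (LieS.pull G f h x) =
        LieS.pull G f h x)
    (C : Type u) [CommRing C] (g : Spec (CommRingCat.of C) ⟶ S)
    (y : Over.mk g ⟶ LieS.dpt B f) (h : Over.mk g ⟶ K) :
    (y ≫ x.1) * (h ≫ i) = (h ≫ i) * (y ≫ x.1) := by
  let yl : Spec (CommRingCat.of C) ⟶ Spec (CommRingCat.of (DualNumber B)) := y.left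
  have hyl : y.left = yl := rfl
  obtain ⟨et, het⟩ : ∃ et : DualNumber B →+* C, yl = Spec.map (CommRingCat.ofHom et) :=
    ⟨(Spec.preimage yl).hom, by rw [CommRingCat.ofHom_hom, Spec.map_preimage]⟩
  set h₀ : B →+* C := et.comp (algebraMap B (DualNumber B)) with hh₀
  set c : C := et DualNumber.eps with hcdef
  have hc : c * c = 0 := by rw [hcdef, ← map_mul, DualNumber.eps_mul_eps, map_zero]
  have hetd : et = dualHom h₀ c hc := eq_dualHom et
  have hg : Spec.map (CommRingCat.ofHom h₀) ≫ f = g := by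
    have hw : yl ≫ (Spec.map (CommRingCat.ofHom (algebraMap B (DualNumber B))) ≫ f) = g :=
      Over.w y
    rw [het, ← Category.assoc, specMap_comp] at hw
    exact hw
  let e : LieS.pt C (Spec.map (CommRingCat.ofHom h₀) ≫ f) ≅ Over.mk g :=
    Over.isoMk (Iso.refl _) (by
      change 𝟙 _ ≫ g = Spec.map (CommRingCat.ofHom h₀) ≫ f
      rw [Category.id_comp, hg])
  let σ : LieS.pt C (Spec.map (CommRingCat.ofHom h₀) ≫ f) ⟶
      LieS.dpt C (Spec.map (CommRingCat.ofHom h₀) ≫ f) :=
    Over.homMk (Spec.map (CommRingCat.ofHom (dualHom (RingHom.id C) c hc))) (by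
      change Spec.map _ ≫ Spec.map _ ≫ _ = _
      rw [← Category.assoc, specMap_comp, dualHom_comp_algebraMap, CommRingCat.ofHom_id]
      erw [Spec.map_id]; exact Category.id_comp _)
  have hσproj : σ ≫ LieS.proj C (Spec.map (CommRingCat.ofHom h₀) ≫ f) = 𝟙 _ := by
    ext
    change Spec.map _ ≫ Spec.map _ = 𝟙 _
    rw [specMap_comp, dualHom_comp_algebraMap, CommRingCat.ofHom_id]
    erw [Spec.map_id]
  have hσy : e.inv ≫ σ ≫ LieS.dptMap f h₀ = y := by
    ext
    change 𝟙 _ ≫ Spec.map _ ≫ Spec.map _ = yl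
    rw [Category.id_comp, specMap_comp, dualHom_id_comp_bcHom, ← hetd, het]
  have key := congrArg Subtype.val (hR C h₀ (e.hom ≫ h))
  rw [Ad_val, pull_val] at key
  set a := LieS.proj C (Spec.map (CommRingCat.ofHom h₀) ≫ f) ≫ (e.hom ≫ h) ≫ i with ha
  set v := LieS.dptMap f h₀ ≫ x.1 with hv
  have hcomm : a * v = v * a := by
    have := congrArg (· * a) key
    simpa [_root_.mul_assoc] using this
  have hτ := congrArg (fun m => (e.inv ≫ σ) ≫ m) hcomm
  simp only [MonObj.comp_mul] at hτ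
  have e1 : (e.inv ≫ σ) ≫ a = h ≫ i := by
    rw [ha, Category.assoc, ← Category.assoc σ, hσproj, Category.id_comp, ← Category.assoc,
      ← Category.assoc, e.inv_hom_id, Category.id_comp]
  have e2 : (e.inv ≫ σ) ≫ v = y ≫ x.1 := by
    rw [hv, Category.assoc, ← Category.assoc σ, ← Category.assoc, ← Category.assoc, Category.assoc e.inv, hσy]
  rw [e1, e2] at hτ
  exact hτ.symm

theorem general_case
    (hR : ∀ (B' : Type u) [CommRing B'] (h : B →+* B')
      (k : LieS.pt B' (Spec.map (CommRingCat.ofHom h) ≫ f) ⟶ K),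
      LieS.Ad G B' (Spec.map (CommRingCat.ofHom h) ≫ f) (k ≫ i) (LieS.pull G f h x) =
        LieS.pull G f h x)
    (X' : Over S) (y : X' ⟶ LieS.dpt B f) (h : X' ⟶ K) :
    (y ≫ x.1) * (h ≫ i) = (h ≫ i) * (y ≫ x.1) := by
  apply Over.OverMorphism.ext
  apply Scheme.Cover.hom_ext X'.left.affineOpenCover.openCover
  intro j
  let R : CommRingCat.{u} := X'.left.affineOpenCover.X j
  let gj : Spec (CommRingCat.of R) ⟶ X'.left := X'.left.affineOpenCover.f j
  change gj ≫ _ = gj ≫ _
  let g : Spec (CommRingCat.of R) ⟶ S := gj ≫ X'.hom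
  let gh : Over.mk g ⟶ X' := Over.homMk gj rfl
  have h1 := affine_case i f x hR R g (gh ≫ y) (gh ≫ h)
  have h2 : gh ≫ ((y ≫ x.1) * (h ≫ i)) = gh ≫ ((h ≫ i) * (y ≫ x.1)) := by
    rw [MonObj.comp_mul, MonObj.comp_mul, ← Category.assoc, ← Category.assoc]
    simpa only [Category.assoc] using h1
  exact congrArg (fun m => m.left) h2

end Aff

end Groth.Agent.H42
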