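import Groth.Prelude.Def_LieS
import Groth.Prelude.Def_Red
import Groth.Agent.H42.GaGm

set_option autoImplicit false
universe u
open CategoryTheory MonObj AlgebraicGeometry
open LieS

namespace Groth.Agent.H42.LieDiag

noncomputable section

variable (R : Type u) [CommRing R] (M : Type) [AddCommGroup M] (B : Type u) [CommRing B]
  [Algebra R B]

/-- precomposition with `(dptIso B).inv` as a `MulEquiv`. -/
def E1 : (dpt B (Spec.map (CommRingCat.ofHom (algebraMap R B))) ⟶ Red.diag R M) ≃*
    ((Spec (CommRingCat.of (DualNumber B))).asOver (Spec (CommRingCat.of R)) ⟶ Red.diag R M) where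
  toFun v := (dptIso B).inv ≫ v
  invFun x := (dptIso B).hom ≫ x
  left_inv v := by simp
  right_inv x := by simp
  map_mul' v w := comp_mul _ _ _

def E : (dpt B (Spec.map (CommRingCat.ofHom (algebraMap R B))) ⟶ Red.diag R M) ≃*
    (Multiplicative M →* DualNumber B) :=
  (E1 R M B).trans (Spec.mapMulEquiv.symm.trans
    (MonoidAlgebra.liftMulEquiv R (DualNumber B) (Multiplicative M)).symm)

theorem E_apply (v : dpt B (Spec.map (CommRingCat.ofHom (algebraMap R B))) ⟶ Red.diag R M)
    (m : Multiplicative M) :
    E R M B v m = ((Spec.mapMulEquiv.symm ((dptIso B).inv ≫ v)).ofConv :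
      MonoidAlgebra R (Multiplicative M) →ₐ[R] DualNumber B) (MonoidAlgebra.single m 1) := rfl

/-- the ring map `R[M] → B[ε]` underlying a `B[ε]`-point of `D(M)`. -/
def phi (v : dpt B (Spec.map (CommRingCat.ofHom (algebraMap R B))) ⟶ Red.diag R M) :
    MonoidAlgebra R (Multiplicative M) →+* DualNumber B :=
  ((Spec.mapMulEquiv.symm ((dptIso B).inv ≫ v)).ofConv :
      MonoidAlgebra R (Multiplicative M) →ₐ[R] DualNumber B).toRingHom

theorem phi_single (v : dpt B (Spec.map (CommRingCat.ofHom (algebraMap R B))) ⟶ Red.diag R M)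
    (m : Multiplicative M) : phi R M B v (MonoidAlgebra.single m 1) = E R M B v m := rfl

/-- the plain-typed underlying scheme morphism -/
def vl (v : dpt B (Spec.map (CommRingCat.ofHom (algebraMap R B))) ⟶ Red.diag R M) :
    Spec (CommRingCat.of (DualNumber B)) ⟶
      Spec (CommRingCat.of (MonoidAlgebra R (Multiplicative M))) := v.left

theorem specMap_phi (v : dpt B (Spec.map (CommRingCat.ofHom (algebraMap R B))) ⟶ Red.diag R M) :
    Spec.map (CommRingCat.ofHom (phi R M B v)) = vl R M B v := by
  have h := Spec.mapMulEquiv.apply_symm_apply ((dptIso B).inv ≫ v)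
  have h2 := congrArg (fun x => x.left) h
  have h3 : ((dptIso B).inv ≫ v).left = vl R M B v := by
    change 𝟙 _ ≫ v.left = v.left
    exact Category.id_comp _
  exact h2.trans h3

theorem phi_eq_of_specMap_eq
    (v : dpt B (Spec.map (CommRingCat.ofHom (algebraMap R B))) ⟶ Red.diag R M)
    (ψ : MonoidAlgebra R (Multiplicative M) →+* DualNumber B)
    (h : vl R M B v = Spec.map (CommRingCat.ofHom ψ)) : phi R M B v = ψ := by
  rw [← specMap_phi] at h
  have := Spec.map_injective h
  exact congrArg CommRingCat.Hom.hom this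

theorem vl_scale (b : B)
    (v : dpt B (Spec.map (CommRingCat.ofHom (algebraMap R B))) ⟶ Red.diag R M) :
    vl R M B (scale B _ b ≫ v) = Spec.map (CommRingCat.ofHom (scaleHom b)) ≫ vl R M B v := rfl

theorem phi_scale (b : B)
    (v : dpt B (Spec.map (CommRingCat.ofHom (algebraMap R B))) ⟶ Red.diag R M) :
    phi R M B (scale B _ b ≫ v) = (scaleHom b).comp (phi R M B v) := by
  apply phi_eq_of_specMap_eq
  rw [vl_scale, ← specMap_phi, specMap_comp]

theorem E_scale (b : B)
    (v : dpt B (Spec.map (CommRingCat.ofHom (algebraMap R B))) ⟶ Red.diag R M)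
    (m : Multiplicative M) :
    E R M B (scale B _ b ≫ v) m = scaleHom b (E R M B v m) := by
  rw [← phi_single, phi_scale, ← phi_single]
  rfl

theorem vl_zeroSec
    (v : dpt B (Spec.map (CommRingCat.ofHom (algebraMap R B))) ⟶ Red.diag R M) :
    ptL (zeroSec B _ ≫ v) =
      Spec.map (CommRingCat.ofHom (TrivSqZeroExt.fstHom B B B).toRingHom) ≫ vl R M B v := rfl

theorem one_left :
    ptL (1 : pt B (Spec.map (CommRingCat.ofHom (algebraMap R B))) ⟶ Red.diag R M) =
      Spec.map (CommRingCat.ofHom ((algebraMap R B))) ≫ Spec.map (CommRingCat.ofHom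
        (Bialgebra.counitAlgHom R (MonoidAlgebra R (Multiplicative M))).toRingHom) :=
  ptL_one

theorem mem_iff (v : dpt B (Spec.map (CommRingCat.ofHom (algebraMap R B))) ⟶ Red.diag R M) :
    zeroSec B _ ≫ v = 1 ↔ ∀ m, (E R M B v m).fst = 1 := by
  have key : zeroSec B _ ≫ v = 1 ↔
      (TrivSqZeroExt.fstHom B B B).toRingHom.comp (phi R M B v) =
        (algebraMap R B).comp
          (Bialgebra.counitAlgHom R (MonoidAlgebra R (Multiplicative M))).toRingHom := by
    constructor
    · intro h
      have h1 := congrArg ptL h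
      rw [vl_zeroSec, one_left, ← specMap_phi, specMap_comp, specMap_comp] at h1
      exact congrArg CommRingCat.Hom.hom (Spec.map_injective h1)
    · intro h
      apply ptL_injective
      rw [vl_zeroSec, one_left, ← specMap_phi, specMap_comp, specMap_comp, h]
  rw [key]
  constructor
  · intro h m
    have := congrArg (fun g => g (MonoidAlgebra.single m 1)) h
    simp only [RingHom.comp_apply] at this
    rw [phi_single] at this
    refine this.trans ?_
    simp
  · intro h
    let a1 : MonoidAlgebra R (Multiplicative M) →ₐ[R] B :=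
      (TrivSqZeroExt.fstHom R B B).comp
        ((Spec.mapMulEquiv.symm ((dptIso B).inv ≫ v)).ofConv :
          MonoidAlgebra R (Multiplicative M) →ₐ[R] DualNumber B)
    let a2 : MonoidAlgebra R (Multiplicative M) →ₐ[R] B :=
      (Algebra.ofId R B).comp (Bialgebra.counitAlgHom R (MonoidAlgebra R (Multiplicative M)))
    have ha : a1 = a2 := by
      apply MonoidAlgebra.algHom_ext
      · intro m
        have := h m
        rw [E_apply] at this
        simp only [a1, a2, AlgHom.comp_apply]
        refine Eq.trans this ?_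
        simp
      · exact Subsingleton.elim _ _
    exact congrArg (fun a : MonoidAlgebra R (Multiplicative M) →ₐ[R] B => a.toRingHom) ha

variable {B M} in
/-- `λ ↦ (m ↦ 1 + λ(m) ε)`. -/
def chi (l : M →+ B) : Multiplicative M →* DualNumber B where
  toFun m := TrivSqZeroExt.inl 1 + TrivSqZeroExt.inr (l (Multiplicative.toAdd m))
  map_one' := by simp
  map_mul' a b := by
    ext
    · simp
    · simp [add_comm]

theorem fst_E (v : LieR (Red.diag R M) B) (m : Multiplicative M) :
    (E R M B v.1 m).fst = 1 := (mem_iff R M B v.1).1 v.2 m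

/-- the `ε`-coefficient homomorphism of a point of the Lie algebra. -/
def lam (v : LieR (Red.diag R M) B) : M →+ B where
  toFun m := (E R M B v.1 (Multiplicative.ofAdd m)).snd
  map_zero' := by
    rw [ofAdd_zero, map_one]; simp
  map_add' a b := by
    rw [ofAdd_add, map_mul, TrivSqZeroExt.snd_mul, fst_E, fst_E]
    simp [add_comm]

theorem lam_mul (v w : LieR (Red.diag R M) B) : lam R M B (v * w) = lam R M B v + lam R M B w := by
  ext m
  change (E R M B (v.1 * w.1) (Multiplicative.ofAdd m)).snd = _
  rw [map_mul, MonoidHom.mul_apply, TrivSqZeroExt.snd_mul, fst_E, fst_E]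
  simp [lam, add_comm]

theorem chi_lam (v : LieR (Red.diag R M) B) : chi (lam R M B v) = E R M B v.1 := by
  refine MonoidHom.ext fun m => ?_
  apply TrivSqZeroExt.ext
  · change (1 : B) + 0 = _
    rw [fst_E, add_zero]
  · change (0 : B) + (E R M B v.1 (Multiplicative.ofAdd (Multiplicative.toAdd m))).snd = _
    rw [zero_add]
    rfl

/-- `Lie(D(M))(B) ≃* Hom(M, B)`. -/
def e : LieR (Red.diag R M) B ≃* Multiplicative (M →+ B) where
  toFun v := Multiplicative.ofAdd (lam R M B v)
  invFun l := ⟨(E R M B).symm (chi (Multiplicative.toAdd l)), by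
    rw [mem_Lie_iff, mem_iff]
    intro m
    rw [MulEquiv.apply_symm_apply]
    simp [chi]⟩
  left_inv v := by
    apply Subtype.ext
    change (E R M B).symm (chi (lam R M B v)) = v.1
    rw [MulEquiv.symm_apply_eq, chi_lam]
  right_inv l := by
    apply Multiplicative.toAdd.injective
    ext m
    change (E R M B ((E R M B).symm (chi (Multiplicative.toAdd l))) (Multiplicative.ofAdd m)).snd = _
    rw [MulEquiv.apply_symm_apply]
    simp [chi]
  map_mul' v w := by
    rw [lam_mul]
    rfl

theorem e_apply (v : LieR (Red.diag R M) B) (m : M) :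
    Multiplicative.toAdd (e R M B v) m = (E R M B v.1 (Multiplicative.ofAdd m)).snd := rfl

theorem e_smul (b : B) (v : LieR (Red.diag R M) B) :
    e R M B (b • v) = Multiplicative.ofAdd (b • Multiplicative.toAdd (e R M B v)) := by
  apply Multiplicative.toAdd.injective
  ext m
  change (E R M B (scale B _ b ≫ v.1) (Multiplicative.ofAdd m)).snd =
    b • (E R M B v.1 (Multiplicative.ofAdd m)).snd
  rw [E_scale]
  simp [scaleHom, TrivSqZeroExt.algebraMap_eq_inl', mul_comm]

end

end Groth.Agent.H42.LieDiag
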