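import Mathlib.Algebra.Polynomial.Laurent
import Mathlib.Algebra.MonoidAlgebra.NoZeroDivisors
import Mathlib.RingTheory.Polynomial.Basic
import Mathlib.Algebra.Polynomial.RingDivision

/-!
# Natural group laws on the punctured line (pure algebra)
-/

set_option autoImplicit false
universe u

open LaurentPolynomial

namespace Groth.Agent.H42.LineLawGm

section Ext

variable {R S : Type*} [CommRing R] [CommRing S]

theorem laurent_ringHom_ext (φ ψ : R[T;T⁻¹] →+* S) (hC : ∀ r, φ (C r) = ψ (C r))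
    (hT : φ (T 1) = ψ (T 1)) : φ = ψ := by
  apply IsLocalization.ringHom_ext (Submonoid.powers (Polynomial.X : Polynomial R))
  apply Polynomial.ringHom_ext
  · intro r
    simp only [RingHom.comp_apply, algebraMap_eq_toLaurent, Polynomial.toLaurent_C]
    exact hC r
  · simp only [RingHom.comp_apply, algebraMap_eq_toLaurent, Polynomial.toLaurent_X]
    exact hT

theorem hom_eval₂ {S' : Type*} [CommRing S'] (f : S →+* S') (g : R →+* S) (x : Sˣ)
    (p : R[T;T⁻¹]) :
    f (LaurentPolynomial.eval₂ g x p) = LaurentPolynomial.eval₂ (f.comp g) (Units.map f x) p := by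
  have : f.comp (LaurentPolynomial.eval₂ g x) =
      LaurentPolynomial.eval₂ (f.comp g) (Units.map (f : S →* S') x) := by
    apply laurent_ringHom_ext
    · intro r
      simp
    · simp
  exact RingHom.congr_fun this p

end Ext

section Units

variable {R : Type*} [CommRing R] [IsDomain R]

theorem laurent_unit_form (f : R[T;T⁻¹]) (hf : IsUnit f) :
    ∃ (r : R) (n : ℤ), IsUnit r ∧ f = C r * T n := by
  obtain ⟨g, hfg⟩ := hf.exists_right_inv
  obtain ⟨n, f', hf'⟩ := exists_T_pow f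
  obtain ⟨m, g', hg'⟩ := exists_T_pow g
  have h1 : f' * g' = Polynomial.X ^ (n + m) := by
    apply Polynomial.toLaurent_injective
    rw [map_mul, hf', hg', Polynomial.toLaurent_X_pow]
    calc f * T n * (g * T m) = (f * g) * (T n * T m) := by ring
      _ = T (n + m) := by rw [hfg, one_mul, ← T_add]
      _ = _ := by push_cast; rfl
  have h2 : f' ∣ Polynomial.X ^ (n + m) := ⟨g', h1.symm⟩
  obtain ⟨i, -, hi⟩ := (dvd_prime_pow Polynomial.prime_X _).mp h2
  obtain ⟨u, hu⟩ := hi.symm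
  obtain ⟨r, hr, hru⟩ := Polynomial.isUnit_iff.mp u.isUnit
  refine ⟨r, (i : ℤ) - n, hr, ?_⟩
  have h3 : f * T n = C r * T i := by
    rw [← hf', ← hu, ← hru, map_mul, Polynomial.toLaurent_X_pow, Polynomial.toLaurent_C, mul_comm]
  calc f = f * T n * T (-n) := by rw [mul_T_assoc, add_neg_cancel, T_zero, mul_one]
    _ = C r * T i * T (-n) := by rw [h3]
    _ = C r * T (i - n) := by rw [mul_T_assoc, sub_eq_add_neg]

end Units


section TUnit

variable (R : Type*) [CommRing R]

/-- `n ↦ T n` as a monoid homomorphism. -/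
noncomputable def tHom : Multiplicative ℤ →* R[T;T⁻¹] where
  toFun n := T n.toAdd
  map_one' := T_zero
  map_mul' _ _ := T_add _ _

/-- `T n` as a unit. -/
noncomputable def uT (n : ℤ) : (R[T;T⁻¹])ˣ := (tHom R).toHomUnits (Multiplicative.ofAdd n)

@[simp] theorem uT_val (n : ℤ) : ((uT R n : (R[T;T⁻¹])ˣ) : R[T;T⁻¹]) = T n := rfl

theorem uT_zpow (n : ℤ) : uT R 1 ^ n = uT R n := by
  rw [uT, ← map_zpow, ← ofAdd_zsmul]
  simp [uT]

end TUnit

section Law

variable {k : Type u} [CommRing k]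

/-- The binary operation on the units of a `k`-algebra `D` defined by a Laurent polynomial. -/
noncomputable def opOf (M : k[T;T⁻¹][T;T⁻¹]) {D : Type u} [CommRing D] [Algebra k D]
    (d d' : Dˣ) : D :=
  LaurentPolynomial.eval₂ (LaurentPolynomial.eval₂ (algebraMap k D) d) d' M

theorem C_mul_T_eq_T_one {k : Type u} [Field k] {a : k} (ha : a ≠ 0) {i : ℤ}
    (h : (C a * T i : k[T;T⁻¹]) = T 1) : i = 1 ∧ a = 1 := by
  have h1 := degree_C_mul_T i a ha
  rw [h, degree_T] at h1
  have hi : i = 1 := by exact_mod_cast h1.symm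
  refine ⟨hi, ?_⟩
  subst hi
  have := congrArg (LaurentPolynomial.eval₂ (RingHom.id k) (1 : kˣ)) h
  simpa using this

theorem law_eq {k : Type u} [Field k] (M : k[T;T⁻¹][T;T⁻¹]) (hM : IsUnit M) (e : kˣ)
    (hr : ∀ (D : Type u) [CommRing D] [Algebra k D] (x : Dˣ),
      opOf M x (Units.map (algebraMap k D : k →* D) e) = x)
    (hl : ∀ (D : Type u) [CommRing D] [Algebra k D] (x : Dˣ),
      opOf M (Units.map (algebraMap k D : k →* D) e) x = x) :
    M = C (C ((e⁻¹ : kˣ) : k) * T 1) * T 1 := by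
  obtain ⟨r, j, hr', rfl⟩ := laurent_unit_form M hM
  obtain ⟨c, i, hc, rfl⟩ := laurent_unit_form r hr'
  have h1 := hr k[T;T⁻¹] (uT k 1)
  have h2 := hl k[T;T⁻¹] (uT k 1)
  simp only [opOf, map_mul, eval₂_C, eval₂_T, uT_zpow, uT_val, ← map_zpow, Units.coe_map,
    MonoidHom.coe_coe, ← C_eq_algebraMap] at h1 h2
  have h1' : (C (c * ((e ^ j : kˣ) : k)) * T i : k[T;T⁻¹]) = T 1 := by
    rw [← h1, map_mul]; ring
  have h2' : (C (c * ((e ^ i : kˣ) : k)) * T j : k[T;T⁻¹]) = T 1 := by
    rw [← h2, map_mul]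
  have hc0 : c ≠ 0 := hc.ne_zero
  obtain ⟨hi, hci⟩ := C_mul_T_eq_T_one (mul_ne_zero hc0 (Units.ne_zero _)) h1'
  obtain ⟨hj, hcj⟩ := C_mul_T_eq_T_one (mul_ne_zero hc0 (Units.ne_zero _)) h2'
  subst hi hj
  have : c = ((e⁻¹ : kˣ) : k) := by
    rw [zpow_one] at hci
    rw [Units.val_inv_eq_inv_val]
    exact eq_inv_of_mul_eq_one_left hci
  rw [this]

end Law

end Groth.Agent.H42.LineLawGm
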