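import Groth.Agent.H42.GaGm4
import Groth.Agent.H42.LineLaw
import Groth.Agent.H42.LineLawGmAlg

/-!
# Group laws on the punctured line over a field are determined by the unit

Abstractly: `G` a `k`-scheme whose functor of points is `Y ↦ Γ(Y, 𝒪_Y)ˣ` (via `CoordU`).
Any group law on `G` is `(a, b) ↦ a * b / e`.
-/

set_option autoImplicit false
universe u

open CategoryTheory MonoidalCategory CartesianMonoidalCategory MonObj GrpObj AlgebraicGeometry
open LaurentPolynomial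

namespace Groth.Agent.H42.LineLawGm

open Groth.Agent.H42.LineLaw (YC pb_specMap)

variable {k : Type u} [CommRing k]

/-- A natural identification of the points of `G` with invertible global functions. -/
structure CoordU (G : Over (Spec (CommRingCat.of k))) where
  fn : ∀ {Y : Over (Spec (CommRingCat.of k))}, (Y ⟶ G) → Γ(Y.left, ⊤)
  comp : ∀ {Y Y' : Over (Spec (CommRingCat.of k))} (h : Y' ⟶ Y) (x : Y ⟶ G),
    fn (h ≫ x) = h.left.appTop (fn x)
  inj : ∀ {Y : Over (Spec (CommRingCat.of k))}, Function.Injective (fn (Y := Y))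
  isUnit : ∀ {Y : Over (Spec (CommRingCat.of k))} (x : Y ⟶ G), IsUnit (fn x)
  surj : ∀ {Y : Over (Spec (CommRingCat.of k))} (t : Γ(Y.left, ⊤)), IsUnit t → ∃ x : Y ⟶ G, fn x = t

variable {G : Over (Spec (CommRingCat.of k))} (c : CoordU G)

/-- The unit-valued coordinate. -/
noncomputable def CoordU.fnU {Y : Over (Spec (CommRingCat.of k))} (x : Y ⟶ G) : Γ(Y.left, ⊤)ˣ :=
  (c.isUnit x).unit

@[simp] theorem CoordU.fnU_val {Y : Over (Spec (CommRingCat.of k))} (x : Y ⟶ G) :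
    ((c.fnU x : Γ(Y.left, ⊤)ˣ) : Γ(Y.left, ⊤)) = c.fn x := rfl

section Points

variable (D : Type u) [CommRing D] [Algebra k D]

/-- The value in `D` of a `D`-point. -/
noncomputable def val (x : YC (k := k) D ⟶ G) : D :=
  (Scheme.ΓSpecIso (CommRingCat.of D)).hom (c.fn x)

theorem val_isUnit (x : YC (k := k) D ⟶ G) : IsUnit (val c D x) :=
  (c.isUnit x).map (Scheme.ΓSpecIso (CommRingCat.of D)).hom.hom

/-- The value in `Dˣ` of a `D`-point. -/
noncomputable def valU (x : YC (k := k) D ⟶ G) : Dˣ := (val_isUnit c D x).unit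

@[simp] theorem valU_val (x : YC (k := k) D ⟶ G) : ((valU c D x : Dˣ) : D) = val c D x := rfl

/-- The `D`-point with a given value. -/
noncomputable def pt (d : Dˣ) : YC (k := k) D ⟶ G :=
  (c.surj (Y := YC (k := k) D) ((Scheme.ΓSpecIso (CommRingCat.of D)).inv (d : D))
    (d.isUnit.map (Scheme.ΓSpecIso (CommRingCat.of D)).inv.hom)).choose

theorem fn_pt (d : Dˣ) : c.fn (pt c D d) = (Scheme.ΓSpecIso (CommRingCat.of D)).inv (d : D) :=
  (c.surj (Y := YC (k := k) D) ((Scheme.ΓSpecIso (CommRingCat.of D)).inv (d : D))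
    (d.isUnit.map (Scheme.ΓSpecIso (CommRingCat.of D)).inv.hom)).choose_spec

theorem val_pt (d : Dˣ) : val c D (pt c D d) = d := by
  rw [val, fn_pt]
  exact Iso.inv_hom_id_apply (C := CommRingCat) _ _

theorem valU_pt (d : Dˣ) : valU c D (pt c D d) = d := Units.ext (val_pt c D d)

theorem fn_eq_val (x : YC (k := k) D ⟶ G) :
    c.fn x = (Scheme.ΓSpecIso (CommRingCat.of D)).inv (val c D x) := by
  rw [val]
  exact (Iso.hom_inv_id_apply (C := CommRingCat) _ _).symm

theorem pt_valU (x : YC (k := k) D ⟶ G) : pt c D (valU c D x) = x := by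
  apply c.inj
  rw [fn_pt, valU_val, ← fn_eq_val]

end Points


section Law

variable [GrpObj G]

/-- The unit `T` (inner variable) of `k[T;T⁻¹][X;X⁻¹]`. -/
noncomputable def uC (k : Type u) [CommRing k] : (k[T;T⁻¹][T;T⁻¹])ˣ :=
  Units.map ((C : k[T;T⁻¹] →+* k[T;T⁻¹][T;T⁻¹]) : k[T;T⁻¹] →* k[T;T⁻¹][T;T⁻¹]) (uT k 1)

@[simp] theorem uC_val : ((uC k : (k[T;T⁻¹][T;T⁻¹])ˣ) : k[T;T⁻¹][T;T⁻¹]) = C (T 1) := rfl

/-- The universal Laurent polynomial of the group law. -/
noncomputable def univ : k[T;T⁻¹][T;T⁻¹] :=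
  val c k[T;T⁻¹][T;T⁻¹] (pt c k[T;T⁻¹][T;T⁻¹] (uC k) * pt c k[T;T⁻¹][T;T⁻¹] (uT k[T;T⁻¹] 1))

theorem univ_isUnit : IsUnit (univ c) := val_isUnit c _ _

/-- The unit, as an element of `k`. -/
noncomputable def unitElt : k :=
  (Scheme.ΓSpecIso (CommRingCat.of k)).hom
    (show Γ(Spec (CommRingCat.of k), ⊤) from c.fn (η[G]))

theorem unitElt_isUnit : IsUnit (unitElt c) :=
  (c.isUnit (η[G])).map (Scheme.ΓSpecIso (CommRingCat.of k)).hom.hom

theorem fn_one {Y : Over (Spec (CommRingCat.of k))} :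
    c.fn (1 : Y ⟶ G) = pb Y.hom (unitElt c) := by
  rw [Hom.one_def, c.comp, pb_apply, unitElt]
  erw [Iso.hom_inv_id_apply (C := CommRingCat)]
  rfl

theorem fn_mul {Y : Over (Spec (CommRingCat.of k))} (a b : Y ⟶ G) :
    c.fn (a * b) = LaurentPolynomial.eval₂ (LaurentPolynomial.eval₂ (pb Y.hom) (c.fnU a)) (c.fnU b)
      (univ c) := by
  set ρ : k[T;T⁻¹] →+* Γ(Y.left, ⊤) := LaurentPolynomial.eval₂ (pb Y.hom) (c.fnU a) with hρ
  set ψ : k[T;T⁻¹][T;T⁻¹] →+* Γ(Y.left, ⊤) := LaurentPolynomial.eval₂ ρ (c.fnU b) with hψ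
  obtain ⟨g, hg⟩ := pb_surjective (A := k[T;T⁻¹][T;T⁻¹]) (Y := Y.left) ψ
  have hw : g ≫ Spec.map (CommRingCat.ofHom (algebraMap k k[T;T⁻¹][T;T⁻¹])) = Y.hom := by
    apply pb_injective
    ext t
    rw [pb_comp_specMap, hg]
    simp [hψ, hρ, LaurentPolynomial.algebraMap_apply]
  let h : Y ⟶ YC (k := k) k[T;T⁻¹][T;T⁻¹] := Over.homMk g hw
  have hfn : ∀ t : (k[T;T⁻¹][T;T⁻¹])ˣ, c.fn (h ≫ pt c k[T;T⁻¹][T;T⁻¹] t) = ψ t := by
    intro t
    rw [c.comp, fn_pt, ← hg]
    rfl
  have ha : h ≫ pt c k[T;T⁻¹][T;T⁻¹] (uC k) = a := by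
    apply c.inj
    rw [hfn]
    simp [hψ, hρ]
  have hb : h ≫ pt c k[T;T⁻¹][T;T⁻¹] (uT k[T;T⁻¹] 1) = b := by
    apply c.inj
    rw [hfn]
    simp [hψ]
  have hab : a * b = h ≫ (pt c k[T;T⁻¹][T;T⁻¹] (uC k) *
      pt c k[T;T⁻¹][T;T⁻¹] (uT k[T;T⁻¹] 1)) := by
    rw [MonObj.comp_mul, ha, hb]
  rw [hab, c.comp, fn_eq_val, ← univ]
  show pb g (univ c) = _
  rw [hg]


section Alg

variable (D : Type u) [CommRing D] [Algebra k D]

theorem val_one : val c D (1 : YC (k := k) D ⟶ G) = algebraMap k D (unitElt c) := by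
  rw [val, fn_one]
  show (Scheme.ΓSpecIso (CommRingCat.of D)).hom
    (pb (Spec.map (CommRingCat.ofHom (algebraMap k D))) (unitElt c)) = _
  rw [pb_specMap]
  exact Iso.inv_hom_id_apply (C := CommRingCat) _ _

theorem val_mul (x y : YC (k := k) D ⟶ G) :
    val c D (x * y) = opOf (univ c) (valU c D x) (valU c D y) := by
  let f : Γ(Spec (CommRingCat.of D), ⊤) →+* D := (Scheme.ΓSpecIso (CommRingCat.of D)).hom.hom
  have hy : Units.map (f : Γ(Spec (CommRingCat.of D), ⊤) →* D)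
      (c.fnU y : Γ(Spec (CommRingCat.of D), ⊤)ˣ) = valU c D y := by
    apply Units.ext
    rfl
  have hx : f.comp (LaurentPolynomial.eval₂ (pb (YC (k := k) D).hom) (c.fnU x)) =
      LaurentPolynomial.eval₂ (algebraMap k D) (valU c D x) := by
    apply laurent_ringHom_ext
    · intro a
      simp only [RingHom.comp_apply, LaurentPolynomial.eval₂_C]
      show (Scheme.ΓSpecIso (CommRingCat.of D)).hom
        (pb (Spec.map (CommRingCat.ofHom (algebraMap k D))) a) = _
      rw [pb_specMap]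
      exact Iso.inv_hom_id_apply (C := CommRingCat) _ _
    · simp only [RingHom.comp_apply, LaurentPolynomial.eval₂_T, zpow_one]
      rfl
  calc val c D (x * y) = f (c.fn (x * y)) := rfl
    _ = f (LaurentPolynomial.eval₂ (LaurentPolynomial.eval₂ (pb (YC (k := k) D).hom) (c.fnU x))
          (c.fnU y) (univ c)) := by rw [fn_mul]
    _ = LaurentPolynomial.eval₂
          (f.comp (LaurentPolynomial.eval₂ (pb (YC (k := k) D).hom) (c.fnU x)))
          (Units.map (f : Γ(Spec (CommRingCat.of D), ⊤) →* D)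
            (c.fnU y : Γ(Spec (CommRingCat.of D), ⊤)ˣ)) (univ c) := hom_eval₂ _ _ _ _
    _ = _ := by rw [hx, hy]; rfl

theorem opOf_eq (x y : Dˣ) : opOf (univ c) x y = val c D (pt c D x * pt c D y) := by
  rw [val_mul, valU_pt, valU_pt]

end Alg

/-- The unit as an element of `kˣ`. -/
noncomputable def unitU : kˣ := (unitElt_isUnit c).unit

theorem pt_unit (D : Type u) [CommRing D] [Algebra k D] :
    pt c D (Units.map (algebraMap k D : k →* D) (unitU c)) = 1 := by
  have : Units.map (algebraMap k D : k →* D) (unitU c) = valU c D 1 :=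
    Units.ext (val_one c D).symm
  rw [this, pt_valU]

theorem univ_eq {k : Type u} [Field k] {G : Over (Spec (CommRingCat.of k))} (c : CoordU G)
    [GrpObj G] : univ c = C (C (((unitU c)⁻¹ : kˣ) : k) * T 1) * T 1 := by
  apply law_eq _ (univ_isUnit c)
  · intro D _ _ x
    rw [opOf_eq, pt_unit, _root_.mul_one, val_pt]
  · intro D _ _ x
    rw [opOf_eq, pt_unit, _root_.one_mul, val_pt]

theorem fn_mul_eq {k : Type u} [Field k] {G : Over (Spec (CommRingCat.of k))} (c : CoordU G)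
    [GrpObj G] {Y : Over (Spec (CommRingCat.of k))} (a b : Y ⟶ G) :
    c.fn (a * b) * c.fn (1 : Y ⟶ G) = c.fn a * c.fn b := by
  rw [fn_mul, univ_eq, fn_one]
  simp only [map_mul, LaurentPolynomial.eval₂_C, LaurentPolynomial.eval₂_T, zpow_one,
    CoordU.fnU_val]
  have : pb Y.hom (((unitU c)⁻¹ : kˣ) : k) * pb Y.hom (unitElt c) = 1 := by
    rw [← map_mul]
    have : (((unitU c)⁻¹ : kˣ) : k) * unitElt c = 1 := Units.inv_mul (unitU c)
    rw [this, map_one]
  calc _ = (pb Y.hom (((unitU c)⁻¹ : kˣ) : k) * pb Y.hom (unitElt c)) * (c.fn a * c.fn b) := by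
        ring
    _ = _ := by rw [this, _root_.one_mul]

theorem fn_mul_formula {k : Type u} [Field k] {G : Over (Spec (CommRingCat.of k))} (c : CoordU G)
    [GrpObj G] : c.fn (μ[G]) * c.fn (toUnit (G ⊗ G) ≫ η[G]) = c.fn (fst G G) * c.fn (snd G G) := by
  have h := fn_mul_eq c (fst G G) (snd G G)
  rw [Hom.mul_def, lift_fst_snd, Category.id_comp, Hom.one_def] at h
  exact h

theorem mul_eq_of_one_eq {k : Type u} [Field k] {G : Over (Spec (CommRingCat.of k))}
    (c : CoordU G) (h₁ h₂ : GrpObj G) (e : h₁.one = h₂.one) : h₁.mul = h₂.mul := by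
  apply c.inj
  have e1 := @fn_mul_formula k _ G c h₁
  have e2 := @fn_mul_formula k _ G c h₂
  rw [e] at e1
  exact (c.isUnit _).mul_left_injective (e1.trans e2.symm)

end Law

end Groth.Agent.H42.LineLawGm
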