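import Mathlib.CategoryTheory.CofilteredSystem
import Mathlib.CategoryTheory.Limits.Types.Limits

set_option autoImplicit false
universe u
open CategoryTheory CategoryTheory.Limits Opposite

namespace Groth.Agent.H42

/-- For a Mittag-Leffler inverse system of types indexed by `ℕ`, every element of an eventual
range extends to a section. -/
theorem exists_section_of_mem_eventualRange (G : ℕᵒᵖ ⥤ Type u) (hG : G.IsMittagLeffler)
    (p : ℕ) (x : G.obj (op p)) (hx : x ∈ G.eventualRange (op p)) :
    ∃ s ∈ G.sections, s (op p) = x := by
  classical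
  have hsurj := G.surjective_toEventualRanges hG
  -- the chain of lifts
  let step : ∀ n : ℕ, G.toEventualRanges.obj (op (p + n)) → G.toEventualRanges.obj (op (p + (n + 1))) :=
    fun n z => (hsurj (homOfLE (show p + n ≤ p + (n + 1) by omega)).op z).choose
  have hstep : ∀ n z, G.toEventualRanges.map (homOfLE (show p + n ≤ p + (n + 1) by omega)).op (step n z) = z :=
    fun n z => (hsurj (homOfLE (show p + n ≤ p + (n + 1) by omega)).op z).choose_spec
  let y : ∀ n : ℕ, G.toEventualRanges.obj (op (p + n)) :=
    fun n => Nat.rec (motive := fun n => G.toEventualRanges.obj (op (p + n))) ⟨x, hx⟩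
      (fun n z => step n z) n
  have hy0 : (y 0).1 = x := rfl
  have hysucc : ∀ n, G.map (homOfLE (show p + n ≤ p + (n + 1) by omega)).op (y (n + 1)).1 = (y n).1 := by
    intro n
    have := hstep n (y n)
    exact congrArg Subtype.val this
  have hchain : ∀ m n : ℕ, ∀ h : m ≤ n,
      G.map (homOfLE (show p + m ≤ p + n by omega)).op (y n).1 = (y m).1 := by
    intro m n h
    induction n, h using Nat.le_induction with
    | base =>
      have : (homOfLE (show p + m ≤ p + m by omega)).op = 𝟙 (op (p + m)) := Subsingleton.elim _ _
      rw [this, G.map_id]; rfl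
    | succ n hmn ih =>
      have : (homOfLE (show p + m ≤ p + (n + 1) by omega)).op =
          (homOfLE (show p + n ≤ p + (n + 1) by omega)).op ≫
            (homOfLE (show p + m ≤ p + n by omega)).op := Subsingleton.elim _ _
      rw [this, G.map_comp]
      change G.map _ (G.map _ (y (n + 1)).1) = _
      rw [hysucc n, ih]
  refine ⟨fun j => G.map (homOfLE (show j.unop ≤ p + j.unop by omega)).op (y j.unop).1, ?_, ?_⟩
  · intro j j' f
    have hle : j'.unop ≤ j.unop := leOfHom f.unop
    have e1 : (homOfLE (show j.unop ≤ p + j.unop by omega)).op ≫ f =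
        (homOfLE (show p + j'.unop ≤ p + j.unop by omega)).op ≫
          (homOfLE (show j'.unop ≤ p + j'.unop by omega)).op := Subsingleton.elim _ _
    change G.map f (G.map _ (y j.unop).1) = G.map _ (y j'.unop).1
    have : G.map f (G.map (homOfLE (show j.unop ≤ p + j.unop by omega)).op (y j.unop).1) =
        G.map ((homOfLE (show j.unop ≤ p + j.unop by omega)).op ≫ f) (y j.unop).1 := by
      rw [G.map_comp]; rfl
    rw [this, e1, G.map_comp]
    change G.map _ (G.map _ (y j.unop).1) = _
    rw [hchain j'.unop j.unop hle]
  · change G.map (homOfLE (show p ≤ p + p by omega)).op (y p).1 = x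
    have := hchain 0 p (Nat.zero_le p)
    rw [hy0] at this
    rw [← this]

end Groth.Agent.H42
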