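import Groth.Agent.H42.EpiSpec
import Mathlib

set_option autoImplicit false
set_option linter.style.haveILetI false
set_option linter.unusedSectionVars false
universe u
open CategoryTheory AlgebraicGeometry

namespace Groth.Agent.H42.MilnorGlue

section Alg

variable {P E C P' E' C' : Type*} [CommRing P] [CommRing E] [CommRing C]
  [CommRing P'] [CommRing E'] [CommRing C']

/-- Localization of an equalizer diagram `P ↪ E ⇉ C` at an element of `P` is an equalizer diagram. -/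
theorem locEq (ι : P →+* E) (φ₁ φ₂ : E →+* C) (hι : Function.Injective ι)
    (hcomm : φ₁.comp ι = φ₂.comp ι) (hex : ∀ e, φ₁ e = φ₂ e → ∃ p, ι p = e)
    (t : P) [Algebra P P'] [IsLocalization.Away t P'] [Algebra E E'] [IsLocalization.Away (ι t) E']
    [Algebra C C'] [IsLocalization.Away (φ₁ (ι t)) C']
    (ι' : P' →+* E') (φ₁' φ₂' : E' →+* C')
    (hι' : ι'.comp (algebraMap P P') = (algebraMap E E').comp ι)
    (h₁ : φ₁'.comp (algebraMap E E') = (algebraMap C C').comp φ₁)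
    (h₂ : φ₂'.comp (algebraMap E E') = (algebraMap C C').comp φ₂) :
    Function.Injective ι' ∧ ∀ e', φ₁' e' = φ₂' e' → ∃ p', ι' p' = e' := by
  have hι'a : ∀ p, ι' (algebraMap P P' p) = algebraMap E E' (ι p) := fun p =>
    congrArg (fun f => f p) hι'
  have h₁a : ∀ e, φ₁' (algebraMap E E' e) = algebraMap C C' (φ₁ e) := fun e =>
    congrArg (fun f => f e) h₁
  have h₂a : ∀ e, φ₂' (algebraMap E E' e) = algebraMap C C' (φ₂ e) := fun e =>
    congrArg (fun f => f e) h₂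
  have hτ : φ₂ (ι t) = φ₁ (ι t) := (congrArg (fun f => f t) hcomm).symm
  have hunitP : ∀ n : ℕ, IsUnit (algebraMap P P' (t ^ n)) := fun n => by
    rw [map_pow]; exact (IsLocalization.Away.algebraMap_isUnit t).pow n
  have hunitE : ∀ n : ℕ, IsUnit (algebraMap E E' ((ι t) ^ n)) := fun n => by
    rw [map_pow]; exact (IsLocalization.Away.algebraMap_isUnit (ι t)).pow n
  have hunitC : ∀ n : ℕ, IsUnit (algebraMap C C' ((φ₁ (ι t)) ^ n)) := fun n => by
    rw [map_pow]; exact (IsLocalization.Away.algebraMap_isUnit (φ₁ (ι t))).pow n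
  constructor
  · rw [injective_iff_map_eq_zero]
    intro p' hp'
    obtain ⟨⟨p, ⟨_, n, rfl⟩⟩, hp⟩ := IsLocalization.surj (Submonoid.powers t) p'
    simp only at hp
    -- p' * algebraMap (t^n) = algebraMap p
    have h1 : algebraMap E E' (ι p) = 0 := by
      rw [← hι'a, ← hp, map_mul, hp', zero_mul]
    obtain ⟨⟨_, m, rfl⟩, hm⟩ := (IsLocalization.map_eq_zero_iff (Submonoid.powers (ι t)) E' _).1 h1
    simp only at hm
    have h2 : ι (t ^ m * p) = 0 := by rw [map_mul, map_pow]; exact hm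
    have h3 : t ^ m * p = 0 := hι (by rw [h2, map_zero])
    have h4 : algebraMap P P' p = 0 := by
      have : algebraMap P P' (t ^ m) * algebraMap P P' p = 0 := by rw [← map_mul, h3, map_zero]
      exact (hunitP m).mul_right_eq_zero.1 this
    rw [h4] at hp
    exact (hunitP n).mul_left_eq_zero.1 hp
  · intro e' he'
    obtain ⟨⟨e, ⟨_, n, rfl⟩⟩, he⟩ := IsLocalization.surj (Submonoid.powers (ι t)) e'
    simp only at he
    -- e' * algebraMap ((ι t)^n) = algebraMap e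
    have h1 : algebraMap C C' (φ₁ e) = algebraMap C C' (φ₂ e) := by
      rw [← h₁a, ← h₂a, ← he, map_mul, map_mul, he', h₁a, h₂a, map_pow, map_pow, map_pow, map_pow, hτ]
    obtain ⟨⟨_, m, rfl⟩, hm⟩ := (IsLocalization.eq_iff_exists (Submonoid.powers (φ₁ (ι t))) C').1 h1
    simp only at hm
    have h2 : φ₁ ((ι t) ^ m * e) = φ₂ ((ι t) ^ m * e) := by
      rw [map_mul, map_mul, map_pow, map_pow, hτ]; exact hm
    obtain ⟨p, hp⟩ := hex _ h2
    obtain ⟨w, hw⟩ := (hunitP (m + n)).exists_left_inv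
    refine ⟨w * algebraMap P P' p, ?_⟩
    have h3 : ι' w * algebraMap E E' ((ι t) ^ (m + n)) = 1 := by
      rw [← map_pow, ← hι'a, ← map_mul, hw, map_one]
    rw [map_mul, hι'a, hp, map_mul, ← he]
    calc ι' w * (algebraMap E E' ((ι t) ^ m) * (e' * algebraMap E E' ((ι t) ^ n)))
        = (ι' w * algebraMap E E' ((ι t) ^ (m + n))) * e' := by rw [pow_add, map_mul]; ring
      _ = e' := by rw [h3, one_mul]

/-- Ring homomorphisms into an equalizer. -/
theorem exists_liftHom {O : Type*} [CommRing O] (ι : P →+* E) (φ₁ φ₂ : E →+* C)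
    (hι : Function.Injective ι) (hex : ∀ e, φ₁ e = φ₂ e → ∃ p, ι p = e)
    (α : O →+* E) (hα : φ₁.comp α = φ₂.comp α) : ∃ γ : O →+* P, ι.comp γ = α := by
  have hα' : ∀ o, φ₁ (α o) = φ₂ (α o) := fun o => congrArg (fun f => f o) hα
  choose γ hγ using fun o => hex (α o) (hα' o)
  refine ⟨{ toFun := γ, map_one' := ?_, map_mul' := ?_, map_zero' := ?_, map_add' := ?_ }, ?_⟩
  · apply hι; rw [hγ, map_one, map_one]
  · intro x y; apply hι; rw [hγ, map_mul, map_mul, hγ, hγ]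
  · apply hι; rw [hγ, map_zero, map_zero]
  · intro x y; apply hι; rw [hγ, map_add, map_add, hγ, hγ]
  · ext o; exact hγ o

end Alg

end Groth.Agent.H42.MilnorGlue

namespace Groth.Agent.H42.MilnorGlue

section Uniq

variable {T Y X : Scheme.{u}}

/-- A quasi-compact, surjective, scheme-theoretically dominant morphism is an epimorphism of schemes,
and stays so after restriction to any open of the target. -/
theorem eq_of_restrict_comp_eq (q : T ⟶ Y) [QuasiCompact q] [IsSchemeTheoreticallyDominant q]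
    (hq : Function.Surjective q.base) (W : Y.Opens) {m₁ m₂ : (W : Scheme.{u}) ⟶ X}
    (h : q ∣_ W ≫ m₁ = q ∣_ W ≫ m₂) : m₁ = m₂ := by
  refine Groth.Agent.H42.eq_of_comp_eq_of_surj_inj (p := q ∣_ W) ?_ ?_ h
  · intro y
    obtain ⟨x, hx⟩ := hq y.1
    have hxW : x ∈ q ⁻¹ᵁ W := by
      show q.base x ∈ W
      rw [hx]; exact y.2
    refine ⟨(⟨x, hxW⟩ : ↥(q ⁻¹ᵁ W)), ?_⟩
    apply Subtype.ext
    exact (morphismRestrict_base_coe q W _).trans hx
  · intro V
    rw [morphismRestrict_app]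
    have h1 : Function.Injective (q.app (W.ι ''ᵁ V)).hom := q.app_injective _
    have h2 : Function.Injective
        (T.presheaf.map (eqToHom (image_morphismRestrict_preimage q W V)).op).hom :=
      (ConcreteCategory.bijective_of_isIso _).1
    exact h2.comp h1

end Uniq

end Groth.Agent.H42.MilnorGlue

namespace Groth.Agent.H42.MilnorGlue

open CategoryTheory.Limits

section Glue

variable {Y X : Scheme.{u}} {s : Type u} (W : s → Y.Opens) (hW : TopologicalSpace.IsOpenCover W)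

include hW in
/-- Gluing morphisms defined on the members of an open cover and agreeing on the pairwise intersections. -/
theorem exists_glue (c : ∀ i, (W i : Scheme.{u}) ⟶ X)
    (hc : ∀ i j, Y.homOfLE (inf_le_left : W i ⊓ W j ≤ W i) ≫ c i =
      Y.homOfLE (inf_le_right : W i ⊓ W j ≤ W j) ≫ c j) :
    ∃ g : Y ⟶ X, ∀ i, (W i).ι ≫ g = c i := by
  let 𝒰 := Y.openCoverOfIsOpenCover W hW
  have hf : ∀ i j : s, pullback.fst (W i).ι (W j).ι ≫ c i = pullback.snd (W i).ι (W j).ι ≫ c j := by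
    intro i j
    have hp := isPullback_opens_inf (W i) (W j)
    rw [← cancel_epi hp.isoPullback.hom, hp.isoPullback_hom_fst_assoc, hp.isoPullback_hom_snd_assoc]
    exact hc i j
  exact ⟨𝒰.glueMorphisms c hf, fun i => 𝒰.ι_glueMorphisms c hf i⟩

include hW in
theorem hom_ext_of_isOpenCover {g₁ g₂ : Y ⟶ X} (h : ∀ i, (W i).ι ≫ g₁ = (W i).ι ≫ g₂) : g₁ = g₂ :=
  (Y.openCoverOfIsOpenCover W hW).hom_ext g₁ g₂ h

end Glue

end Groth.Agent.H42.MilnorGlue

namespace Groth.Agent.H42.MilnorGlue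

theorem appLE_comp_algebraMap {R S : CommRingCat.{u}} (ψ : R ⟶ S) (U : (Spec R).Opens)
    (V : (Spec S).Opens) (e : V ≤ Spec.map ψ ⁻¹ᵁ U) :
    ((Spec.map ψ).appLE U V e).hom.comp (algebraMap R Γ(Spec R, U)) =
      (algebraMap S Γ(Spec S, V)).comp ψ.hom := by
  rw [IsAffineOpen.algebraMap_Spec_obj, IsAffineOpen.algebraMap_Spec_obj, ← CommRingCat.hom_comp,
    ← CommRingCat.hom_comp]
  congr 1
  rw [Category.assoc, Scheme.Hom.map_appLE, ← Category.assoc, Scheme.ΓSpecIso_inv_naturality,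
    Category.assoc, Scheme.Hom.appLE]
  congr 1

end Groth.Agent.H42.MilnorGlue


namespace Groth.Agent.H42.MilnorGlue

section Main

set_option backward.isDefEq.respectTransparency.types false

variable {P E C : CommRingCat.{u}} (ι : P ⟶ E) (φ₁ φ₂ : E ⟶ C)
  (hι : Function.Injective ι.hom) (hcomm : ι ≫ φ₁ = ι ≫ φ₂)
  (hex : ∀ e, φ₁.hom e = φ₂.hom e → ∃ p, ι.hom p = e)

variable {X : Scheme.{u}} (ab : Spec E ⟶ X) (hab : Spec.map φ₁ ≫ ab = Spec.map φ₂ ≫ ab)

/-- Basic opens of an affine scheme, as opens of the scheme. -/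
abbrev bo {R : CommRingCat.{u}} (r : R) : (Spec R).Opens := PrimeSpectrum.basicOpen r

include hι hcomm hex hab in
/-- Local existence: over a basic open `D(t)` of `Spec P` whose preimage in `Spec E` is mapped
by `ab` into an affine open of `X`, the morphism `ab` descends. -/
theorem exists_local (t : P) (U : X.Opens) (hU : IsAffineOpen U)
    (hle : Spec.map ι ⁻¹ᵁ (bo t) ≤ ab ⁻¹ᵁ U) :
    ∃ c : (bo t : Scheme.{u}) ⟶ X,
      (Spec.map ι ∣_ (bo t)) ≫ c = (Spec.map ι ⁻¹ᵁ (bo t)).ι ≫ ab := by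
  have hτ : φ₂.hom (ι.hom t) = φ₁.hom (ι.hom t) := (congrArg (fun f => f.hom t) hcomm).symm
  let Wt : (Spec P).Opens := bo t
  let WE : (Spec E).Opens := Spec.map ι ⁻¹ᵁ (bo t)
  let WC : (Spec C).Opens := PrimeSpectrum.basicOpen (φ₁.hom (ι.hom t))
  have e₀ : WE ≤ Spec.map ι ⁻¹ᵁ Wt := le_rfl
  haveI : IsLocalization.Away (ι.hom t) Γ(Spec E, WE) :=
    inferInstanceAs (IsLocalization.Away (ι.hom t) Γ(Spec E, PrimeSpectrum.basicOpen (ι.hom t)))
  have e₁ : WC ≤ Spec.map φ₁ ⁻¹ᵁ WE := le_of_eq rfl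
  have e₂ : WC ≤ Spec.map φ₂ ⁻¹ᵁ WE := by
    refine le_of_eq ?_
    show PrimeSpectrum.basicOpen (φ₁.hom (ι.hom t)) = PrimeSpectrum.basicOpen (φ₂.hom (ι.hom t))
    rw [hτ]
  have hAffT : IsAffineOpen Wt := IsAffineOpen.Spec_basicOpen t
  have hAffE : IsAffineOpen WE := IsAffineOpen.Spec_basicOpen (ι.hom t)
  have hWEle : WE ≤ ab ⁻¹ᵁ U := hle
  -- the ring maps
  let ι' : Γ(Spec P, Wt) →+* Γ(Spec E, WE) := ((Spec.map ι).appLE Wt WE e₀).hom
  let φ₁' : Γ(Spec E, WE) →+* Γ(Spec C, WC) := ((Spec.map φ₁).appLE WE WC e₁).hom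
  let φ₂' : Γ(Spec E, WE) →+* Γ(Spec C, WC) := ((Spec.map φ₂).appLE WE WC e₂).hom
  obtain ⟨hinj, hex'⟩ := locEq (P' := Γ(Spec P, Wt)) (E' := Γ(Spec E, WE)) (C' := Γ(Spec C, WC))
    ι.hom φ₁.hom φ₂.hom hι (by rw [← CommRingCat.hom_comp, ← CommRingCat.hom_comp, hcomm]) hex t
    ι' φ₁' φ₂'
    (appLE_comp_algebraMap ι Wt WE e₀)
    (appLE_comp_algebraMap φ₁ WE WC e₁)
    (appLE_comp_algebraMap φ₂ WE WC e₂)
  -- the map from the affine open of `X`
  let α : Γ(X, U) →+* Γ(Spec E, WE) := (ab.appLE U WE hWEle).hom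
  have hα : φ₁'.comp α = φ₂'.comp α := by
    have key : ∀ (m₁ m₂ : Spec C ⟶ X) (_ : m₁ = m₂) (h₁ : WC ≤ m₁ ⁻¹ᵁ U)
        (h₂ : WC ≤ m₂ ⁻¹ᵁ U), m₁.appLE U WC h₁ = m₂.appLE U WC h₂ := by
      rintro _ _ rfl _ _; rfl
    have h1 : ab.appLE U WE hWEle ≫ (Spec.map φ₁).appLE WE WC e₁ =
        ab.appLE U WE hWEle ≫ (Spec.map φ₂).appLE WE WC e₂ := by
      rw [Scheme.Hom.appLE_comp_appLE, Scheme.Hom.appLE_comp_appLE]
      exact key _ _ hab _ _
    exact congrArg CommRingCat.Hom.hom h1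
  obtain ⟨γ, hγ⟩ := exists_liftHom ι' φ₁' φ₂' hinj hex' α hα
  refine ⟨hAffT.isoSpec.hom ≫ Spec.map (CommRingCat.ofHom γ) ≫ hU.fromSpec, ?_⟩
  have claim1 : (Spec.map ι ∣_ Wt) ≫ hAffT.isoSpec.hom =
      hAffE.isoSpec.hom ≫ Spec.map ((Spec.map ι).appLE Wt WE e₀) := by
    rw [← cancel_mono hAffT.fromSpec, Category.assoc, Category.assoc, hAffT.isoSpec_hom_fromSpec,
      IsAffineOpen.SpecMap_appLE_fromSpec _ hAffT hAffE, morphismRestrict_ι]
    exact (hAffE.isoSpec_hom_fromSpec_assoc _).symm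
  have h2 : CommRingCat.ofHom γ ≫ (Spec.map ι).appLE Wt WE e₀ = ab.appLE U WE hWEle := by
    apply CommRingCat.hom_ext
    exact hγ
  have h3 : Spec.map ((Spec.map ι).appLE Wt WE e₀) ≫ Spec.map (CommRingCat.ofHom γ) =
      Spec.map (ab.appLE U WE hWEle) := by
    rw [← Spec.map_comp]; exact congrArg Spec.map h2
  calc (Spec.map ι ∣_ Wt) ≫ hAffT.isoSpec.hom ≫ Spec.map (CommRingCat.ofHom γ) ≫ hU.fromSpec
      = ((Spec.map ι ∣_ Wt) ≫ hAffT.isoSpec.hom) ≫ Spec.map (CommRingCat.ofHom γ) ≫ hU.fromSpec := by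
        simp only [Category.assoc]
    _ = hAffE.isoSpec.hom ≫ (Spec.map ((Spec.map ι).appLE Wt WE e₀) ≫
          Spec.map (CommRingCat.ofHom γ)) ≫ hU.fromSpec := by
        rw [claim1]; simp only [Category.assoc]
    _ = hAffE.isoSpec.hom ≫ Spec.map (ab.appLE U WE hWEle) ≫ hU.fromSpec := by rw [h3]
    _ = hAffE.isoSpec.hom ≫ hAffE.fromSpec ≫ ab := by
        rw [IsAffineOpen.SpecMap_appLE_fromSpec _ hU hAffE]
    _ = _ := hAffE.isoSpec_hom_fromSpec_assoc _

include hι hcomm hex hab in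
/-- **Gluing along an equalizer of rings**: if `P ↪ E ⇉ C` is an equalizer diagram of rings with
`Spec E → Spec P` surjective, then a morphism `Spec E ⟶ X` to an arbitrary scheme equalizing the
two maps from `Spec C` descends to `Spec P`, provided `Spec P` is covered by basic opens whose
preimages in `Spec E` are mapped into affine opens of `X`. -/
theorem exists_desc (hsurj : Function.Surjective (Spec.map ι).base)
    (hcov : ∀ x : Spec P, ∃ t : P, x ∈ bo t ∧
      ∃ U : X.Opens, IsAffineOpen U ∧ Spec.map ι ⁻¹ᵁ (bo t) ≤ ab ⁻¹ᵁ U) :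
    ∃ c : Spec P ⟶ X, Spec.map ι ≫ c = ab := by
  haveI : IsSchemeTheoreticallyDominant (Spec.map ι) :=
    Groth.Agent.H42.isSchemeTheoreticallyDominant_specMap ι hι
  let s : Type u := {t : P // ∃ U : X.Opens, IsAffineOpen U ∧ Spec.map ι ⁻¹ᵁ (bo t) ≤ ab ⁻¹ᵁ U}
  let W : s → (Spec P).Opens := fun t => bo t.1
  have hW : TopologicalSpace.IsOpenCover W := by
    refine TopologicalSpace.IsOpenCover.mk (top_le_iff.1 ?_)
    intro x _
    obtain ⟨t, hxt, hU⟩ := hcov x
    exact TopologicalSpace.Opens.mem_iSup.2 ⟨⟨t, hU⟩, hxt⟩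
  have hloc : ∀ i : s, ∃ c : (W i : Scheme.{u}) ⟶ X,
      (Spec.map ι ∣_ (W i)) ≫ c = (Spec.map ι ⁻¹ᵁ (W i)).ι ≫ ab := by
    intro i
    obtain ⟨U, hU, hle⟩ := i.2
    exact exists_local ι φ₁ φ₂ hι hcomm hex ab hab i.1 U hU hle
  choose c hc using hloc
  have key : ∀ (i : s) (V : (Spec P).Opens) (hV : V ≤ W i),
      (Spec.map ι ∣_ V) ≫ (Spec P).homOfLE hV ≫ c i = (Spec.map ι ⁻¹ᵁ V).ι ≫ ab := by
    intro i V hV
    have h1 : (Spec.map ι ∣_ V) ≫ (Spec P).homOfLE hV =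
        (Spec E).homOfLE ((Spec.map ι).preimage_mono hV) ≫ (Spec.map ι ∣_ (W i)) := by
      rw [← Scheme.Hom.resLE_eq_morphismRestrict, ← Scheme.Hom.resLE_eq_morphismRestrict,
        Scheme.Hom.resLE_map, Scheme.Hom.map_resLE]
    rw [← Category.assoc, h1, Category.assoc, hc i, Scheme.homOfLE_ι_assoc]
  obtain ⟨g, hg⟩ := exists_glue W hW c (fun i j => by
    apply eq_of_restrict_comp_eq (Spec.map ι) hsurj (W i ⊓ W j)
    rw [key i _ inf_le_left, key j _ inf_le_right])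
  refine ⟨g, ?_⟩
  have hW' : TopologicalSpace.IsOpenCover (fun i : s => Spec.map ι ⁻¹ᵁ (W i)) := by
    refine TopologicalSpace.IsOpenCover.mk (top_le_iff.1 ?_)
    intro y _
    obtain ⟨t, hxt, hU⟩ := hcov ((Spec.map ι).base y)
    exact TopologicalSpace.Opens.mem_iSup.2 ⟨⟨t, hU⟩, hxt⟩
  apply hom_ext_of_isOpenCover _ hW'
  intro i
  rw [← morphismRestrict_ι_assoc, hg i, hc i]

end Main

end Groth.Agent.H42.MilnorGlue

namespace Groth.Agent.H42.MilnorGlue

section Top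

variable {P A B C₀ : Type*} [CommRing P] [CommRing A] [CommRing B] [CommRing C₀]

/-- A Milnor square of rings: `P = A ×_{C₀} B` with `A → C₀` surjective. -/
structure IsMilnor (πA : P →+* A) (πB : P →+* B) (f : A →+* C₀) (g : B →+* C₀) : Prop where
  comm : ∀ p, f (πA p) = g (πB p)
  exists_lift : ∀ a b, f a = g b → ∃ p, πA p = a ∧ πB p = b
  inj : ∀ p, πA p = 0 → πB p = 0 → p = 0
  surj : Function.Surjective f

variable {πA : P →+* A} {πB : P →+* B} {f : A →+* C₀} {g : B →+* C₀}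

namespace IsMilnor

variable (h : IsMilnor πA πB f g)
include h

theorem ext {p p' : P} (hA : πA p = πA p') (hB : πB p = πB p') : p = p' := by
  have := h.inj (p - p') (by rw [map_sub, hA, sub_self]) (by rw [map_sub, hB, sub_self])
  exact sub_eq_zero.1 this

theorem surjective_πB : Function.Surjective πB := by
  intro b
  obtain ⟨a, ha⟩ := h.surj (g b)
  obtain ⟨p, -, hp⟩ := h.exists_lift a b ha
  exact ⟨p, hp⟩

/-- Lifting `(a * πA k, 0)` when `πB k = 0`. -/
theorem exists_lift_mul {k : P} (hk : πB k = 0) (a : A) : ∃ p, πA p = a * πA k ∧ πB p = 0 := by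
  apply h.exists_lift
  rw [map_mul, h.comm, hk, map_zero, mul_zero]

/-- A prime of `P` not containing the kernel of `P → B` comes from `A`. -/
theorem exists_comap_πA_eq (x : PrimeSpectrum P) {k : P} (hk : πB k = 0) (hkx : k ∉ x.asIdeal) :
    ∃ y : PrimeSpectrum A, PrimeSpectrum.comap πA y = x := by
  have := (PrimeSpectrum.mem_range_comap_iff (f := πA) (p := x)).2 ?_
  · obtain ⟨y, hy⟩ := this
    exact ⟨y, hy⟩
  refine le_antisymm ?_ Ideal.le_comap_map
  -- key claim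
  have key : ∀ a ∈ Ideal.map πA x.asIdeal, ∀ p'' : P, πB p'' = 0 →
      ∃ p' ∈ x.asIdeal, πA p' = a * πA p'' ∧ πB p' = 0 := by
    intro a ha
    refine Submodule.span_induction (p := fun a _ => ∀ p'' : P, πB p'' = 0 →
      ∃ p' ∈ x.asIdeal, πA p' = a * πA p'' ∧ πB p' = 0) ?_ ?_ ?_ ?_ ha
    · rintro _ ⟨x₀, hx₀, rfl⟩ p'' hp''
      exact ⟨x₀ * p'', x.asIdeal.mul_mem_right _ hx₀, by rw [map_mul], by rw [map_mul, hp'', mul_zero]⟩
    · intro p'' hp''
      exact ⟨0, x.asIdeal.zero_mem, by simp, by simp⟩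
    · intro a₁ a₂ _ _ h₁ h₂ p'' hp''
      obtain ⟨p₁, hp₁x, hp₁A, hp₁B⟩ := h₁ p'' hp''
      obtain ⟨p₂, hp₂x, hp₂A, hp₂B⟩ := h₂ p'' hp''
      exact ⟨p₁ + p₂, x.asIdeal.add_mem hp₁x hp₂x, by rw [map_add, hp₁A, hp₂A, add_mul],
        by rw [map_add, hp₁B, hp₂B, add_zero]⟩
    · intro a' a₁ _ h₁ p'' hp''
      obtain ⟨p''', hA, hB⟩ := h.exists_lift_mul hp'' a'
      obtain ⟨p', hp'x, hp'A, hp'B⟩ := h₁ p''' hB
      exact ⟨p', hp'x, by rw [hp'A, hA, smul_eq_mul]; ring, hp'B⟩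
  intro p hp
  rw [Ideal.mem_comap] at hp
  obtain ⟨p', hp'x, hp'A, hp'B⟩ := key _ hp k hk
  have : p' = p * k := h.ext (by rw [hp'A, map_mul]) (by rw [hp'B, map_mul, hk, mul_zero])
  rw [this] at hp'x
  exact (x.isPrime.mem_or_mem hp'x).resolve_right hkx

/-- A prime of `P` containing the kernel of `P → B` comes from `B`. -/
theorem exists_comap_πB_eq (x : PrimeSpectrum P) (hx : RingHom.ker πB ≤ x.asIdeal) :
    ∃ z : PrimeSpectrum B, PrimeSpectrum.comap πB z = x := by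
  have := (PrimeSpectrum.mem_range_comap_iff (f := πB) (p := x)).2 ?_
  · obtain ⟨z, hz⟩ := this
    exact ⟨z, hz⟩
  rw [Ideal.comap_map_of_surjective πB h.surjective_πB]
  refine le_antisymm (sup_le le_rfl ?_) le_sup_left
  exact hx


theorem exists_basicOpen_of_notMem (x : PrimeSpectrum P) {k : P} (hk : πB k = 0)
    (hkx : k ∉ x.asIdeal) (OA : Set (PrimeSpectrum A)) (hOA : IsOpen OA) (y : PrimeSpectrum A)
    (hy : PrimeSpectrum.comap πA y = x) (hyO : y ∈ OA) :
    ∃ t : P, t ∉ x.asIdeal ∧ (∀ y' : PrimeSpectrum A, πA t ∉ y'.asIdeal → y' ∈ OA) ∧ πB t = 0 := by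
  obtain ⟨_, ⟨α, rfl⟩, hyα, hαO⟩ :=
    PrimeSpectrum.isTopologicalBasis_basic_opens.exists_subset_of_mem_open hyO hOA
  obtain ⟨t, htA, htB⟩ := h.exists_lift_mul hk α
  refine ⟨t, ?_, ?_, htB⟩
  · intro htx
    rw [← hy] at htx hkx
    change πA t ∈ y.asIdeal at htx
    change ¬ (πA k ∈ y.asIdeal) at hkx
    rw [htA] at htx
    rcases y.isPrime.mem_or_mem htx with h1 | h1
    · exact hyα h1
    · exact hkx h1
  · intro y' hy'
    apply hαO
    intro hα
    apply hy'
    rw [htA]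
    exact y'.asIdeal.mul_mem_right _ hα

theorem exists_basicOpen_of_le (x : PrimeSpectrum P)
    (OA : Set (PrimeSpectrum A)) (hOA : IsOpen OA) (OB : Set (PrimeSpectrum B)) (hOB : IsOpen OB)
    (hcompat : ∀ w : PrimeSpectrum C₀, PrimeSpectrum.comap g w ∈ OB → PrimeSpectrum.comap f w ∈ OA)
    (z : PrimeSpectrum B) (hz : PrimeSpectrum.comap πB z = x) (hzO : z ∈ OB) :
    ∃ t : P, t ∉ x.asIdeal ∧ (∀ y' : PrimeSpectrum A, πA t ∉ y'.asIdeal → y' ∈ OA) ∧
      (∀ z' : PrimeSpectrum B, πB t ∉ z'.asIdeal → z' ∈ OB) := by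
  obtain ⟨_, ⟨β, rfl⟩, hzβ, hβO⟩ :=
    PrimeSpectrum.isTopologicalBasis_basic_opens.exists_subset_of_mem_open hzO hOB
  obtain ⟨t₀, ht₀⟩ := h.surjective_πB β
  set α₀ := πA t₀ with hα₀
  have hfα₀ : f α₀ = g β := by rw [hα₀, h.comm, ht₀]
  set J : Ideal A := PrimeSpectrum.vanishingIdeal OAᶜ with hJ
  have hZ : PrimeSpectrum.zeroLocus (J : Set A) = OAᶜ := by
    rw [hJ, PrimeSpectrum.zeroLocus_vanishingIdeal_eq_closure, hOA.isClosed_compl.closure_eq]
  have hrad : α₀ ∈ (J ⊔ RingHom.ker f).radical := by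
    rw [Ideal.radical_eq_sInf, Ideal.mem_sInf]
    rintro y ⟨hJy, hyprime⟩
    by_contra hα₀y
    have hJ' : J ≤ y := le_sup_left.trans hJy
    have hker : RingHom.ker f ≤ y := le_sup_right.trans hJy
    let yy : PrimeSpectrum A := ⟨y, hyprime⟩
    have hyZ : yy ∈ OAᶜ := by
      rw [← hZ]
      exact hJ'
    -- y = comap f w
    have hw := (PrimeSpectrum.mem_range_comap_iff (f := f) (p := yy)).2 (by
      rw [Ideal.comap_map_of_surjective f h.surj]
      exact le_antisymm (sup_le le_rfl (by rw [← RingHom.ker_eq_comap_bot]; exact hker)) le_sup_left)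
    obtain ⟨w, hw⟩ := hw
    have h1 : PrimeSpectrum.comap g w ∈ OB := by
      apply hβO
      show β ∉ (PrimeSpectrum.comap g w).asIdeal
      intro hβ
      change g β ∈ w.asIdeal at hβ
      rw [← hfα₀] at hβ
      apply hα₀y
      have : α₀ ∈ (PrimeSpectrum.comap f w).asIdeal := hβ
      rw [hw] at this
      exact this
    have h2 := hcompat w h1
    rw [hw] at h2
    exact hyZ h2
  obtain ⟨m, hm⟩ := hrad
  obtain ⟨j, hj, κ, hκ, hjκ⟩ := Submodule.mem_sup.1 hm
  have hfj : f (α₀ * j) = g (β ^ (m + 1)) := by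
    have : j = α₀ ^ m - κ := by rw [← hjκ]; ring
    rw [this, map_mul, map_sub, map_pow, hfα₀, (RingHom.mem_ker).1 hκ, sub_zero, map_pow]
    ring
  obtain ⟨t, htA, htB⟩ := h.exists_lift (α₀ * j) (β ^ (m + 1)) hfj
  refine ⟨t, ?_, ?_, ?_⟩
  · intro htx
    rw [← hz] at htx
    change πB t ∈ z.asIdeal at htx
    rw [htB] at htx
    exact hzβ (z.isPrime.mem_of_pow_mem (m + 1) htx)
  · intro y' hy'
    by_contra hy'O
    have : y' ∈ PrimeSpectrum.zeroLocus (J : Set A) := by rw [hZ]; exact hy'O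
    apply hy'
    rw [htA]
    exact y'.asIdeal.mul_mem_left _ (this hj)
  · intro z' hz'
    apply hβO
    intro hβ
    apply hz'
    rw [htB]
    exact z'.asIdeal.pow_mem_of_mem hβ (m + 1) (Nat.succ_pos m)

end IsMilnor

end Top

end Groth.Agent.H42.MilnorGlue


namespace Groth.Agent.H42.MilnorGlue

open CategoryTheory.Limits

section MilnorScheme

variable {P A B C₀ : Type u} [CommRing P] [CommRing A] [CommRing B] [CommRing C₀]
  {πA : P →+* A} {πB : P →+* B} {f : A →+* C₀} {g : B →+* C₀}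

/-- Uniqueness in the Milnor square pushout property. -/
theorem IsMilnor.hom_ext (h : IsMilnor πA πB f g) {X : Scheme.{u}}
    {c₁ c₂ : Spec (CommRingCat.of P) ⟶ X}
    (hA : Spec.map (CommRingCat.ofHom πA) ≫ c₁ = Spec.map (CommRingCat.ofHom πA) ≫ c₂)
    (hB : Spec.map (CommRingCat.ofHom πB) ≫ c₁ = Spec.map (CommRingCat.ofHom πB) ≫ c₂) :
    c₁ = c₂ := by
  let ι : CommRingCat.of P ⟶ CommRingCat.of (A × B) := CommRingCat.ofHom (πA.prod πB)
  have hι : Function.Injective ι.hom := by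
    intro p p' hpp'
    have h1 : (πA p, πB p) = (πA p', πB p') := hpp'
    exact h.ext (congrArg Prod.fst h1) (congrArg Prod.snd h1)
  have hfst : ι ≫ CommRingCat.ofHom (RingHom.fst A B) = CommRingCat.ofHom πA := rfl
  have hsnd : ι ≫ CommRingCat.ofHom (RingHom.snd A B) = CommRingCat.ofHom πB := rfl
  have hsurj : Function.Surjective (Spec.map ι).base := by
    intro x
    by_cases hx : RingHom.ker πB ≤ x.asIdeal
    · obtain ⟨z, hz⟩ := h.exists_comap_πB_eq x hx
      refine ⟨PrimeSpectrum.comap (RingHom.snd A B) z, ?_⟩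
      show PrimeSpectrum.comap (πA.prod πB) (PrimeSpectrum.comap (RingHom.snd A B) z) = x
      rw [← PrimeSpectrum.comap_comp_apply, RingHom.snd_comp_prod]
      exact hz
    · obtain ⟨k, hk, hkx⟩ := SetLike.not_le_iff_exists.1 hx
      obtain ⟨y, hy⟩ := h.exists_comap_πA_eq x ((RingHom.mem_ker).1 hk) hkx
      refine ⟨PrimeSpectrum.comap (RingHom.fst A B) y, ?_⟩
      show PrimeSpectrum.comap (πA.prod πB) (PrimeSpectrum.comap (RingHom.fst A B) y) = x
      rw [← PrimeSpectrum.comap_comp_apply, RingHom.fst_comp_prod]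
      exact hy
  apply Groth.Agent.H42.eq_of_specMap_comp_eq ι hι hsurj
  rw [← cancel_epi (coprodSpec A B)]
  apply coprod.hom_ext
  · rw [coprodSpec_inl_assoc, coprodSpec_inl_assoc, ← Spec.map_comp_assoc, ← Spec.map_comp_assoc, hfst]
    exact hA
  · rw [coprodSpec_inr_assoc, coprodSpec_inr_assoc, ← Spec.map_comp_assoc, ← Spec.map_comp_assoc, hsnd]
    exact hB


/-- **Existence in the Milnor square pushout property**, for an arbitrary target scheme. -/
theorem IsMilnor.exists_desc (h : IsMilnor πA πB f g) {X : Scheme.{u}}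
    (a : Spec (CommRingCat.of A) ⟶ X) (b : Spec (CommRingCat.of B) ⟶ X)
    (hab : Spec.map (CommRingCat.ofHom f) ≫ a = Spec.map (CommRingCat.ofHom g) ≫ b) :
    ∃ c : Spec (CommRingCat.of P) ⟶ X,
      Spec.map (CommRingCat.ofHom πA) ≫ c = a ∧ Spec.map (CommRingCat.ofHom πB) ≫ c = b := by
  let ι : CommRingCat.of P ⟶ CommRingCat.of (A × B) := CommRingCat.ofHom (πA.prod πB)
  let φ₁ : CommRingCat.of (A × B) ⟶ CommRingCat.of C₀ := CommRingCat.ofHom (f.comp (RingHom.fst A B))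
  let φ₂ : CommRingCat.of (A × B) ⟶ CommRingCat.of C₀ := CommRingCat.ofHom (g.comp (RingHom.snd A B))
  have hι : Function.Injective ι.hom := by
    intro p p' hpp'
    have h1 : (πA p, πB p) = (πA p', πB p') := hpp'
    exact h.ext (congrArg Prod.fst h1) (congrArg Prod.snd h1)
  have hfst : ι ≫ CommRingCat.ofHom (RingHom.fst A B) = CommRingCat.ofHom πA := rfl
  have hsnd : ι ≫ CommRingCat.ofHom (RingHom.snd A B) = CommRingCat.ofHom πB := rfl
  have hφ₁ : φ₁ = CommRingCat.ofHom (RingHom.fst A B) ≫ CommRingCat.ofHom f := rfl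
  have hφ₂ : φ₂ = CommRingCat.ofHom (RingHom.snd A B) ≫ CommRingCat.ofHom g := rfl
  have hcomm : ι ≫ φ₁ = ι ≫ φ₂ := by
    ext p
    exact h.comm p
  have hex : ∀ e, φ₁.hom e = φ₂.hom e → ∃ p, ι.hom p = e := by
    rintro ⟨a₀, b₀⟩ he
    obtain ⟨p, hpA, hpB⟩ := h.exists_lift a₀ b₀ he
    exact ⟨p, Prod.ext hpA hpB⟩
  let ab : Spec (CommRingCat.of (A × B)) ⟶ X := inv (coprodSpec A B) ≫ coprod.desc a b
  have hfa : Spec.map (CommRingCat.ofHom (RingHom.fst A B)) ≫ ab = a := by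
    rw [← coprodSpec_inl, Category.assoc, IsIso.hom_inv_id_assoc, coprod.inl_desc]
  have hfb : Spec.map (CommRingCat.ofHom (RingHom.snd A B)) ≫ ab = b := by
    rw [← coprodSpec_inr, Category.assoc, IsIso.hom_inv_id_assoc, coprod.inr_desc]
  have hab' : Spec.map φ₁ ≫ ab = Spec.map φ₂ ≫ ab := by
    rw [hφ₁, hφ₂, Spec.map_comp, Spec.map_comp, Category.assoc, Category.assoc, hfa, hfb, hab]
  have haA : ∀ y : PrimeSpectrum A, ab.base (PrimeSpectrum.comap (RingHom.fst A B) y) = a.base y := by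
    intro y
    have := congrArg (fun m => m.base y) hfa
    exact this
  have hbB : ∀ z : PrimeSpectrum B, ab.base (PrimeSpectrum.comap (RingHom.snd A B) z) = b.base z := by
    intro z
    have := congrArg (fun m => m.base z) hfb
    exact this
  have hsurj : Function.Surjective (Spec.map ι).base := by
    intro x
    by_cases hx : RingHom.ker πB ≤ x.asIdeal
    · obtain ⟨z, hz⟩ := h.exists_comap_πB_eq x hx
      refine ⟨PrimeSpectrum.comap (RingHom.snd A B) z, ?_⟩
      show PrimeSpectrum.comap (πA.prod πB) (PrimeSpectrum.comap (RingHom.snd A B) z) = x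
      rw [← PrimeSpectrum.comap_comp_apply, RingHom.snd_comp_prod]
      exact hz
    · obtain ⟨k, hk, hkx⟩ := SetLike.not_le_iff_exists.1 hx
      obtain ⟨y, hy⟩ := h.exists_comap_πA_eq x ((RingHom.mem_ker).1 hk) hkx
      refine ⟨PrimeSpectrum.comap (RingHom.fst A B) y, ?_⟩
      show PrimeSpectrum.comap (πA.prod πB) (PrimeSpectrum.comap (RingHom.fst A B) y) = x
      rw [← PrimeSpectrum.comap_comp_apply, RingHom.fst_comp_prod]
      exact hy
  -- reduction of the covering condition to conditions on `A` and `B`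
  have hred : ∀ (t : P) (U : X.Opens), (∀ y : PrimeSpectrum A, πA t ∉ y.asIdeal → a.base y ∈ U) →
      (∀ z : PrimeSpectrum B, πB t ∉ z.asIdeal → b.base z ∈ U) →
      Spec.map ι ⁻¹ᵁ (bo t) ≤ ab ⁻¹ᵁ U := by
    intro t U hA hB e he
    obtain ⟨s, rfl⟩ := (PrimeSpectrum.primeSpectrumProd A B).symm.surjective e
    rcases s with y | z
    · rw [PrimeSpectrum.primeSpectrumProd_symm_inl] at he ⊢
      show ab.base _ ∈ U
      rw [haA]
      exact hA y he
    · rw [PrimeSpectrum.primeSpectrumProd_symm_inr] at he ⊢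
      show ab.base _ ∈ U
      rw [hbB]
      exact hB z he
  have hcov : ∀ x : Spec (CommRingCat.of P), ∃ t : CommRingCat.of P, x ∈ bo t ∧
      ∃ U : X.Opens, IsAffineOpen U ∧ Spec.map ι ⁻¹ᵁ (bo t) ≤ ab ⁻¹ᵁ U := by
    intro x
    by_cases hx : RingHom.ker πB ≤ x.asIdeal
    · obtain ⟨z, hz⟩ := h.exists_comap_πB_eq x hx
      obtain ⟨U, hU, hzU, -⟩ := (TopologicalSpace.Opens.isBasis_iff_nbhd.1 X.isBasis_affineOpens)
        (show b.base z ∈ (⊤ : X.Opens) from trivial)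
      obtain ⟨t, htx, htA, htB⟩ := h.exists_basicOpen_of_le x (a.base ⁻¹' U)
        (U.isOpen.preimage a.base.hom.continuous) (b.base ⁻¹' U)
        (U.isOpen.preimage b.base.hom.continuous) (by
          intro w hw
          have := congrArg (fun m => m.base w) hab
          show a.base _ ∈ U
          have h2 : a.base (PrimeSpectrum.comap f w) = b.base (PrimeSpectrum.comap g w) := this
          rw [h2]
          exact hw) z hz hzU
      exact ⟨t, htx, U, hU, hred t U htA htB⟩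
    · obtain ⟨k, hk, hkx⟩ := SetLike.not_le_iff_exists.1 hx
      obtain ⟨y, hy⟩ := h.exists_comap_πA_eq x ((RingHom.mem_ker).1 hk) hkx
      obtain ⟨U, hU, hyU, -⟩ := (TopologicalSpace.Opens.isBasis_iff_nbhd.1 X.isBasis_affineOpens)
        (show a.base y ∈ (⊤ : X.Opens) from trivial)
      obtain ⟨t, htx, htA, htB⟩ := h.exists_basicOpen_of_notMem x ((RingHom.mem_ker).1 hk) hkx
        (a.base ⁻¹' U) (U.isOpen.preimage a.base.hom.continuous) y hy hyU
      refine ⟨t, htx, U, hU, hred t U htA ?_⟩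
      intro z hz
      exact absurd (by rw [htB]; exact z.asIdeal.zero_mem) hz
  obtain ⟨c, hc⟩ := Groth.Agent.H42.MilnorGlue.exists_desc ι φ₁ φ₂ hι hcomm hex ab hab' hsurj hcov
  refine ⟨c, ?_, ?_⟩
  · rw [← hfst, Spec.map_comp, Category.assoc, hc, hfa]
  · rw [← hsnd, Spec.map_comp, Category.assoc, hc, hfb]

end MilnorScheme

end Groth.Agent.H42.MilnorGlue
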