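import Groth.Agent.H42.MilnorGlue
import Mathlib

set_option autoImplicit false
universe u
open CategoryTheory AlgebraicGeometry Limits

namespace Groth.Agent.H42.MilnorGlue

/-- A pullback square in `CommRingCat` with one leg surjective is a Milnor square. -/
theorem isMilnor_of_isPullback {Pt A' B C : CommRingCat.{u}} (fst : Pt ⟶ B) (snd : Pt ⟶ A')
    (q : B ⟶ C) (p : A' ⟶ C) (hpb : IsPullback fst snd q p) (hp : Function.Surjective p.hom) :
    IsMilnor snd.hom fst.hom p.hom q.hom := by
  let e : Pt ≅ (CommRingCat.pullbackCone q p).pt :=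
    hpb.isLimit.conePointUniqueUpToIso (CommRingCat.pullbackConeIsLimit q p)
  have he1 : e.hom ≫ (CommRingCat.pullbackCone q p).fst = fst :=
    IsLimit.conePointUniqueUpToIso_hom_comp _ _ WalkingCospan.left
  have he2 : e.hom ≫ (CommRingCat.pullbackCone q p).snd = snd :=
    IsLimit.conePointUniqueUpToIso_hom_comp _ _ WalkingCospan.right
  have hf1 : ∀ x : Pt, ((e.hom.hom x).1).1 = fst.hom x := fun x =>
    congrArg (fun m => m.hom x) he1
  have hf2 : ∀ x : Pt, ((e.hom.hom x).1).2 = snd.hom x := fun x =>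
    congrArg (fun m => m.hom x) he2
  refine ⟨?_, ?_, ?_, hp⟩
  · intro x
    exact (congrArg (fun m => m.hom x) hpb.w).symm
  · intro a' b hab
    let z : (CommRingCat.pullbackCone q p).pt := ⟨(b, a'), hab.symm⟩
    refine ⟨e.inv.hom z, ?_, ?_⟩
    · rw [← hf2]
      have : e.hom.hom (e.inv.hom z) = z := congrArg (fun m => m.hom z) e.inv_hom_id
      rw [this]
    · rw [← hf1]
      have : e.hom.hom (e.inv.hom z) = z := congrArg (fun m => m.hom z) e.inv_hom_id
      rw [this]
  · intro x hx2 hx1
    have h0 : e.hom.hom x = 0 := by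
      apply Subtype.ext
      apply Prod.ext
      · rw [hf1, hx1]; rfl
      · rw [hf2, hx2]; rfl
    have : e.inv.hom (e.hom.hom x) = x := congrArg (fun m => m.hom x) e.hom_inv_id
    rw [← this, h0, map_zero]

end Groth.Agent.H42.MilnorGlue
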