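import Mathlib
import Groth.Prelude.Def_AlgGrp
import Groth.Agent.H40.ActPts
import Groth.Agent.H25.FlatBCpt2

/-!
# Orbit maps: flat at one point implies flat (over a one-point base)
-/

set_option autoImplicit false
set_option linter.style.haveILetI false
universe u
open CategoryTheory CategoryTheory.Limits MonoidalCategory CartesianMonoidalCategory MonObj GrpObj AlgebraicGeometry

namespace Groth.Agent.H42.OrbitFlat

open Groth.Agent.H40

section Cat

variable {C : Type*} [Category C] [CartesianMonoidalCategory C]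

lemma isPullback_whiskerLeft (A : C) {B D : C} (f : B ⟶ D) :
    IsPullback (snd A B) (A ◁ f) f (snd A D) := by
  refine ⟨⟨by simp⟩, ⟨PullbackCone.IsLimit.mk _ (fun s => lift (s.snd ≫ fst A D) s.fst) ?_ ?_ ?_⟩⟩
  · intro s
    simp
  · intro s
    apply CartesianMonoidalCategory.hom_ext
    · simp
    · simp [s.condition]
  · intro s m h1 h2
    apply CartesianMonoidalCategory.hom_ext
    · rw [lift_fst, ← h2]
      simp
    · rw [lift_snd, ← h1]

end Cat

section Stalk

lemma flat_of_isIso {R S : CommRingCat.{u}} (f : R ⟶ S) [IsIso f] : f.hom.Flat :=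
  RingHom.Flat.of_bijective (ConcreteCategory.bijective_of_isIso f)

variable {X Y Z : Scheme.{u}}

lemma flat_of_comp_left (e : X ⟶ Y) [IsIso e] (f : Y ⟶ Z) (z : X)
    (h : ((e ≫ f).stalkMap z).hom.Flat) : (f.stalkMap (e z)).hom.Flat := by
  rw [Scheme.Hom.stalkMap_comp] at h
  exact (RingHom.Flat.comp_iff_of_bijective_left (f := (f.stalkMap (e z)).hom)
    (g := (e.stalkMap z).hom) (ConcreteCategory.bijective_of_isIso (e.stalkMap z))).mp h

lemma flat_comp_right (f : X ⟶ Y) (e : Y ⟶ Z) [IsIso e] (z : X)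
    (h : (f.stalkMap z).hom.Flat) : ((f ≫ e).stalkMap z).hom.Flat := by
  rw [Scheme.Hom.stalkMap_comp]
  exact RingHom.Flat.comp (flat_of_isIso _) h

end Stalk

section Main

variable {S : Scheme.{u}} {G X : Over S} [GrpObj G] (a : AlgGrp.Action G X)

/-- `(g,h) ↦ (g, gh)` -/
noncomputable def alpha (G : Over S) [GrpObj G] : G ⊗ G ≅ G ⊗ G where
  hom := lift (fst G G) (fst G G * snd G G)
  inv := lift (fst G G) ((fst G G)⁻¹ * snd G G)
  hom_inv_id := by
    apply CartesianMonoidalCategory.hom_ext
    · simp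
    · rw [Category.assoc, lift_snd, comp_mul, comp_inv, lift_fst, lift_snd, Category.id_comp]
      group
  inv_hom_id := by
    apply CartesianMonoidalCategory.hom_ext
    · simp
    · rw [Category.assoc, lift_snd, comp_mul, lift_fst, lift_snd, Category.id_comp]
      group

/-- `(g,h) ↦ (gh, h)` -/
noncomputable def gamma (G : Over S) [GrpObj G] : G ⊗ G ≅ G ⊗ G where
  hom := lift (fst G G * snd G G) (snd G G)
  inv := lift (fst G G * (snd G G)⁻¹) (snd G G)
  hom_inv_id := by
    apply CartesianMonoidalCategory.hom_ext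
    · rw [Category.assoc, lift_fst, comp_mul, comp_inv, lift_fst, lift_snd, Category.id_comp]
      group
    · simp
  inv_hom_id := by
    apply CartesianMonoidalCategory.hom_ext
    · rw [Category.assoc, lift_fst, comp_mul, lift_fst, lift_snd, Category.id_comp]
      group
    · simp

/-- `(g,x) ↦ (g, g·x)` -/
noncomputable def beta : G ⊗ X ≅ G ⊗ X where
  hom := lift (fst G X) (psmul a (fst G X) (snd G X))
  inv := lift (fst G X) (psmul a (fst G X)⁻¹ (snd G X))
  hom_inv_id := by
    apply CartesianMonoidalCategory.hom_ext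
    · simp
    · rw [Category.assoc, lift_snd, comp_psmul, comp_inv, lift_fst, lift_snd, Category.id_comp,
        inv_psmul_psmul]
  inv_hom_id := by
    apply CartesianMonoidalCategory.hom_ext
    · simp
    · rw [Category.assoc, lift_snd, comp_psmul, lift_fst, lift_snd, Category.id_comp,
        psmul_inv_psmul]

lemma alpha_snd : (alpha G).hom ≫ snd G G = (gamma G).hom ≫ fst G G := by
  simp [alpha, gamma]

lemma gamma_inv_snd : (gamma G).inv ≫ snd G G = snd G G := by
  simp [gamma]

lemma intertwine (s₀ : 𝟙_ (Over S) ⟶ X) :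
    (alpha G).hom ≫ (G ◁ a.orbitMap s₀) = (G ◁ a.orbitMap s₀) ≫ (beta a).hom := by
  apply CartesianMonoidalCategory.hom_ext
  · simp [alpha, beta]
  · simp only [alpha, beta, Category.assoc, whiskerLeft_snd, lift_snd, lift_snd_assoc]
    rw [comp_orbitMap, comp_psmul, whiskerLeft_fst, whiskerLeft_snd, comp_orbitMap, ← mul_psmul]

lemma flat_congr {X Y : Scheme.{u}} (f : X ⟶ Y) {x y : X} (e : x = y)
    (h : (f.stalkMap x).hom.Flat) : (f.stalkMap y).hom.Flat := by
  subst e; exact h

theorem flat_orbitMap [Subsingleton S] [Flat G.hom] (s₀ : 𝟙_ (Over S) ⟶ X)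
    (h : ∃ g : G.left, ((a.orbitMap s₀).left.stalkMap g).hom.Flat) :
    Flat (a.orbitMap s₀).left := by
  obtain ⟨g₀, hg₀⟩ := h
  rw [Flat.iff_flat_stalkMap]
  intro g'
  obtain ⟨w₁, hw₁f, hw₁s⟩ := Scheme.Pullback.exists_preimage_pullback (f := G.hom) (g := G.hom)
    g' g₀ (Subsingleton.elim _ _)
  let w : (G ⊗ G).left := (gamma G).inv.left w₁
  have hw_snd : (snd G G).left w = g₀ := by
    change ((gamma G).inv.left ≫ (snd G G).left) w₁ = g₀
    rw [← Over.comp_left, gamma_inv_snd]
    exact hw₁s
  have hw_mul : (snd G G).left ((alpha G).hom.left w) = g' := by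
    change ((gamma G).inv.left ≫ (alpha G).hom.left ≫ (snd G G).left) w₁ = g'
    rw [← Over.comp_left, ← Over.comp_left, alpha_snd, Iso.inv_hom_id_assoc]
    exact hw₁f
  have sq : IsPullback (snd G G).left (G ◁ a.orbitMap s₀).left (a.orbitMap s₀).left
      (snd G X).left := (isPullback_whiskerLeft G (a.orbitMap s₀)).map (Over.forget S)
  have h1 : ((G ◁ a.orbitMap s₀).left.stalkMap w).hom.Flat :=
    Groth.Agent.H25.FlatBCpt.flat_stalkMap_of_isPullback sq w (flat_congr _ hw_snd.symm hg₀)
  haveI : IsIso (beta a).hom.left :=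
    inferInstanceAs (IsIso ((Over.forget S).map (beta a).hom))
  haveI : IsIso (alpha G).hom.left :=
    inferInstanceAs (IsIso ((Over.forget S).map (alpha G).hom))
  have h2 : (((G ◁ a.orbitMap s₀) ≫ (beta a).hom).left.stalkMap w).hom.Flat := by
    rw [Over.comp_left]
    exact flat_comp_right _ _ w h1
  rw [← intertwine, Over.comp_left] at h2
  have h3 := flat_of_comp_left _ _ w h2
  haveI : Flat (snd G X).left := by
    rw [Over.snd_left]
    infer_instance
  have h4 := Groth.Agent.H25.FlatBCpt2.flat_stalkMap_of_isPullback_of_flat sq _ h3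
  exact flat_congr _ hw_mul h4

end Main

end Groth.Agent.H42.OrbitFlat
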