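import Mathlib.Algebra.Polynomial.Taylor
import Mathlib.Algebra.MvPolynomial.Eval
import Mathlib.Algebra.Polynomial.AlgebraMap

set_option autoImplicit false
universe u
open Polynomial

namespace Groth.Agent.H42.PolyChar

variable {A : Type u} [CommRing A]

/-- The coefficient form of `f(X+Y) = f(X) f(Y)`. -/
def Rel (f : A[X]) : Prop :=
  ∀ m n : ℕ, ((m + n).choose n : A) * f.coeff (m + n) = f.coeff m * f.coeff n

/-- The functional equation in `A[X][Y]`. -/
def FE (f : A[X]) : Prop :=
  aeval (X + C X : A[X][X]) f = aeval (C X : A[X][X]) f * aeval (X : A[X][X]) f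

theorem algebraMap_eq : algebraMap A A[X][X] = (C : A[X] →+* A[X][X]).comp (C : A →+* A[X]) := by
  ext a
  simp [Polynomial.algebraMap_apply]

theorem aeval_eq_comp (f : A[X]) (y : A[X][X]) : aeval y f = (f.map C).comp y := by
  rw [aeval_def, comp, eval₂_map, algebraMap_eq]

theorem hasseDeriv_map' {B : Type u} [CommRing B] (φ : A →+* B) (n : ℕ) (f : A[X]) :
    hasseDeriv n (f.map φ) = (hasseDeriv n f).map φ := by
  ext m
  simp [hasseDeriv_coeff]

theorem FE_iff (f : A[X]) : FE f ↔ Rel f := by
  unfold FE Rel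
  rw [aeval_eq_comp, aeval_eq_comp, aeval_eq_comp, ← taylor_apply, comp_X, comp_C]
  have h1 : ∀ n, (taylor (X : A[X]) (f.map C)).coeff n = hasseDeriv n f := by
    intro n
    rw [taylor_coeff, hasseDeriv_map', eval_map, eval₂_C_X]
  have h2 : ∀ n, (C (eval X (f.map C)) * f.map C : A[X][X]).coeff n = f * C (f.coeff n) := by
    intro n
    rw [coeff_C_mul, coeff_map, eval_map, eval₂_C_X]
  constructor
  · intro h m n
    have := congrArg (fun g : A[X][X] => (g.coeff n).coeff m) h
    simp only [h1, h2, hasseDeriv_coeff, coeff_mul_C] at this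
    exact this
  · intro h
    ext n m
    rw [h1, h2, hasseDeriv_coeff, coeff_mul_C]
    exact h m n

/-- The two-variable functional equation as in the statement. -/
def FE2 (f : A[X]) : Prop :=
  aeval (MvPolynomial.X 0 + MvPolynomial.X 1 : MvPolynomial (Fin 2) A) f =
    aeval (MvPolynomial.X 0 : MvPolynomial (Fin 2) A) f *
      aeval (MvPolynomial.X 1 : MvPolynomial (Fin 2) A) f

/-- Additivity on all points. -/
def FEall (f : A[X]) : Prop :=
  ∀ (B : Type u) [CommRing B] [Algebra A B] (x y : B), aeval (x + y) f = aeval x f * aeval y f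

theorem FEall_of_FE2 {f : A[X]} (h : FE2 f) : FEall f := by
  intro B _ _ x y
  have := congrArg (MvPolynomial.aeval (R := A) ![x, y]) h
  rw [map_mul, ← aeval_algHom_apply, ← aeval_algHom_apply, ← aeval_algHom_apply] at this
  simpa using this

theorem FE2_of_FEall {f : A[X]} (h : FEall f) : FE2 f := h _ _ _

theorem FE_of_FEall {f : A[X]} (h : FEall f) : FE f := by
  unfold FE
  rw [add_comm]
  exact h _ _ _

theorem FEall_of_FE {f : A[X]} (h : FE f) : FEall f := by
  intro B _ _ x y
  have := congrArg (aevalTower (aeval x : A[X] →ₐ[A] B) y) h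
  rw [map_mul, ← aeval_algHom_apply, ← aeval_algHom_apply, ← aeval_algHom_apply] at this
  simp only [map_add, aevalTower_X, aevalTower_C, aeval_X] at this
  rw [add_comm]
  exact this

theorem FE2_iff_Rel (f : A[X]) : FE2 f ↔ Rel f :=
  ⟨fun h => (FE_iff f).1 (FE_of_FEall (FEall_of_FE2 h)),
   fun h => FE2_of_FEall (FEall_of_FE ((FE_iff f).2 h))⟩

end Groth.Agent.H42.PolyChar
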