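import Mathlib.Data.Nat.Factorial.NatCast
import Mathlib.Algebra.Polynomial.Expand
import Mathlib.RingTheory.MvPolynomial.Basic
import Mathlib.Algebra.CharP.Lemmas
import Groth.Agent.H42.PolyCharA

set_option autoImplicit false
universe u
open Polynomial

namespace Groth.Agent.H42.PolyChar

variable {A : Type u} [CommRing A] (p : ℕ) [Fact p.Prime] [CharP A p]

/-- The truncated exponential `exp_p(a X^(p^n))`. -/
noncomputable def E (a : A) (n : ℕ) : A[X] :=
  ∑ j ∈ Finset.range p, C (Ring.inverse (j.factorial : A) * a ^ j) * X ^ (j * p ^ n)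

theorem isUnit_fact {j : ℕ} (hj : j < p) : IsUnit (j.factorial : A) :=
  (IsUnit.natCast_factorial_iff_of_charP p).2 hj

theorem fact_mul_inv {j : ℕ} (hj : j < p) :
    (j.factorial : A) * Ring.inverse (j.factorial : A) = 1 :=
  Ring.mul_inverse_cancel _ (isUnit_fact p hj)

theorem E_succ (a : A) (n : ℕ) : E p a (n + 1) = expand A p (E p a n) := by
  unfold E
  rw [map_sum]
  refine Finset.sum_congr rfl fun j _ => ?_
  rw [map_mul (expand A p), expand_C, map_pow, expand_X, ← pow_mul]
  congr 2
  ring

theorem coeff_E_zero (a : A) (i : ℕ) :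
    (E p a 0).coeff i = if i < p then Ring.inverse (i.factorial : A) * a ^ i else 0 := by
  unfold E
  simp only [pow_zero, mul_one, finsetSum_coeff, coeff_C_mul, coeff_X_pow]
  split_ifs with h
  · rw [Finset.sum_eq_single i]
    · simp
    · intro j _ hji
      simp [hji.symm]
    · intro hi
      exact absurd (Finset.mem_range.2 h) hi
  · apply Finset.sum_eq_zero
    intro j hj
    have : i ≠ j := by
      rintro rfl
      exact h (Finset.mem_range.1 hj)
    simp [this]

theorem inv_mul_inv {i k : ℕ} (h : i + k < p) :
    Ring.inverse (i.factorial : A) * Ring.inverse (k.factorial : A) =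
      ((i + k).choose k : A) * Ring.inverse ((i + k).factorial : A) := by
  have hi : i < p := by omega
  have hk : k < p := by omega
  have e : ((i + k).factorial : A) = ((i + k).choose k : A) * (i.factorial : A) * (k.factorial : A) := by
    rw [← Nat.cast_mul, ← Nat.cast_mul]
    congr 1
    exact (Nat.add_choose_mul_factorial_mul_factorial i k).symm
  have h1 := fact_mul_inv (A := A) p hi
  have h2 := fact_mul_inv (A := A) p hk
  have h3 := fact_mul_inv (A := A) p h
  calc Ring.inverse (i.factorial : A) * Ring.inverse (k.factorial : A)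
      = Ring.inverse (i.factorial : A) * Ring.inverse (k.factorial : A) *
          (((i + k).factorial : A) * Ring.inverse ((i + k).factorial : A)) := by rw [h3, mul_one]
    _ = ((i + k).choose k : A) * ((i.factorial : A) * Ring.inverse (i.factorial : A)) *
          ((k.factorial : A) * Ring.inverse (k.factorial : A)) *
          Ring.inverse ((i + k).factorial : A) := by rw [e]; ring
    _ = _ := by rw [h1, h2, mul_one, mul_one]

theorem Rel_E_zero (a : A) (ha : a ^ p = 0) : Rel (E p a 0) := by
  intro m n
  rw [coeff_E_zero, coeff_E_zero, coeff_E_zero]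
  by_cases h : m + n < p
  · have hm : m < p := by omega
    have hn : n < p := by omega
    rw [if_pos h, if_pos hm, if_pos hn]
    calc ((m + n).choose n : A) * (Ring.inverse ((m + n).factorial : A) * a ^ (m + n))
        = (((m + n).choose n : A) * Ring.inverse ((m + n).factorial : A)) * a ^ (m + n) := by ring
      _ = Ring.inverse (m.factorial : A) * Ring.inverse (n.factorial : A) * a ^ (m + n) := by
          rw [inv_mul_inv p h]
      _ = _ := by rw [pow_add]; ring
  · rw [if_neg h, mul_zero]
    split_ifs with hm hn
    · have : a ^ m * a ^ n = 0 := by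
        rw [← pow_add]
        obtain ⟨k, hk⟩ := Nat.exists_eq_add_of_le (not_lt.1 h)
        rw [hk, pow_add, ha, zero_mul]
      calc (0 : A) = Ring.inverse (m.factorial : A) * Ring.inverse (n.factorial : A) * (a ^ m * a ^ n) := by
            rw [this, mul_zero]
        _ = _ := by ring
    · rw [mul_zero]
    · rw [zero_mul]
    · rw [zero_mul]

theorem FEall_one : FEall (1 : A[X]) := by
  intro B _ _ x y
  simp

theorem FEall_mul {f g : A[X]} (hf : FEall f) (hg : FEall g) : FEall (f * g) := by
  intro B _ _ x y
  rw [map_mul, map_mul, map_mul, hf B x y, hg B x y]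
  ring

theorem FE2_expand {f : A[X]} (hf : FEall f) : FE2 (expand A p f) := by
  unfold FE2
  rw [expand_aeval, expand_aeval, expand_aeval, add_pow_char]
  exact hf _ _ _

theorem FEall_E (a : A) (ha : a ^ p = 0) (n : ℕ) : FEall (E p a n) := by
  induction n with
  | zero => exact FEall_of_FE ((FE_iff _).2 (Rel_E_zero p a ha))
  | succ n ih =>
    rw [E_succ]
    exact FEall_of_FE2 (FE2_expand p ih)

theorem eval_zero_E (a : A) (n : ℕ) : (E p a n).eval 0 = 1 := by
  induction n with
  | zero =>
    rw [← coeff_zero_eq_eval_zero, coeff_E_zero, if_pos (Fact.out : p.Prime).pos]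
    simp
  | succ n ih =>
    rw [E_succ, expand_eval, zero_pow (Fact.out : p.Prime).ne_zero, ih]

/-- The easy direction: products of truncated exponentials are characters. -/
theorem char_of_prod (N : ℕ) (a : ℕ → A) (ha : ∀ n, a n ^ p = 0) :
    (∏ n ∈ Finset.range N, E p (a n) n).eval 0 = 1 ∧ FE2 (∏ n ∈ Finset.range N, E p (a n) n) := by
  constructor
  · rw [eval_prod]
    exact Finset.prod_eq_one fun n _ => eval_zero_E p (a n) n
  · apply FE2_of_FEall
    apply Finset.prod_induction _ FEall (fun f g => FEall_mul) FEall_one
    intro n _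
    exact FEall_E p (a n) (ha n) n

end Groth.Agent.H42.PolyChar
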