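import Groth.Agent.H42.PolyCharB
import Mathlib.Data.Nat.Choose.Lucas

set_option autoImplicit false
universe u
open Polynomial

namespace Groth.Agent.H42.PolyChar

variable {A : Type u} [CommRing A] (p : ℕ) [Fact p.Prime] [CharP A p]

theorem cast_choose_mul (m n : ℕ) :
    ((m * p + n * p).choose (n * p) : A) = ((m + n).choose n : A) := by
  apply CharP.natCast_eq_natCast' A p
  have h := Choose.choose_modEq_choose_mod_mul_choose_div_nat (p := p) (n := m * p + n * p)
    (k := n * p)
  have hp : 0 < p := (Fact.out : p.Prime).pos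
  have e1 : (m * p + n * p) % p = 0 := by
    rw [← add_mul]; exact Nat.mul_mod_left _ _
  have e2 : n * p % p = 0 := Nat.mul_mod_left _ _
  have e3 : (m * p + n * p) / p = m + n := by
    rw [← add_mul]; exact Nat.mul_div_cancel _ hp
  have e4 : n * p / p = n := Nat.mul_div_cancel _ hp
  rw [e1, e2, e3, e4] at h
  simpa using h

theorem cast_choose_add (q j : ℕ) (hj : j < p) :
    ((q * p + j).choose j : A) = 1 := by
  have : ((q * p + j).choose j : A) = ((1 : ℕ) : A) := by
    apply CharP.natCast_eq_natCast' A p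
    have h := Choose.choose_modEq_choose_mod_mul_choose_div_nat (p := p) (n := q * p + j) (k := j)
    have hp : 0 < p := (Fact.out : p.Prime).pos
    have e1 : (q * p + j) % p = j := by
      rw [Nat.mul_add_mod_of_lt hj]
    have e2 : j % p = j := Nat.mod_eq_of_lt hj
    have e3 : j / p = 0 := Nat.div_eq_of_lt hj
    rw [e1, e2, e3] at h
    simpa using h
  simpa using this

variable {p}

theorem Rel_contract {f : A[X]} (hf : Rel f) : Rel (contract p f) := by
  have hp : p ≠ 0 := (Fact.out : p.Prime).ne_zero
  intro m n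
  rw [coeff_contract hp, coeff_contract hp, coeff_contract hp, add_mul, ← cast_choose_mul p m n]
  exact hf (m * p) (n * p)

theorem natDegree_contract_le (f : A[X]) : (contract p f).natDegree ≤ f.natDegree / p := by
  have hp : p ≠ 0 := (Fact.out : p.Prime).ne_zero
  rw [natDegree_le_iff_coeff_eq_zero]
  intro N hN
  rw [coeff_contract hp]
  apply coeff_eq_zero_of_natDegree_lt
  exact (Nat.div_lt_iff_lt_mul (Nat.pos_of_ne_zero hp)).1 hN

theorem pow_coeff_one {f : A[X]} (hf : Rel f) (h0 : f.coeff 0 = 1) (j : ℕ) :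
    f.coeff 1 ^ j = (j.factorial : A) * f.coeff j := by
  induction j with
  | zero => simp [h0]
  | succ j ih =>
    have h := hf j 1
    rw [Nat.choose_one_right] at h
    rw [pow_succ, ih, mul_assoc, ← h, Nat.factorial_succ]
    push_cast
    ring

theorem coeff_one_pow_p {f : A[X]} (hf : Rel f) (h0 : f.coeff 0 = 1) : f.coeff 1 ^ p = 0 := by
  rw [pow_coeff_one hf h0]
  have : (p.factorial : A) = 0 := by
    rw [CharP.cast_eq_zero_iff A p]
    exact Nat.dvd_factorial (Fact.out : p.Prime).pos le_rfl
  rw [this, zero_mul]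

theorem inv_mul_pow {f : A[X]} (hf : Rel f) (h0 : f.coeff 0 = 1) {j : ℕ} (hj : j < p) :
    Ring.inverse (j.factorial : A) * f.coeff 1 ^ j = f.coeff j := by
  rw [pow_coeff_one hf h0, ← mul_assoc, Ring.inverse_mul_cancel _ (isUnit_fact p hj), one_mul]

theorem coeff_split {f : A[X]} (hf : Rel f) (q j : ℕ) (hj : j < p) :
    f.coeff (q * p + j) = f.coeff (q * p) * f.coeff j := by
  have h := hf (q * p) j
  rw [cast_choose_add p q j hj, one_mul] at h
  exact h

theorem eq_E_mul_expand {f : A[X]} (hf : Rel f) (h0 : f.coeff 0 = 1) :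
    f = E p (f.coeff 1) 0 * expand A p (contract p f) := by
  have hp : p ≠ 0 := (Fact.out : p.Prime).ne_zero
  have hp' : 0 < p := Nat.pos_of_ne_zero hp
  ext n
  rw [coeff_mul]
  have hmem : (n % p, n - n % p) ∈ Finset.antidiagonal n := by
    rw [Finset.mem_antidiagonal]
    have := Nat.mod_le n p
    omega
  rw [Finset.sum_eq_single_of_mem _ hmem]
  · have hlt : n % p < p := Nat.mod_lt _ hp'
    have hdvd : p ∣ n - n % p := Nat.dvd_sub_mod n
    have hq : n - n % p = (n / p) * p := by
      have := Nat.div_add_mod n p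
      rw [mul_comm] at this
      omega
    rw [coeff_E_zero, if_pos hlt, inv_mul_pow hf h0 hlt, coeff_expand hp', if_pos hdvd,
      coeff_contract hp, Nat.div_mul_cancel hdvd, hq, mul_comm, ← coeff_split hf _ _ hlt]
    congr 1
    have := Nat.div_add_mod n p
    rw [mul_comm] at this
    omega
  · rintro ⟨i, k⟩ hik hne
    rw [Finset.mem_antidiagonal] at hik
    simp only at hik
    rw [coeff_E_zero, coeff_expand hp']
    by_cases hi : i < p
    · by_cases hk : p ∣ k
      · exfalso
        apply hne
        have h1 : n % p = i := by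
          rw [← hik]
          obtain ⟨c, rfl⟩ := hk
          rw [Nat.add_mul_mod_self_left, Nat.mod_eq_of_lt hi]
        rw [h1]
        congr 1
        omega
      · rw [if_neg hk, mul_zero]
    · rw [if_neg hi, zero_mul]

variable (p) in
theorem exists_prod (d : ℕ) : ∀ f : A[X], f.natDegree ≤ d → f.coeff 0 = 1 → Rel f →
    ∃ (N : ℕ) (a : ℕ → A), (∀ n, a n ^ p = 0) ∧ f = ∏ n ∈ Finset.range N, E p (a n) n := by
  have hp2 : 2 ≤ p := (Fact.out : p.Prime).two_le
  induction d with
  | zero =>
    intro f hd h0 _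
    refine ⟨0, fun _ => 0, fun n => zero_pow (Fact.out : p.Prime).ne_zero, ?_⟩
    rw [Finset.range_zero, Finset.prod_empty, eq_C_of_natDegree_le_zero hd, h0, C_1]
  | succ d ih =>
    intro f hd h0 hf
    have hg : (contract p f).natDegree ≤ d := by
      refine (natDegree_contract_le f).trans ?_
      calc f.natDegree / p ≤ (d + 1) / p := Nat.div_le_div_right hd
        _ ≤ (d + 1) / 2 := Nat.div_le_div_left hp2 (by norm_num)
        _ ≤ d := by omega
    have hg0 : (contract p f).coeff 0 = 1 := by
      rw [coeff_contract (Fact.out : p.Prime).ne_zero, zero_mul, h0]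
    obtain ⟨N, b, hb, hgb⟩ := ih (contract p f) hg hg0 (Rel_contract hf)
    refine ⟨N + 1, fun n => Nat.casesOn n (f.coeff 1) b, ?_, ?_⟩
    · intro n
      cases n with
      | zero => exact coeff_one_pow_p hf h0
      | succ n => exact hb n
    · rw [Finset.prod_range_succ']
      conv_lhs => rw [eq_E_mul_expand hf h0, hgb, map_prod, mul_comm]
      congr 1
      refine Finset.prod_congr rfl fun n _ => ?_
      rw [E_succ]

/-- Characters of the additive group over a ring of characteristic `p`. -/
theorem main (f : A[X]) :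
    (f.eval 0 = 1 ∧ FE2 f) ↔
      ∃ (N : ℕ) (a : ℕ → A), (∀ n, a n ^ p = 0) ∧ f = ∏ n ∈ Finset.range N, E p (a n) n := by
  constructor
  · rintro ⟨h0, h⟩
    rw [← coeff_zero_eq_eval_zero] at h0
    exact exists_prod p f.natDegree f le_rfl h0 ((FE2_iff_Rel f).1 h)
  · rintro ⟨N, a, ha, rfl⟩
    exact char_of_prod p N a ha

end Groth.Agent.H42.PolyChar
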