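import Mathlib
import Groth.Agent.H42.PowEtaleGrp

/-!
# Étaleness of the `n`-th power map near a central rational point (by translation).
-/

set_option autoImplicit false
set_option linter.unusedSectionVars false
set_option linter.style.haveILetI false
universe u

open CategoryTheory MonoidalCategory CartesianMonoidalCategory MonObj GrpObj AlgebraicGeometry

namespace Groth.Agent.H42.PowEtale

section Transl

variable {C : Type*} [Category C] [CartesianMonoidalCategory C] {G : C} [GrpObj G]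

/-- constant morphism attached to a global point -/
abbrev cst (a : 𝟙_ C ⟶ G) : G ⟶ G := toUnit G ≫ a

theorem comp_cst {X : C} (x : X ⟶ G) (a : 𝟙_ C ⟶ G) : x ≫ cst a = toUnit X ≫ a := by
  rw [← Category.assoc]
  congr 1
  exact toUnit_unique _ _

/-- left translation by a global point -/
def transl (a : 𝟙_ C ⟶ G) : G ≅ G where
  hom := cst a * 𝟙 G
  inv := (cst a)⁻¹ * 𝟙 G
  hom_inv_id := by
    rw [MonObj.comp_mul, GrpObj.comp_inv, comp_cst, Category.comp_id, inv_mul_cancel_left]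
  inv_hom_id := by
    rw [MonObj.comp_mul, comp_cst, Category.comp_id, mul_inv_cancel_left]

theorem comp_transl_hom {X : C} (x : X ⟶ G) (a : 𝟙_ C ⟶ G) :
    x ≫ (transl a).hom = (toUnit X ≫ a) * x := by
  change x ≫ (cst a * 𝟙 G) = _
  rw [MonObj.comp_mul, comp_cst, Category.comp_id]

theorem comp_transl_inv {X : C} (x : X ⟶ G) (a : 𝟙_ C ⟶ G) :
    x ≫ (transl a).inv = (toUnit X ≫ a)⁻¹ * x := by
  change x ≫ ((cst a)⁻¹ * 𝟙 G) = _
  rw [MonObj.comp_mul, GrpObj.comp_inv, comp_cst, Category.comp_id]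

/-- the power map commutes with translation by a central point -/
theorem pow_eq_transl (g : 𝟙_ C ⟶ G)
    (hg : ∀ (X : C) (x : X ⟶ G), (toUnit X ≫ g) * x = x * (toUnit X ≫ g)) (n : ℕ) :
    ((𝟙 G : G ⟶ G) ^ n) = (transl g).inv ≫ ((𝟙 G : G ⟶ G) ^ n) ≫ (transl (g ^ n)).hom := by
  rw [← Category.assoc, comp_transl_hom, MonObj.comp_pow, MonObj.comp_pow, Category.comp_id]
  have h1 : (transl g).inv = (cst g)⁻¹ * 𝟙 G := rfl
  have hc0 : Commute (cst g) (𝟙 G : G ⟶ G) := hg G (𝟙 G)
  have hc : Commute ((cst g)⁻¹) (𝟙 G : G ⟶ G) := hc0.inv_left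
  rw [h1, hc.mul_pow, ← _root_.mul_assoc, inv_pow, mul_inv_cancel, _root_.one_mul]

end Transl

variable (k : Type u) [Field k] (G : Over (Spec (CommRingCat.of k))) [GrpObj G]
  [LocallyOfFiniteType G.hom]

theorem exists_etale_nhd_central (n : ℕ) (hn : (n : k) ≠ 0)
    (g : 𝟙_ (Over (Spec (CommRingCat.of k))) ⟶ G)
    (hg : ∀ (X : Over (Spec (CommRingCat.of k))) (x : X ⟶ G),
      (toUnit X ≫ g) * x = x * (toUnit X ≫ g)) :
    ∃ U : G.left.Opens, Set.range g.left.base ⊆ (U : Set ↥G.left) ∧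
      Etale (U.ι ≫ ((𝟙 G : G ⟶ G) ^ n).left) := by
  obtain ⟨U, hU, hE⟩ := exists_etale_nhd_unit k G n hn
  let L' : G.left ⟶ G.left := (transl g).inv.left
  let M : G.left ⟶ G.left := (transl (g ^ n)).hom.left
  haveI : IsIso L' := inferInstanceAs (IsIso ((Over.forget _).map (transl g).inv))
  haveI : IsIso M := inferInstanceAs (IsIso ((Over.forget _).map (transl (g ^ n)).hom))
  refine ⟨L' ⁻¹ᵁ U, ?_, ?_⟩
  · rintro _ ⟨z, rfl⟩
    change L' (g.left z) ∈ U
    have h1 : g ≫ (transl g).inv = η[G] := by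
      rw [comp_transl_inv, toUnit_unique (toUnit (𝟙_ _)) (𝟙 _), Category.id_comp, inv_mul_cancel,
        MonObj.one_eq_one]
    have h2 : L' (g.left z) = η[G].left z := by
      rw [← h1]
      rfl
    rw [h2]
    exact hU ⟨z, rfl⟩
  · have h := congrArg (fun m => m.left) (pow_eq_transl g hg n)
    change ((𝟙 G : G ⟶ G) ^ n).left = L' ≫ ((𝟙 G : G ⟶ G) ^ n).left ≫ M at h
    rw [h, ← Category.assoc, ← morphismRestrict_ι, Category.assoc, ← Category.assoc U.ι]
    infer_instance

end Groth.Agent.H42.PowEtale
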