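import Mathlib
import Groth.Prelude.Def_AlgGrp
import Groth.Agent.H42.AntiAffConnOver
import Groth.Agent.H42.AbSubgroup
import Groth.Agent.H38.GrpConnIrr

/-!
# Actions of connected groups on products of complete varieties

The key step: if `G` is connected of finite type, `X` is connected of finite type with a rational
point, `Y` is anti-affine and `Z` separated, then any `f : G ⊗ (X ⊗ Y) ⟶ Z`... (see below)
-/

set_option autoImplicit false
set_option linter.style.haveILetI false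
set_option linter.unusedSectionVars false
universe u

open CategoryTheory MonoidalCategory CartesianMonoidalCategory MonObj GrpObj AlgebraicGeometry
open CategoryTheory.Limits AlgGrp

namespace Groth.Agent.H42.ProdAction

variable (k : Type u) [Field k] [IsAlgClosed k]

/-- Product of a connected group of finite type and a connected scheme is connected. -/
theorem connectedSpace_tensor (G X : Over (Spec (CommRingCat.of k))) [GrpObj G]
    [LocallyOfFiniteType G.hom] [ConnectedSpace ↥G.left] [ConnectedSpace ↥X.left] :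
    ConnectedSpace ↥(G ⊗ X).left := by
  haveI := Groth.Agent.H38.GrpConnIrr.geometricallyConnected_of_connectedSpace k G
  haveI : Flat G.hom := inferInstance
  haveI : LocallyOfFinitePresentation G.hom := inferInstance
  haveI : UniversallyOpen G.hom := inferInstance
  change ConnectedSpace ↥(pullback G.hom X.hom)
  infer_instance

section
variable {C : Type*} [Category C] [CartesianMonoidalCategory C]

/-- rearrangement `Y ⊗ (G ⊗ X) ⟶ G ⊗ (X ⊗ Y)` -/
noncomputable def sigmaY (G X Y : C) : Y ⊗ (G ⊗ X) ⟶ G ⊗ (X ⊗ Y) :=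
  lift (snd _ _ ≫ fst _ _) (lift (snd _ _ ≫ snd _ _) (fst _ _))

noncomputable def tauY (G X Y : C) : G ⊗ (X ⊗ Y) ⟶ Y ⊗ (G ⊗ X) :=
  lift (snd _ _ ≫ snd _ _) (lift (fst _ _) (snd _ _ ≫ fst _ _))

theorem tauY_sigmaY (G X Y : C) : tauY G X Y ≫ sigmaY G X Y = 𝟙 _ := by
  unfold tauY sigmaY
  ext <;> simp

noncomputable def sigmaX (G X Y : C) : X ⊗ (G ⊗ Y) ⟶ G ⊗ (X ⊗ Y) :=
  lift (snd _ _ ≫ fst _ _) (lift (fst _ _) (snd _ _ ≫ snd _ _))

noncomputable def tauX (G X Y : C) : G ⊗ (X ⊗ Y) ⟶ X ⊗ (G ⊗ Y) :=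
  lift (snd _ _ ≫ fst _ _) (lift (fst _ _) (snd _ _ ≫ snd _ _))

theorem tauX_sigmaX (G X Y : C) : tauX G X Y ≫ sigmaX G X Y = 𝟙 _ := by
  unfold tauX sigmaX
  ext <;> simp

end


theorem lft_tensor (G X : Over (Spec (CommRingCat.of k)))
    [LocallyOfFiniteType G.hom] [LocallyOfFiniteType X.hom] : LocallyOfFiniteType (G ⊗ X).hom := by
  rw [Over.tensorObj_hom]; infer_instance

theorem qc_tensor (G X : Over (Spec (CommRingCat.of k)))
    [QuasiCompact G.hom] [QuasiCompact X.hom] : QuasiCompact (G ⊗ X).hom := by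
  rw [Over.tensorObj_hom]; infer_instance

/-- First-factor factorization. -/
theorem act_fst (G X Y : Over (Spec (CommRingCat.of k))) [GrpObj G]
    [LocallyOfFiniteType G.hom] [QuasiCompact G.hom] [ConnectedSpace ↥G.left]
    [LocallyOfFiniteType X.hom] [QuasiCompact X.hom] [ConnectedSpace ↥X.left] [IsSeparated X.hom]
    [QuasiCompact Y.hom] [QuasiSeparated Y.hom]
    (hY : Function.Bijective ((Scheme.ΓSpecIso (CommRingCat.of k)).inv ≫ Y.hom.appTop).hom)
    (x₀ : 𝟙_ (Over (Spec (CommRingCat.of k))) ⟶ X) (y₀ : 𝟙_ (Over (Spec (CommRingCat.of k))) ⟶ Y)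
    (a : AlgGrp.Action G (X ⊗ Y)) :
    a.act ≫ fst X Y =
      (G ◁ fst X Y) ≫ (G ◁ lift (𝟙 X) (toUnit X ≫ y₀)) ≫ a.act ≫ fst X Y := by
  haveI := lft_tensor k G X
  haveI := qc_tensor k G X
  haveI := connectedSpace_tensor k G X
  set φ : Y ⊗ (G ⊗ X) ⟶ X := sigmaY G X Y ≫ a.act ≫ fst X Y with hφ
  have hf : (Y ◁ lift η[G] x₀) ≫ φ = toUnit _ ≫ x₀ := by
    have h1 : (Y ◁ lift η[G] x₀) ≫ sigmaY G X Y =
        lift (snd _ _) (lift (snd _ _ ≫ x₀) (fst _ _)) ≫ (η[G] ▷ (X ⊗ Y)) := by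
      unfold sigmaY
      apply CartesianMonoidalCategory.hom_ext
      · simp
      · apply CartesianMonoidalCategory.hom_ext
        · simp
        · simp
    rw [hφ, ← Category.assoc, h1, Category.assoc, ← Category.assoc (η[G] ▷ (X ⊗ Y)), a.one_act]
    simp only [leftUnitor_hom, lift_snd_assoc, lift_fst]
    rw [toUnit_unique (snd Y (𝟙_ (Over (Spec (CommRingCat.of k))))) (toUnit _)]
  have key := Groth.Agent.H42.AntiAff.rigidity_over_connected k Y (G ⊗ X) X hY y₀ (lift η[G] x₀) x₀ φ hf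
  have h2 : lift (toUnit (G ⊗ X) ≫ y₀) (𝟙 (G ⊗ X)) ≫ sigmaY G X Y =
      G ◁ lift (𝟙 X) (toUnit X ≫ y₀) := by
    unfold sigmaY
    apply CartesianMonoidalCategory.hom_ext
    · simp
    · apply CartesianMonoidalCategory.hom_ext
      · simp
      · simp
  have h3 : a.act ≫ fst X Y = tauY G X Y ≫ φ := by
    rw [hφ, ← Category.assoc, tauY_sigmaY, Category.id_comp]
  rw [h3, key, hφ, ← Category.assoc (lift _ _), h2]
  simp only [← Category.assoc]
  congr 3
  unfold tauY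
  apply CartesianMonoidalCategory.hom_ext
  · simp
  · simp


/-- Second-factor factorization. -/
theorem act_snd (G X Y : Over (Spec (CommRingCat.of k))) [GrpObj G]
    [LocallyOfFiniteType G.hom] [QuasiCompact G.hom] [ConnectedSpace ↥G.left]
    [LocallyOfFiniteType Y.hom] [QuasiCompact Y.hom] [ConnectedSpace ↥Y.left] [IsSeparated Y.hom]
    [QuasiCompact X.hom] [QuasiSeparated X.hom]
    (hX : Function.Bijective ((Scheme.ΓSpecIso (CommRingCat.of k)).inv ≫ X.hom.appTop).hom)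
    (x₀ : 𝟙_ (Over (Spec (CommRingCat.of k))) ⟶ X) (y₀ : 𝟙_ (Over (Spec (CommRingCat.of k))) ⟶ Y)
    (a : AlgGrp.Action G (X ⊗ Y)) :
    a.act ≫ snd X Y =
      (G ◁ snd X Y) ≫ (G ◁ lift (toUnit Y ≫ x₀) (𝟙 Y)) ≫ a.act ≫ snd X Y := by
  haveI := lft_tensor k G Y
  haveI := qc_tensor k G Y
  haveI := connectedSpace_tensor k G Y
  set ψ : X ⊗ (G ⊗ Y) ⟶ Y := sigmaX G X Y ≫ a.act ≫ snd X Y with hψ
  have hf : (X ◁ lift η[G] y₀) ≫ ψ = toUnit _ ≫ y₀ := by
    have h1 : (X ◁ lift η[G] y₀) ≫ sigmaX G X Y =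
        lift (snd _ _) (lift (fst _ _) (snd _ _ ≫ y₀)) ≫ (η[G] ▷ (X ⊗ Y)) := by
      unfold sigmaX
      apply CartesianMonoidalCategory.hom_ext
      · simp
      · apply CartesianMonoidalCategory.hom_ext
        · simp
        · simp
    rw [hψ, ← Category.assoc, h1, Category.assoc, ← Category.assoc (η[G] ▷ (X ⊗ Y)), a.one_act]
    simp only [leftUnitor_hom, lift_snd_assoc, lift_snd]
    rw [toUnit_unique (snd X (𝟙_ (Over (Spec (CommRingCat.of k))))) (toUnit _)]
  have key := Groth.Agent.H42.AntiAff.rigidity_over_connected k X (G ⊗ Y) Y hX x₀ (lift η[G] y₀) y₀ ψ hf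
  have h2 : lift (toUnit (G ⊗ Y) ≫ x₀) (𝟙 (G ⊗ Y)) ≫ sigmaX G X Y =
      G ◁ lift (toUnit Y ≫ x₀) (𝟙 Y) := by
    unfold sigmaX
    apply CartesianMonoidalCategory.hom_ext
    · simp
    · apply CartesianMonoidalCategory.hom_ext
      · simp
      · simp
  have h3 : a.act ≫ snd X Y = tauX G X Y ≫ ψ := by
    rw [hψ, ← Category.assoc, tauX_sigmaX, Category.id_comp]
  rw [h3, key, hψ, ← Category.assoc (lift _ _), h2]
  simp only [← Category.assoc]
  congr 3
  unfold tauX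
  apply CartesianMonoidalCategory.hom_ext
  · simp
  · simp

/-- Descend an action along a split epimorphism through which it factors. -/
noncomputable def descAction {S : Scheme.{u}} {G P X : Over S} [GrpObj G] (a : AlgGrp.Action G P)
    (p : P ⟶ X) (s : X ⟶ P) (hs : s ≫ p = 𝟙 X)
    (h : a.act ≫ p = (G ◁ p) ≫ (G ◁ s) ≫ a.act ≫ p) : AlgGrp.Action G X where
  act := (G ◁ s) ≫ a.act ≫ p
  one_act := by
    rw [← Category.assoc, ← whisker_exchange, Category.assoc, ← Category.assoc (η[G] ▷ P),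
      a.one_act]
    simp [hs]
  mul_act := by
    have e1 : (μ[G] ▷ X) ≫ (G ◁ s) = ((G ⊗ G) ◁ s) ≫ (μ[G] ▷ P) := (whisker_exchange _ _).symm
    obtain ⟨b, hb⟩ : ∃ b : G ⊗ X ⟶ X, b = (G ◁ s) ≫ a.act ≫ p := ⟨_, rfl⟩
    rw [← hb] at h ⊢
    calc (μ[G] ▷ X) ≫ b = (μ[G] ▷ X) ≫ (G ◁ s) ≫ a.act ≫ p := by rw [hb]
      _ = ((G ⊗ G) ◁ s) ≫ (μ[G] ▷ P) ≫ a.act ≫ p := by
          rw [← Category.assoc, e1, Category.assoc]
      _ = ((G ⊗ G) ◁ s) ≫ ((α_ G G P).hom ≫ (G ◁ a.act) ≫ a.act) ≫ p := by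
          rw [← Category.assoc (μ[G] ▷ P), a.mul_act]
      _ = ((G ⊗ G) ◁ s) ≫ (α_ G G P).hom ≫ (G ◁ a.act) ≫ (G ◁ p) ≫ b := by
          simp only [Category.assoc]; rw [h]
      _ = ((G ⊗ G) ◁ s) ≫ (α_ G G P).hom ≫ (G ◁ (a.act ≫ p)) ≫ b := by
          rw [MonoidalCategory.whiskerLeft_comp, Category.assoc]
      _ = ((G ⊗ G) ◁ s) ≫ (α_ G G P).hom ≫ (G ◁ ((G ◁ p) ≫ b)) ≫ b := by rw [h]
      _ = ((G ⊗ G) ◁ s) ≫ (α_ G G P).hom ≫ (G ◁ G ◁ p) ≫ (G ◁ b) ≫ b := by
          rw [MonoidalCategory.whiskerLeft_comp, Category.assoc]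
      _ = ((G ⊗ G) ◁ s) ≫ ((G ⊗ G) ◁ p) ≫ (α_ G G X).hom ≫ (G ◁ b) ≫ b := by
          rw [← Category.assoc (α_ G G P).hom, ← associator_naturality_right, Category.assoc]
      _ = (α_ G G X).hom ≫ (G ◁ b) ≫ b := by
          rw [← Category.assoc, ← MonoidalCategory.whiskerLeft_comp, hs,
            MonoidalCategory.whiskerLeft_id, Category.id_comp]

theorem descAction_act {S : Scheme.{u}} {G P X : Over S} [GrpObj G] (a : AlgGrp.Action G P)
    (p : P ⟶ X) (s : X ⟶ P) (hs : s ≫ p = 𝟙 X)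
    (h : a.act ≫ p = (G ◁ p) ≫ (G ◁ s) ≫ a.act ≫ p) :
    (descAction a p s hs h).act = (G ◁ s) ≫ a.act ≫ p := rfl

theorem action_ext {S : Scheme.{u}} {G X : Over S} [GrpObj G] (b b' : AlgGrp.Action G X)
    (h : b.act = b'.act) : b = b' := by
  cases b; cases b'; cases h; rfl

/-- S11420 -/
theorem main (G X Y : Over (Spec (CommRingCat.of k))) [GrpObj G] [LocallyOfFiniteType G.hom]
    [QuasiCompact G.hom] [ConnectedSpace ↥G.left]
    [IsProper X.hom] [IsIntegral X.left]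
    [IsProper Y.hom] [IsIntegral Y.left]
    (a : AlgGrp.Action G (X ⊗ Y)) :
    ∃ (b : AlgGrp.Action G X) (c : AlgGrp.Action G Y),
      a.act = lift ((G ◁ fst X Y) ≫ b.act) ((G ◁ snd X Y) ≫ c.act) ∧
      ∀ (b' : AlgGrp.Action G X) (c' : AlgGrp.Action G Y),
        a.act = lift ((G ◁ fst X Y) ≫ b'.act) ((G ◁ snd X Y) ≫ c'.act) → b' = b ∧ c' = c := by
  have hX := Groth.Agent.H42.AbSub.antiAffine_of_proper_integral k X
  have hY := Groth.Agent.H42.AbSub.antiAffine_of_proper_integral k Y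
  obtain ⟨x₀⟩ := Groth.Agent.H42.AntiAff.exists_rational_point k X
  obtain ⟨y₀⟩ := Groth.Agent.H42.AntiAff.exists_rational_point k Y
  have hb := act_fst k G X Y hY x₀ y₀ a
  have hc := act_snd k G X Y hX x₀ y₀ a
  refine ⟨descAction a (fst X Y) (lift (𝟙 X) (toUnit X ≫ y₀)) (lift_fst _ _) hb,
    descAction a (snd X Y) (lift (toUnit Y ≫ x₀) (𝟙 Y)) (lift_snd _ _) hc, ?_, ?_⟩
  · apply CartesianMonoidalCategory.hom_ext
    · rw [lift_fst, descAction_act]; exact hb
    · rw [lift_snd, descAction_act]; exact hc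
  · intro b' c' h
    constructor
    · apply action_ext
      rw [descAction_act, h, lift_fst, ← Category.assoc, ← MonoidalCategory.whiskerLeft_comp,
        lift_fst]
      simp
    · apply action_ext
      rw [descAction_act, h, lift_snd, ← Category.assoc, ← MonoidalCategory.whiskerLeft_comp,
        lift_snd]
      simp

end Groth.Agent.H42.ProdAction
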