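import Groth.Agent.H42.MilnorGlue
import Mathlib

set_option autoImplicit false
universe u
open Polynomial

namespace Groth.Agent.H42.Quillen

section scale
variable {K : Type u} [CommRing K]

/-- `X ↦ c X`. -/
noncomputable def scale (c : K) : K[X] →+* K[X] := compRingHom (C c * X)

@[simp] theorem scale_C (c a : K) : scale c (C a) = C a := by simp [scale]
@[simp] theorem scale_X (c : K) : scale c X = C c * X := by simp [scale]

theorem coeff_scale (c : K) (p : K[X]) (n : ℕ) : (scale c p).coeff n = p.coeff n * c ^ n := by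
  simp [scale, comp_C_mul_X_coeff]

theorem scale_pow (c : K) (k : ℕ) : scale c ^ k = scale (c ^ k) := by
  induction k with
  | zero =>
    apply ringHom_ext
    · intro a; simp
    · simp
  | succ k ih =>
    rw [pow_succ, ih]
    apply ringHom_ext
    · intro a; simp [RingHom.mul_def]
    · simp only [RingHom.mul_def, RingHom.comp_apply, scale_X, map_mul, scale_C]
      rw [← mul_assoc, ← C_mul, pow_succ, mul_comm c]

end scale

variable {R₁ Ls : Type u} [CommRing R₁] [CommRing Ls] [Algebra R₁ Ls] (s : R₁)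
  [IsLocalization.Away s Ls]

/-- `ρ_N : R₁[X] → Ls[X]`, `X ↦ s^{-N} X`. -/
noncomputable def rho (N : ℕ) : R₁[X] →+* Ls[X] :=
  eval₂RingHom (C.comp (algebraMap R₁ Ls)) (C (IsLocalization.Away.invSelf (S := Ls) s ^ N) * X)

@[simp] theorem rho_C (N : ℕ) (a : R₁) : rho (Ls := Ls) s N (C a) = C (algebraMap R₁ Ls a) := by
  simp [rho]

@[simp] theorem rho_X (N : ℕ) :
    rho (Ls := Ls) s N X = C (IsLocalization.Away.invSelf (S := Ls) s ^ N) * X := by
  simp [rho]

theorem rho_comp_scale (N : ℕ) :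
    (rho (Ls := Ls) s N).comp (scale (s ^ N)) = mapRingHom (algebraMap R₁ Ls) := by
  apply ringHom_ext
  · intro a; simp
  · simp only [RingHom.comp_apply, scale_X, map_mul, rho_C, rho_X, coe_mapRingHom, map_X]
    rw [← mul_assoc, ← C_mul, map_pow, ← mul_pow, IsLocalization.Away.mul_invSelf, one_pow, C_1,
      one_mul]

theorem scale_comp_rho (N : ℕ) :
    (scale (algebraMap R₁ Ls s ^ N)).comp (rho (Ls := Ls) s N) =
      mapRingHom (algebraMap R₁ Ls) := by
  apply ringHom_ext
  · intro a; simp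
  · simp only [RingHom.comp_apply, scale_X, map_mul, rho_X, coe_mapRingHom, map_X, scale_C]
    rw [← mul_assoc, ← C_mul, ← mul_pow, mul_comm (IsLocalization.Away.invSelf s),
      IsLocalization.Away.mul_invSelf, one_pow, C_1, one_mul]

theorem rho_succ_comp_scale (N : ℕ) :
    (rho (Ls := Ls) s (N + 1)).comp (scale s) = rho s N := by
  apply ringHom_ext
  · intro a; simp
  · simp only [RingHom.comp_apply, scale_X, map_mul, rho_C, rho_X]
    rw [← mul_assoc, ← C_mul, pow_succ, mul_comm _ (IsLocalization.Away.invSelf s), ← mul_assoc,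
      IsLocalization.Away.mul_invSelf, one_mul]

theorem eval_zero_rho (N : ℕ) (Q : R₁[X]) :
    eval 0 (rho (Ls := Ls) s N Q) = algebraMap R₁ Ls (eval 0 Q) := by
  have : (evalRingHom (0 : Ls)).comp (rho (Ls := Ls) s N) =
      (algebraMap R₁ Ls).comp (evalRingHom (0 : R₁)) := by
    apply ringHom_ext
    · intro a; simp
    · simp
  exact congrArg (fun r => r Q) this

variable (R₁ Ls) in
/-- The fibre product ring `Ls[X] ×_{Ls} R₁` (along `X ↦ 0` and `R₁ → Ls`). -/
noncomputable abbrev Cp : Subring (Ls[X] × R₁) :=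
  RingHom.eqLocus ((evalRingHom (0 : Ls)).comp (RingHom.fst Ls[X] R₁))
    ((algebraMap R₁ Ls).comp (RingHom.snd Ls[X] R₁))

variable (R₁ Ls) in
/-- first projection -/
noncomputable def πA : Cp R₁ Ls →+* Ls[X] := (RingHom.fst Ls[X] R₁).comp (Subring.subtype _)

variable (R₁ Ls) in
/-- second projection -/
noncomputable def πB : Cp R₁ Ls →+* R₁ := (RingHom.snd Ls[X] R₁).comp (Subring.subtype _)

theorem isMilnor_Cp :
    MilnorGlue.IsMilnor (πA R₁ Ls) (πB R₁ Ls) (evalRingHom (0 : Ls)) (algebraMap R₁ Ls) where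
  comm := fun z => z.2
  exists_lift := fun a b hab => ⟨⟨(a, b), hab⟩, rfl, rfl⟩
  inj := fun z h1 h2 => Subtype.ext (Prod.ext h1 h2)
  surj := fun x => ⟨C x, by simp⟩

/-- `ι_N : R₁[X] → Ls[X] ×_{Ls} R₁`, `Q ↦ (Q(X / s^N), Q(0))`. -/
noncomputable def iotaN (N : ℕ) : R₁[X] →+* Cp R₁ Ls :=
  RingHom.codRestrict ((rho (Ls := Ls) s N).prod (evalRingHom (0 : R₁))) (Cp R₁ Ls)
    (fun Q => eval_zero_rho s N Q)

theorem πA_comp_iotaN (N : ℕ) : (πA R₁ Ls).comp (iotaN s N) = rho s N := rfl

theorem πB_comp_iotaN (N : ℕ) : (πB R₁ Ls).comp (iotaN (Ls := Ls) s N) = evalRingHom (0 : R₁) :=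
  rfl

theorem iotaN_succ_comp_scale (N : ℕ) :
    (iotaN (Ls := Ls) s (N + 1)).comp (scale s) = iotaN s N := by
  refine RingHom.ext fun Q => ?_
  apply Subtype.ext
  apply Prod.ext
  · exact congrArg (fun r => r Q) (rho_succ_comp_scale (Ls := Ls) s N)
  · show eval 0 (scale s Q) = eval 0 Q
    rw [← coeff_zero_eq_eval_zero, ← coeff_zero_eq_eval_zero, coeff_scale, pow_zero, mul_one]

theorem iotaN_surj (z : Cp R₁ Ls) : ∃ N Q, iotaN s N Q = z := by
  obtain ⟨⟨P, a⟩, h⟩ := z
  have h' : eval 0 P = algebraMap R₁ Ls a := h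
  obtain ⟨b, ⟨N, rfl⟩, hb⟩ :=
    IsLocalization.integerNormalization_spec (Submonoid.powers s) (divX P)
  set P₀ := IsLocalization.integerNormalization (Submonoid.powers s) (divX P)
  have hb' : P₀.map (algebraMap R₁ Ls) = C (algebraMap R₁ Ls s ^ N) * divX P := by
    rw [hb]
    ext i
    simp [Algebra.smul_def]
  refine ⟨N, C a + X * scale (s ^ N) P₀, ?_⟩
  apply Subtype.ext
  apply Prod.ext
  · show rho s N (C a + X * scale (s ^ N) P₀) = P
    have h1 : rho (Ls := Ls) s N (scale (s ^ N) P₀) = P₀.map (algebraMap R₁ Ls) :=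
      congrArg (fun r => r P₀) (rho_comp_scale (Ls := Ls) s N)
    rw [map_add, map_mul, h1, hb', rho_C, rho_X, ← h', ← coeff_zero_eq_eval_zero]
    conv_rhs => rw [← X_mul_divX_add P]
    rw [add_comm]
    congr 1
    rw [mul_assoc, mul_comm X, ← mul_assoc, ← mul_assoc, ← C_mul, ← mul_pow,
      mul_comm (IsLocalization.Away.invSelf s), IsLocalization.Away.mul_invSelf, one_pow, C_1,
      one_mul, mul_comm]
  · show eval 0 (C a + X * scale (s ^ N) P₀) = a
    simp

theorem iotaN_inj (N : ℕ) (Q : R₁[X]) (hQ : iotaN (Ls := Ls) s N Q = 0) :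
    ∃ k, (scale s ^ k) Q = 0 := by
  have h1 : rho (Ls := Ls) s N Q = 0 := congrArg (fun z => (z.1).1) hQ
  have h2 : eval 0 Q = 0 := congrArg (fun z => (z.1).2) hQ
  have h3 : Q.map (algebraMap R₁ Ls) = 0 := by
    have := congrArg (fun r => r Q) (scale_comp_rho (Ls := Ls) s N)
    simp only [RingHom.comp_apply, h1, map_zero, coe_mapRingHom] at this
    exact this.symm
  have h4 : ∀ i, ∃ k, s ^ k * Q.coeff i = 0 := by
    intro i
    have : algebraMap R₁ Ls (Q.coeff i) = 0 := by
      rw [← coeff_map, h3, coeff_zero]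
    obtain ⟨⟨_, k, rfl⟩, hk⟩ := (IsLocalization.map_eq_zero_iff (Submonoid.powers s) Ls _).mp this
    exact ⟨k, hk⟩
  choose kf hkf using h4
  refine ⟨Q.support.sup kf, ?_⟩
  rw [scale_pow]
  ext i
  rw [coeff_scale, coeff_zero]
  rcases Nat.eq_zero_or_pos i with rfl | hi
  · rw [coeff_zero_eq_eval_zero, h2, zero_mul]
  · by_cases hmem : i ∈ Q.support
    · have hle : kf i ≤ Q.support.sup kf := Finset.le_sup hmem
      have : ∃ m, (Q.support.sup kf) * i = kf i + m := ⟨(Q.support.sup kf) * i - kf i, by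
        have : kf i ≤ (Q.support.sup kf) * i := le_trans hle (Nat.le_mul_of_pos_right _ hi)
        omega⟩
      obtain ⟨m, hm⟩ := this
      rw [← pow_mul, hm, pow_add, ← mul_assoc, mul_comm (Q.coeff i), hkf, zero_mul]
    · rw [notMem_support_iff.mp hmem, zero_mul]

end Groth.Agent.H42.Quillen
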