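import Groth.Agent.H42.SeqColim
import Groth.Agent.H42.QuillenAlg
import Mathlib

set_option autoImplicit false
universe u
open CategoryTheory AlgebraicGeometry Limits Polynomial

namespace Groth.Agent.H42.Quillen

variable (R : Type u) [CommRing R]

/-- `Spec C` as a scheme over `Spec R`. -/
noncomputable abbrev pt (C : Type u) [CommRing C] [Algebra R C] : Over (Spec (CommRingCat.of R)) :=
  Over.mk (Spec.map (CommRingCat.ofHom (algebraMap R C)))

section sp
variable {C D E : Type u} [CommRing C] [CommRing D] [CommRing E] [Algebra R C] [Algebra R D]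
  [Algebra R E]

/-- The morphism of `Spec R`-schemes induced by a ring map compatible with the structure maps. -/
noncomputable def sp (φ : C →+* D) (hφ : φ.comp (algebraMap R C) = algebraMap R D) :
    pt R D ⟶ pt R C :=
  Over.homMk (Spec.map (CommRingCat.ofHom φ)) (by
    show Spec.map (CommRingCat.ofHom φ) ≫ Spec.map (CommRingCat.ofHom (algebraMap R C)) =
      Spec.map (CommRingCat.ofHom (algebraMap R D))
    rw [← Spec.map_comp, ← CommRingCat.ofHom_comp, hφ])

@[simp] theorem sp_left (φ : C →+* D) (hφ : φ.comp (algebraMap R C) = algebraMap R D) :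
    (sp R φ hφ).left = Spec.map (CommRingCat.ofHom φ) := rfl

theorem sp_comp (φ : C →+* D) (hφ : φ.comp (algebraMap R C) = algebraMap R D)
    (ψ : D →+* E) (hψ : ψ.comp (algebraMap R D) = algebraMap R E) :
    sp R ψ hψ ≫ sp R φ hφ = sp R (ψ.comp φ) (by rw [RingHom.comp_assoc, hφ, hψ]) := by
  apply Over.OverMorphism.ext
  show Spec.map (CommRingCat.ofHom ψ) ≫ Spec.map (CommRingCat.ofHom φ) = _
  rw [← Spec.map_comp, ← CommRingCat.ofHom_comp]
  rfl

theorem sp_congr {φ φ' : C →+* D} (h : φ = φ') (hφ : φ.comp (algebraMap R C) = algebraMap R D) :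
    sp R φ hφ = sp R φ' (h ▸ hφ) := by
  subst h; rfl

theorem eq_sp (m : pt R D ⟶ pt R C) (φ : C →+* D) (hm : m.left = Spec.map (CommRingCat.ofHom φ)) :
    ∃ hφ, m = sp R φ hφ := by
  have hφ : φ.comp (algebraMap R C) = algebraMap R D := by
    have h1 := Over.w m
    rw [hm] at h1
    have h2 : Spec.map (CommRingCat.ofHom (algebraMap R C) ≫ CommRingCat.ofHom φ) =
        Spec.map (CommRingCat.ofHom (algebraMap R D)) := by
      rw [Spec.map_comp]; exact h1
    have h3 := Spec.map_injective h2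
    exact congrArg CommRingCat.Hom.hom h3
  exact ⟨hφ, Over.OverMorphism.ext hm⟩

end sp

section core

variable {R}
variable (G : Over (Spec (CommRingCat.of R))) [LocallyOfFinitePresentation G.hom]
variable {R₁ Ls : Type u} [CommRing R₁] [CommRing Ls] [Algebra R R₁] [Algebra R Ls]
  [Algebra R₁ Ls] [IsScalarTower R R₁ Ls] (s : R₁) [IsLocalization.Away s Ls]

theorem rho_comp_algebraMap (N : ℕ) :
    (rho (Ls := Ls) s N).comp (algebraMap R R₁[X]) = algebraMap R Ls[X] := by
  ext r
  simp only [RingHom.comp_apply, Polynomial.algebraMap_apply, rho_C]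
  rw [← IsScalarTower.algebraMap_apply]

theorem evalZero_comp_algebraMap (K : Type u) [CommRing K] [Algebra R K] :
    (evalRingHom (0 : K)).comp (algebraMap R K[X]) = algebraMap R K := by
  ext r
  simp [Polynomial.algebraMap_apply]

theorem algebraMap_comp_algebraMap :
    (algebraMap R₁ Ls).comp (algebraMap R R₁) = algebraMap R Ls := by
  ext r
  simp only [RingHom.comp_apply]
  rw [← IsScalarTower.algebraMap_apply]

/-- **Key spreading-out lemma.**  If `u ∈ G(Ls[X])` (with `Ls = R₁[1/s]`) restricts at `X = 0`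
to the image of some `e ∈ G(R₁)`, then for `N` large `u(s^N X)` comes from `G(R₁[X])`. -/
theorem core (e : pt R R₁ ⟶ G) (u : pt R Ls[X] ⟶ G)
    (hue : sp R (evalRingHom (0 : Ls)) (evalZero_comp_algebraMap Ls) ≫ u =
      sp R (algebraMap R₁ Ls) algebraMap_comp_algebraMap ≫ e) :
    ∃ (N : ℕ) (v : pt R R₁[X] ⟶ G),
      sp R (rho (Ls := Ls) s N) (rho_comp_algebraMap s N) ≫ v = u ∧
      sp R (evalRingHom (0 : R₁)) (evalZero_comp_algebraMap R₁) ≫ v = e := by
  have hab : Spec.map (CommRingCat.ofHom (evalRingHom (0 : Ls))) ≫ u.left =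
      Spec.map (CommRingCat.ofHom (algebraMap R₁ Ls)) ≫ e.left :=
    congrArg (fun m => m.left) hue
  obtain ⟨c, hcA, hcB⟩ := (isMilnor_Cp (R₁ := R₁) (Ls := Ls)).exists_desc u.left e.left hab
  have hu : u.left ≫ G.hom = Spec.map (CommRingCat.ofHom (algebraMap R Ls[X])) := Over.w u
  have he : e.left ≫ G.hom = Spec.map (CommRingCat.ofHom (algebraMap R R₁)) := Over.w e
  have ha : c ≫ G.hom = Spec.map (CommRingCat.ofHom (iotaN (Ls := Ls) s 0)) ≫
      Spec.map (CommRingCat.ofHom (algebraMap R R₁[X])) := by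
    apply (isMilnor_Cp (R₁ := R₁) (Ls := Ls)).hom_ext
    · rw [← Category.assoc, hcA, hu, ← Spec.map_comp, ← Spec.map_comp]
      congr 1
      rw [← CommRingCat.ofHom_comp, ← CommRingCat.ofHom_comp]
      congr 1
      rw [← RingHom.comp_assoc, πA_comp_iotaN, rho_comp_algebraMap]
    · rw [← Category.assoc, hcB, he, ← Spec.map_comp, ← Spec.map_comp]
      congr 1
      rw [← CommRingCat.ofHom_comp, ← CommRingCat.ofHom_comp]
      congr 1
      rw [← RingHom.comp_assoc, πB_comp_iotaN, evalZero_comp_algebraMap]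
  have ht₀ : Spec.map (CommRingCat.ofHom (scale s)) ≫
      Spec.map (CommRingCat.ofHom (algebraMap R R₁[X])) =
      Spec.map (CommRingCat.ofHom (algebraMap R R₁[X])) := by
    rw [← Spec.map_comp, ← CommRingCat.ofHom_comp]
    congr 2
    ext r
    simp [Polynomial.algebraMap_apply]
  obtain ⟨n, g, hg1, hg2⟩ := SeqColim.exists_factor_of_seq (scale s) (iotaN (Ls := Ls) s) G.hom
    (iotaN_succ_comp_scale s) (iotaN_surj s) (iotaN_inj s) _ ht₀ c ha
  refine ⟨n, Over.homMk g hg2, ?_, ?_⟩
  · apply Over.OverMorphism.ext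
    show Spec.map (CommRingCat.ofHom (rho (Ls := Ls) s n)) ≫ g = u.left
    rw [← hcA, ← hg1, ← Category.assoc, ← Spec.map_comp, ← CommRingCat.ofHom_comp, πA_comp_iotaN]
  · apply Over.OverMorphism.ext
    show Spec.map (CommRingCat.ofHom (evalRingHom (0 : R₁))) ≫ g = e.left
    rw [← hcB, ← hg1, ← Category.assoc, ← Spec.map_comp, ← CommRingCat.ofHom_comp, πB_comp_iotaN]

end core

end Groth.Agent.H42.Quillen
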