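import Mathlib
import Groth.Prelude.Def_AlgGrp

/-!
# The universal property of a quotient `G ⟶ Q = G/N` given as a flat surjective quasi-compact
homomorphism with kernel `N` (fpqc descent of morphisms, via `EffectiveEpi`)
-/

set_option autoImplicit false
set_option linter.unusedSectionVars false
set_option linter.style.haveILetI false
universe u

open CategoryTheory AlgebraicGeometry Limits MonoidalCategory CartesianMonoidalCategory MonObj GrpObj

namespace Groth.Agent.H42.QuotDesc

variable {S : Scheme.{u}}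

/-- The kernel inclusion is a monomorphism. -/
theorem mono_of_isKernel {N G Q : Over S} [GrpObj Q] (j : N ⟶ G) (q : G ⟶ Q)
    (hker : AlgGrp.IsKernel j q) : Mono j := by
  constructor
  intro T a b hab
  exact hker.hom_ext hab (toUnit_unique _ _)

/-- Two points of `G` with the same image in `Q` differ by a point of the kernel. -/
theorem exists_kernel_point {N G Q : Over S} [GrpObj G] [GrpObj Q] (j : N ⟶ G) (q : G ⟶ Q)
    [IsMonHom q] (hker : AlgGrp.IsKernel j q) {T : Over S} (a₁ a₂ : T ⟶ G)
    (h : a₁ ≫ q = a₂ ≫ q) : ∃ n : T ⟶ N, a₂ = a₁ * (n ≫ j) := by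
  have h1 : (a₁⁻¹ * a₂) ≫ q = toUnit T ≫ η[Q] := by
    rw [MonObj.mul_comp, GrpObj.inv_comp, h, inv_mul_cancel, Hom.one_def]
  refine ⟨hker.lift (a₁⁻¹ * a₂) (toUnit T) h1, ?_⟩
  rw [hker.lift_fst, mul_inv_cancel_left]

/-- **Universal property of the quotient**: a morphism `f : G ⟶ Z` which is invariant under right
translation by the kernel `N` of the flat surjective quasi-compact homomorphism `q : G ⟶ Q`
factors uniquely through `q`. -/
theorem existsUnique_desc {N G Q : Over S} [GrpObj G] [GrpObj Q] (j : N ⟶ G) (q : G ⟶ Q)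
    [IsMonHom q] [Flat q.left] [Surjective q.left] [QuasiCompact q.left]
    (hker : AlgGrp.IsKernel j q) {Z : Over S} (f : G ⟶ Z)
    (hinv : ∀ (T : Over S) (g : T ⟶ G) (n : T ⟶ N), (g * (n ≫ j)) ≫ f = g ≫ f) :
    ∃! f' : Q ⟶ Z, q ≫ f' = f := by
  have key : ∀ {W : Scheme.{u}} (g₁ g₂ : W ⟶ G.left), g₁ ≫ q.left = g₂ ≫ q.left →
      g₁ ≫ f.left = g₂ ≫ f.left := by
    intro W g₁ g₂ h
    have hw : g₂ ≫ G.hom = g₁ ≫ G.hom := by
      rw [← Over.w q, ← Category.assoc, ← Category.assoc, h]
    let T : Over S := Over.mk (g₁ ≫ G.hom)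
    let a₁ : T ⟶ G := Over.homMk g₁ rfl
    let a₂ : T ⟶ G := Over.homMk g₂ hw
    have ha : a₁ ≫ q = a₂ ≫ q := by
      apply Over.OverMorphism.ext
      exact h
    obtain ⟨n, hn⟩ := exists_kernel_point j q hker a₁ a₂ ha
    have := hinv T a₁ n
    rw [← hn] at this
    exact (congrArg (fun m => m.left) this).symm
  have hZ : EffectiveEpi.desc q.left f.left key ≫ Z.hom = Q.hom := by
    rw [← cancel_epi q.left, EffectiveEpi.fac_assoc, Over.w f, Over.w q]
  refine ⟨Over.homMk (EffectiveEpi.desc q.left f.left key) hZ, ?_, ?_⟩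
  · apply Over.OverMorphism.ext
    exact EffectiveEpi.fac q.left f.left key
  · intro f'' hf''
    apply Over.OverMorphism.ext
    rw [← cancel_epi q.left]
    change (q ≫ f'').left = _
    rw [hf'']
    exact (EffectiveEpi.fac q.left f.left key).symm

end Groth.Agent.H42.QuotDesc
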