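import Mathlib.Algebra.Ring.Units
import Mathlib.Algebra.Group.Units.Hom
import Mathlib.Tactic.Ring
import Mathlib.Tactic.Group
import Mathlib.Tactic.LinearCombination

set_option autoImplicit false

namespace Groth.Agent.H42

/-- Abstract rank-one data: two additive one-parameter subgroups `P`, `M` in a group `H`,
a torus `τ : Tg →* H` with character `χ` and cocharacter `c`, normalisation and the
rank-one commutation rule. -/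
structure RankOne (Γ : Type*) [CommRing Γ] (H : Type*) [Group H] (Tg : Type*) [Group Tg] where
  P : Γ → H
  M : Γ → H
  P_add : ∀ a b, P (a + b) = P a * P b
  M_add : ∀ a b, M (a + b) = M a * M b
  τ : Tg →* H
  χ : Tg →* Γˣ
  c : Γˣ →* Tg
  χ_c : ∀ z, χ (c z) = z ^ 2
  conjP : ∀ t a, τ t * P a * (τ t)⁻¹ = P ((χ t : Γ) * a)
  conjM : ∀ t b, τ t * M b * (τ t)⁻¹ = M ((((χ t)⁻¹ : Γˣ) : Γ) * b)
  F : ∀ (a b : Γ) (u : Γˣ), (u : Γ) = 1 + a * b →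
    P a * M b = M (b * ((u⁻¹ : Γˣ) : Γ)) * τ (c u) * P (a * ((u⁻¹ : Γˣ) : Γ))

namespace RankOne

variable {Γ : Type*} [CommRing Γ] {H : Type*} [Group H] {Tg : Type*} [Group Tg]
variable (R : RankOne Γ H Tg)

theorem P_zero : R.P 0 = 1 := by
  have h := R.P_add 0 0
  rw [add_zero] at h
  exact (mul_eq_left).mp h.symm |> fun h => h

theorem M_zero : R.M 0 = 1 := by
  have h := R.M_add 0 0
  rw [add_zero] at h
  exact (mul_eq_left).mp h.symm |> fun h => h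

theorem P_neg (a : Γ) : R.P (-a) = (R.P a)⁻¹ := by
  apply eq_inv_of_mul_eq_one_left
  rw [← R.P_add, neg_add_cancel, R.P_zero]

theorem M_neg (a : Γ) : R.M (-a) = (R.M a)⁻¹ := by
  apply eq_inv_of_mul_eq_one_left
  rw [← R.M_add, neg_add_cancel, R.M_zero]

/-- The coroot `D = τ ∘ c`. -/
def D : Γˣ →* H := R.τ.comp R.c

theorem D_apply (u : Γˣ) : R.D u = R.τ (R.c u) := rfl

theorem D_comm (u v : Γˣ) : R.D u * R.D v = R.D v * R.D u := by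
  rw [← map_mul, ← map_mul, mul_comm]

theorem τ_mul_P (t : Tg) (a : Γ) : R.τ t * R.P a = R.P ((R.χ t : Γ) * a) * R.τ t := by
  rw [← R.conjP]; group

theorem τ_mul_M (t : Tg) (b : Γ) :
    R.τ t * R.M b = R.M ((((R.χ t)⁻¹ : Γˣ) : Γ) * b) * R.τ t := by
  rw [← R.conjM]; group

theorem P_mul_τ (t : Tg) (a : Γ) :
    R.P a * R.τ t = R.τ t * R.P ((((R.χ t)⁻¹ : Γˣ) : Γ) * a) := by
  rw [R.τ_mul_P, ← mul_assoc, Units.mul_inv, one_mul]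

theorem M_mul_τ (t : Tg) (b : Γ) :
    R.M b * R.τ t = R.τ t * R.M ((R.χ t : Γ) * b) := by
  rw [R.τ_mul_M, ← mul_assoc, Units.inv_mul, one_mul]

/-- The reversed commutation rule. -/
theorem rev (a b : Γ) (u : Γˣ) (hu : (u : Γ) = 1 + a * b) :
    R.M b * R.P a = R.P (a * ((u⁻¹ : Γˣ) : Γ)) * (R.D u)⁻¹ * R.M (b * ((u⁻¹ : Γˣ) : Γ)) := by
  have h := R.F (-a) (-b) u (by rw [hu]; ring)
  rw [neg_mul, neg_mul, R.P_neg, R.M_neg, R.P_neg, R.M_neg] at h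
  have h2 := congrArg (fun g => g⁻¹) h
  simp only [mul_inv_rev, inv_inv] at h2
  rw [h2, D_apply, mul_assoc]

/-- The coroot through the root groups. -/
theorem D_eq (z : Γˣ) :
    R.D z = R.M (((z⁻¹ : Γˣ) : Γ) - 1) * R.P 1 * R.M ((z : Γ) - 1) * R.P (-((z⁻¹ : Γˣ) : Γ)) := by
  have h := R.F 1 ((z : Γ) - 1) z (by ring)
  have e1 : ((z : Γ) - 1) * ((z⁻¹ : Γˣ) : Γ) = -(((z⁻¹ : Γˣ) : Γ) - 1) := by
    rw [sub_mul, Units.mul_inv]; ring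
  rw [e1, one_mul, R.M_neg] at h
  rw [R.P_neg, D_apply]
  have h3 : R.τ (R.c z) = R.M (((z⁻¹ : Γˣ) : Γ) - 1) * (R.P 1 * R.M ((z : Γ) - 1)) *
      (R.P ((z⁻¹ : Γˣ) : Γ))⁻¹ := by rw [h]; group
  rw [h3]; group

/-- Product of two big cell elements. -/
theorem bigCell_mul (x y x' y' y₂ x₂ : Γ) (t t' : Tg) (u : Γˣ) (hu : (u : Γ) = 1 + x * y')
    (hy₂ : (y₂ - y) * u * (R.χ t : Γ) = y') (hx₂ : (x₂ - x') * u * (R.χ t' : Γ) = x) :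
    (R.M y * R.τ t * R.P x) * (R.M y' * R.τ t' * R.P x') =
      R.M y₂ * R.τ (t * R.c u * t') * R.P x₂ := by
  have hF := R.F x y' u hu
  have ey : y₂ = y + (((R.χ t)⁻¹ : Γˣ) : Γ) * (y' * ((u⁻¹ : Γˣ) : Γ)) := by
    rw [← hy₂]
    have h1 : (u : Γ) * ((u⁻¹ : Γˣ) : Γ) = 1 := Units.mul_inv u
    have h2 : ((R.χ t : Γˣ) : Γ) * (((R.χ t)⁻¹ : Γˣ) : Γ) = 1 := Units.mul_inv _
    linear_combination (-(y₂ - y)) * h1 - (y₂ - y) * u * ((u⁻¹ : Γˣ) : Γ) * h2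
  have ex : x₂ = (((R.χ t')⁻¹ : Γˣ) : Γ) * (x * ((u⁻¹ : Γˣ) : Γ)) + x' := by
    rw [← hx₂]
    have h1 : (u : Γ) * ((u⁻¹ : Γˣ) : Γ) = 1 := Units.mul_inv u
    have h2 : ((R.χ t' : Γˣ) : Γ) * (((R.χ t')⁻¹ : Γˣ) : Γ) = 1 := Units.mul_inv _
    linear_combination (-(x₂ - x')) * h1 - (x₂ - x') * u * ((u⁻¹ : Γˣ) : Γ) * h2
  calc (R.M y * R.τ t * R.P x) * (R.M y' * R.τ t' * R.P x')
      = R.M y * R.τ t * (R.P x * R.M y') * R.τ t' * R.P x' := by group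
    _ = R.M y * (R.τ t * R.M (y' * ((u⁻¹ : Γˣ) : Γ))) * R.τ (R.c u) *
          (R.P (x * ((u⁻¹ : Γˣ) : Γ)) * R.τ t') * R.P x' := by rw [hF]; group
    _ = R.M y₂ * R.τ (t * R.c u * t') * R.P x₂ := by
        rw [R.τ_mul_M, R.P_mul_τ, ey, ex, R.M_add, R.P_add, map_mul, map_mul]; group

/-- The Weyl element `w(x) = P(x) M(-x⁻¹) P(x)`. -/
def w (x : Γˣ) : H := R.P x * R.M (-((x⁻¹ : Γˣ) : Γ)) * R.P x

theorem w_mul_unit (z x : Γˣ) : R.w (z * x) = R.D z * R.w x := by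
  have h1 : (z : Γ) * ((z⁻¹ : Γˣ) : Γ) = 1 := Units.mul_inv z
  have h2 : (x : Γ) * ((x⁻¹ : Γˣ) : Γ) = 1 := Units.mul_inv x
  have hrev := R.rev (((z : Γ) - 1) * x) (-(((z * x)⁻¹ : Γˣ) : Γ)) z⁻¹ (by
    rw [mul_inv, Units.val_mul]
    linear_combination (((z : Γ) - 1) * ((z⁻¹ : Γˣ) : Γ)) * h2 + h1)
  rw [inv_inv, map_inv, inv_inv] at hrev
  have e1 : ((z : Γ) - 1) * x * z = (z : Γ) ^ 2 * x - z * x := by ring
  have e2 : -(((z * x)⁻¹ : Γˣ) : Γ) * z = -((x⁻¹ : Γˣ) : Γ) := by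
    rw [mul_inv, Units.val_mul]
    linear_combination (-((x⁻¹ : Γˣ) : Γ)) * h1
  rw [e1, e2] at hrev
  have e3 : ((z * x : Γˣ) : Γ) = ((z : Γ) - 1) * x + x := by rw [Units.val_mul]; ring
  have hD : R.D z * R.P (-(x : Γ)) = R.P (-((z : Γ) ^ 2 * x)) * R.D z := by
    rw [D_apply, R.τ_mul_P, R.χ_c, Units.val_pow_eq_pow_val]
    congr 2; ring
  have hw : R.M (-((x⁻¹ : Γˣ) : Γ)) * R.P x = R.P (-(x : Γ)) * R.w x := by
    rw [w, R.P_neg]; group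
  have e3' : R.P ((z * x : Γˣ) : Γ) = R.P (((z : Γ) - 1) * x) * R.P x := by
    rw [← R.P_add, ← e3]
  calc R.w (z * x) = R.P ((z * x : Γˣ) : Γ) *
        (R.M (-(((z * x)⁻¹ : Γˣ) : Γ)) * R.P (((z : Γ) - 1) * x)) * R.P x := by
        rw [w]; nth_rewrite 2 [e3']
        simp only [mul_assoc]
    _ = R.P ((z : Γ) * x) * R.P ((z : Γ) ^ 2 * x - z * x) * (R.D z * R.P (-(x : Γ))) * R.w x := by
        rw [hrev, Units.val_mul]
        simp only [mul_assoc]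
        rw [hw]
    _ = R.D z * R.w x := by
        rw [hD, ← R.P_add]
        have : (z : Γ) * x + ((z : Γ) ^ 2 * x - z * x) = (z : Γ) ^ 2 * x := by ring
        rw [this, R.P_neg]
        simp only [mul_inv_cancel_left]

theorem τ_conj_w (t : Tg) (x : Γˣ) : R.τ t * R.w x * (R.τ t)⁻¹ = R.w (R.χ t * x) := by
  have hP := R.conjP t x
  have hM := R.conjM t (-((x⁻¹ : Γˣ) : Γ))
  have e : (((R.χ t)⁻¹ : Γˣ) : Γ) * -((x⁻¹ : Γˣ) : Γ) = -(((R.χ t * x)⁻¹ : Γˣ) : Γ) := by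
    rw [mul_inv, Units.val_mul]; ring
  rw [e] at hM
  rw [w, w, Units.val_mul, ← hP, ← hM]
  group

/-- `w(x)` normalises the torus. -/
theorem w_conj_τ (t : Tg) (x : Γˣ) : R.w x * R.τ t * (R.w x)⁻¹ = (R.D (R.χ t))⁻¹ * R.τ t := by
  have h1 := R.τ_conj_w t x
  rw [R.w_mul_unit] at h1
  -- τ t * w x * (τ t)⁻¹ = D (χ t) * w x
  have h2 : R.τ t * R.w x = R.D (R.χ t) * R.w x * R.τ t := by rw [← h1]; group
  have h3 : R.w x * R.τ t = (R.D (R.χ t))⁻¹ * R.τ t * R.w x := by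
    rw [mul_assoc, h2]; group
  rw [h3]; group

theorem w_mul_unit' (z x : Γˣ) : R.w (z * x) = R.w x * (R.D z)⁻¹ := by
  have h := R.w_conj_τ (R.c z⁻¹) x
  rw [R.χ_c, ← D_apply, map_inv, map_pow, map_inv] at h
  -- h : w x * (D z)⁻¹ * (w x)⁻¹ = ((D z)⁻¹ ^ 2)⁻¹ * (D z)⁻¹
  rw [R.w_mul_unit]
  have h' : R.w x * (R.D z)⁻¹ = (((R.D z)⁻¹ ^ 2)⁻¹ * (R.D z)⁻¹) * R.w x := by
    rw [← h]; group
  rw [h']; group

theorem w_neg (x : Γˣ) : R.w (-x) = (R.w x)⁻¹ := by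
  rw [w, w, Units.val_neg, inv_neg, Units.val_neg, neg_neg, R.P_neg]
  have : R.M ((x⁻¹ : Γˣ) : Γ) = (R.M (-((x⁻¹ : Γˣ) : Γ)))⁻¹ := by rw [R.M_neg, inv_inv]
  rw [this]; group

theorem w_sq (x : Γˣ) : R.w x ^ 2 = R.D (-1) := by
  have h := R.w_mul_unit (-1) x
  rw [neg_one_mul, R.w_neg] at h
  -- (w x)⁻¹ = D(-1) * w x
  have h0 : R.D (-1) = (R.w x)⁻¹ * (R.w x)⁻¹ := by
    rw [eq_mul_inv_iff_mul_eq]; exact h.symm
  have h2 : R.D (-1) = ((R.w x) ^ 2)⁻¹ := by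
    rw [pow_two, mul_inv_rev, ← h0]
  have h3 : (R.D (-1))⁻¹ = R.D (-1) := by
    rw [← map_inv, inv_neg, inv_one]
  rw [← h3, h2, inv_inv]

theorem w_mul_w (x y : Γˣ) : R.w x * R.w y = R.D (-(x * y⁻¹)) := by
  have h := R.w_mul_unit (x * y⁻¹) y
  rw [inv_mul_cancel_right] at h
  rw [h, mul_assoc, ← pow_two, R.w_sq, ← map_mul, mul_neg_one]

end RankOne

end Groth.Agent.H42
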