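import Groth.Agent.H42.RankOneAbs

/-!
# The braid relation `M(-u⁻¹) P(u) M(-u⁻¹) = w(u)` in an abstract rank-one datum, provided the
coefficient ring contains a unit `a` with `u - a` a unit.
-/

set_option autoImplicit false

namespace Groth.Agent.H42

namespace RankOne

variable {Γ : Type*} [CommRing Γ] {H : Type*} [Group H] {Tg : Type*} [Group Tg]
variable (R : RankOne Γ H Tg)

theorem D_mul_P (z : Γˣ) (s : Γ) : R.D z * R.P s = R.P ((z : Γ) ^ 2 * s) * R.D z := by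
  rw [D_apply, R.τ_mul_P, R.χ_c, Units.val_pow_eq_pow_val]

theorem D_mul_M (z : Γˣ) (t : Γ) :
    R.D z * R.M t = R.M ((((z⁻¹ : Γˣ) : Γ)) ^ 2 * t) * R.D z := by
  rw [D_apply, R.τ_mul_M, R.χ_c, ← inv_pow, Units.val_pow_eq_pow_val]

/-- The braid relation, given an auxiliary unit `a` with `u - a = b` a unit. -/
theorem braid (u a b : Γˣ) (hb : (b : Γ) = u - a) :
    R.M (-((u⁻¹ : Γˣ) : Γ)) * R.P u * R.M (-((u⁻¹ : Γˣ) : Γ)) = R.w u := by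
  have hu : (u : Γ) * ((u⁻¹ : Γˣ) : Γ) = 1 := Units.mul_inv u
  have ha : (a : Γ) * ((a⁻¹ : Γˣ) : Γ) = 1 := Units.mul_inv a
  have hbb : (b : Γ) * ((b⁻¹ : Γˣ) : Γ) = 1 := Units.mul_inv b
  set v : Γ := -((u⁻¹ : Γˣ) : Γ) with hv
  -- step 1
  have h1 : R.P b * R.M v = R.M (-((a⁻¹ : Γˣ) : Γ)) * R.D (a * u⁻¹) * R.P ((b : Γ) * u * ((a⁻¹ : Γˣ) : Γ)) := by
    have hF := R.F b v (a * u⁻¹) (by
      rw [Units.val_mul, hv, hb]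
      linear_combination hu)
    rw [hF, D_apply]
    have e1 : v * (((a * u⁻¹)⁻¹ : Γˣ) : Γ) = -((a⁻¹ : Γˣ) : Γ) := by
      rw [mul_inv, inv_inv, Units.val_mul, hv]
      linear_combination (-((a⁻¹ : Γˣ) : Γ)) * hu
    have e2 : (b : Γ) * (((a * u⁻¹)⁻¹ : Γˣ) : Γ) = (b : Γ) * u * ((a⁻¹ : Γˣ) : Γ) := by
      rw [mul_inv, inv_inv, Units.val_mul]
      ring
    rw [e1, e2]
  -- step 2
  have h2 : R.M v * R.P a = R.P ((a : Γ) * u * ((b⁻¹ : Γˣ) : Γ)) * (R.D (b * u⁻¹))⁻¹ *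
      R.M (-((b⁻¹ : Γˣ) : Γ)) := by
    have hr := R.rev a v (b * u⁻¹) (by
      rw [Units.val_mul, hv, hb]
      linear_combination hu)
    rw [hr]
    have e1 : v * (((b * u⁻¹)⁻¹ : Γˣ) : Γ) = -((b⁻¹ : Γˣ) : Γ) := by
      rw [mul_inv, inv_inv, Units.val_mul, hv]
      linear_combination (-((b⁻¹ : Γˣ) : Γ)) * hu
    have e2 : (a : Γ) * (((b * u⁻¹)⁻¹ : Γˣ) : Γ) = (a : Γ) * u * ((b⁻¹ : Γˣ) : Γ) := by
      rw [mul_inv, inv_inv, Units.val_mul]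
      ring
    rw [e1, e2]
  -- assemble
  have hPu : R.P u = R.P a * R.P b := by
    rw [← R.P_add, hb]; congr 1; ring
  have hMM : R.M (-((b⁻¹ : Γˣ) : Γ)) * R.M (-((a⁻¹ : Γˣ) : Γ)) =
      R.M (-((u : Γ) * ((a⁻¹ : Γˣ) : Γ) * ((b⁻¹ : Γˣ) : Γ))) := by
    rw [← R.M_add]
    congr 1
    have : (u : Γ) = a + b := by rw [hb]; ring
    rw [this]
    linear_combination (((b⁻¹ : Γˣ) : Γ)) * ha + ((a⁻¹ : Γˣ) : Γ) * hbb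
  set c : Γˣ := (a * b⁻¹) * u with hc
  have hDinv : (R.D (b * u⁻¹))⁻¹ = R.D (u * b⁻¹) := by
    rw [← map_inv, mul_inv, inv_inv, mul_comm]
  have hDM : R.D (u * b⁻¹) * R.M (-((u : Γ) * ((a⁻¹ : Γˣ) : Γ) * ((b⁻¹ : Γˣ) : Γ))) =
      R.M (-((c⁻¹ : Γˣ) : Γ)) * R.D (u * b⁻¹) := by
    rw [R.D_mul_M]
    congr 2
    have e1 : ((((u * b⁻¹)⁻¹)⁻¹⁻¹ : Γˣ) : Γ) = ((u⁻¹ : Γˣ) : Γ) * b := by
      rw [inv_inv, mul_inv, inv_inv, Units.val_mul]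
    have e1' : (((u * b⁻¹)⁻¹ : Γˣ) : Γ) = ((u⁻¹ : Γˣ) : Γ) * b := by
      rw [mul_inv, inv_inv, Units.val_mul]
    have e2 : ((c⁻¹ : Γˣ) : Γ) = ((a⁻¹ : Γˣ) : Γ) * b * ((u⁻¹ : Γˣ) : Γ) := by
      rw [hc, mul_inv, mul_inv, inv_inv, Units.val_mul, Units.val_mul]
    rw [e1', e2]
    linear_combination (-((u⁻¹ : Γˣ) : Γ) * b * ((a⁻¹ : Γˣ) : Γ) * (b * ((b⁻¹ : Γˣ) : Γ))) * hu
      + (-((u⁻¹ : Γˣ) : Γ) * b * ((a⁻¹ : Γˣ) : Γ)) * hbb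
  have hDD : R.D (u * b⁻¹) * R.D (a * u⁻¹) = R.D (a * b⁻¹) := by
    rw [← map_mul]
    congr 1
    calc u * b⁻¹ * (a * u⁻¹) = (u * u⁻¹) * (a * b⁻¹) := by ac_rfl
      _ = a * b⁻¹ := by rw [mul_inv_cancel, one_mul]
  have hDP : R.D (a * b⁻¹) * R.P ((b : Γ) * u * ((a⁻¹ : Γˣ) : Γ)) = R.P c * R.D (a * b⁻¹) := by
    rw [R.D_mul_P]
    congr 2
    rw [hc]
    simp only [Units.val_mul]
    linear_combination ((a : Γ) * ((b⁻¹ : Γˣ) : Γ) * u * (b * ((b⁻¹ : Γˣ) : Γ))) * ha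
      + ((a : Γ) * ((b⁻¹ : Γˣ) : Γ) * u) * hbb
  have hPc : R.P ((a : Γ) * u * ((b⁻¹ : Γˣ) : Γ)) = R.P c := by
    congr 1
    rw [hc]
    simp only [Units.val_mul]; ring
  calc R.M v * R.P u * R.M v
      = (R.M v * R.P a) * (R.P b * R.M v) := by rw [hPu]; group
    _ = R.P c * R.D (u * b⁻¹) * (R.M (-((b⁻¹ : Γˣ) : Γ)) * R.M (-((a⁻¹ : Γˣ) : Γ))) *
          R.D (a * u⁻¹) * R.P ((b : Γ) * u * ((a⁻¹ : Γˣ) : Γ)) := by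
        rw [h1, h2, hDinv, hPc]; group
    _ = R.P c * (R.D (u * b⁻¹) * R.M (-((u : Γ) * ((a⁻¹ : Γˣ) : Γ) * ((b⁻¹ : Γˣ) : Γ)))) *
          R.D (a * u⁻¹) * R.P ((b : Γ) * u * ((a⁻¹ : Γˣ) : Γ)) := by
        rw [hMM]; group
    _ = R.P c * R.M (-((c⁻¹ : Γˣ) : Γ)) * (R.D (u * b⁻¹) * R.D (a * u⁻¹)) *
          R.P ((b : Γ) * u * ((a⁻¹ : Γˣ) : Γ)) := by
        rw [hDM]; group
    _ = R.P c * R.M (-((c⁻¹ : Γˣ) : Γ)) * (R.D (a * b⁻¹) * R.P ((b : Γ) * u * ((a⁻¹ : Γˣ) : Γ))) := by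
        rw [hDD]; group
    _ = R.w c * R.D (a * b⁻¹) := by
        rw [hDP, w]; group
    _ = R.w u := by
        rw [hc, R.w_mul_unit']; group

end RankOne

end Groth.Agent.H42
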