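import Groth.Agent.H42.RankOneBraid

/-!
# Consequences of the braid relation in an abstract rank-one datum.
-/

set_option autoImplicit false

namespace Groth.Agent.H42

namespace RankOne

variable {Γ : Type*} [CommRing Γ] {H : Type*} [Group H] {Tg : Type*} [Group Tg]
variable (R : RankOne Γ H Tg)

theorem w_conj_P_of_braid (u : Γˣ)
    (hbr : R.M (-((u⁻¹ : Γˣ) : Γ)) * R.P u * R.M (-((u⁻¹ : Γˣ) : Γ)) = R.w u) :
    R.w u * R.P u * (R.w u)⁻¹ = R.M (-((u⁻¹ : Γˣ) : Γ)) := by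
  rw [mul_inv_eq_iff_eq_mul]
  calc R.w u * R.P u = (R.M (-((u⁻¹ : Γˣ) : Γ)) * R.P u * R.M (-((u⁻¹ : Γˣ) : Γ))) * R.P u := by
        rw [hbr]
    _ = R.M (-((u⁻¹ : Γˣ) : Γ)) * (R.P u * R.M (-((u⁻¹ : Γˣ) : Γ)) * R.P u) := by group
    _ = R.M (-((u⁻¹ : Γˣ) : Γ)) * R.w u := by rw [w]

theorem cube_aux {H : Type*} [Group H] (a b W h : H) (hWdef : W = a * b * a)
    (hbr : b * a * b = W) (hsq : W ^ 2 = h) (hh : h * h = 1) : (W * a) ^ 3 = 1 := by
  have e1 : W * a = b * W := by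
    calc W * a = (b * a * b) * a := by rw [hbr]
      _ = b * (a * b * a) := by group
      _ = b * W := by rw [hWdef]
  have e2 : W * b = a * W := by
    calc W * b = (a * b * a) * b := by rw [← hWdef]
      _ = a * (b * a * b) := by group
      _ = a * W := by rw [hbr]
  have h4 : W * W * W * W = 1 := by
    calc W * W * W * W = (W ^ 2) * (W ^ 2) := by simp only [pow_two, mul_assoc]
      _ = 1 := by rw [hsq, hh]
  calc (W * a) ^ 3 = (W * a) * (W * a) * (W * a) := by rw [pow_succ, pow_two]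
    _ = (b * W) * (b * W) * (b * W) := by rw [e1]
    _ = b * (W * b) * (W * b) * W := by group
    _ = b * (a * W) * (a * W) * W := by rw [e2]
    _ = b * a * (W * a) * W * W := by group
    _ = b * a * (b * W) * W * W := by rw [e1]
    _ = (b * a * b) * W * W * W := by group
    _ = W * W * W * W := by rw [hbr]
    _ = 1 := h4

theorem w_mul_P_cube_of_braid (u : Γˣ)
    (hbr : R.M (-((u⁻¹ : Γˣ) : Γ)) * R.P u * R.M (-((u⁻¹ : Γˣ) : Γ)) = R.w u) :
    (R.w u * R.P u) ^ 3 = 1 :=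
  cube_aux (R.P u) (R.M (-((u⁻¹ : Γˣ) : Γ))) (R.w u) (R.D (-1)) rfl hbr (R.w_sq u)
    (by rw [← map_mul, neg_one_mul, neg_neg, map_one])

end RankOne

end Groth.Agent.H42
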