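import Groth.Agent.H42.RankOneInst
import Groth.Agent.H42.RankOneBraid
import Groth.Agent.H42.GoldenCover

/-!
# The braid relation `p₋(-u⁻¹) p₊(u) p₋(-u⁻¹) = w(u)` for the rank-one systems of the statements,
via a finite free cover carrying enough units.
-/

set_option autoImplicit false
set_option linter.unusedSectionVars false
universe u

open CategoryTheory MonoidalCategory CartesianMonoidalCategory MonObj GrpObj AlgebraicGeometry
open CategoryTheory.Limits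

namespace Groth.Agent.H42

section

variable {S : Scheme.{u}} {G T : Over S} [GrpObj G] [GrpObj T] {i : T ⟶ G} [IsMonHom i]
    {α : T ⟶ Red.Gm S} [IsMonHom α]
    {pp pm : Red.Ga S ⟶ G} [IsMonHom pp] [IsMonHom pm]
    (hpp : ∀ (X : Over S) (t : X ⟶ T) (x : X ⟶ Red.Ga S), ∃ x' : X ⟶ Red.Ga S,
      x' ≫ pp = (t ≫ i) * (x ≫ pp) * (t ≫ i)⁻¹ ∧ Red.gaFn x' = Red.gmFn (t ≫ α) * Red.gaFn x)
    (hpm : ∀ (X : Over S) (t : X ⟶ T) (y : X ⟶ Red.Ga S), ∃ y' : X ⟶ Red.Ga S,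
      y' ≫ pm = (t ≫ i) * (y ≫ pm) * (t ≫ i)⁻¹ ∧ Red.gaFn y' * Red.gmFn (t ≫ α) = Red.gaFn y)
    {av : Red.Gm S ⟶ T} [IsMonHom av] (h2 : av ≫ α = (𝟙 (Red.Gm S)) ^ 2)
    (hF : ∀ (X : Over S) (x y : X ⟶ Red.Ga S), IsUnit (1 + Red.gaFn x * Red.gaFn y) →
      ∃ (x' y' : X ⟶ Red.Ga S) (z : X ⟶ Red.Gm S), Red.gmFn z = 1 + Red.gaFn x * Red.gaFn y ∧
        Red.gaFn x' * Red.gmFn z = Red.gaFn x ∧ Red.gaFn y' * Red.gmFn z = Red.gaFn y ∧
        (x ≫ pp) * (y ≫ pm) = (y' ≫ pm) * (z ≫ av ≫ i) * (x' ≫ pp))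

theorem comp_gaPt {X X' : Over S} (π : X' ⟶ X) (a : Γ(X.left, ⊤)) :
    π ≫ gaPt (S := S) a = gaPt (π.left.appTop.hom a) :=
  (gaPt_eq (by rw [gaFn_comp, gaFn_gaPt])).symm

theorem mkRankOne_braid (X : Over S) (u : Γ(X.left, ⊤)ˣ) :
    (mkRankOne S G T i α pp pm hpp hpm av h2 hF X).M (-((u⁻¹ : Γ(X.left, ⊤)ˣ) : Γ(X.left, ⊤))) *
      (mkRankOne S G T i α pp pm hpp hpm av h2 hF X).P u *
      (mkRankOne S G T i α pp pm hpp hpm av h2 hF X).M (-((u⁻¹ : Γ(X.left, ⊤)ˣ) : Γ(X.left, ⊤))) =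
    (mkRankOne S G T i α pp pm hpp hpm av h2 hF X).w u := by
  set R := mkRankOne S G T i α pp pm hpp hpm av h2 hF X with hR
  set R' := mkRankOne S G T i α pp pm hpp hpm av h2 hF (Golden.cover X) with hR'
  let π := Golden.π X
  let φ : Γ(X.left, ⊤) →+* Γ((Golden.cover X).left, ⊤) := π.left.appTop.hom
  have hP : ∀ a, π ≫ R.P a = R'.P (φ a) := by
    intro a
    change π ≫ gaPt a ≫ pp = gaPt (φ a) ≫ pp
    rw [← Category.assoc, comp_gaPt]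
  have hM : ∀ a, π ≫ R.M a = R'.M (φ a) := by
    intro a
    change π ≫ gaPt a ≫ pm = gaPt (φ a) ≫ pm
    rw [← Category.assoc, comp_gaPt]
  let u' : Γ((Golden.cover X).left, ⊤)ˣ := Units.map φ.toMonoidHom u
  have hu' : ((u' : Γ((Golden.cover X).left, ⊤)ˣ) : Γ((Golden.cover X).left, ⊤)) = φ u := rfl
  have hu'inv : (((u'⁻¹ : Γ((Golden.cover X).left, ⊤)ˣ)) : Γ((Golden.cover X).left, ⊤)) =
      φ ((u⁻¹ : Γ(X.left, ⊤)ˣ) : Γ(X.left, ⊤)) := by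
    rw [← map_inv]
    rfl
  have hbraid := R'.braid u' (u' * Golden.tU X) (u' * Golden.sU X) (by
    rw [Units.val_mul, Units.val_mul, Golden.sU_val, Golden.tU_val]
    ring)
  rw [← cancel_epi π]
  rw [RankOne.w, MonObj.comp_mul, MonObj.comp_mul, MonObj.comp_mul, MonObj.comp_mul, hM, hP,
    map_neg, ← hu'inv, ← hu', hbraid, RankOne.w]

end

end Groth.Agent.H42
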