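import Groth.Agent.H42.GaGm4
import Groth.Agent.H42.RankOneAbs

set_option autoImplicit false
universe u

open CategoryTheory MonoidalCategory CartesianMonoidalCategory MonObj GrpObj AlgebraicGeometry
open CategoryTheory.Limits

namespace Groth.Agent.H42

section Pts

variable {S : Scheme.{u}} {X : Over S}

/-- The `𝔾_a`-point with a given coordinate. -/
noncomputable def gaPt (a : Γ(X.left, ⊤)) : X ⟶ Red.Ga S := Classical.choose (gaFn_surjective a)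

theorem gaFn_gaPt (a : Γ(X.left, ⊤)) : Red.gaFn (gaPt (S := S) a) = a :=
  Classical.choose_spec (gaFn_surjective a)

theorem gaPt_eq {x : X ⟶ Red.Ga S} {a : Γ(X.left, ⊤)} (h : Red.gaFn x = a) : gaPt a = x :=
  gaFn_ext (by rw [gaFn_gaPt, h])

theorem gaPt_add (a b : Γ(X.left, ⊤)) : gaPt (S := S) (a + b) = gaPt a * gaPt b :=
  gaPt_eq (by rw [gaFn_mul, gaFn_gaPt, gaFn_gaPt])

/-- The `𝔾_m`-point with a given coordinate. -/
noncomputable def gmPt (z : Γ(X.left, ⊤)ˣ) : X ⟶ Red.Gm S :=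
  Classical.choose (gmFn_surjective (z : Γ(X.left, ⊤)) z.isUnit)

theorem gmFn_gmPt (z : Γ(X.left, ⊤)ˣ) : Red.gmFn (gmPt (S := S) z) = z :=
  Classical.choose_spec (gmFn_surjective (z : Γ(X.left, ⊤)) z.isUnit)

theorem gmPt_eq {x : X ⟶ Red.Gm S} {z : Γ(X.left, ⊤)ˣ} (h : Red.gmFn x = z) : gmPt z = x :=
  gmFn_ext (by rw [gmFn_gmPt, h])

theorem gmPt_mul (a b : Γ(X.left, ⊤)ˣ) : gmPt (S := S) (a * b) = gmPt a * gmPt b :=
  gmPt_eq (by rw [gmFn_mul, gmFn_gmPt, gmFn_gmPt, Units.val_mul])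

theorem gmPt_one : gmPt (S := S) (1 : Γ(X.left, ⊤)ˣ) = 1 :=
  gmPt_eq (by rw [gmFn_one, Units.val_one])

/-- The coordinate of a `𝔾_m`-point as a unit. -/
noncomputable def gmU (x : X ⟶ Red.Gm S) : Γ(X.left, ⊤)ˣ := (gmFn_isUnit x).unit

@[simp] theorem gmU_val (x : X ⟶ Red.Gm S) : ((gmU x : Γ(X.left, ⊤)ˣ) : Γ(X.left, ⊤)) = Red.gmFn x := rfl

theorem gmPt_gmU (x : X ⟶ Red.Gm S) : gmPt (gmU x) = x := gmPt_eq rfl

end Pts

section Inst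

variable (S : Scheme.{u}) (G T : Over S) [GrpObj G] [GrpObj T] (i : T ⟶ G) [IsMonHom i]
    (α : T ⟶ Red.Gm S) [IsMonHom α]
    (pp pm : Red.Ga S ⟶ G) [IsMonHom pp] [IsMonHom pm]
    (hpp : ∀ (X : Over S) (t : X ⟶ T) (x : X ⟶ Red.Ga S), ∃ x' : X ⟶ Red.Ga S,
      x' ≫ pp = (t ≫ i) * (x ≫ pp) * (t ≫ i)⁻¹ ∧ Red.gaFn x' = Red.gmFn (t ≫ α) * Red.gaFn x)
    (hpm : ∀ (X : Over S) (t : X ⟶ T) (y : X ⟶ Red.Ga S), ∃ y' : X ⟶ Red.Ga S,
      y' ≫ pm = (t ≫ i) * (y ≫ pm) * (t ≫ i)⁻¹ ∧ Red.gaFn y' * Red.gmFn (t ≫ α) = Red.gaFn y)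
    (av : Red.Gm S ⟶ T) [IsMonHom av] (h2 : av ≫ α = (𝟙 (Red.Gm S)) ^ 2)
    (hF : ∀ (X : Over S) (x y : X ⟶ Red.Ga S), IsUnit (1 + Red.gaFn x * Red.gaFn y) →
      ∃ (x' y' : X ⟶ Red.Ga S) (z : X ⟶ Red.Gm S), Red.gmFn z = 1 + Red.gaFn x * Red.gaFn y ∧
        Red.gaFn x' * Red.gmFn z = Red.gaFn x ∧ Red.gaFn y' * Red.gmFn z = Red.gaFn y ∧
        (x ≫ pp) * (y ≫ pm) = (y' ≫ pm) * (z ≫ av ≫ i) * (x' ≫ pp))
    (X : Over S)

include hpp hpm h2 hF in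
/-- The abstract rank-one datum attached to the situation of the rank-one statements. -/
noncomputable def mkRankOne : RankOne Γ(X.left, ⊤) (X ⟶ G) (X ⟶ T) where
  P a := gaPt a ≫ pp
  M a := gaPt a ≫ pm
  P_add a b := by rw [gaPt_add, MonObj.mul_comp]
  M_add a b := by rw [gaPt_add, MonObj.mul_comp]
  τ := { toFun := fun t => t ≫ i, map_one' := MonObj.one_comp i, map_mul' := fun a b => MonObj.mul_comp a b i }
  χ := { toFun := fun t => gmU (t ≫ α)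
         map_one' := by
          apply Units.ext
          rw [gmU_val, MonObj.one_comp α, gmFn_one, Units.val_one]
         map_mul' := fun a b => by
          apply Units.ext
          rw [gmU_val, MonObj.mul_comp a b α, gmFn_mul, Units.val_mul, gmU_val, gmU_val] }
  c := { toFun := fun z => gmPt z ≫ av
         map_one' := by rw [gmPt_one, MonObj.one_comp]
         map_mul' := fun a b => by rw [gmPt_mul, MonObj.mul_comp] }
  χ_c z := by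
    apply Units.ext
    change Red.gmFn ((gmPt z ≫ av) ≫ α) = _
    rw [Category.assoc, h2, MonObj.comp_pow, Category.comp_id, gmFn_pow, gmFn_gmPt,
      Units.val_pow_eq_pow_val]
  conjP t a := by
    obtain ⟨x', h1, h2'⟩ := hpp X t (gaPt a)
    change (t ≫ i) * (gaPt a ≫ pp) * (t ≫ i)⁻¹ = gaPt (Red.gmFn (t ≫ α) * a) ≫ pp
    rw [← h1, gaPt_eq (x := x')]
    rw [h2', gaFn_gaPt]
  conjM t b := by
    obtain ⟨y', h1, h2'⟩ := hpm X t (gaPt b)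
    change (t ≫ i) * (gaPt b ≫ pm) * (t ≫ i)⁻¹ = gaPt ((((gmU (t ≫ α))⁻¹ : Γ(X.left, ⊤)ˣ) : Γ(X.left, ⊤)) * b) ≫ pm
    rw [← h1, gaPt_eq (x := y')]
    rw [gaFn_gaPt] at h2'
    rw [← h2', ← gmU_val, mul_comm, _root_.mul_assoc, Units.mul_inv, _root_.mul_one]
  F a b u hu := by
    obtain ⟨x', y', z, hz, hx', hy', hE⟩ := hF X (gaPt a) (gaPt b) (by
      rw [gaFn_gaPt, gaFn_gaPt, ← hu]; exact u.isUnit)
    simp only [gaFn_gaPt] at hz hx' hy'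
    rw [← hu] at hz
    change (gaPt a ≫ pp) * (gaPt b ≫ pm) = (gaPt (b * ((u⁻¹ : Γ(X.left, ⊤)ˣ) : Γ(X.left, ⊤))) ≫ pm) *
      ((gmPt u ≫ av) ≫ i) * (gaPt (a * ((u⁻¹ : Γ(X.left, ⊤)ˣ) : Γ(X.left, ⊤))) ≫ pp)
    have ex : gaPt (a * ((u⁻¹ : Γ(X.left, ⊤)ˣ) : Γ(X.left, ⊤))) = x' :=
      gaPt_eq (by rw [← hx', hz, _root_.mul_assoc, Units.mul_inv, _root_.mul_one])
    have ey : gaPt (b * ((u⁻¹ : Γ(X.left, ⊤)ˣ) : Γ(X.left, ⊤))) = y' :=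
      gaPt_eq (by rw [← hy', hz, _root_.mul_assoc, Units.mul_inv, _root_.mul_one])
    rw [hE, gmPt_eq hz, ex, ey, Category.assoc]


variable {S G T i α pp pm av X}

theorem mkRankOne_P {x : X ⟶ Red.Ga S} {a : Γ(X.left, ⊤)} (h : Red.gaFn x = a) :
    (mkRankOne S G T i α pp pm hpp hpm av h2 hF X).P a = x ≫ pp := by
  change gaPt a ≫ pp = _
  rw [gaPt_eq h]

theorem mkRankOne_M {x : X ⟶ Red.Ga S} {a : Γ(X.left, ⊤)} (h : Red.gaFn x = a) :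
    (mkRankOne S G T i α pp pm hpp hpm av h2 hF X).M a = x ≫ pm := by
  change gaPt a ≫ pm = _
  rw [gaPt_eq h]

theorem mkRankOne_D {z : X ⟶ Red.Gm S} {u : Γ(X.left, ⊤)ˣ} (h : Red.gmFn z = u) :
    (mkRankOne S G T i α pp pm hpp hpm av h2 hF X).D u = z ≫ av ≫ i := by
  change (gmPt u ≫ av) ≫ i = _
  rw [gmPt_eq h, Category.assoc]

theorem mkRankOne_c {z : X ⟶ Red.Gm S} {u : Γ(X.left, ⊤)ˣ} (h : Red.gmFn z = u) :
    (mkRankOne S G T i α pp pm hpp hpm av h2 hF X).c u = z ≫ av := by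
  change gmPt u ≫ av = _
  rw [gmPt_eq h]

theorem mkRankOne_τ (t : X ⟶ T) :
    (mkRankOne S G T i α pp pm hpp hpm av h2 hF X).τ t = t ≫ i := rfl

theorem mkRankOne_χ (t : X ⟶ T) :
    (((mkRankOne S G T i α pp pm hpp hpm av h2 hF X).χ t : Γ(X.left, ⊤)ˣ) : Γ(X.left, ⊤)) =
      Red.gmFn (t ≫ α) := rfl

theorem mkRankOne_χ' (t : X ⟶ T) :
    (mkRankOne S G T i α pp pm hpp hpm av h2 hF X).χ t = gmU (t ≫ α) := rfl


theorem mkRankOne_w {x x' : X ⟶ Red.Ga S} {u : Γ(X.left, ⊤)ˣ} (hx : Red.gaFn x = u)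
    (hx' : Red.gaFn x' * Red.gaFn x = -1) :
    (mkRankOne S G T i α pp pm hpp hpm av h2 hF X).w u = (x ≫ pp) * (x' ≫ pm) * (x ≫ pp) := by
  rw [RankOne.w, mkRankOne_P hpp hpm h2 hF hx, mkRankOne_M hpp hpm h2 hF (x := x')]
  rw [hx] at hx'
  have : Red.gaFn x' = Red.gaFn x' * ((u : Γ(X.left, ⊤)) * ((u⁻¹ : Γ(X.left, ⊤)ˣ) : Γ(X.left, ⊤))) := by
    rw [Units.mul_inv, _root_.mul_one]
  rw [this, ← _root_.mul_assoc, hx', neg_one_mul]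

/-- The unit attached to a `𝔾_a`-point with invertible coordinate. -/
noncomputable def gaU (x x' : X ⟶ Red.Ga S) (h : Red.gaFn x' * Red.gaFn x = -1) : Γ(X.left, ⊤)ˣ :=
  ⟨Red.gaFn x, -Red.gaFn x', by rw [mul_neg, mul_comm, h, neg_neg], by rw [neg_mul, h, neg_neg]⟩

theorem gaU_val (x x' : X ⟶ Red.Ga S) (h : Red.gaFn x' * Red.gaFn x = -1) :
    ((gaU x x' h : Γ(X.left, ⊤)ˣ) : Γ(X.left, ⊤)) = Red.gaFn x := rfl

end Inst

end Groth.Agent.H42
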