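import Groth.Agent.H42.PolyCharA
import Groth.Agent.H67.CharPChar3
import Mathlib.RingTheory.PowerSeries.Exp

set_option autoImplicit false
universe u
open Polynomial

namespace Groth.Agent.H42.RatChar

variable {A : Type u} [CommRing A] [Algebra ℚ A]

/-- The coefficient relations of a character. -/
def CRel (c : ℕ → A) : Prop :=
  ∀ m n : ℕ, (((m + n).choose m : ℕ) : A) * c (m + n) = c m * c n

theorem pow_eq {c : ℕ → A} (hc : CRel c) (h0 : c 0 = 1) (j : ℕ) :
    c 1 ^ j = (j.factorial : A) * c j := by
  induction j with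
  | zero => simp [h0]
  | succ j ih =>
    have h := hc j 1
    rw [Nat.choose_symm_add, Nat.choose_one_right] at h
    rw [pow_succ, ih, mul_assoc, ← h, Nat.factorial_succ]
    push_cast
    ring

theorem inv_fact_mul (j : ℕ) : algebraMap ℚ A (1 / (j.factorial : ℚ)) * (j.factorial : A) = 1 := by
  have : (j.factorial : A) = algebraMap ℚ A (j.factorial : ℚ) := by simp
  rw [this, ← map_mul, one_div, inv_mul_cancel₀ (by exact_mod_cast j.factorial_ne_zero), map_one]

theorem coeff_eq {c : ℕ → A} (hc : CRel c) (h0 : c 0 = 1) (j : ℕ) :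
    c j = c 1 ^ j * algebraMap ℚ A (1 / (j.factorial : ℚ)) := by
  rw [pow_eq hc h0, mul_comm, ← mul_assoc, inv_fact_mul, one_mul]

theorem crel_exp (a : A) : CRel fun n => a ^ n * algebraMap ℚ A (1 / (n.factorial : ℚ)) := by
  intro m n
  have e : (((m + n).choose m : ℕ) : A) = algebraMap ℚ A ((m + n).choose m : ℚ) := by simp
  show (((m + n).choose m : ℕ) : A) * (a ^ (m + n) * algebraMap ℚ A (1 / ((m + n).factorial : ℚ))) =
    a ^ m * algebraMap ℚ A (1 / (m.factorial : ℚ)) * (a ^ n * algebraMap ℚ A (1 / (n.factorial : ℚ)))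
  rw [e, pow_add]
  have key : ((m + n).choose m : ℚ) * (1 / ((m + n).factorial : ℚ)) =
      (1 / (m.factorial : ℚ)) * (1 / (n.factorial : ℚ)) := by
    have h := Nat.add_choose_mul_factorial_mul_factorial m n
    have h' : ((m + n).choose n : ℚ) * (m.factorial : ℚ) * (n.factorial : ℚ) =
        ((m + n).factorial : ℚ) := by exact_mod_cast h
    rw [Nat.choose_symm_add]
    have hm : (m.factorial : ℚ) ≠ 0 := by exact_mod_cast m.factorial_ne_zero
    have hn : (n.factorial : ℚ) ≠ 0 := by exact_mod_cast n.factorial_ne_zero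
    have hmn : ((m + n).factorial : ℚ) ≠ 0 := by exact_mod_cast (m + n).factorial_ne_zero
    field_simp
    linarith
  calc algebraMap ℚ A ((m + n).choose m : ℚ) * (a ^ m * a ^ n * algebraMap ℚ A (1 / ((m + n).factorial : ℚ)))
      = a ^ m * a ^ n * algebraMap ℚ A (((m + n).choose m : ℚ) * (1 / ((m + n).factorial : ℚ))) := by
        rw [map_mul]; ring
    _ = _ := by rw [key, map_mul]; ring

/-- formal characters over a `ℚ`-algebra -/
theorem formal (χ : PowerSeries A) :
    (PowerSeries.constantCoeff χ = 1 ∧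
      PowerSeries.subst (MvPowerSeries.X 0 + MvPowerSeries.X 1 : MvPowerSeries (Fin 2) A) χ =
        PowerSeries.subst (MvPowerSeries.X 0 : MvPowerSeries (Fin 2) A) χ *
          PowerSeries.subst (MvPowerSeries.X 1 : MvPowerSeries (Fin 2) A) χ) ↔
      ∃ a : A, χ = PowerSeries.rescale a (PowerSeries.exp A) := by
  rw [Groth.Agent.H67.subst_add_eq_mul_iff]
  constructor
  · rintro ⟨h0, h⟩
    rw [← PowerSeries.coeff_zero_eq_constantCoeff_apply] at h0
    refine ⟨PowerSeries.coeff 1 χ, ?_⟩
    ext n
    rw [PowerSeries.coeff_rescale, PowerSeries.coeff_exp]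
    exact coeff_eq (c := fun n => PowerSeries.coeff n χ) h h0 n
  · rintro ⟨a, rfl⟩
    constructor
    · rw [← PowerSeries.coeff_zero_eq_constantCoeff_apply, PowerSeries.coeff_rescale,
        PowerSeries.coeff_exp]
      simp
    · intro m n
      simp only [PowerSeries.coeff_rescale, PowerSeries.coeff_exp]
      exact crel_exp a m n

theorem crel_of_rel {f : A[X]} (h : PolyChar.Rel f) : CRel fun n => f.coeff n := by
  intro m n
  have := h m n
  rw [← Nat.choose_symm_add] at this
  exact_mod_cast this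

theorem rel_of_crel {f : A[X]} (h : CRel fun n => f.coeff n) : PolyChar.Rel f := by
  intro m n
  have := h m n
  rw [Nat.choose_symm_add] at this
  exact_mod_cast this

/-- polynomial characters over a `ℚ`-algebra -/
theorem poly (f : A[X]) :
    (f.eval 0 = 1 ∧
      Polynomial.aeval (MvPolynomial.X 0 + MvPolynomial.X 1 : MvPolynomial (Fin 2) A) f =
        Polynomial.aeval (MvPolynomial.X 0 : MvPolynomial (Fin 2) A) f *
          Polynomial.aeval (MvPolynomial.X 1 : MvPolynomial (Fin 2) A) f) ↔
      ∃ a : A, IsNilpotent a ∧ (f : PowerSeries A) = PowerSeries.rescale a (PowerSeries.exp A) := by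
  constructor
  · rintro ⟨h0, h⟩
    rw [← coeff_zero_eq_eval_zero] at h0
    have hc : CRel fun n => f.coeff n := crel_of_rel ((PolyChar.FE2_iff_Rel f).1 h)
    refine ⟨f.coeff 1, ⟨f.natDegree + 1, ?_⟩, ?_⟩
    · rw [pow_eq hc h0, coeff_eq_zero_of_natDegree_lt (Nat.lt_succ_self _), mul_zero]
    · ext n
      rw [Polynomial.coeff_coe, PowerSeries.coeff_rescale, PowerSeries.coeff_exp]
      exact coeff_eq hc h0 n
  · rintro ⟨a, -, ha⟩
    have hcoeff : ∀ n, f.coeff n = a ^ n * algebraMap ℚ A (1 / (n.factorial : ℚ)) := by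
      intro n
      rw [← Polynomial.coeff_coe, ha, PowerSeries.coeff_rescale, PowerSeries.coeff_exp]
    constructor
    · rw [← coeff_zero_eq_eval_zero, hcoeff]
      simp
    · apply (PolyChar.FE2_iff_Rel f).2
      apply rel_of_crel
      have : (fun n => f.coeff n) = fun n => a ^ n * algebraMap ℚ A (1 / (n.factorial : ℚ)) :=
        funext hcoeff
      rw [this]
      exact crel_exp a

end Groth.Agent.H42.RatChar
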