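import Mathlib

set_option autoImplicit false
universe u
open CategoryTheory AlgebraicGeometry Limits Opposite

namespace Groth.Agent.H42.SeqColim

variable {A₀ A : Type u} [CommRing A₀] [CommRing A] (φ : A₀ →+* A₀) (ι : ℕ → A₀ →+* A)

theorem ι_comp_pow (hι : ∀ n, (ι (n + 1)).comp φ = ι n) (m k : ℕ) :
    (ι (m + k)).comp (φ ^ k) = ι m := by
  induction k with
  | zero => ext x; simp
  | succ k ih =>
    rw [pow_succ', ← ih, ← add_assoc, ← hι (m + k)]
    rfl

/-- The sequence functor `A₀ --φ--> A₀ --φ--> ...` indexed by `ULift ℕ`. -/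
noncomputable def seqF : ULift.{u} ℕ ⥤ CommRingCat.{u} where
  obj _ := CommRingCat.of A₀
  map {m n} _ := CommRingCat.ofHom (φ ^ (n.down - m.down))
  map_id n := by
    simp only [Nat.sub_self, pow_zero]
    rfl
  map_comp {m n k} f g := by
    have h1 : m.down ≤ n.down := (leOfHom f : m ≤ n)
    have h2 : n.down ≤ k.down := (leOfHom g : n ≤ k)
    have : k.down - m.down = (k.down - n.down) + (n.down - m.down) := by omega
    rw [this, pow_add]
    rfl

/-- The cocone with vertex `A`. -/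
noncomputable def seqCocone (hι : ∀ n, (ι (n + 1)).comp φ = ι n) : Cocone (seqF φ) where
  pt := CommRingCat.of A
  ι :=
    { app := fun n => CommRingCat.ofHom (ι n.down)
      naturality := fun m n f => by
        have h1 : m.down ≤ n.down := (leOfHom f : m ≤ n)
        have h2 : n.down = m.down + (n.down - m.down) := by omega
        have := ι_comp_pow φ ι hι m.down (n.down - m.down)
        rw [← h2] at this
        ext x
        exact congrArg (fun r => r x) this }

theorem seqIsColimit (hι : ∀ n, (ι (n + 1)).comp φ = ι n)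
    (hsurj : ∀ a : A, ∃ n x, ι n x = a)
    (hinj : ∀ n x, ι n x = 0 → ∃ k, (φ ^ k) x = 0) : Nonempty (IsColimit (seqCocone φ ι hι)) := by
  have : ReflectsFilteredColimits (forget CommRingCat.{u}) :=
    ⟨fun _ ↦ reflectsColimitsOfShape_of_reflectsIsomorphisms⟩
  refine ReflectsColimit.reflects (F := forget CommRingCat.{u})
    (Types.FilteredColimit.isColimitOf' (seqF φ ⋙ forget CommRingCat.{u})
      ((forget CommRingCat.{u}).mapCocone (seqCocone φ ι hι)) ?_ ?_)
  · intro x
    obtain ⟨n, y, hy⟩ := hsurj x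
    exact ⟨⟨n⟩, y, hy.symm⟩
  · intro i x y hxy
    have key : ∀ (x y : A₀), ι i.down x = ι i.down y → ∃ k, (φ ^ k) x = (φ ^ k) y := by
      intro x y hxy'
      obtain ⟨k, hk⟩ := hinj i.down (x - y) (by rw [map_sub, hxy', sub_self])
      exact ⟨k, by rwa [map_sub, sub_eq_zero] at hk⟩
    obtain ⟨k, hk⟩ := key x y hxy
    refine ⟨⟨i.down + k⟩, homOfLE (by show i.down ≤ i.down + k; omega), ?_⟩
    have h3 : i.down + k - i.down = k := by omega
    show (φ ^ (i.down + k - i.down)) (x : A₀) = (φ ^ (i.down + k - i.down)) (y : A₀)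
    rw [h3]
    exact hk

theorem Spec_pow_comp {S : Scheme.{u}} (t₀ : Spec (CommRingCat.of A₀) ⟶ S)
    (ht₀ : Spec.map (CommRingCat.ofHom φ) ≫ t₀ = t₀) (k : ℕ) :
    Spec.map (CommRingCat.ofHom (φ ^ k)) ≫ t₀ = t₀ := by
  induction k with
  | zero =>
    have : CommRingCat.ofHom (φ ^ 0) = 𝟙 (CommRingCat.of A₀) := rfl
    rw [this, Spec.map_id, Category.id_comp]
  | succ k ih =>
    have : CommRingCat.ofHom (φ ^ (k + 1)) = CommRingCat.ofHom φ ≫ CommRingCat.ofHom (φ ^ k) := by
      rw [pow_succ]; rfl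
    rw [this, Spec.map_comp, Category.assoc, ht₀, ih]

/-- A morphism from `Spec` of a sequential colimit `A = colim (A₀ → A₀ → ⋯)` to a scheme locally
of finite presentation over `S` factors through a finite stage. -/
theorem exists_factor_of_seq {S X : Scheme.{u}} (f : X ⟶ S) [LocallyOfFinitePresentation f]
    (hι : ∀ n, (ι (n + 1)).comp φ = ι n)
    (hsurj : ∀ a : A, ∃ n x, ι n x = a)
    (hinj : ∀ n x, ι n x = 0 → ∃ k, (φ ^ k) x = 0)
    (t₀ : Spec (CommRingCat.of A₀) ⟶ S) (ht₀ : Spec.map (CommRingCat.ofHom φ) ≫ t₀ = t₀)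
    (a : Spec (CommRingCat.of A) ⟶ X)
    (ha : a ≫ f = Spec.map (CommRingCat.ofHom (ι 0)) ≫ t₀) :
    ∃ (n : ℕ) (g : Spec (CommRingCat.of A₀) ⟶ X),
      Spec.map (CommRingCat.ofHom (ι n)) ≫ g = a ∧ g ≫ f = t₀ := by
  obtain ⟨hcol⟩ := seqIsColimit φ ι hι hsurj hinj
  let D : (ULift.{u} ℕ)ᵒᵖ ⥤ Scheme.{u} := (seqF φ).op ⋙ Scheme.Spec
  let c : Cone D := Scheme.Spec.mapCone (seqCocone φ ι hι).op
  have hc : IsLimit c := isLimitOfPreserves Scheme.Spec hcol.op
  let t : D ⟶ (Functor.const _).obj S :=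
    { app := fun _ => t₀
      naturality := fun i j g => by
        show Spec.map (CommRingCat.ofHom (φ ^ (i.unop.down - j.unop.down))) ≫ t₀ = t₀ ≫ 𝟙 S
        rw [Spec_pow_comp φ t₀ ht₀, Category.comp_id] }
  have hn : ∀ n : ℕ, Spec.map (CommRingCat.ofHom (ι n)) ≫ t₀ = a ≫ f := by
    intro n
    have h1 := ι_comp_pow φ ι hι 0 n
    rw [zero_add] at h1
    have h2 : CommRingCat.ofHom (ι 0) = CommRingCat.ofHom (φ ^ n) ≫ CommRingCat.ofHom (ι n) := by
      rw [← h1]; rfl
    rw [ha, h2, Spec.map_comp, Category.assoc, Spec_pow_comp φ t₀ ht₀]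
  have ha' : c.π ≫ t = (Functor.const _).map (a ≫ f) := by
    ext i
    exact hn i.unop.down
  have : ∀ {i j : (ULift.{u} ℕ)ᵒᵖ} (g : i ⟶ j), IsAffineHom (D.map g) := by
    intro i j g
    show IsAffineHom (Spec.map _)
    infer_instance
  have : ∀ i, CompactSpace (D.obj i) := by
    intro i
    show CompactSpace (Spec _)
    infer_instance
  have : ∀ i, QuasiSeparatedSpace (D.obj i) := by
    intro i
    show QuasiSeparatedSpace (Spec _)
    infer_instance
  obtain ⟨i, g, hg1, hg2⟩ :=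
    Scheme.exists_π_app_comp_eq_of_locallyOfFinitePresentation D t f c hc a ha'
  exact ⟨i.unop.down, g, hg1, hg2⟩

end Groth.Agent.H42.SeqColim
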