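import Mathlib
import Groth.Prelude.Def_RedSub
import Groth.Agent.H11.EtaleSlice
import Groth.Agent.H11.SepPointsSch
import Groth.Agent.H40.FpqcTors
import Groth.Agent.H40.LocTriv
import Groth.Agent.H42.HensTwConst

/-!
# Smooth morphisms onto a henselian local scheme have finite étale quasi-sections (helper42)

`exists_finite_etale_section`: `f : X ⟶ Spec R` smooth, `R` henselian local, closed point in the
image.  Then there is a finite étale surjective `S' ⟶ Spec R` and an `R`-morphism `S' ⟶ X`.
-/

set_option autoImplicit false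
universe u
open CategoryTheory Limits MonoidalCategory CartesianMonoidalCategory MonObj GrpObj AlgebraicGeometry

namespace Groth.Agent.H42.SmoothHensSection

section resfield

/-- the canonical map from `R` to the residue field of `Spec R` at a point. -/
noncomputable def rho (R : Type u) [CommRing R] (s : Spec (CommRingCat.of R)) :
    R →+* (Spec (CommRingCat.of R)).residueField s :=
  ((Spec (CommRingCat.of R)).residue s).hom.comp
    (((Spec (CommRingCat.of R)).presheaf.germ ⊤ s trivial).hom.comp
      (Scheme.ΓSpecIso (CommRingCat.of R)).inv.hom)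

theorem residueFieldMap_comp_rho {R : Type u} [CommRing R] {Y : Scheme.{u}}
    (g : Y ⟶ Spec (CommRingCat.of R)) (y : Y) :
    (g.residueFieldMap y).hom.comp (rho R (g y)) =
      (Y.residue y).hom.comp ((Y.presheaf.germ ⊤ y trivial).hom.comp (Coh.toGlobal g)) := by
  have h1 := Scheme.residue_residueFieldMap g y
  have h2 := Scheme.Hom.germ_stalkMap g ⊤ y trivial
  ext a
  simp only [rho, Coh.toGlobal, RingHom.comp_apply]
  have h1' := congrArg (fun φ => φ.hom (((Spec (CommRingCat.of R)).presheaf.germ ⊤ (g y) trivial).hom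
    ((Scheme.ΓSpecIso (CommRingCat.of R)).inv.hom a))) h1
  simp only [CommRingCat.hom_comp, RingHom.comp_apply] at h1'
  rw [h1']
  have h2' := congrArg (fun φ => φ.hom ((Scheme.ΓSpecIso (CommRingCat.of R)).inv.hom a)) h2
  simp only [CommRingCat.hom_comp, RingHom.comp_apply] at h2'
  rw [h2']
  rfl

theorem toGlobal_comp_SpecMap {R R' : Type u} [CommRing R] [CommRing R'] (φ : R →+* R')
    {Y : Scheme.{u}} (q : Y ⟶ Spec (CommRingCat.of R')) :
    Coh.toGlobal (q ≫ Spec.map (CommRingCat.ofHom φ)) = (Coh.toGlobal q).comp φ := by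
  have h := Scheme.ΓSpecIso_inv_naturality (CommRingCat.ofHom φ)
  ext a
  have h' := congrArg (fun ψ => ψ.hom a) h
  simp only [CommRingCat.hom_comp, RingHom.comp_apply, CommRingCat.hom_ofHom] at h'
  show (q ≫ Spec.map (CommRingCat.ofHom φ)).appTop.hom
      ((Scheme.ΓSpecIso (CommRingCat.of R)).inv.hom a) =
    q.appTop.hom ((Scheme.ΓSpecIso (CommRingCat.of R')).inv.hom (φ a))
  rw [h', Scheme.Hom.comp_appTop]
  rfl

end resfield

section seppoint

open IsLocalRing Groth.Agent.H42.HensTwConst

theorem residueFieldMap_bijective_of_isPreimmersion {X Y : Scheme.{u}} (f : X ⟶ Y)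
    [IsPreimmersion f] (x : X) : Function.Bijective (f.residueFieldMap x).hom := by
  refine ⟨(f.residueFieldMap x).hom.injective, fun b => ?_⟩
  obtain ⟨b', rfl⟩ := IsLocalRing.residue_surjective b
  obtain ⟨c, rfl⟩ := f.stalkMap_surjective x b'
  refine ⟨(Y.residue (f x)).hom c, ?_⟩
  have h := Scheme.residue_residueFieldMap f x
  exact congrArg (fun φ => φ.hom c) h

set_option maxHeartbeats 800000 in
/-- A smooth scheme over a local ring whose image contains the closed point has a point over the
closed point with separable residue field extension. -/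
theorem exists_sep_point (R : Type u) [CommRing R] [IsLocalRing R] {X : Scheme.{u}}
    (f : X ⟶ Spec (CommRingCat.of R)) [Smooth f]
    (hcl : closedPoint R ∈ Set.range f) :
    ∃ x : X, f x = closedPoint R ∧
      @Algebra.IsSeparable ((Spec (CommRingCat.of R)).residueField (f x)) (X.residueField x) _ _
        (f.residueFieldMap x).hom.toAlgebra := by
  obtain ⟨x₁, hx₁⟩ := hcl
  obtain ⟨j, hj⟩ : ∃ j : Spec (CommRingCat.of (ResidueField R)) ⟶ Spec (CommRingCat.of R),
      j = Spec.map (CommRingCat.ofHom (residue R)) := ⟨_, rfl⟩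
  have hjpt : ∀ t, j t = closedPoint R := fun t => by rw [hj]; exact range_SpecMap_residue R t
  haveI : IsClosedImmersion j := by
    rw [hj]; exact IsClosedImmersion.spec_of_surjective _ residue_surjective
  letI : (pullback f j).Over (Spec (CommRingCat.of (ResidueField R))) := ⟨pullback.snd f j⟩
  haveI : Smooth ((pullback f j) ↘ Spec (CommRingCat.of (ResidueField R))) :=
    (inferInstance : Smooth (pullback.snd f j))
  obtain ⟨y₀, -⟩ := Scheme.Pullback.exists_preimage_pullback (f := f) (g := j) x₁
    (closedPoint (ResidueField R)) (hx₁.trans (hjpt _).symm)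
  haveI : Nonempty ↥(pullback f j) := ⟨y₀⟩
  obtain ⟨x₀, -, -, hx₀sep⟩ :=
    (Groth.Agent.H11.SepPointsSch.dense_sep (ResidueField R) (pullback f j)).nonempty
  have hfx : f (pullback.fst f j x₀) = closedPoint R := by
    have : f (pullback.fst f j x₀) = j (pullback.snd f j x₀) := by
      rw [← Scheme.Hom.comp_apply, ← Scheme.Hom.comp_apply, pullback.condition]
    rw [this]; exact hjpt _
  refine ⟨pullback.fst f j x₀, hfx, ?_⟩
  -- the key identity
  have hbij := residueFieldMap_bijective_of_isPreimmersion (pullback.fst f j) x₀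
  have key : ((pullback.fst f j).residueFieldMap x₀).hom.comp
      ((f.residueFieldMap (pullback.fst f j x₀)).hom.comp (rho R (f (pullback.fst f j x₀)))) =
      (Curv2.resMap (ResidueField R) (pullback f j) x₀).comp (residue R) := by
    have h1 := residueFieldMap_comp_rho (pullback.fst f j ≫ f) x₀
    have h2 : Coh.toGlobal (pullback.fst f j ≫ f) =
        (Coh.toGlobal (pullback.snd f j)).comp (residue R) := by
      rw [pullback.condition, hj]
      exact toGlobal_comp_SpecMap (residue R) _
    rw [h2] at h1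
    have h0 : (pullback.fst f j ≫ f).residueFieldMap x₀ =
        f.residueFieldMap (pullback.fst f j x₀) ≫ (pullback.fst f j).residueFieldMap x₀ :=
      Scheme.residueFieldMap_comp _ _ _
    rw [h0] at h1
    ext a
    have h1a := RingHom.congr_fun h1 a
    exact h1a
  obtain ⟨e, he⟩ : ∃ e : X.residueField (pullback.fst f j x₀) →+* (pullback f j).residueField x₀,
      e = ((pullback.fst f j).residueFieldMap x₀).hom := ⟨_, rfl⟩
  obtain ⟨φ, hφ⟩ : ∃ φ : (Spec (CommRingCat.of R)).residueField (f (pullback.fst f j x₀)) →+*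
      X.residueField (pullback.fst f j x₀), φ = (f.residueFieldMap (pullback.fst f j x₀)).hom :=
    ⟨_, rfl⟩
  rw [← he, ← hφ] at key
  rw [← he] at hbij
  rw [← hφ]
  have hker : ∀ a ∈ maximalIdeal R, rho R (f (pullback.fst f j x₀)) a = 0 := by
    intro a ha
    have h := RingHom.congr_fun key a
    simp only [RingHom.comp_apply] at h
    rw [(residue_eq_zero_iff a).mpr ha, map_zero] at h
    apply (e.comp φ).injective
    rw [RingHom.comp_apply, h, map_zero]
  obtain ⟨ψ, hψ⟩ : ∃ ψ : ResidueField R →+*
      (Spec (CommRingCat.of R)).residueField (f (pullback.fst f j x₀)),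
      ∀ a, ψ (residue R a) = rho R (f (pullback.fst f j x₀)) a :=
    ⟨Ideal.Quotient.lift (maximalIdeal R) (rho R _) hker, fun a => Ideal.Quotient.lift_mk _ _ _⟩
  letI a₁ : Algebra ((Spec (CommRingCat.of R)).residueField (f (pullback.fst f j x₀)))
      (X.residueField (pullback.fst f j x₀)) := φ.toAlgebra
  letI a₂ : Algebra (ResidueField R)
      ((Spec (CommRingCat.of R)).residueField (f (pullback.fst f j x₀))) := ψ.toAlgebra
  letI a₃ : Algebra (ResidueField R) (X.residueField (pullback.fst f j x₀)) :=
    (φ.comp ψ).toAlgebra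
  haveI : IsScalarTower (ResidueField R)
      ((Spec (CommRingCat.of R)).residueField (f (pullback.fst f j x₀)))
      (X.residueField (pullback.fst f j x₀)) := IsScalarTower.of_algebraMap_eq' rfl
  letI a₄ : Algebra (ResidueField R) ((pullback f j).residueField x₀) :=
    Curv2.resAlgebra (ResidueField R) (pullback f j) x₀
  haveI hsep₀ : Algebra.IsSeparable (ResidueField R) ((pullback f j).residueField x₀) := hx₀sep
  have hcomm : ∀ c : ResidueField R, e (φ (ψ c)) =
      Curv2.resMap (ResidueField R) (pullback f j) x₀ c := by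
    intro c
    obtain ⟨a, rfl⟩ := residue_surjective c
    rw [hψ]
    exact RingHom.congr_fun key a
  let E : X.residueField (pullback.fst f j x₀) ≃ₐ[ResidueField R]
      (pullback f j).residueField x₀ :=
    { RingEquiv.ofBijective e hbij with commutes' := hcomm }
  haveI : Algebra.IsSeparable (ResidueField R) (X.residueField (pullback.fst f j x₀)) :=
    AlgEquiv.Algebra.isSeparable E.symm
  exact Algebra.isSeparable_tower_top_of_isSeparable (ResidueField R)
    ((Spec (CommRingCat.of R)).residueField (f (pullback.fst f j x₀)))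
    (X.residueField (pullback.fst f j x₀))

end seppoint

section main

open IsLocalRing Groth.Agent.H42.HensTwConst

/-- A smooth morphism to the spectrum of a henselian local ring whose image contains the closed
point admits a section after a finite étale surjective base change. -/
theorem exists_finite_etale_section (R : Type u) [CommRing R] [HenselianLocalRing R]
    {X : Scheme.{u}} (f : X ⟶ Spec (CommRingCat.of R)) [Smooth f]
    (hcl : closedPoint R ∈ Set.range f) :
    ∃ (S' : Scheme.{u}) (g : S' ⟶ Spec (CommRingCat.of R)) (t : S' ⟶ X),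
      t ≫ f = g ∧ IsFinite g ∧ Etale g ∧ Surjective g := by
  obtain ⟨x, hx, hsep⟩ := exists_sep_point R f hcl
  haveI : Smooth ((⊤ : X.Opens).ι ≫ f) := inferInstance
  obtain ⟨Z, i, z, hi, hEt, hiz, -⟩ :=
    Groth.Agent.H11.EtaleSlice.exists_etale_slice f x ⊤ trivial hsep
  obtain ⟨V, hV, hzV⟩ : ∃ V : Z.Opens, IsAffineOpen V ∧ z ∈ V := by
    obtain ⟨_, ⟨V, hV, rfl⟩, hzV, -⟩ :=
      Z.isBasis_affineOpens.exists_subset_of_mem_open (Set.mem_univ z) isOpen_univ
    exact ⟨V, hV, hzV⟩
  haveI : IsAffine V.toScheme := hV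
  haveI : Etale (V.ι ≫ i ≫ f) := inferInstance
  haveI : IsSeparated (V.ι ≫ i ≫ f) := inferInstance
  obtain ⟨z', hz'⟩ : ∃ z' : ↥(V : Scheme.{u}), V.ι z' = z := by
    have : z ∈ Set.range V.ι := by rw [Scheme.Opens.range_ι]; exact hzV
    exact this
  have hz'' : (V.ι ≫ i ≫ f) z' = closedPoint R := by
    rw [Scheme.Hom.comp_apply, Scheme.Hom.comp_apply, hz', hiz, hx]
  obtain ⟨-, -, hfin, het, hsurj⟩ := stalk_piece R (V.ι ≫ i ≫ f) z' hz''
  exact ⟨_, _, (V : Scheme.{u}).fromSpecStalk z' ≫ V.ι ≫ i, by simp only [Category.assoc],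
    hfin, het, hsurj⟩

end main

section torsor

variable {S : Scheme.{u}} {G P : Over S} [GrpObj G]

/-- A representable fppf torsor in the sense of `RedSub.IsTorsor` is an fpqc torsor. -/
theorem isTorsorFor_fpqc_of_isTorsor (a : AlgGrp.Action G P) (ha : RedSub.IsTorsor a) :
    NonAbH1.IsTorsorFor Scheme.fpqcPrecoverage a := by
  obtain ⟨hs, hf, hlfp, hiso⟩ := ha
  have h1 : NonAbH1.IsLocallyTrivialFor Scheme.fppfPrecoverage P :=
    ⟨Presieve.singleton P.hom, P.hom.singleton_mem_fppfPrecoverage, fun S' f hf => by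
      obtain ⟨⟩ := hf
      exact ⟨𝟙 _, Category.id_comp _⟩⟩
  exact ⟨hiso, Groth.Agent.H40.IsLocallyTrivialFor.mono Scheme.fppfPrecoverage_le_fpqcPrecoverage h1⟩

set_option backward.isDefEq.respectTransparency.types false in
theorem smooth_of_isTorsor [Smooth G.hom] (a : AlgGrp.Action G P) (ha : RedSub.IsTorsor a) :
    Smooth P.hom :=
  Groth.Agent.H40.prop_hom_of_isTorsorFor_fpqc @Smooth inferInstance a
    (isTorsorFor_fpqc_of_isTorsor a ha) inferInstance

theorem hasSection_bc {S' : Scheme.{u}} (f : S' ⟶ S) (P : Over S) (t : S' ⟶ P.left)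
    (ht : t ≫ P.hom = f) : RedSub.HasSection (Red.bc f P) :=
  ⟨Over.homMk (pullback.lift t (𝟙 S') (by simp [ht])) (pullback.lift_snd _ _ _)⟩

/-- **S8509**: smooth torsors over a henselian local base are isotrivial. -/
theorem isotrivial_henselian (A : Type u) [CommRing A] [HenselianLocalRing A]
    {G P : Over (Spec (CommRingCat.of A))} [GrpObj G] [Smooth G.hom] (a : AlgGrp.Action G P)
    (ha : RedSub.IsTorsor a) :
    ∃ (S' : Scheme.{u}) (f : S' ⟶ Spec (CommRingCat.of A)), IsFinite f ∧ Etale f ∧ Surjective f ∧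
      RedSub.HasSection (Red.bc f P) := by
  haveI : Smooth P.hom := smooth_of_isTorsor a ha
  haveI : Surjective P.hom := ha.1
  obtain ⟨S', g, t, htg, hfin, het, hsurj⟩ :=
    exists_finite_etale_section A P.hom (Set.range_eq_univ.mpr (P.hom.surjective) ▸ Set.mem_univ _)
  exact ⟨S', g, hfin, het, hsurj, hasSection_bc g P t htg⟩

end torsor

end Groth.Agent.H42.SmoothHensSection
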