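import Groth.Prelude.Def_SpSeq

set_option autoImplicit false
universe v u
open CategoryTheory CategoryTheory.Limits

namespace Groth.Agent.H42

variable {C : Type u} [Category.{v} C] [Abelian C] {r₀ : ℤ}

/-- If the object at `pq` on page `r` vanishes, so does the object on page `r + 1`. -/
theorem isZero_page_succ (E : CohomologicalSpectralSequence C r₀) (r : ℤ) (hr : r₀ ≤ r)
    (pq : ℤ × ℤ) (h : IsZero ((E.page r hr).X pq)) :
    IsZero ((E.page (r + 1) (hr.trans (Int.le_add_one le_rfl))).X pq) := by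
  have h1 : IsZero ((E.page r hr).homology pq) :=
    ShortComplex.isZero_homology_of_isZero_X₂ ((E.page r hr).sc pq) h
  exact IsZero.of_iso h1 (E.iso r (r + 1) pq rfl hr).symm

theorem isZero_page_of_le (E : CohomologicalSpectralSequence C r₀) (r : ℤ) (hr : r₀ ≤ r)
    (pq : ℤ × ℤ) (h : IsZero ((E.page r hr).X pq)) (k : ℤ) (hk : r ≤ k) :
    IsZero ((E.page k (hr.trans hk)).X pq) := by
  induction k, hk using Int.leInduction with
  | base => exact h
  | succ k hk ih => exact isZero_page_succ E k (hr.trans hk) pq ih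

/-- If both differentials at `pq` on page `r` vanish, the object at `pq` is unchanged on the next
page. -/
noncomputable def pageIsoSuccOfZero (E : CohomologicalSpectralSequence C r₀) (r : ℤ) (hr : r₀ ≤ r)
    (pq : ℤ × ℤ) (h1 : (E.page r hr).d (pq - (r, 1 - r)) pq = 0)
    (h2 : (E.page r hr).d pq (pq + (r, 1 - r)) = 0) :
    (E.page r hr).X pq ≅ (E.page (r + 1) (hr.trans (Int.le_add_one le_rfl))).X pq := by
  have hprev : (ComplexShape.up' (⟨r, 1 - r⟩ : ℤ × ℤ)).prev pq = pq - (r, 1 - r) :=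
    (ComplexShape.up' (⟨r, 1 - r⟩ : ℤ × ℤ)).prev_eq' (by
      show pq - (r, 1 - r) + (r, 1 - r) = pq
      abel)
  have hnext : (ComplexShape.up' (⟨r, 1 - r⟩ : ℤ × ℤ)).next pq = pq + (r, 1 - r) :=
    (ComplexShape.up' (⟨r, 1 - r⟩ : ℤ × ℤ)).next_eq' (by
      show pq + (r, 1 - r) = pq + (r, 1 - r)
      rfl)
  have hf : ((E.page r hr).sc pq).f = 0 := by
    show (E.page r hr).d _ pq = 0
    rw [hprev]; exact h1
  have hg : ((E.page r hr).sc pq).g = 0 := by
    show (E.page r hr).d pq _ = 0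
    rw [hnext]; exact h2
  exact ((ShortComplex.HomologyData.ofZeros ((E.page r hr).sc pq) hf hg).left.homologyIso).symm ≪≫
    E.iso r (r + 1) pq rfl hr

theorem nonempty_pageIso_of_stationary (E : CohomologicalSpectralSequence C r₀) (pq : ℤ × ℤ)
    (r : ℤ) (hst : SpSeq.StationaryAt E pq r) (k : ℤ) (hk : r ≤ k) :
    Nonempty ((E.page r hst.1).X pq ≅ (E.page k (hst.1.trans hk)).X pq) := by
  induction k, hk using Int.leInduction with
  | base => exact ⟨Iso.refl _⟩
  | succ k hk ih =>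
    obtain ⟨e⟩ := ih
    obtain ⟨h1, h2⟩ := hst.2 k (hst.1.trans hk) hk
    exact ⟨e ≪≫ pageIsoSuccOfZero E k (hst.1.trans hk) pq h1 h2⟩

end Groth.Agent.H42
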