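import Groth.Agent.H42.SpSeq

set_option autoImplicit false
universe v u
open CategoryTheory CategoryTheory.Limits

namespace Groth.Agent.H42

variable {C : Type u} [Category.{v} C] [Abelian C]

/-- A vanishing graded piece forces two consecutive steps to coincide. -/
theorem fil_succ_eq_of_isZero_grPiece {X : C} (F : ℤ → Subobject X) (hF : Antitone F) (p : ℤ)
    (h : IsZero (SpSeq.grPiece F hF p)) : F (p + 1) = F p := by
  have hle : F (p + 1) ≤ F p := hF (Int.le_add_one le_rfl)
  refine le_antisymm hle ?_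
  have hepi : Epi ((F (p + 1)).ofLE (F p) hle) := by
    apply Preadditive.epi_of_isZero_cokernel
    exact h
  have : IsIso ((F (p + 1)).ofLE (F p) hle) := isIso_of_mono_of_epi _
  exact Subobject.le_of_comm (inv ((F (p + 1)).ofLE (F p) hle)) (by
    rw [IsIso.inv_comp_eq, Subobject.ofLE_arrow])

/-- If the bottom step is zero and the top step is everything, the graded piece is the object. -/
theorem nonempty_iso_grPiece_of_bot_top {X : C} (F : ℤ → Subobject X) (hF : Antitone F) (p : ℤ)
    (hbot : F (p + 1) = ⊥) (htop : F p = ⊤) : Nonempty (X ≅ SpSeq.grPiece F hF p) := by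
  have hle : F (p + 1) ≤ F p := hF (Int.le_add_one le_rfl)
  have h1 : IsIso (F p).arrow := (Subobject.isIso_arrow_iff_eq_top _).mpr htop
  have hz : IsZero ((F (p + 1) : Subobject X) : C) := by
    rw [hbot]
    exact IsZero.of_iso (isZero_zero C) Subobject.botCoeIsoZero
  have h0 : (F (p + 1)).ofLE (F p) hle = 0 := hz.eq_of_src _ _
  have h2 : IsIso (cokernel.π ((F (p + 1)).ofLE (F p) hle)) := cokernel.π_of_zero h0
  exact ⟨(@asIso _ _ _ _ (F p).arrow h1).symm ≪≫
    @asIso _ _ _ _ (cokernel.π ((F (p + 1)).ofLE (F p) hle)) h2⟩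

/-- A decreasing filtration with a single nonzero graded piece, some step zero and top the
supremum of the steps: the object is its only graded piece. -/
theorem nonempty_iso_grPiece_of_single {X : C} (F : ℤ → Subobject X) (hF : Antitone F) (p₀ : ℤ)
    (hz : ∀ p : ℤ, p ≠ p₀ → IsZero (SpSeq.grPiece F hF p))
    (hdisc : ∃ b : ℤ, F b = ⊥) (hexh : IsLUB (Set.range F) ⊤) :
    Nonempty (X ≅ SpSeq.grPiece F hF p₀) := by
  have hstep : ∀ p : ℤ, p ≠ p₀ → F (p + 1) = F p := fun p hp =>
    fil_succ_eq_of_isZero_grPiece F hF p (hz p hp)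
  have hup : ∀ k : ℤ, p₀ + 1 ≤ k → F k = F (p₀ + 1) := by
    intro k hk
    induction k, hk using Int.leInduction with
    | base => rfl
    | succ k hk ih => rw [hstep k (by lia), ih]
  have hdown : ∀ n : ℕ, F (p₀ - n) = F p₀ := by
    intro n
    induction n with
    | zero => simp
    | succ n ih =>
      have := hstep (p₀ - (n + 1 : ℕ)) (by push_cast; lia)
      rw [← ih, ← this]
      congr 1
      push_cast; omega
  obtain ⟨b, hb⟩ := hdisc
  have hbot : F (p₀ + 1) = ⊥ := by
    have h1 : F (max b (p₀ + 1)) = F (p₀ + 1) := hup _ (le_max_right _ _)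
    have h2 : F (max b (p₀ + 1)) ≤ F b := hF (le_max_left _ _)
    rw [hb, h1] at h2
    exact le_bot_iff.mp h2
  have htop : F p₀ = ⊤ := by
    refine top_le_iff.mp (hexh.2 ?_)
    rintro _ ⟨k, rfl⟩
    rcases le_or_gt k p₀ with hk | hk
    · have hn : k = p₀ - ((p₀ - k).toNat : ℤ) := by
        rw [Int.toNat_of_nonneg (by omega)]; omega
      rw [hn, hdown]
    · rw [hup k hk, hbot]; exact bot_le
  exact nonempty_iso_grPiece_of_bot_top F hF p₀ hbot htop

end Groth.Agent.H42
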