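import Mathlib.AlgebraicGeometry.AffineScheme
import Mathlib.AlgebraicGeometry.Restrict
import Mathlib.AlgebraicGeometry.OpenImmersion
import Mathlib.RingTheory.AdicCompletion.RingHom
import Mathlib.RingTheory.Spectrum.Prime.Topology
import Mathlib.RingTheory.Spectrum.Prime.RingHom
import Mathlib.RingTheory.LocalRing.MaximalIdeal.Basic

set_option autoImplicit false
universe u
open CategoryTheory AlgebraicGeometry

namespace Groth.Agent.H42

variable (A : Type u) [CommRing A] [IsLocalRing A]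


/-- The closed immersion `Spec A/(IsLocalRing.maximalIdeal A)ⁿ ⟶ Spec A`. -/
noncomputable abbrev iN (n : ℕ) : Spec (CommRingCat.of (A ⧸ (IsLocalRing.maximalIdeal A) ^ n)) ⟶ Spec (CommRingCat.of A) :=
  Spec.map (CommRingCat.ofHom (Ideal.Quotient.mk ((IsLocalRing.maximalIdeal A) ^ n)))

/-- Every point of `Spec A/(IsLocalRing.maximalIdeal A)ⁿ` lies over the closed point. -/
theorem iN_base_eq (n : ℕ) (p : Spec (CommRingCat.of (A ⧸ (IsLocalRing.maximalIdeal A) ^ n))) :
    (iN A n).base p = IsLocalRing.closedPoint A := by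
  apply PrimeSpectrum.ext
  change Ideal.comap (Ideal.Quotient.mk ((IsLocalRing.maximalIdeal A) ^ n)) p.asIdeal = (IsLocalRing.maximalIdeal A)
  have hp := p.isPrime
  have hprime : (Ideal.comap (Ideal.Quotient.mk ((IsLocalRing.maximalIdeal A) ^ n)) p.asIdeal).IsPrime := inferInstance
  have hle : (IsLocalRing.maximalIdeal A) ^ n ≤ Ideal.comap (Ideal.Quotient.mk ((IsLocalRing.maximalIdeal A) ^ n)) p.asIdeal := by
    intro a ha
    rw [Ideal.mem_comap, Ideal.Quotient.eq_zero_iff_mem.2 ha]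
    exact p.asIdeal.zero_mem
  have hle' : (IsLocalRing.maximalIdeal A) ≤ Ideal.comap (Ideal.Quotient.mk ((IsLocalRing.maximalIdeal A) ^ n)) p.asIdeal :=
    Ideal.IsPrime.le_of_pow_le hle
  exact ((IsLocalRing.maximalIdeal.isMaximal A).eq_of_le hprime.ne_top hle').symm

theorem exists_point_one : Nonempty (Spec (CommRingCat.of (A ⧸ (IsLocalRing.maximalIdeal A) ^ 1))) := by
  have : Nontrivial (A ⧸ (IsLocalRing.maximalIdeal A) ^ 1) := by
    rw [pow_one]
    exact Ideal.Quotient.nontrivial_iff.2 (IsLocalRing.maximalIdeal.isMaximal A).ne_top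
  exact (inferInstance : Nonempty (PrimeSpectrum (A ⧸ (IsLocalRing.maximalIdeal A) ^ 1)))

/-- A morphism from `Spec A` whose value at the closed point lies in an open `U` factors
through `U`. -/
theorem range_subset_of_closedPoint_mem {X : Scheme.{u}} (f : Spec (CommRingCat.of A) ⟶ X)
    (U : X.Opens) (hU : f.base (IsLocalRing.closedPoint A) ∈ U) :
    Set.range f.base ⊆ Set.range U.ι.base := by
  rw [Scheme.Opens.range_ι]
  rintro _ ⟨y, rfl⟩
  have h1 : IsLocalRing.closedPoint A ∈ f ⁻¹ᵁ U := hU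
  have h2 : f ⁻¹ᵁ U = ⊤ := (IsLocalRing.closedPoint_mem_iff (R := A) (f ⁻¹ᵁ U)).1 h1
  have : y ∈ f ⁻¹ᵁ U := by rw [h2]; trivial
  exact this


section Complete

variable [IsAdicComplete (IsLocalRing.maximalIdeal A) A]

theorem hom_ext_of_iN {X : Scheme.{u}} (f g : Spec (CommRingCat.of A) ⟶ X)
    (h : ∀ n, iN A n ≫ f = iN A n ≫ g) : f = g := by
  obtain ⟨p₁⟩ := exists_point_one A
  have hc : (iN A 1).base p₁ = IsLocalRing.closedPoint A := iN_base_eq A 1 p₁
  have hgx : g.base (IsLocalRing.closedPoint A) = f.base (IsLocalRing.closedPoint A) := by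
    rw [← hc, ← Scheme.Hom.comp_apply, ← Scheme.Hom.comp_apply, h 1]
  obtain ⟨U, hU, hxU, -⟩ := exists_isAffineOpen_mem_and_subset
    (x := f.base (IsLocalRing.closedPoint A)) (U := ⊤) trivial
  have hrf := range_subset_of_closedPoint_mem A f U hxU
  have hrg := range_subset_of_closedPoint_mem A g U (by rw [hgx]; exact hxU)
  have hf' : IsOpenImmersion.lift U.ι f hrf ≫ U.ι = f := IsOpenImmersion.lift_fac _ _ _
  have hg' : IsOpenImmersion.lift U.ι g hrg ≫ U.ι = g := IsOpenImmersion.lift_fac _ _ _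
  set f' := IsOpenImmersion.lift U.ι f hrf
  set g' := IsOpenImmersion.lift U.ι g hrg
  let e : (U : Scheme) ≅ Spec Γ(X, U) := hU.isoSpec
  obtain ⟨φ, hφ⟩ : ∃ φ : Γ(X, U) ⟶ CommRingCat.of A, Spec.map φ = f' ≫ e.hom :=
    ⟨Spec.preimage _, Spec.map_preimage _⟩
  obtain ⟨γ, hγ⟩ : ∃ γ : Γ(X, U) ⟶ CommRingCat.of A, Spec.map γ = g' ≫ e.hom :=
    ⟨Spec.preimage _, Spec.map_preimage _⟩
  have hn : ∀ n, φ ≫ CommRingCat.ofHom (Ideal.Quotient.mk ((IsLocalRing.maximalIdeal A) ^ n)) =
      γ ≫ CommRingCat.ofHom (Ideal.Quotient.mk ((IsLocalRing.maximalIdeal A) ^ n)) := by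
    intro n
    apply Spec.map_injective
    rw [Spec.map_comp, Spec.map_comp, hφ, hγ]
    have : iN A n ≫ f' = iN A n ≫ g' := by
      rw [← cancel_mono U.ι, Category.assoc, Category.assoc, hf', hg', h n]
    rw [← Category.assoc, this, Category.assoc]
  have hφγ : φ = γ := by
    ext a
    have : φ.hom a - γ.hom a = 0 := by
      apply IsHausdorff.haus (inferInstance : IsHausdorff (IsLocalRing.maximalIdeal A) A)
      intro n
      rw [SModEq.zero, smul_eq_mul, Ideal.mul_top]
      have := congrArg (fun m => m.hom a) (hn n)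
      simp only [CommRingCat.hom_comp, CommRingCat.hom_ofHom, RingHom.comp_apply] at this
      exact (Ideal.Quotient.eq).1 this
    exact sub_eq_zero.1 this
  have : f' = g' := by rw [← cancel_mono e.hom, ← hφ, ← hγ, hφγ]
  rw [← hf', ← hg', this]


theorem compat_general {X : Scheme.{u}}
    (u : (n : ℕ) → (Spec (CommRingCat.of (A ⧸ (IsLocalRing.maximalIdeal A) ^ n)) ⟶ X))
    (hu : ∀ n : ℕ, (Spec.map (CommRingCat.ofHom (Ideal.Quotient.factor
          (Ideal.pow_le_pow_right (I := (IsLocalRing.maximalIdeal A)) (Nat.le_succ n))))) ≫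
            u (n + 1) = u n)
    (k n : ℕ) (hkn : k ≤ n) :
    Spec.map (CommRingCat.ofHom (Ideal.Quotient.factor
      (Ideal.pow_le_pow_right (I := (IsLocalRing.maximalIdeal A)) hkn))) ≫ u n = u k := by
  induction n, hkn using Nat.le_induction with
  | base =>
    have : Ideal.Quotient.factor (Ideal.pow_le_pow_right (I := (IsLocalRing.maximalIdeal A))
        (le_refl k)) = RingHom.id _ := by
      ext a; simp
    rw [this, CommRingCat.ofHom_id, Spec.map_id, Category.id_comp]
  | succ n hkn ih =>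
    have : Ideal.Quotient.factor (Ideal.pow_le_pow_right (I := (IsLocalRing.maximalIdeal A))
        (Nat.le_succ_of_le hkn)) =
        (Ideal.Quotient.factor (Ideal.pow_le_pow_right (I := (IsLocalRing.maximalIdeal A)) hkn)).comp
          (Ideal.Quotient.factor (Ideal.pow_le_pow_right (I := (IsLocalRing.maximalIdeal A))
            (Nat.le_succ n))) := by
      ext a; simp
    rw [this, CommRingCat.ofHom_comp, Spec.map_comp, Category.assoc, hu n, ih]


theorem exists_lift_of_compat {X : Scheme.{u}}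
    (u : (n : ℕ) → (Spec (CommRingCat.of (A ⧸ (IsLocalRing.maximalIdeal A) ^ n)) ⟶ X))
    (hu : ∀ n : ℕ, (Spec.map (CommRingCat.ofHom (Ideal.Quotient.factor
          (Ideal.pow_le_pow_right (I := (IsLocalRing.maximalIdeal A)) (Nat.le_succ n))))) ≫
            u (n + 1) = u n) :
    ∃ f : Spec (CommRingCat.of A) ⟶ X, ∀ n, iN A n ≫ f = u n := by
  obtain ⟨p₁⟩ := exists_point_one A
  obtain ⟨U, hU, hxU, -⟩ := exists_isAffineOpen_mem_and_subset
    (x := (u 1).base p₁) (U := ⊤) trivial
  -- every `u n` lands in `U`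
  have hr : ∀ n, Set.range (u n).base ⊆ Set.range U.ι.base := by
    intro n
    rw [Scheme.Opens.range_ι]
    rintro _ ⟨p, rfl⟩
    have hn : 1 ≤ n := by
      by_contra hn0
      have hn0' : n = 0 := by omega
      subst hn0'
      have hp := p.isPrime
      apply hp.ne_top
      rw [Ideal.eq_top_iff_one]
      have : (1 : A ⧸ (IsLocalRing.maximalIdeal A) ^ 0) = 0 := by
        rw [← map_one (Ideal.Quotient.mk _), Ideal.Quotient.eq_zero_iff_mem, pow_zero,
          Ideal.one_eq_top]
        trivial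
      rw [this]; exact p.asIdeal.zero_mem
    let T : Spec (CommRingCat.of (A ⧸ (IsLocalRing.maximalIdeal A) ^ 1)) ⟶
        Spec (CommRingCat.of (A ⧸ (IsLocalRing.maximalIdeal A) ^ n)) :=
      Spec.map (CommRingCat.ofHom (Ideal.Quotient.factor
        (Ideal.pow_le_pow_right (I := (IsLocalRing.maximalIdeal A)) hn)))
    have hTi : T ≫ iN A n = iN A 1 := by
      rw [← Spec.map_comp, ← CommRingCat.ofHom_comp]
      congr 2
    have hTp : T.base p₁ = p := by
      have hinj : Function.Injective (iN A n).base :=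
        PrimeSpectrum.comap_injective_of_surjective _ Ideal.Quotient.mk_surjective
      apply hinj
      rw [iN_base_eq A n p, ← Scheme.Hom.comp_apply, hTi, iN_base_eq A 1 p₁]
    have : (u n).base p = (u 1).base p₁ := by
      rw [← hTp, ← Scheme.Hom.comp_apply, compat_general A u hu 1 n hn]
    rw [this]; exact hxU
  let e : (U : Scheme) ≅ Spec Γ(X, U) := hU.isoSpec
  let u' : (n : ℕ) → (Spec (CommRingCat.of (A ⧸ (IsLocalRing.maximalIdeal A) ^ n)) ⟶ (U : Scheme)) :=
    fun n => IsOpenImmersion.lift U.ι (u n) (hr n)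
  have hu' : ∀ n, u' n ≫ U.ι = u n := fun n => IsOpenImmersion.lift_fac _ _ _
  let ψ : (n : ℕ) → (Γ(X, U) ⟶ CommRingCat.of (A ⧸ (IsLocalRing.maximalIdeal A) ^ n)) :=
    fun n => Spec.preimage (u' n ≫ e.hom)
  have hψ : ∀ n, Spec.map (ψ n) = u' n ≫ e.hom := fun n => Spec.map_preimage _
  have hcompat : ∀ n, ψ (n + 1) ≫ CommRingCat.ofHom (Ideal.Quotient.factor
      (Ideal.pow_le_pow_right (I := (IsLocalRing.maximalIdeal A)) (Nat.le_succ n))) = ψ n := by
    intro n
    apply Spec.map_injective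
    rw [Spec.map_comp, hψ, hψ, ← Category.assoc]
    congr 1
    rw [← cancel_mono U.ι, Category.assoc, hu', hu', hu n]
  let Ψ : Γ(X, U) →+* A :=
    IsAdicComplete.StrictMono.liftRingHom (IsLocalRing.maximalIdeal A) strictMono_id
      (fun n => (ψ n).hom) (by
        intro k
        have := congrArg CommRingCat.Hom.hom (hcompat k)
        exact this)
  have hΨ : ∀ n, (Ideal.Quotient.mk ((IsLocalRing.maximalIdeal A) ^ n)).comp Ψ = (ψ n).hom := by
    intro n
    exact IsAdicComplete.StrictMono.mk_comp_liftRingHom (IsLocalRing.maximalIdeal A) strictMono_id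
      (fun n => (ψ n).hom) _
  refine ⟨Spec.map (CommRingCat.ofHom Ψ) ≫ e.inv ≫ U.ι, fun n => ?_⟩
  rw [← Category.assoc, iN, ← Spec.map_comp, ← CommRingCat.ofHom_comp, hΨ n, CommRingCat.ofHom_hom,
    hψ, Category.assoc, e.hom_inv_id_assoc, hu']

end Complete

end Groth.Agent.H42
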