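import Mathlib.RingTheory.Ideal.Operations
import Mathlib.RingTheory.Ideal.Maps
import Mathlib.RingTheory.Ideal.Quotient.Operations
import Mathlib.Tactic

set_option autoImplicit false

namespace Groth.Agent.H42

/-- An endomorphism of an `R`-algebra `A` that is the identity modulo `J A`, with `J² = 0`,
is bijective. -/
theorem bijective_of_sqZero {R A : Type*} [CommRing R] [CommRing A] (J : Ideal R)
    (hJ : J * J = ⊥) (ρ : R →+* A) (ψ : A →+* A) (hρ : ψ.comp ρ = ρ)
    (hψ : ∀ a, ψ a - a ∈ J.map ρ) : Function.Bijective ψ := by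
  have hII : J.map ρ * J.map ρ = ⊥ := by rw [← Ideal.map_mul, hJ, Ideal.map_bot]
  have hzero : ∀ x ∈ J.map ρ, ∀ y ∈ J.map ρ, x * y = 0 := by
    intro x hx y hy
    have : x * y ∈ J.map ρ * J.map ρ := Ideal.mul_mem_mul hx hy
    rw [hII] at this
    simpa using this
  have hfix : ∀ i ∈ J.map ρ, ψ i = i := by
    intro i hi
    change i ∈ Ideal.span (ρ '' J) at hi
    induction hi using Submodule.span_induction with
    | mem x hx =>
      obtain ⟨j, _, rfl⟩ := hx
      exact congrArg (fun f => f j) hρ
    | zero => exact map_zero ψ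
    | add x y _ _ hx hy => rw [map_add, hx, hy]
    | smul a x hx ih =>
      rw [smul_eq_mul, map_mul, ih]
      have h1 : (ψ a - a) * x = 0 := hzero _ (hψ a) _ hx
      linear_combination h1
  constructor
  · rw [injective_iff_map_eq_zero]
    intro a ha
    have h1 : a ∈ J.map ρ := by
      have := hψ a
      rw [ha, zero_sub] at this
      simpa using (J.map ρ).neg_mem this
    rw [← hfix a h1]; exact ha
  · intro a
    refine ⟨a - (ψ a - a), ?_⟩
    rw [map_sub, hfix _ (hψ a)]
    ring

end Groth.Agent.H42
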