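import Mathlib
import Groth.Prelude.Def_W4bk4git07Quot
import Groth.Agent.H40.ActPts

/-!
# The stabilizer group scheme of an action

For an action `a` of `G` on `X` (over `S`), the stabilizer `St a = (G × X) ×_{X × X} X` (pullback
of `Ψ = (σ, p₂)` along the diagonal) is a group object over `X`.
-/

set_option autoImplicit false
universe u
open CategoryTheory CategoryTheory.Limits MonoidalCategory CartesianMonoidalCategory MonObj GrpObj AlgebraicGeometry

namespace Groth.Agent.H42.Stab

open Groth.Agent.H40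

variable {S : Scheme.{u}} {G X : Over S} [GrpObj G] (a : AlgGrp.Action G X)

/-- stabilizer subgroup of a `T`-point `y` of `X` inside `G(T)` -/
def stab {T : Over S} (y : T ⟶ X) : Subgroup (T ⟶ G) where
  carrier := {g | psmul a g y = y}
  mul_mem' {g h} hg hh := by
    simp only [Set.mem_ofPred_eq] at *
    rw [mul_psmul, hh, hg]
  one_mem' := one_psmul a y
  inv_mem' {g} hg := by
    simp only [Set.mem_ofPred_eq] at *
    conv_lhs => rw [← hg]
    exact inv_psmul_psmul a g y

lemma mem_stab {T : Over S} (y : T ⟶ X) (g : T ⟶ G) : g ∈ stab a y ↔ psmul a g y = y := Iff.rfl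

lemma comp_mem_stab {T T' : Over S} (f : T' ⟶ T) {y : T ⟶ X} {g : T ⟶ G} (hg : g ∈ stab a y) :
    f ≫ g ∈ stab a (f ≫ y) := by
  rw [mem_stab, ← comp_psmul, (mem_stab a y g).1 hg]

/-- The stabilizer scheme. -/
noncomputable abbrev St : Scheme.{u} :=
  pullback (GIT.psi a (𝟙 X)).left (lift (𝟙 X) (𝟙 X)).left

/-- The projection of the stabilizer to `X`. -/
noncomputable abbrev p : St a ⟶ X.left :=
  pullback.snd (GIT.psi a (𝟙 X)).left (lift (𝟙 X) (𝟙 X)).left

/-- The inclusion of the stabilizer in `G × X`. -/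
noncomputable abbrev q : St a ⟶ (G ⊗ X).left :=
  pullback.fst (GIT.psi a (𝟙 X)).left (lift (𝟙 X) (𝟙 X)).left

lemma psi_fst : GIT.psi a (𝟙 X) ≫ fst X X = a.act := by
  simp [GIT.psi]

lemma psi_snd : GIT.psi a (𝟙 X) ≫ snd X X = snd G X := by
  simp [GIT.psi]

lemma q_act : q a ≫ a.act.left = p a := by
  have h := pullback.condition (f := (GIT.psi a (𝟙 X)).left) (g := (lift (𝟙 X) (𝟙 X)).left)
  have h2 := congrArg (· ≫ (fst X X).left) h
  simp only [Category.assoc, ← Over.comp_left, psi_fst, lift_fst, Over.id_left,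
    Category.comp_id] at h2
  exact h2

lemma q_snd : q a ≫ (snd G X).left = p a := by
  have h := pullback.condition (f := (GIT.psi a (𝟙 X)).left) (g := (lift (𝟙 X) (𝟙 X)).left)
  have h2 := congrArg (· ≫ (snd X X).left) h
  simp only [Category.assoc, ← Over.comp_left, psi_snd, lift_snd, Over.id_left,
    Category.comp_id] at h2
  exact h2

lemma lift_psi {T : Over S} {y : T ⟶ X} {g : T ⟶ G} (hg : g ∈ stab a y) :
    lift g y ≫ GIT.psi a (𝟙 X) = y ≫ lift (𝟙 X) (𝟙 X) := by
  apply CartesianMonoidalCategory.hom_ext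
  · rw [Category.assoc, psi_fst]
    rw [Category.assoc, lift_fst, Category.comp_id]
    exact hg
  · rw [Category.assoc, psi_snd]
    simp

lemma q_hom : q a ≫ (G ⊗ X).hom = p a ≫ X.hom := by
  rw [← Over.w (snd G X), ← Category.assoc, q_snd]

/-- a point of the stabilizer scheme as a point of `G ⊗ X` -/
noncomputable def gxOf {T : Over S} (y : T ⟶ X) (s : T.left ⟶ St a) (hs : s ≫ p a = y.left) :
    T ⟶ G ⊗ X :=
  Over.homMk (s ≫ q a) (by rw [Category.assoc, q_hom, ← Category.assoc, hs, Over.w y])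

lemma gxOf_snd {T : Over S} (y : T ⟶ X) (s : T.left ⟶ St a) (hs : s ≫ p a = y.left) :
    gxOf a y s hs ≫ snd G X = y := by
  ext
  simp only [gxOf, Over.comp_left, Over.homMk_left, Category.assoc, q_snd, hs]

lemma gxOf_act {T : Over S} (y : T ⟶ X) (s : T.left ⟶ St a) (hs : s ≫ p a = y.left) :
    gxOf a y s hs ≫ a.act = y := by
  ext
  simp only [gxOf, Over.comp_left, Over.homMk_left, Category.assoc, q_act, hs]

lemma gxOf_eq {T : Over S} (y : T ⟶ X) (s : T.left ⟶ St a) (hs : s ≫ p a = y.left) :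
    gxOf a y s hs = lift (gxOf a y s hs ≫ fst G X) y := by
  apply CartesianMonoidalCategory.hom_ext
  · rw [lift_fst]
  · rw [lift_snd, gxOf_snd]

lemma gxOf_fst_mem {T : Over S} (y : T ⟶ X) (s : T.left ⟶ St a) (hs : s ≫ p a = y.left) :
    gxOf a y s hs ≫ fst G X ∈ stab a y := by
  rw [mem_stab, psmul_def, ← gxOf_eq, gxOf_act]

/-- the stabilizer point attached to an element of the stabilizer subgroup -/
noncomputable def sOf {T : Over S} (y : T ⟶ X) (g : T ⟶ G) (hg : g ∈ stab a y) : T.left ⟶ St a :=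
  pullback.lift (lift g y).left y.left (by
    rw [← Over.comp_left, ← Over.comp_left, lift_psi a hg])

lemma sOf_p {T : Over S} (y : T ⟶ X) (g : T ⟶ G) (hg : g ∈ stab a y) :
    sOf a y g hg ≫ p a = y.left := pullback.lift_snd _ _ _

lemma sOf_q {T : Over S} (y : T ⟶ X) (g : T ⟶ G) (hg : g ∈ stab a y) :
    sOf a y g hg ≫ q a = (lift g y).left := pullback.lift_fst _ _ _

/-- `T`-points of the stabilizer scheme over a `T`-point `y` of `X` = stabilizer subgroup of `y`. -/
noncomputable def ptEquiv {T : Over S} (y : T ⟶ X) :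
    {s : T.left ⟶ St a // s ≫ p a = y.left} ≃ stab a y where
  toFun s := ⟨gxOf a y s.1 s.2 ≫ fst G X, gxOf_fst_mem a y s.1 s.2⟩
  invFun g := ⟨sOf a y g.1 g.2, sOf_p a y g.1 g.2⟩
  left_inv s := by
    apply Subtype.ext
    apply pullback.hom_ext
    · change sOf a y _ (gxOf_fst_mem a y s.1 s.2) ≫ q a = s.1 ≫ q a
      rw [sOf_q, ← gxOf_eq]
      rfl
    · change sOf a y _ (gxOf_fst_mem a y s.1 s.2) ≫ p a = s.1 ≫ p a
      rw [sOf_p, s.2]
  right_inv g := by
    apply Subtype.ext
    change gxOf a y (sOf a y g.1 g.2) _ ≫ fst G X = g.1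
    have : gxOf a y (sOf a y g.1 g.2) (sOf_p a y g.1 g.2) = lift g.1 y := by
      apply Over.OverMorphism.ext
      simp only [gxOf, Over.homMk_left, sOf_q]
    rw [this, lift_fst]

lemma ptEquiv_comp {T T' : Over S} (f : T' ⟶ T) (y : T ⟶ X)
    (s : T.left ⟶ St a) (hs : s ≫ p a = y.left) :
    ((ptEquiv a (f ≫ y)) ⟨f.left ≫ s, by rw [Category.assoc, hs, Over.comp_left]⟩).1 =
      f ≫ ((ptEquiv a y) ⟨s, hs⟩).1 := by
  change gxOf a (f ≫ y) (f.left ≫ s) _ ≫ fst G X = f ≫ gxOf a y s hs ≫ fst G X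
  have : gxOf a (f ≫ y) (f.left ≫ s) (by rw [Category.assoc, hs, Over.comp_left]) =
      f ≫ gxOf a y s hs := by
    apply Over.OverMorphism.ext
    simp only [gxOf, Over.comp_left, Over.homMk_left, Category.assoc]
  rw [this, Category.assoc]

lemma ptEquiv_comp' {T T' : Over S} (f : T' ⟶ T) (y : T ⟶ X) (y' : T' ⟶ X) (hy : f ≫ y = y')
    (s : T.left ⟶ St a) (hs : s ≫ p a = y.left) (hs' : (f.left ≫ s) ≫ p a = y'.left) :
    ((ptEquiv a y') ⟨f.left ≫ s, hs'⟩).1 = f ≫ ((ptEquiv a y) ⟨s, hs⟩).1 := by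
  subst hy
  exact ptEquiv_comp a f y s hs

section Grp

/-- the tautological `X`-point of an `X`-scheme viewed as an `S`-scheme -/
def yOf (T₀ : Over X.left) : (Over.map X.hom).obj T₀ ⟶ X := Over.homMk T₀.hom

@[simp] lemma yOf_left (T₀ : Over X.left) : (yOf T₀).left = T₀.hom := rfl

lemma map_yOf {T₀ T₁ : Over X.left} (f : T₁ ⟶ T₀) :
    (Over.map X.hom).map f ≫ yOf T₀ = yOf T₁ := by
  apply Over.OverMorphism.ext
  simp [yOf]

/-- the stabilizer functor on `X`-schemes -/
noncomputable def stabFunctor : (Over X.left)ᵒᵖ ⥤ GrpCat.{u} where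
  obj T₀ := GrpCat.of (stab a (yOf T₀.unop))
  map {T₀ T₁} f := GrpCat.ofHom
    { toFun := fun g => ⟨(Over.map X.hom).map f.unop ≫ g.1, by
          have := comp_mem_stab a ((Over.map X.hom).map f.unop) g.2
          rwa [map_yOf] at this⟩
      map_one' := Subtype.ext (MonObj.comp_one _)
      map_mul' := fun g h => Subtype.ext (MonObj.comp_mul _ _ _) }
  map_id T₀ := by
    ext g
    simp
  map_comp f g := by
    ext h
    simp

/-- the stabilizer scheme represents the stabilizer functor -/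
noncomputable def repr : (stabFunctor a ⋙ forget _).RepresentableBy (Over.mk (p a)) where
  homEquiv {T₀} :=
    { toFun := fun s => ptEquiv a (yOf T₀) ⟨s.left, Over.w s⟩
      invFun := fun g => Over.homMk ((ptEquiv a (yOf T₀)).symm g).1 ((ptEquiv a (yOf T₀)).symm g).2
      left_inv := fun s => by
        apply Over.OverMorphism.ext
        change ((ptEquiv a (yOf T₀)).symm ((ptEquiv a (yOf T₀)) ⟨s.left, Over.w s⟩)).1 = s.left
        rw [Equiv.symm_apply_apply]
      right_inv := fun g => by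
        change (ptEquiv a (yOf T₀)) ⟨((ptEquiv a (yOf T₀)).symm g).1, _⟩ = g
        exact (ptEquiv a (yOf T₀)).apply_symm_apply g }
  homEquiv_comp {T₁ T₀} f s := by
    apply Subtype.ext
    exact ptEquiv_comp' a ((Over.map X.hom).map f) (yOf T₀) (yOf T₁) (map_yOf f) s.left (Over.w s) _

/-- the stabilizer is a group scheme over `X` -/
noncomputable instance grpObj : GrpObj (Over.mk (p a)) :=
  GrpObj.ofRepresentableBy _ (stabFunctor a) (repr a)

end Grp

end Groth.Agent.H42.Stab
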