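import Mathlib
import Groth.Agent.H42.Stab
import Groth.Agent.H42.CartierMain
import Groth.Agent.H25.MonoFibre

/-!
# Free actions: set-theoretically free iff geometrically free
-/

set_option autoImplicit false
set_option linter.style.haveILetI false
universe u
open CategoryTheory CategoryTheory.Limits MonoidalCategory CartesianMonoidalCategory MonObj GrpObj AlgebraicGeometry

namespace Groth.Agent.H42.Stab

section General

lemma bc_snd {P : MorphismProperty Scheme.{u}} [P.IsStableUnderBaseChange] {X Y Z : Scheme.{u}}
    (f : X ⟶ Z) (g : Y ⟶ Z) (h : P f) : P (pullback.snd f g) :=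
  MorphismProperty.IsStableUnderBaseChange.of_isPullback (IsPullback.of_hasPullback f g) h

lemma bc_fst {P : MorphismProperty Scheme.{u}} [P.IsStableUnderBaseChange] {X Y Z : Scheme.{u}}
    (f : X ⟶ Z) (g : Y ⟶ Z) (h : P g) : P (pullback.fst f g) :=
  MorphismProperty.IsStableUnderBaseChange.of_isPullback (IsPullback.of_hasPullback f g).flip h

/-- a scheme locally of finite type and formally unramified over a field is reduced -/
lemma isReduced_of_formallyUnramified {K : Type u} [Field K] {F : Scheme.{u}}
    (f : F ⟶ Spec (CommRingCat.of K)) [FormallyUnramified f] [LocallyOfFiniteType f] :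
    AlgebraicGeometry.IsReduced F := by
  haveI : ∀ i, AlgebraicGeometry.IsReduced (F.affineOpenCover.openCover.X i) := by
    intro i
    haveI : IsOpenImmersion (F.affineOpenCover.f i) := F.affineOpenCover.map_prop i
    obtain ⟨φ, hφ⟩ := Spec.map_surjective (F.affineOpenCover.f i ≫ f)
    have h1 : FormallyUnramified (Spec.map φ) := by
      rw [hφ]
      exact MorphismProperty.comp_mem _ _ _ inferInstance inferInstance
    have h2 : LocallyOfFiniteType (Spec.map φ) := by rw [hφ]; infer_instance
    rw [HasRingHomProperty.Spec_iff (P := @FormallyUnramified)] at h1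
    rw [HasRingHomProperty.Spec_iff (P := @LocallyOfFiniteType)] at h2
    algebraize [φ.hom]
    haveI : Algebra.EssFiniteType K (F.affineOpenCover.X i) := inferInstance
    haveI : _root_.IsReduced (F.affineOpenCover.X i) :=
      Algebra.FormallyUnramified.isReduced_of_field K _
    change AlgebraicGeometry.IsReduced (Spec (F.affineOpenCover.X i))
    infer_instance
  exact IsReduced.of_openCover _ F.affineOpenCover.openCover

/-- a reduced separated scheme over a field with a rational point and injective structure map is
the spectrum of the field -/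
lemma isIso_of_section {K : Type u} [Field K] {F : Scheme.{u}}
    (f : F ⟶ Spec (CommRingCat.of K)) [AlgebraicGeometry.IsReduced F] [IsSeparated f]
    (hinj : Function.Injective f) (σ : Spec (CommRingCat.of K) ⟶ F) (hσ : σ ≫ f = 𝟙 _) :
    IsIso f := by
  haveI : IsClosedImmersion (σ ≫ f) := by rw [hσ]; infer_instance
  haveI : IsClosedImmersion σ := IsClosedImmersion.of_comp σ f
  haveI : Surjective σ := by
    refine ⟨fun z => ?_⟩
    obtain ⟨pt⟩ : Nonempty (Spec (CommRingCat.of K)) := inferInstance
    refine ⟨pt, hinj ?_⟩
    exact Subsingleton.elim _ _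
  haveI : IsIso σ := isIso_of_isClosedImmersion_of_surjective σ
  have : f = inv σ := by
    rw [← cancel_epi σ, hσ, IsIso.hom_inv_id]
  rw [this]
  infer_instance

end General

section Main

variable {k : Type u} [Field k] {G X : Over (Spec (CommRingCat.of k))} [GrpObj G]
  (a : AlgGrp.Action G X)

/-- unit section of the stabilizer -/
noncomputable def e : X.left ⟶ St a := sOf a (𝟙 X) 1 (one_mem _)

lemma e_p : e a ≫ p a = 𝟙 X.left := by
  have := sOf_p a (𝟙 X) 1 (one_mem _)
  rwa [Over.id_left] at this

lemma e_q : e a ≫ q a = (lift (1 : X ⟶ G) (𝟙 X)).left := sOf_q a (𝟙 X) 1 (one_mem _)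

lemma lft_psi [LocallyOfFiniteType G.hom] [LocallyOfFiniteType X.hom] :
    LocallyOfFiniteType (GIT.psi a (𝟙 X)).left := by
  haveI : LocallyOfFiniteType ((GIT.psi a (𝟙 X)).left ≫ (X ⊗ X).hom) := by
    rw [Over.w, Over.tensorObj_hom]; infer_instance
  exact locallyOfFiniteType_of_comp _ (X ⊗ X).hom

lemma lft_p [LocallyOfFiniteType G.hom] [LocallyOfFiniteType X.hom] :
    LocallyOfFiniteType (p a) := by
  haveI := lft_psi a
  exact bc_snd _ _ inferInstance

lemma sep_p [IsAffine G.left] [IsSeparated X.hom] : IsSeparated (p a) := by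
  haveI : IsSeparated ((GIT.psi a (𝟙 X)).left ≫ (X ⊗ X).hom) := by
    rw [Over.w, Over.tensorObj_hom]; infer_instance
  haveI : IsSeparated (GIT.psi a (𝟙 X)).left := IsSeparated.of_comp _ (X ⊗ X).hom
  exact bc_snd _ _ inferInstance

lemma closedImm_q [IsSeparated X.hom] : IsClosedImmersion (q a) := by
  haveI : IsClosedImmersion (lift (𝟙 X) (𝟙 X)).left :=
    inferInstanceAs (IsClosedImmersion (pullback.diagonal X.hom))
  exact bc_fst _ _ inferInstance

lemma unram_p [IsSeparated X.hom] [Etale G.hom] : FormallyUnramified (p a) := by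
  haveI := closedImm_q a
  rw [← q_snd]
  haveI : Etale (snd G X).left := by
    rw [Over.snd_left]
    infer_instance
  exact MorphismProperty.comp_mem _ _ _ inferInstance inferInstance

theorem isIso_fibre_of_univInj [IsAffine G.left] [LocallyOfFiniteType G.hom]
    [LocallyOfFiniteType X.hom] [IsSeparated X.hom]
    (hG : CharZero k ∨ (IsFinite G.hom ∧ Etale G.hom)) [UniversallyInjective (p a)] (x : X.left) :
    IsIso ((p a).fiberToSpecResidueField x) := by
  let K : Type u := X.left.residueField x
  let y : Spec (CommRingCat.of K) ⟶ X.left := X.left.fromSpecResidueField x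
  let f : pullback (p a) y ⟶ Spec (CommRingCat.of K) := pullback.snd (p a) y
  change IsIso f
  haveI : LocallyOfFiniteType (p a) := lft_p a
  haveI : IsSeparated (p a) := sep_p a
  haveI : UniversallyInjective f := bc_snd _ _ inferInstance
  haveI : LocallyOfFiniteType f := bc_snd _ _ inferInstance
  haveI : IsSeparated f := bc_snd _ _ inferInstance
  haveI : AlgebraicGeometry.IsReduced (pullback (p a) y) := by
    rcases hG with h0 | ⟨hfin, het⟩
    · haveI : CharZero K := by
        let φ : CommRingCat.of k ⟶ CommRingCat.of K := Spec.preimage (y ≫ X.hom)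
        exact charZero_of_injective_ringHom (f := φ.hom) (RingHom.injective _)
      letI : GrpObj (Over.mk (p a)) := grpObj a
      letI : GrpObj (Over.mk f) := Over.grpObjMkPullbackSnd
      haveI : LocallyOfFiniteType (Over.mk f).hom :=
        inferInstanceAs (LocallyOfFiniteType (pullback.snd (p a) y))
      exact Cartier.isReduced_of_charZero (Over.mk f)
    · haveI : FormallyUnramified (p a) := unram_p a
      haveI : FormallyUnramified f := bc_snd _ _ inferInstance
      exact isReduced_of_formallyUnramified f
  exact isIso_of_section f (Scheme.Hom.injective f)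
    (pullback.lift (y ≫ e a) (𝟙 _)
      (by rw [Category.assoc, e_p, Category.comp_id, Category.id_comp]))
    (pullback.lift_snd _ _ _)

theorem mono_of_isIso_fibre [LocallyOfFiniteType G.hom] [LocallyOfFiniteType X.hom]
    (h : ∀ x : X.left, IsIso ((p a).fiberToSpecResidueField x)) : Mono (p a) := by
  haveI : LocallyOfFiniteType (p a) := lft_p a
  exact Groth.Agent.H25.MonoFibre.mono_of_fibres (p a) (fun x => by haveI := h x; infer_instance)

theorem isIso_of_isIso_fibre [LocallyOfFiniteType G.hom] [LocallyOfFiniteType X.hom]
    (h : ∀ x : X.left, IsIso ((p a).fiberToSpecResidueField x)) : IsIso (p a) := by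
  haveI := mono_of_isIso_fibre a h
  refine ⟨e a, ?_, e_p a⟩
  rw [← cancel_mono (p a), Category.assoc, e_p, Category.comp_id, Category.id_comp]

end Main

end Groth.Agent.H42.Stab
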