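import Mathlib
import Groth.Agent.H42.StabFree

/-!
# If the stabilizer is trivial then `Ψ = (σ, p₂)` is a monomorphism
-/

set_option autoImplicit false
set_option linter.style.haveILetI false
universe u
open CategoryTheory CategoryTheory.Limits MonoidalCategory CartesianMonoidalCategory MonObj GrpObj AlgebraicGeometry

namespace Groth.Agent.H42.Stab

open Groth.Agent.H40

variable {S : Scheme.{u}} {G X : Over S} [GrpObj G] (a : AlgGrp.Action G X)

theorem stab_eq_bot_of_mono [Mono (p a)] {T : Over S} (y : T ⟶ X) (w : T ⟶ G)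
    (hw : w ∈ stab a y) : w = 1 := by
  haveI hsub : Subsingleton {s : T.left ⟶ St a // s ≫ p a = y.left} :=
    ⟨fun s s' => Subtype.ext (by rw [← cancel_mono (p a), s.2, s'.2])⟩
  haveI : Subsingleton (stab a y) := (ptEquiv a y).symm.subsingleton
  exact congrArg Subtype.val (Subsingleton.elim (⟨w, hw⟩ : stab a y) ⟨1, one_mem _⟩)

theorem mono_psi [Mono (p a)] : Mono (GIT.psi a (𝟙 X)) := by
  constructor
  intro T u v huv
  have hsnd : u ≫ snd G X = v ≫ snd G X := by
    have := congrArg (· ≫ snd X X) huv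
    simpa only [Category.assoc, psi_snd] using this
  have hact : u ≫ a.act = v ≫ a.act := by
    have := congrArg (· ≫ fst X X) huv
    simpa only [Category.assoc, psi_fst] using this
  have hu : u = lift (u ≫ fst G X) (u ≫ snd G X) := by
    apply CartesianMonoidalCategory.hom_ext <;> simp
  have hv : v = lift (v ≫ fst G X) (u ≫ snd G X) := by
    rw [hsnd]
    apply CartesianMonoidalCategory.hom_ext <;> simp
  have h1 : psmul a (u ≫ fst G X) (u ≫ snd G X) = psmul a (v ≫ fst G X) (u ≫ snd G X) := by
    rw [psmul_def, psmul_def, ← hu, ← hv, hact]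
  have hw : (v ≫ fst G X)⁻¹ * (u ≫ fst G X) ∈ stab a (u ≫ snd G X) := by
    rw [mem_stab, mul_psmul, h1, inv_psmul_psmul]
  have h2 := stab_eq_bot_of_mono a _ _ hw
  rw [inv_mul_eq_one] at h2
  rw [hu, hv, h2]

theorem mono_psi_left [Mono (p a)] : Mono (GIT.psi a (𝟙 X)).left := by
  haveI := mono_psi a
  infer_instance

end Groth.Agent.H42.Stab
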