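import Groth.Agent.H42.EpiSpec
import Groth.Prelude.Def_LieS
import Mathlib.AlgebraicGeometry.Limits

set_option autoImplicit false
universe u
open CategoryTheory AlgebraicGeometry
open LieS

namespace Groth.Agent.H42

section Ring

variable (B : Type u) [CommRing B]

/-- `B[ε₁, ε₂]/(ε₁, ε₂)²`. -/
abbrev T2 : Type u := TrivSqZeroExt B (B × B)

variable {B}
variable {C : Type u} [CommRing C]

/-- The ring hom `B[ε₁,ε₂]/(ε₁,ε₂)² → C` given by `h : B → C` and two elements with all products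
zero. -/
def t2Hom (h : B →+* C) (c₁ c₂ : C) (h11 : c₁ * c₁ = 0) (h12 : c₁ * c₂ = 0) (h22 : c₂ * c₂ = 0) :
    T2 B →+* C where
  toFun x := h x.fst + h x.snd.1 * c₁ + h x.snd.2 * c₂
  map_one' := by simp
  map_zero' := by simp
  map_add' x y := by
    simp only [TrivSqZeroExt.fst_add, TrivSqZeroExt.snd_add, Prod.fst_add, Prod.snd_add, map_add]
    ring
  map_mul' x y := by
    simp only [TrivSqZeroExt.fst_mul, TrivSqZeroExt.snd_mul, Prod.fst_add, Prod.snd_add,
      Prod.smul_fst, Prod.smul_snd, smul_eq_mul, MulOpposite.smul_eq_mul_unop,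
      MulOpposite.unop_op, map_add, map_mul]
    linear_combination (-(h x.snd.1 * h y.snd.1)) * h11 -
      (h x.snd.1 * h y.snd.2 + h x.snd.2 * h y.snd.1) * h12 - (h x.snd.2 * h y.snd.2) * h22

@[simp] theorem t2Hom_apply (h : B →+* C) (c₁ c₂ : C) (h11 : c₁ * c₁ = 0) (h12 : c₁ * c₂ = 0)
    (h22 : c₂ * c₂ = 0) (x : T2 B) :
    t2Hom h c₁ c₂ h11 h12 h22 x = h x.fst + h x.snd.1 * c₁ + h x.snd.2 * c₂ := rfl

variable (B)

/-- `ε₁`. -/
def e1 : T2 B := TrivSqZeroExt.inr (1, 0)
/-- `ε₂`. -/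
def e2 : T2 B := TrivSqZeroExt.inr (0, 1)

theorem e1_e1 : e1 B * e1 B = 0 := by simp [e1]
theorem e2_e2 : e2 B * e2 B = 0 := by simp [e2]
theorem e1_e2 : e1 B * e2 B = 0 := by simp [e1, e2]
theorem e12_sq : (e1 B + e2 B) * (e1 B + e2 B) = 0 := by simp [e1, e2, mul_add, add_mul]

/-- `ε ↦ ε₁`. -/
def inc1 : DualNumber B →+* T2 B := dualHom (algebraMap B (T2 B)) (e1 B) (e1_e1 B)
/-- `ε ↦ ε₂`. -/
def inc2 : DualNumber B →+* T2 B := dualHom (algebraMap B (T2 B)) (e2 B) (e2_e2 B)
/-- `ε ↦ ε₁ + ε₂`. -/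
def incS : DualNumber B →+* T2 B := dualHom (algebraMap B (T2 B)) (e1 B + e2 B) (e12_sq B)

/-- `ε₁ ↦ ε, ε₂ ↦ 0`. -/
def ret1 : T2 B →+* DualNumber B :=
  t2Hom (algebraMap B (DualNumber B)) DualNumber.eps 0 (eps_sq B) (by simp) (by simp)
/-- `ε₁ ↦ 0, ε₂ ↦ ε`. -/
def ret2 : T2 B →+* DualNumber B :=
  t2Hom (algebraMap B (DualNumber B)) 0 DualNumber.eps (by simp) (by simp) (eps_sq B)

variable {B} in
/-- `ε₁ ↦ aε, ε₂ ↦ bε`. -/
def tau (a b : B) : T2 B →+* DualNumber B :=
  t2Hom (algebraMap B (DualNumber B)) (algebraMap B (DualNumber B) a * DualNumber.eps)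
    (algebraMap B (DualNumber B) b * DualNumber.eps)
    (by rw [mul_mul_mul_comm, eps_sq, mul_zero]) (by rw [mul_mul_mul_comm, eps_sq, mul_zero])
    (by rw [mul_mul_mul_comm, eps_sq, mul_zero])

/-- the collapse `ε ↦ 0` as an endomorphism of `B[ε]`. -/
def collapse : DualNumber B →+* DualNumber B :=
  (algebraMap B (DualNumber B)).comp (TrivSqZeroExt.fstHom B B B).toRingHom

theorem inc1_comp_algebraMap : (inc1 B).comp (algebraMap B (DualNumber B)) = algebraMap B (T2 B) :=
  dualHom_comp_algebraMap _ _ _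
theorem inc2_comp_algebraMap : (inc2 B).comp (algebraMap B (DualNumber B)) = algebraMap B (T2 B) :=
  dualHom_comp_algebraMap _ _ _
theorem incS_comp_algebraMap : (incS B).comp (algebraMap B (DualNumber B)) = algebraMap B (T2 B) :=
  dualHom_comp_algebraMap _ _ _

theorem ret1_comp_algebraMap : (ret1 B).comp (algebraMap B (T2 B)) = algebraMap B (DualNumber B) :=
  RingHom.ext fun b => by simp [ret1, TrivSqZeroExt.algebraMap_eq_inl']
theorem ret2_comp_algebraMap : (ret2 B).comp (algebraMap B (T2 B)) = algebraMap B (DualNumber B) :=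
  RingHom.ext fun b => by simp [ret2, TrivSqZeroExt.algebraMap_eq_inl']
variable {B} in
theorem tau_comp_algebraMap (a b : B) :
    (tau a b).comp (algebraMap B (T2 B)) = algebraMap B (DualNumber B) :=
  RingHom.ext fun b => by simp [tau, TrivSqZeroExt.algebraMap_eq_inl']

theorem ret1_comp_inc1 : (ret1 B).comp (inc1 B) = RingHom.id _ := by
  refine RingHom.ext fun z => ?_
  ext <;> simp [ret1, inc1, e1, TrivSqZeroExt.algebraMap_eq_inl']
theorem ret2_comp_inc2 : (ret2 B).comp (inc2 B) = RingHom.id _ := by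
  refine RingHom.ext fun z => ?_
  ext <;> simp [ret2, inc2, e2, TrivSqZeroExt.algebraMap_eq_inl']
theorem ret1_comp_inc2 : (ret1 B).comp (inc2 B) = collapse B := by
  refine RingHom.ext fun z => ?_
  ext <;> simp [ret1, inc2, e2, collapse, TrivSqZeroExt.algebraMap_eq_inl']
theorem ret2_comp_inc1 : (ret2 B).comp (inc1 B) = collapse B := by
  refine RingHom.ext fun z => ?_
  ext <;> simp [ret2, inc1, e1, collapse, TrivSqZeroExt.algebraMap_eq_inl']
theorem ret1_comp_incS : (ret1 B).comp (incS B) = RingHom.id _ := by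
  refine RingHom.ext fun z => ?_
  ext <;> simp [ret1, incS, e1, e2, TrivSqZeroExt.algebraMap_eq_inl']
theorem ret2_comp_incS : (ret2 B).comp (incS B) = RingHom.id _ := by
  refine RingHom.ext fun z => ?_
  ext <;> simp [ret2, incS, e1, e2, TrivSqZeroExt.algebraMap_eq_inl']

variable {B} in
theorem tau_comp_inc1 (a b : B) : (tau a b).comp (inc1 B) = scaleHom a := by
  refine RingHom.ext fun z => ?_
  ext <;> simp [tau, inc1, e1, scaleHom, TrivSqZeroExt.algebraMap_eq_inl']
variable {B} in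
theorem tau_comp_inc2 (a b : B) : (tau a b).comp (inc2 B) = scaleHom b := by
  refine RingHom.ext fun z => ?_
  ext <;> simp [tau, inc2, e2, scaleHom, TrivSqZeroExt.algebraMap_eq_inl']
variable {B} in
theorem tau_comp_incS (a b : B) : (tau a b).comp (incS B) = scaleHom (a + b) := by
  refine RingHom.ext fun z => ?_
  ext <;> simp [tau, incS, e1, e2, scaleHom, TrivSqZeroExt.algebraMap_eq_inl', mul_add]

theorem scaleHom_zero : scaleHom (0 : B) = collapse B := by
  refine RingHom.ext fun z => ?_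
  ext <;> simp [scaleHom, collapse, TrivSqZeroExt.algebraMap_eq_inl']
theorem scaleHom_one : scaleHom (1 : B) = RingHom.id _ := by
  refine RingHom.ext fun z => ?_
  ext <;> simp [scaleHom, TrivSqZeroExt.algebraMap_eq_inl']

/-- `(ret1, ret2) : B[ε₁,ε₂] → B[ε] × B[ε]`. -/
def retP : T2 B →+* DualNumber B × DualNumber B := (ret1 B).prod (ret2 B)

theorem retP_injective : Function.Injective (retP B) := by
  intro x y h
  have h1 := congrArg Prod.fst h
  have h2 := congrArg Prod.snd h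
  have h10 := congrArg TrivSqZeroExt.fst h1
  have h11 := congrArg TrivSqZeroExt.snd h1
  have h21 := congrArg TrivSqZeroExt.snd h2
  simp [retP, ret1, ret2, TrivSqZeroExt.algebraMap_eq_inl'] at h10 h11 h21
  ext
  · exact h10
  · exact h11
  · exact h21

end Ring

end Groth.Agent.H42
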