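import Mathlib
import Groth.Prelude.Def_NonAbH2
import Groth.Prelude.Def_ActBC
import Groth.Agent.H40.Torsor

/-!
# The class of a torsor with a section is trivial (helper42)

For a torsor `P` (as a scheme with action, `NonAbH1.TorsorSch`) under an `S`-group scheme `G`:

* `cl_eq_one_of_section`: if `P` has a section over `S` then its class in `H¹(S, G)` is the base point
  (the orbit map of the section is an equivariant isomorphism `G ≅ P`);
* `hasSection_of_cl_eq_one`: conversely.
-/

set_option autoImplicit false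
universe u
open CategoryTheory Limits MonoidalCategory CartesianMonoidalCategory MonObj GrpObj AlgebraicGeometry

namespace Groth.Agent.H42.TorsorTriv

variable {S : Scheme.{u}} {G X : Over S} [GrpObj G]

/-- the orbit map of a point is equivariant. -/
theorem orbitMap_comm (a : AlgGrp.Action G X) (o : 𝟙_ (Over S) ⟶ X) :
    μ[G] ≫ a.orbitMap o = (G ◁ a.orbitMap o) ≫ a.act := by
  unfold AlgGrp.Action.orbitMap
  have h1 : μ[G] ≫ lift (𝟙 G) (toUnit G ≫ o) =
      lift (𝟙 (G ⊗ G)) (toUnit (G ⊗ G) ≫ o) ≫ (μ[G] ▷ X) := by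
    apply CartesianMonoidalCategory.hom_ext
    · simp
    · simp only [Category.assoc, lift_snd, whiskerRight_snd]
      rw [← Category.assoc]
      congr 1
      exact toUnit_unique _ _
  have h2 : lift (𝟙 (G ⊗ G)) (toUnit (G ⊗ G) ≫ o) ≫ (α_ G G X).hom =
      G ◁ lift (𝟙 G) (toUnit G ≫ o) := by
    apply CartesianMonoidalCategory.hom_ext
    · simp
    · apply CartesianMonoidalCategory.hom_ext
      · simp
      · simp only [Category.assoc, associator_hom_snd_snd, lift_snd, whiskerLeft_snd]
        rw [← Category.assoc]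
        congr 1
        exact toUnit_unique _ _
  rw [← Category.assoc, h1, Category.assoc, a.mul_act, ← Category.assoc, h2,
    MonoidalCategory.whiskerLeft_comp, Category.assoc]

/-- the orbit map of a point of a pseudo-torsor is an isomorphism. -/
theorem isIso_orbitMap (a : AlgGrp.Action G X) (h : NonAbH1.IsPseudoTorsorSch a)
    (o : 𝟙_ (Over S) ⟶ X) : IsIso (a.orbitMap o) := by
  have : IsIso (lift a.act (snd G X)) := h
  have hΨ : IsIso (lift ((G ◁ o) ≫ a.act) (snd G (𝟙_ (Over S)))) :=
    Groth.Agent.H40.isIso_twisted_shear a.act o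
  have heq : a.orbitMap o = (ρ_ G).inv ≫ lift ((G ◁ o) ≫ a.act) (snd G (𝟙_ (Over S))) ≫
      (ρ_ X).hom := by
    unfold AlgGrp.Action.orbitMap
    rw [CartesianMonoidalCategory.rightUnitor_hom, lift_fst, ← Category.assoc]
    congr 1
    apply CartesianMonoidalCategory.hom_ext
    · simp
    · simp
  rw [heq]
  infer_instance

theorem cl_eq_one_of_section (K : Precoverage Scheme.{u}) [K.HasIsos]
    (P : NonAbH1.TorsorSch G K) (σ : S ⟶ P.X.left) (hσ : σ ≫ P.X.hom = 𝟙 S) : P.cl = 1 := by
  let o : 𝟙_ (Over S) ⟶ P.X := Over.homMk σ (by simpa using hσ)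
  have hiso : IsIso (P.act.orbitMap o) := isIso_orbitMap P.act P.isTorsor.1 o
  refine (Quot.sound ⟨⟨asIso (P.act.orbitMap o), ?_⟩⟩).symm
  exact orbitMap_comm P.act o

theorem hasSection_of_cl_eq_one (K : Precoverage Scheme.{u}) [K.HasIsos]
    (P : NonAbH1.TorsorSch G K) (h : P.cl = 1) : NonAbH1.HasSectionOver P.X (𝟙 S) := by
  let Q : NonAbH1.TorsorSch G K → Prop := fun P => NonAbH1.HasSectionOver P.X (𝟙 S)
  have hr : ∀ A B : NonAbH1.TorsorSch G K, Nonempty (NonAbH1.EquivIso A.act B.act) → (Q A ↔ Q B) := by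
    rintro A B ⟨e⟩
    constructor
    · rintro ⟨s, hs⟩
      exact ⟨s ≫ e.iso.hom.left, by rw [Category.assoc, Over.w, hs]⟩
    · rintro ⟨s, hs⟩
      exact ⟨s ≫ e.iso.inv.left, by rw [Category.assoc, Over.w, hs]⟩
  have hgen : ∀ A B : NonAbH1.TorsorSch G K,
      Relation.EqvGen (fun P Q : NonAbH1.TorsorSch G K =>
        Nonempty (NonAbH1.EquivIso P.act Q.act)) A B → (Q A ↔ Q B) := by
    intro A B hAB
    induction hAB with
    | rel x y hxy => exact hr x y hxy
    | refl x => exact Iff.rfl
    | symm x y _ ih => exact ih.symm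
    | trans x y z _ _ ih1 ih2 => exact ih1.trans ih2
  have h' := Quot.eqvGen_exact h
  refine (hgen _ _ h').mpr ?_
  exact ⟨η[G].left, Over.w η[G]⟩

end Groth.Agent.H42.TorsorTriv
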