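import Mathlib
import Groth.Prelude.Def_Red2

/-!
# The intersection of two subgroups as a fibre of the multiplication map
-/

set_option autoImplicit false
set_option linter.style.haveILetI false
universe u v
open CategoryTheory CategoryTheory.Limits MonoidalCategory CartesianMonoidalCategory MonObj GrpObj

namespace Groth.Agent.H42.Transversal

variable {C : Type u} [Category.{v} C] [CartesianMonoidalCategory C]
  {G P Q I : C} [GrpObj G] [GrpObj P] [GrpObj Q]

/-- `P ∩ Q` is the fibre over the unit of `P × Q ⟶ G`, `(x, y) ↦ p(x) q(y)`, via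
`z ↦ (z, z⁻¹)`. -/
theorem isPullback_inter (p : P ⟶ G) (q : Q ⟶ G) [IsMonHom p] [IsMonHom q] (m : I ⟶ P) (m' : I ⟶ Q)
    (hI : IsPullback m m' p q) :
    IsPullback (lift m (m' ≫ ι[Q])) (toUnit I) ((p ⊗ₘ q) ≫ μ[G]) η[G] := by
  have key : ∀ {T : C} (a : T ⟶ P ⊗ Q), a ≫ (p ⊗ₘ q) ≫ μ[G] = (a ≫ fst P Q ≫ p) * (a ≫ snd P Q ≫ q) := by
    intro T a
    rw [Hom.mul_def, ← Category.assoc]
    congr 1
    ext
    · simp
    · simp
  refine ⟨⟨?_⟩, ⟨PullbackCone.IsLimit.mk _
    (fun s => hI.lift (s.fst ≫ fst P Q) ((s.fst ≫ snd P Q)⁻¹) ?_) ?_ ?_ ?_⟩⟩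
  · rw [key, lift_fst_assoc, lift_snd_assoc, ← Hom.inv_def, GrpObj.inv_comp,
      ← hI.w, mul_inv_cancel, Hom.one_def]
  · have h := s.condition
    rw [key, toUnit_unique s.snd (toUnit _), ← Hom.one_def] at h
    rw [GrpObj.inv_comp, eq_inv_iff_mul_eq_one]
    simpa only [Category.assoc] using h
  · intro s
    ext
    · rw [Category.assoc, lift_fst, hI.lift_fst]
    · rw [Category.assoc, lift_snd, ← Category.assoc, hI.lift_snd, ← Hom.inv_def, _root_.inv_inv]
  · intro s
    exact toUnit_unique _ _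
  · intro s x hx _
    apply hI.hom_ext
    · rw [hI.lift_fst, ← hx, Category.assoc, lift_fst]
    · rw [hI.lift_snd, ← hx, Category.assoc, lift_snd, ← Category.assoc, ← Hom.inv_def, _root_.inv_inv]

end Groth.Agent.H42.Transversal
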