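import Mathlib.LinearAlgebra.Matrix.NonsingularInverse
import Mathlib.LinearAlgebra.Matrix.Block
import Mathlib.LinearAlgebra.LinearIndependent.Defs
import Mathlib.LinearAlgebra.Finsupp.LinearCombination
import Mathlib.Tactic
import Mathlib.LinearAlgebra.RootSystem.Base

set_option autoImplicit false

namespace Groth.Agent.H42

open Matrix

/-- A unitriangular integral change of a linearly independent family is linearly independent
and spans the same submodule. -/
theorem unitri_li_span {R : Type*} [CommRing R] {n : ℕ} {M : Type*} [AddCommGroup M] [Module R M]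
    (a θ : Fin n → M)
    (c : Fin n → Fin n → R) (hc : ∀ i j, j ≤ i → c i j = 0)
    (hθ : ∀ i, θ i = a i + ∑ j, c i j • a j)
    (ha : LinearIndependent R a) :
    LinearIndependent R θ ∧ Submodule.span R (Set.range θ) = Submodule.span R (Set.range a) := by
  classical
  set U : Matrix (Fin n) (Fin n) R := 1 + Matrix.of c with hU
  have hθU : ∀ i, θ i = ∑ j, U i j • a j := by
    intro i
    rw [hθ i]
    simp only [hU, Matrix.add_apply, Matrix.of_apply, add_smul, Finset.sum_add_distrib]
    congr 1
    simp [Matrix.one_apply, ite_smul]
  have hdet : U.det = 1 := by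
    rw [Matrix.det_of_isUpperTriangular]
    · apply Finset.prod_eq_one
      intro i _
      simp [hU, hc i i le_rfl]
    · intro i j hij
      simp only [id] at hij
      simp [hU, hc i j hij.le, hij.ne']
  have hUu : IsUnit U := (Matrix.isUnit_iff_isUnit_det U).2 (by rw [hdet]; exact isUnit_one)
  have hcomp : Fintype.linearCombination R θ =
      (Fintype.linearCombination R a).comp (Matrix.vecMulLinear U) := by
    apply LinearMap.ext
    intro f
    simp only [Fintype.linearCombination_apply, LinearMap.comp_apply, Matrix.vecMulLinear_apply,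
      Matrix.vecMul, dotProduct, hθU, Finset.smul_sum, Finset.sum_smul, smul_smul]
    rw [Finset.sum_comm]
  constructor
  · rw [linearIndependent_iff_injective_fintypeLinearCombination, hcomp]
    exact (linearIndependent_iff_injective_fintypeLinearCombination.1 ha).comp
      (Matrix.vecMul_injective_of_isUnit hUu)
  · rw [← Fintype.range_linearCombination, ← Fintype.range_linearCombination, hcomp,
      LinearMap.range_comp]
    have : LinearMap.range (Matrix.vecMulLinear U) = ⊤ :=
      LinearMap.range_eq_top.2 (Matrix.vecMul_surjective_iff_isUnit.2 hUu)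
    rw [this, Submodule.map_top]


/-- Folding simple reflections with larger indices over a vector of the form
`a_i + ∑_{j>i} c_j a_j` keeps this form. -/
theorem foldl_reflection_unitri {R : Type*} [CommRing R] {ι M N : Type*} [AddCommGroup M]
    [Module R M] [AddCommGroup N] [Module R N] (P : RootPairing ι R M N) {n : ℕ} (e : Fin n → ι)
    (i : Fin n) (l : List (Fin n)) (x : M) (hl : ∀ j ∈ l, i < j)
    (hx : ∃ c : Fin n → R, (∀ j, j ≤ i → c j = 0) ∧ x = P.root (e i) + ∑ j, c j • P.root (e j)) :
    ∃ c : Fin n → R, (∀ j, j ≤ i → c j = 0) ∧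
      l.foldl (fun x j => P.reflection (e j) x) x = P.root (e i) + ∑ j, c j • P.root (e j) := by
  classical
  induction l generalizing x with
  | nil => simpa using hx
  | cons k l ih =>
    rw [List.foldl_cons]
    apply ih
    · intro j hj; exact hl j (List.mem_cons_of_mem _ hj)
    · obtain ⟨c, hc0, hcx⟩ := hx
      have hk : i < k := hl k List.mem_cons_self
      refine ⟨fun j => c j - (if j = k then P.coroot' (e k) x else 0), ?_, ?_⟩
      · intro j hj
        have : j ≠ k := fun h => by rw [h] at hj; exact absurd hk (not_lt.2 hj)
        simp [hc0 j hj, this]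
      · rw [RootPairing.reflection_apply]
        simp only [sub_smul, Finset.sum_sub_distrib, ite_smul, zero_smul,
          Finset.sum_ite_eq', Finset.mem_univ, if_true]
        rw [← add_sub_assoc, ← hcx]

theorem foldl_reflection_unitri' {R : Type*} [CommRing R] {ι M N : Type*} [AddCommGroup M]
    [Module R M] [AddCommGroup N] [Module R N] (P : RootPairing ι R M N) {n : ℕ} (e : Fin n → ι)
    (i : Fin n) (l : List (Fin n)) (hl : ∀ j ∈ l, i < j) :
    ∃ c : Fin n → R, (∀ j, j ≤ i → c j = 0) ∧
      l.foldl (fun x j => P.reflection (e j) x) (P.root (e i)) =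
        P.root (e i) + ∑ j, c j • P.root (e j) :=
  foldl_reflection_unitri P e i l _ hl ⟨0, fun _ _ => rfl, by simp⟩

/-- The `ℤ`-span of the simple roots is the `ℤ`-span of all roots, for an arbitrary
`ℤ`-module instance. -/
theorem span_root_support_eq {ι M N : Type*} [AddCommGroup M] [Module ℤ M] [AddCommGroup N]
    [Module ℤ N] (P : RootPairing ι ℤ M N) (b : P.Base) :
    Submodule.span ℤ (P.root '' (b.support : Set ι)) = Submodule.span ℤ (Set.range P.root) := by
  refine le_antisymm (Submodule.span_mono (Set.image_subset_range _ _)) (Submodule.span_le.2 ?_)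
  rintro _ ⟨i, rfl⟩
  have hle : AddSubmonoid.closure (P.root '' (b.support : Set ι)) ≤
      (Submodule.span ℤ (P.root '' (b.support : Set ι))).toAddSubmonoid :=
    AddSubmonoid.closure_le.2 Submodule.subset_span
  rcases b.root_mem_or_neg_mem i with h | h
  · exact hle h
  · exact (Submodule.neg_mem_iff _).1 (hle h)

end Groth.Agent.H42
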