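import Groth.Prelude.Def_WittGrp
import Mathlib.Algebra.MvPolynomial.Expand

/-!
# Homomorphisms between Witt groups and `W_1`
-/

set_option autoImplicit false
universe u

open CategoryTheory CategoryTheory.Limits MonoidalCategory CartesianMonoidalCategory MonObj GrpObj
  AlgebraicGeometry

namespace Groth.Agent.H42.WittHom

open WittGrp

variable (p : ℕ) [hp : Fact p.Prime]

section Ring

variable {A : Type*} [CommRing A]

/-- `p = V F R` on `W_{M+1}` in characteristic `p`. -/
theorem nsmul_p_eq {M N : ℕ} (h : M ≤ N) (h1 : N - M = 1) (hpA : (p : A) = 0)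
    (y : TruncatedWittVector p N A) :
    p • y = shift p h (frob p M hpA (TruncatedWittVector.truncate h y)) := by
  rcases subsingleton_or_nontrivial A with hA | hA
  · exact TruncatedWittVector.ext fun i => Subsingleton.elim _ _
  · have : CharP A p := (CharP.charP_iff_prime_eq_zero hp.out).mpr hpA
    obtain ⟨Y, rfl⟩ := WittVector.truncate_surjective p N A y
    rw [TruncatedWittVector.truncate_wittVector_truncate, frob_truncate, shift_truncate, h1,
      Function.iterate_one, WittVector.verschiebung_frobenius, ← map_nsmul, nsmul_eq_mul, mul_comm]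

/-- `W_1` is killed by `p` in characteristic `p`. -/
theorem nsmul_p_one (hpA : (p : A) = 0) (y : TruncatedWittVector p 1 A) : p • y = 0 := by
  rw [nsmul_p_eq p (Nat.zero_le 1) rfl hpA]
  have : frob p 0 hpA (TruncatedWittVector.truncate (Nat.zero_le 1) y) = 0 :=
    TruncatedWittVector.ext fun i => i.elim0
  rw [this, map_zero]

/-- A Witt vector with zero first component is a shift. -/
theorem eq_shift_of_coeff_zero {M N : ℕ} (h : M ≤ N) (h1 : N - M = 1)
    (y : TruncatedWittVector p N A) (hy : y.coeff ⟨0, by omega⟩ = 0) :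
    y = shift p h (TruncatedWittVector.mk p fun i : Fin M => y.coeff ⟨i + 1, by omega⟩) := by
  refine TruncatedWittVector.ext fun i => ?_
  rw [coeff_shift]
  split_ifs with hi
  · rw [TruncatedWittVector.coeff_mk]
    congr 1
    apply Fin.ext
    simp only
    omega
  · have : i = ⟨0, by omega⟩ := Fin.ext (by simp only; omega)
    rw [this, hy]

/-- Padding with zeros: a set-theoretic section of the restriction. -/
def pad {m N : ℕ} (y : TruncatedWittVector p m A) : TruncatedWittVector p N A :=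
  TruncatedWittVector.mk p fun i => if hi : (i : ℕ) < m then y.coeff ⟨i, hi⟩ else 0

theorem truncate_pad {m N : ℕ} (h : m ≤ N) (y : TruncatedWittVector p m A) :
    TruncatedWittVector.truncate h (pad p (N := N) y) = y := by
  refine TruncatedWittVector.ext fun i => ?_
  rw [TruncatedWittVector.coeff_truncate, pad, TruncatedWittVector.coeff_mk]
  simp

theorem truncMap_pad {A' : Type*} [CommRing A'] {m N : ℕ} (f : A →+* A')
    (y : TruncatedWittVector p m A) :
    truncMap p N f (pad p y) = pad p (truncMap p m f y) := by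
  refine TruncatedWittVector.ext fun i => ?_
  simp only [coeff_truncMap, pad, TruncatedWittVector.coeff_mk]
  split_ifs
  · rfl
  · exact map_zero f

theorem shift_injective {n m : ℕ} (h : n ≤ m) :
    Function.Injective (shift p h : TruncatedWittVector p n A → TruncatedWittVector p m A) := by
  intro x y hxy
  refine TruncatedWittVector.ext fun i => ?_
  have := congrArg (fun z => z.coeff ⟨i + (m - n), by omega⟩) hxy
  simp only [coeff_shift] at this
  rw [dif_pos (by simp), dif_pos (by simp)] at this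
  convert this using 2 <;> (apply Fin.ext; simp)

/-- Dropping the first `n` components. -/
def unshift {m N : ℕ} (n : ℕ) (hN : m + n ≤ N) (y : TruncatedWittVector p N A) :
    TruncatedWittVector p m A :=
  TruncatedWittVector.mk p fun i => y.coeff ⟨i + n, by omega⟩

theorem shift_unshift {m N : ℕ} (h : m ≤ N) (y : TruncatedWittVector p N A)
    (hy : ∀ i : Fin N, (i : ℕ) < N - m → y.coeff i = 0) :
    shift p h (unshift p (N - m) (by omega) y) = y := by
  refine TruncatedWittVector.ext fun i => ?_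
  rw [coeff_shift]
  split_ifs with hi
  · rw [unshift, TruncatedWittVector.coeff_mk]
    congr 1
    apply Fin.ext
    simp only
    omega
  · exact (hy i (by omega)).symm

end Ring

section SchemeLevel

variable {S : Scheme.{u}} {m N : ℕ}

variable (S m N) in
/-- A scheme-theoretic (non-additive) section of the restriction. -/
noncomputable def sec : W p m S ⟶ W p N S :=
  (ptsMul p (W p m S)).symm
    (Multiplicative.ofAdd (pad p (pts p (W p m S) (Additive.ofMul (𝟙 _)))))

theorem pts_sec {T : Over S} (x : T ⟶ W p m S) :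
    pts p T (Additive.ofMul (x ≫ sec p S m N)) = pad p (pts p T (Additive.ofMul x)) := by
  rw [pts_comp, sec]
  change truncMap p N _ (Multiplicative.toAdd ((ptsMul p (W p m S)) ((ptsMul p (W p m S)).symm _))) = _
  rw [MulEquiv.apply_symm_apply, toAdd_ofAdd, truncMap_pad, ← pts_comp, Category.comp_id]

theorem sec_R (h : m ≤ N) : sec p S m N ≫ R p S h = 𝟙 _ := by
  apply pts_injective p
  show pts p _ (Additive.ofMul (sec p S m N ≫ R p S h)) = pts p _ (Additive.ofMul (𝟙 _))
  rw [pts_R, ← Category.id_comp (sec p S m N), pts_sec, truncate_pad]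

theorem pts_pow {T : Over S} (x : T ⟶ W p N S) (k : ℕ) :
    pts p T (Additive.ofMul (x ^ k)) = k • pts p T (Additive.ofMul x) := by
  rw [ofMul_pow, map_nsmul]

/-- Points of `W_1` are killed by `p` in characteristic `p`. -/
theorem pow_p_eq_one (hpS : (p : Γ(S, ⊤)) = 0) {T : Over S} (x : T ⟶ W p 1 S) : x ^ p = 1 := by
  apply pts_injective p
  show pts p _ (Additive.ofMul (x ^ p)) = pts p _ (Additive.ofMul 1)
  rw [pts_pow, pts_one, nsmul_p_one p (natCast_eq_zero_of_over p hpS T)]

/-- `p = R ≫ F ≫ V` on `W_{M+1}`. -/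
theorem pow_p_eq {M : ℕ} (hpS : (p : Γ(S, ⊤)) = 0) (h : M ≤ N) (h1 : N - M = 1) {T : Over S}
    (x : T ⟶ W p N S) : x ^ p = ((x ≫ R p S h) ≫ F p M S hpS) ≫ V p S h := by
  apply pts_injective p
  show pts p _ (Additive.ofMul (x ^ p)) = pts p _ (Additive.ofMul (((x ≫ R p S h) ≫ F p M S hpS) ≫ V p S h))
  rw [pts_pow, pts_V, pts_F, pts_R, nsmul_p_eq p h h1 (natCast_eq_zero_of_over p hpS T)]

theorem V_cancel {M : ℕ} (h : M ≤ N) {T : Over S} (a b : T ⟶ W p M S)
    (hab : a ≫ V p S h = b ≫ V p S h) : a = b := by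
  apply pts_injective p
  show pts p _ (Additive.ofMul a) = pts p _ (Additive.ofMul b)
  have h2 := congrArg (fun z => pts p _ (Additive.ofMul z)) hab
  simp only [pts_V] at h2
  exact shift_injective p h h2

/-- A homomorphism `W_1 → W_{M+1}` over a reduced base of characteristic `p` lands in the last
component. -/
theorem comp_R_eq_one [IsReduced S] (hpS : (p : Γ(S, ⊤)) = 0) {M : ℕ} (h : M ≤ N) (h1 : N - M = 1)
    (f : W p 1 S ⟶ W p N S) [IsMonHom f] : f ≫ R p S h = 1 := by
  have h2 : f ^ p = 1 := by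
    have e : ((𝟙 (W p 1 S)) ^ p) ≫ f = ((𝟙 (W p 1 S)) ≫ f) ^ p := MonObj.pow_comp _ _ _
    rw [pow_p_eq_one p hpS, MonObj.one_comp, Category.id_comp] at e
    exact e.symm
  rw [pow_p_eq p hpS h h1] at h2
  have h3 : (f ≫ R p S h) ≫ F p M S hpS = 1 := by
    apply V_cancel p h
    rw [h2, MonObj.one_comp]
  apply pts_injective p
  show pts p _ (Additive.ofMul (f ≫ R p S h)) = pts p _ (Additive.ofMul 1)
  have h4 := congrArg (fun z => pts p _ (Additive.ofMul z)) h3
  simp only [pts_F, pts_one] at h4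
  rw [pts_one]
  refine TruncatedWittVector.ext fun i => ?_
  have h5 := congrArg (fun z => z.coeff i) h4
  simp only [coeff_frob, TruncatedWittVector.coeff_zero] at h5
  rw [TruncatedWittVector.coeff_zero]
  have : IsReduced (W p 1 S).left := by
    show IsReduced 𝔸(ULift.{u} (Fin 1); S)
    infer_instance
  exact IsNilpotent.eq_zero ⟨p, h5⟩

/-- Every homomorphism `W_1 → W_N` factors uniquely through the shift `W_m → W_N`, `0 < m ≤ N`. -/
theorem factor_V [IsReduced S] (hpS : (p : Γ(S, ⊤)) = 0) (hm : 0 < m) (h : m ≤ N)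
    (f : W p 1 S ⟶ W p N S) [IsMonHom f] :
    ∃! g : W p 1 S ⟶ W p m S, IsMonHom g ∧ g ≫ V p S h = f := by
  have hN : 0 < N := lt_of_lt_of_le hm h
  have hM : N - 1 ≤ N := Nat.sub_le N 1
  have h1 : N - (N - 1) = 1 := by omega
  have hfR := comp_R_eq_one p hpS hM h1 f
  have hcoeff : ∀ i : Fin N, (i : ℕ) < N - m → (pts p _ (Additive.ofMul f)).coeff i = 0 := by
    intro i hi
    have h2 := congrArg (fun z => (pts p _ (Additive.ofMul z)).coeff ⟨i, by omega⟩) hfR
    simp only [pts_R, TruncatedWittVector.coeff_truncate, pts_one,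
      TruncatedWittVector.coeff_zero] at h2
    exact h2
  set g : W p 1 S ⟶ W p m S := (ptsMul p (W p 1 S)).symm (Multiplicative.ofAdd
    (unshift p (N - m) (by omega) (pts p _ (Additive.ofMul f)))) with hg
  have hgV : g ≫ V p S h = f := by
    apply pts_injective p
    show pts p _ (Additive.ofMul (g ≫ V p S h)) = pts p _ (Additive.ofMul f)
    rw [pts_V]
    have : pts p _ (Additive.ofMul g) = unshift p (N - m) (by omega) (pts p _ (Additive.ofMul f)) := by
      change Multiplicative.toAdd ((ptsMul p (W p 1 S)) ((ptsMul p (W p 1 S)).symm _)) = _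
      rw [MulEquiv.apply_symm_apply, toAdd_ofAdd]
    rw [this, shift_unshift p h _ hcoeff]
  refine ⟨g, ⟨?_, hgV⟩, ?_⟩
  · apply isMonHom_of_comp_mul
    · apply V_cancel p h
      rw [Category.assoc, hgV, MonObj.one_comp, MonObj.one_comp]
    · intro T a b
      apply V_cancel p h
      have e1 : ((a ≫ g) * (b ≫ g)) ≫ V p S h = ((a ≫ g) ≫ V p S h) * ((b ≫ g) ≫ V p S h) :=
        MonObj.mul_comp _ _ _
      have e2 : (a * b) ≫ f = (a ≫ f) * (b ≫ f) := MonObj.mul_comp _ _ _
      rw [e1, Category.assoc, Category.assoc, Category.assoc, hgV, e2]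
  · rintro g' ⟨_, hg'⟩
    apply V_cancel p h
    rw [hg', hgV]

end SchemeLevel

section OverSpec

variable (R : CommRingCat.{u}) (n : ℕ)

/-- The comparison map from the polynomial ring to the functions on affine space. -/
noncomputable def polyToΓ (I : Type u) :
    MvPolynomial I R →+* Γ(𝔸(I; Spec R), ⊤) :=
  MvPolynomial.eval₂Hom ((Scheme.ΓSpecIso R).inv ≫ (𝔸(I; Spec R) ↘ Spec R).appTop).hom
    (AffineSpace.coord (Spec R))

theorem polyToΓ_C (I : Type u) (r : R) :
    polyToΓ R I (MvPolynomial.C r) =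
      ((Scheme.ΓSpecIso R).inv ≫ (𝔸(I; Spec R) ↘ Spec R).appTop).hom r := by
  simp only [polyToΓ, MvPolynomial.coe_eval₂Hom, MvPolynomial.eval₂_C]

theorem polyToΓ_X (I : Type u) (i : I) :
    polyToΓ R I (MvPolynomial.X i) = AffineSpace.coord (Spec R) i := by
  simp only [polyToΓ, MvPolynomial.coe_eval₂Hom, MvPolynomial.eval₂_X]

theorem polyToΓ_bijective (I : Type u) : Function.Bijective (polyToΓ R I) := by
  have h := AffineSpace.SpecIso_hom_appTop (n := I) R
  have h2 : CommRingCat.ofHom (polyToΓ R I) =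
      (Scheme.ΓSpecIso (.of (MvPolynomial I R))).inv ≫ (AffineSpace.SpecIso I R).hom.appTop := by
    rw [h, Iso.inv_hom_id_assoc]
    rfl
  have h3 : IsIso (AffineSpace.SpecIso I R).hom.appTop := by
    show IsIso ((AffineSpace.SpecIso I R).hom.app ⊤)
    infer_instance
  have : IsIso (CommRingCat.ofHom (polyToΓ R I)) := by
    rw [h2]
    infer_instance
  exact ConcreteCategory.bijective_of_isIso (CommRingCat.ofHom (polyToΓ R I))

theorem F_appTop_coord (S : Scheme.{u}) (hpS : (p : Γ(S, ⊤)) = 0) (i : Fin n) :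
    (F p n S hpS).left.appTop (coord p i) = coord p i ^ p := by
  have h := congrArg (fun z => z.coeff i) (pts_F p hpS (𝟙 (W p n S)))
  simp only [coeff_pts, coeff_frob] at h
  simpa using h

/-- The ring map of the Frobenius of `W_n` over `Spec R`, on functions of affine space. -/
noncomputable def FΓ (hpS : (p : Γ(Spec R, ⊤)) = 0) :
    Γ(𝔸(ULift.{u} (Fin n); Spec R), ⊤) →+* Γ(𝔸(ULift.{u} (Fin n); Spec R), ⊤) :=
  ((F p n (Spec R) hpS).left.appTop).hom

theorem FΓ_coord (hpS : (p : Γ(Spec R, ⊤)) = 0) (i : ULift.{u} (Fin n)) :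
    FΓ p R n hpS (AffineSpace.coord (Spec R) i) = AffineSpace.coord (Spec R) i ^ p :=
  F_appTop_coord p n (Spec R) hpS i.down

theorem FΓ_struct (hpS : (p : Γ(Spec R, ⊤)) = 0) (r : Γ(Spec R, ⊤)) :
    FΓ p R n hpS ((𝔸(ULift.{u} (Fin n); Spec R) ↘ Spec R).appTop r) =
      (𝔸(ULift.{u} (Fin n); Spec R) ↘ Spec R).appTop r := by
  have hw := Over.w (F p n (Spec R) hpS)
  have hw2 : (W p n (Spec R)).hom.appTop ≫ (F p n (Spec R) hpS).left.appTop =
      (W p n (Spec R)).hom.appTop := by
    rw [← Scheme.Hom.comp_appTop, hw]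
  exact congrArg (fun f => f.hom r) hw2

theorem FΓ_comp_polyToΓ (hpS : (p : Γ(Spec R, ⊤)) = 0) :
    (FΓ p R n hpS).comp (polyToΓ R (ULift.{u} (Fin n))) =
      (polyToΓ R (ULift.{u} (Fin n))).comp (MvPolynomial.expand p).toRingHom := by
  apply MvPolynomial.ringHom_ext
  · intro r
    simp only [polyToΓ, RingHom.comp_apply, MvPolynomial.coe_eval₂Hom, MvPolynomial.eval₂_C,
      AlgHom.toRingHom_eq_coe, RingHom.coe_coe, MvPolynomial.expand_C]
    exact FΓ_struct p R n hpS _
  · intro i
    simp only [polyToΓ, RingHom.comp_apply, MvPolynomial.coe_eval₂Hom, MvPolynomial.eval₂_X,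
      AlgHom.toRingHom_eq_coe, RingHom.coe_coe, MvPolynomial.expand_X, MvPolynomial.eval₂_pow]
    exact FΓ_coord p R n hpS i

theorem FΓ_injective (hpS : (p : Γ(Spec R, ⊤)) = 0) :
    Function.Injective (FΓ p R n hpS) := by
  intro a b hab
  obtain ⟨a', rfl⟩ := (polyToΓ_bijective R (ULift.{u} (Fin n))).2 a
  obtain ⟨b', rfl⟩ := (polyToΓ_bijective R (ULift.{u} (Fin n))).2 b
  have h := FΓ_comp_polyToΓ p R n hpS
  have ha := congrArg (fun f => f a') h
  have hb := congrArg (fun f => f b') h
  simp only [RingHom.comp_apply] at ha hb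
  rw [ha, hb] at hab
  have := (polyToΓ_bijective R (ULift.{u} (Fin n))).1 hab
  exact congrArg _ (MvPolynomial.expand_injective hp.out.pos this)

theorem F_cancel (hpS : (p : Γ(Spec R, ⊤)) = 0) {r : ℕ} (a b : W p n (Spec R) ⟶ W p r (Spec R))
    (hab : F p n (Spec R) hpS ≫ a = F p n (Spec R) hpS ≫ b) : a = b := by
  apply pts_injective p
  show pts p _ (Additive.ofMul a) = pts p _ (Additive.ofMul b)
  have h := congrArg (fun z => pts p _ (Additive.ofMul z)) hab
  simp only [pts_comp] at h
  refine TruncatedWittVector.ext fun i => ?_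
  have hi := congrArg (fun z => z.coeff i) h
  simp only [coeff_truncMap] at hi
  exact FΓ_injective p R n hpS hi

/-- A homomorphism `W_{M+1} → W_1` kills the image of `V : W_M → W_{M+1}`. -/
theorem V_comp_eq_one (hpS : (p : Γ(Spec R, ⊤)) = 0) {M N : ℕ} (h : M ≤ N) (h1 : N - M = 1)
    (f : W p N (Spec R) ⟶ W p 1 (Spec R)) [IsMonHom f] : V p (Spec R) h ≫ f = 1 := by
  have h2 : ((𝟙 (W p N (Spec R))) ^ p) ≫ f = 1 := by
    rw [MonObj.pow_comp, pow_p_eq_one p hpS]
  rw [pow_p_eq p hpS h h1, Category.id_comp, Category.assoc, Category.assoc] at h2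
  have h3 : F p M (Spec R) hpS ≫ V p (Spec R) h ≫ f = 1 := by
    have := congrArg (fun z => sec p (Spec R) M N ≫ z) h2
    beta_reduce at this
    rw [← Category.assoc, sec_R, Category.id_comp, MonObj.comp_one] at this
    exact this
  apply F_cancel p R M hpS
  rw [h3, MonObj.comp_one]

/-- A point of `W_{M+1}` with vanishing first component is killed by every homomorphism to `W_1`. -/
theorem comp_eq_one_of_coeff_zero (hpS : (p : Γ(Spec R, ⊤)) = 0) {N : ℕ} (hN : 0 < N)
    (f : W p N (Spec R) ⟶ W p 1 (Spec R)) [IsMonHom f] {T : Over (Spec R)} (z : T ⟶ W p N (Spec R))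
    (hz : (pts p T (Additive.ofMul z)).coeff ⟨0, hN⟩ = 0) : z ≫ f = 1 := by
  have h : N - 1 ≤ N := Nat.sub_le N 1
  have h1 : N - (N - 1) = 1 := by omega
  have hz' := eq_shift_of_coeff_zero p h h1 (pts p T (Additive.ofMul z)) hz
  set z' : T ⟶ W p (N - 1) (Spec R) := (ptsMul p T).symm (Multiplicative.ofAdd
    (TruncatedWittVector.mk p fun i : Fin (N - 1) =>
      (pts p T (Additive.ofMul z)).coeff ⟨i + 1, by omega⟩)) with hz'def
  have hz'' : z = z' ≫ V p (Spec R) h := by
    apply pts_injective p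
    show pts p _ (Additive.ofMul z) = pts p _ (Additive.ofMul (z' ≫ V p (Spec R) h))
    rw [pts_V]
    conv_lhs => rw [hz']
    congr 1
    change _ = Multiplicative.toAdd ((ptsMul p T) ((ptsMul p T).symm _))
    rw [MulEquiv.apply_symm_apply, toAdd_ofAdd]
  rw [hz'', Category.assoc, V_comp_eq_one p R hpS h h1 f, MonObj.comp_one]

/-- Every homomorphism `W_N → W_1` factors uniquely through the restriction `W_N → W_m`, `0 < m ≤ N`. -/
theorem factor_R (hpS : (p : Γ(Spec R, ⊤)) = 0) {m N : ℕ} (hm : 0 < m) (h : m ≤ N)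
    (f : W p N (Spec R) ⟶ W p 1 (Spec R)) [IsMonHom f] :
    ∃! g : W p m (Spec R) ⟶ W p 1 (Spec R), IsMonHom g ∧ WittGrp.R p (Spec R) h ≫ g = f := by
  have hN : 0 < N := lt_of_lt_of_le hm h
  have key : WittGrp.R p (Spec R) h ≫ sec p (Spec R) m N ≫ f = f := by
    set x : W p N (Spec R) ⟶ W p N (Spec R) := 𝟙 _ with hx
    set x' : W p N (Spec R) ⟶ W p N (Spec R) := WittGrp.R p (Spec R) h ≫ sec p (Spec R) m N with hx'
    have hzR : (x / x') ≫ WittGrp.R p (Spec R) h = 1 := by
      rw [GrpObj.div_comp, hx, hx', Category.id_comp, Category.assoc, sec_R, Category.comp_id,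
        div_self']
    have hz0 : (pts p _ (Additive.ofMul (x / x'))).coeff ⟨0, hN⟩ = 0 := by
      have h2 := congrArg (fun z => (pts p _ (Additive.ofMul z)).coeff ⟨0, hm⟩) hzR
      simp only [pts_R, TruncatedWittVector.coeff_truncate] at h2
      rw [pts_one, TruncatedWittVector.coeff_zero] at h2
      exact h2
    have h3 := comp_eq_one_of_coeff_zero p R hpS hN f (x / x') hz0
    rw [GrpObj.div_comp, div_eq_one, hx, hx', Category.id_comp, Category.assoc] at h3
    exact h3.symm
  refine ⟨sec p (Spec R) m N ≫ f, ⟨?_, key⟩, ?_⟩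
  · apply isMonHom_of_comp_mul
    · have h1 : (1 : 𝟙_ (Over (Spec R)) ⟶ W p m (Spec R)) =
          (1 : 𝟙_ (Over (Spec R)) ⟶ W p N (Spec R)) ≫ WittGrp.R p (Spec R) h := by
        rw [MonObj.one_comp]
      rw [h1, Category.assoc, key, MonObj.one_comp]
    · intro T a b
      have ha : a = (a ≫ sec p (Spec R) m N) ≫ WittGrp.R p (Spec R) h := by
        rw [Category.assoc, sec_R, Category.comp_id]
      have hb : b = (b ≫ sec p (Spec R) m N) ≫ WittGrp.R p (Spec R) h := by
        rw [Category.assoc, sec_R, Category.comp_id]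
      have e1 : (a * b) = ((a ≫ sec p (Spec R) m N) * (b ≫ sec p (Spec R) m N)) ≫ WittGrp.R p (Spec R) h := by
        have e : ((a ≫ sec p (Spec R) m N) * (b ≫ sec p (Spec R) m N)) ≫ WittGrp.R p (Spec R) h =
          ((a ≫ sec p (Spec R) m N) ≫ WittGrp.R p (Spec R) h) * ((b ≫ sec p (Spec R) m N) ≫ WittGrp.R p (Spec R) h) :=
          MonObj.mul_comp _ _ _
        rw [e, ← ha, ← hb]
      have e2 : ((a ≫ sec p (Spec R) m N) * (b ≫ sec p (Spec R) m N)) ≫ f =
          ((a ≫ sec p (Spec R) m N) ≫ f) * ((b ≫ sec p (Spec R) m N) ≫ f) :=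
        MonObj.mul_comp _ _ _
      rw [e1, Category.assoc, key, e2, Category.assoc, Category.assoc]
  · rintro g' ⟨_, hg'⟩
    rw [← hg', ← Category.assoc, sec_R, Category.id_comp]

omit hp in
theorem natCast_Γ_eq_zero (k : Type u) [CommRing k] [CharP k p] :
    (p : Γ(Spec (CommRingCat.of k), ⊤)) = 0 := by
  rw [← map_natCast ((Scheme.ΓSpecIso (CommRingCat.of k)).inv).hom p]
  have : ((p : ℕ) : (CommRingCat.of k)) = 0 := CharP.cast_eq_zero k p
  rw [this, map_zero]

end OverSpec

end Groth.Agent.H42.WittHom
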